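import Groth.Agent.Crv77.Twist
import Groth.Agent.QC70.Hom
import Groth.Agent.QC70.Stalk
import Groth.Agent.TopCoh49.Top
import Groth.Agent.Mero90.Frames
import Groth.Prelude.Def_Coh

/-! Modules supported in a finite set of closed points. -/

set_option autoImplicit false
universe u

open CategoryTheory CategoryTheory.Limits AlgebraicGeometry Opposite TopologicalSpace

namespace Groth.Agent.Crv77

open Groth.Agent.Var76.LineBundle (IsFrame exists_frame)

variable {X : Scheme.{u}}

/-- The stalks of `M` vanish outside `S`. -/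
def SuppIn (M : X.Modules) (S : Set X) : Prop :=
  ∀ x, x ∉ S → Subsingleton (M.presheaf.stalk x)

theorem SuppIn.section_eq_zero {M : X.Modules} {S : Set X} (hM : SuppIn M S) {V : X.Opens}
    (hV : ∀ x ∈ V, x ∉ S) (m : Γ(M, V)) : m = 0 := by
  refine QC70.section_ext M m 0 fun p hp => ?_
  have := hM p (hV p hp)
  obtain ⟨W, hW, hpW, h⟩ := QC70.germM_eq_zero (M := M) (hx := hp) (s := m) (Subsingleton.elim _ _)
  exact ⟨W, hW, hpW, h.trans (map_zero _).symm⟩

/-- The complement of a finite set of closed points. -/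
def complOpen {S : Set X} (hS : S.Finite) (hcl : ∀ x ∈ S, IsClosed ({x} : Set X)) : X.Opens :=
  ⟨Sᶜ, (by
    rw [← Set.biUnion_of_singleton S]
    exact (hS.isClosed_biUnion hcl).isOpen_compl)⟩

/-- A sheaf supported in finitely many closed points is flasque. -/
theorem SuppIn.surjective_res {M : X.Modules} {S : Set X} (hM : SuppIn M S) (hS : S.Finite)
    (hcl : ∀ x ∈ S, IsClosed ({x} : Set X)) {U V : X.Opens} (h : U ≤ V) (s : Γ(M, U)) :
    ∃ t : Γ(M, V), QC70.res M h t = s := by
  let W : X.Opens := complOpen (hS.subset (Set.inter_subset_left : S ∩ U ⊆ S)) fun x hx => hcl x hx.1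
  let Ui : ULift.{u} Bool → X.Opens := fun b => if b.down then U else W ⊓ V
  have hcov : V ≤ ⨆ b, Ui b := by
    intro x hx
    rw [Opens.mem_iSup]
    by_cases hxU : x ∈ U
    · exact ⟨⟨true⟩, hxU⟩
    · exact ⟨⟨false⟩, fun hh => hxU hh.2, hx⟩
  let si : ∀ b, Γ(M, Ui b) := fun b => match b with
    | ⟨true⟩ => s
    | ⟨false⟩ => 0
  have hle : ∀ b, Ui b ≤ V := fun b => match b with
    | ⟨true⟩ => h
    | ⟨false⟩ => inf_le_right
  have hz : ∀ m : Γ(M, U ⊓ (W ⊓ V)), m = 0 := fun m =>
    hM.section_eq_zero (V := U ⊓ (W ⊓ V)) (fun x hx hxS => hx.2.1 ⟨hxS, hx.1⟩) m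
  obtain ⟨t, ht⟩ := QC70.exists_glue M Ui hle hcov si (by
    rintro ⟨i⟩ ⟨j⟩
    cases i <;> cases j
    · rfl
    · exact @Subsingleton.elim _ (subsingleton_of_forall_eq (α := Γ(M, Ui ⟨false⟩ ⊓ Ui ⟨true⟩)) 0
        fun m => hM.section_eq_zero (V := W ⊓ V ⊓ U) (fun x hx hxS => hx.1.1 ⟨hxS, hx.2⟩) m) _ _
    · exact (hz _).trans (hz _).symm
    · rfl)
  exact ⟨t, ht ⟨true⟩⟩

theorem SuppIn.isFlasque {M : X.Modules} {S : Set X} (hM : SuppIn M S) (hS : S.Finite)
    (hcl : ∀ x ∈ S, IsClosed ({x} : Set X)) : TopCat.Sheaf.IsFlasque (Coh.toAb M) :=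
  ⟨fun {U V} i => (AddCommGrpCat.epi_iff_surjective _).2 fun s =>
    hM.surjective_res hS hcl i.unop.le s⟩

/-- No higher cohomology for modules supported in finitely many closed points. -/
theorem SuppIn.subsingleton_HH {M : X.Modules} {S : Set X} (hM : SuppIn M S) (hS : S.Finite)
    (hcl : ∀ x ∈ S, IsClosed ({x} : Set X)) (n : ℕ) : Subsingleton (Coh.HH X M (n + 1)) :=
  have : TopCat.Sheaf.IsFlasque (Coh.toAb M) := hM.isFlasque hS hcl
  TopCoh49.subsingleton_H_of_isFlasque n (Coh.toAb M)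

section Twist

variable {M L : X.Modules} {U : X.Opens}

/-- `m ↦ m ⊗ e` on the presheaf tensor product is bijective over opens where `e` is a frame. -/
theorem bijective_tq {e : Γ(L, U)} (he : IsFrame L U e) {V : X.Opens} (h : V ≤ U) :
    Function.Bijective (fun m : Γ(M, V) =>
      Mod48.tp (O := X.sheaf) (M := CohB1.toPMod M) (N := CohB1.toPMod L) (X := op V) m
        (Var76.LineBundle.res L h e)) := by
  let R := X.sheaf.obj.obj (op V)
  let g : R →ₗ[R] (CohB1.toPMod L).obj (op V) :=
    LinearMap.toSpanSingleton _ _ (Var76.LineBundle.res L h e)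
  let E := (TensorProduct.rid R ((CohB1.toPMod M).obj (op V))).symm ≪≫ₗ
    (LinearEquiv.ofBijective g (he V h)).lTensor ((CohB1.toPMod M).obj (op V))
  have hE : ∀ m : Γ(M, V), E m =
      Mod48.tp (O := X.sheaf) (M := CohB1.toPMod M) (N := CohB1.toPMod L) (X := op V) m
        (Var76.LineBundle.res L h e) := fun m => by
    simp only [E, LinearEquiv.trans_apply, TensorProduct.rid_symm_apply]
    refine (LinearEquiv.lTensor_tmul _ _ _ _).trans ?_
    exact congrArg (fun y => Mod48.tp (O := X.sheaf) (M := CohB1.toPMod M) (N := CohB1.toPMod L) (X := op V) m y)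
      (LinearMap.toSpanSingleton_apply_one R ((CohB1.toPMod L).obj (op V)) (Var76.LineBundle.res L h e))
  exact (Function.Bijective.of_comp_iff' Function.bijective_id _).1 ((funext hE) ▸ E.bijective)

/-- The local morphism `m ↦ m ⊗ e`. -/
noncomputable def tensorE (e : Γ(L, U)) : QC70.HomOn M (CohB1.tensorMod M L) U where
  app V h :=
    { toFun := fun m => SecTwist.tmul M L V m (Var76.LineBundle.res L h e)
      map_add' := fun m m' => (congrArg ((SecTwist.toTensor M L).app (op V))
        (Mod48.tp_add_left (O := X.sheaf) (M := CohB1.toPMod M) (N := CohB1.toPMod L) (X := op V)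
          m m' (Var76.LineBundle.res L h e))).trans (map_add _ _ _)
      map_smul' := fun r m => (congrArg ((SecTwist.toTensor M L).app (op V))
        (Mod48.tp_smul_left (O := X.sheaf) (M := CohB1.toPMod M) (N := CohB1.toPMod L) (X := op V)
          r m (Var76.LineBundle.res L h e))).trans (((SecTwist.toTensor M L).app (op V)).hom.map_smul r _) }
  app_res {W W'} hW h m := by
    refine Eq.trans ?_ (SecTwist.map_tmul M L (homOfLE h) m (Var76.LineBundle.res L hW e)).symm
    exact congrArg (SecTwist.tmul M L W' _) (Var76.LineBundle.res_res L hW h e).symm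

/-- A module supported in finitely many closed points is unchanged by an invertible twist. -/
theorem SuppIn.nonempty_iso_tensorMod {S : Set X} (hM : SuppIn M S) (hS : S.Finite)
    (hcl : ∀ x ∈ S, IsClosed ({x} : Set X)) (hL : PicF.IsInvertible L) :
    Nonempty (M ≅ CohB1.tensorMod M L) := by
  choose U₀ hxU₀ e₀ he₀ using fun x => Mero90.exists_frame' hL x
  let W : X → X.Opens := fun x =>
    complOpen (hS.subset (Set.sdiff_subset : S \ {x} ⊆ S)) fun y hy => hcl y hy.1
  let Uc : X → X.Opens := fun x => U₀ x ⊓ W x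
  have hxU : ∀ x, x ∈ Uc x := fun x => ⟨hxU₀ x, fun h => h.2 rfl⟩
  let e : ∀ x, Γ(L, Uc x) := fun x => Var76.LineBundle.res L inf_le_left (e₀ x)
  have he : ∀ x, IsFrame L (Uc x) (e x) := fun x => (he₀ x).res inf_le_left
  let φ : ∀ x, QC70.HomOn M (CohB1.tensorMod M L) (Uc x) := fun x => tensorE (e x)
  have hφ : QC70.HomOn.Compatible φ := by
    intro x y V hx hy s
    by_cases hxy : x = y
    · subst hxy; rfl
    have : s = 0 := hM.section_eq_zero (fun z hz hzS => hxy <| by
      have h1 : z = x := by_contra fun h => (hx hz).2 ⟨hzS, h⟩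
      have h2 : z = y := by_contra fun h => (hy hz).2 ⟨hzS, h⟩
      exact h1.symm.trans h2) s
    rw [this, map_zero, map_zero]
  have hcov : (⊤ : X.Opens) ≤ ⨆ x, Uc x := fun x _ => Opens.mem_iSup.2 ⟨x, hxU x⟩
  let ψ : M ⟶ CohB1.tensorMod M L := (QC70.HomOn.glue hφ hcov).toHom
  have hψ : ∀ (x : X) (V : X.Opens) (h : V ≤ Uc x) (m : Γ(M, V)),
      ψ.app V m = SecTwist.tmul M L V m (Var76.LineBundle.res L h (e x)) := fun x V h m =>
    (QC70.HomOn.toHom_app _ V m).trans (QC70.HomOn.glue_app hφ hcov le_top x h m)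
  have hloc : Mod48.IsLocalIso (Mod48.shfU (O := X.sheaf) (CohB1.tensorPre M L)) :=
    (Mod48.isIso_shf_map_iff_isLocalIso _).1
      (Mod48.isIso_shf_map_shfU (O := X.sheaf) (CohB1.tensorPre M L))
  have : Mono ψ := by
    refine QC70.mono_of_app_injective ψ fun V m m' hm => ?_
    refine QC70.section_ext M m m' fun p hp => ?_
    let V₁ := V ⊓ Uc p
    have h₁ : V₁ ≤ Uc p := inf_le_right
    have hr : ψ.app V₁ (QC70.res M inf_le_left m) = ψ.app V₁ (QC70.res M inf_le_left m') := by
      rw [QC70.app_res, QC70.app_res, hm]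
    rw [hψ p V₁ h₁, hψ p V₁ h₁] at hr
    obtain ⟨V₂, i, hi, hp₂⟩ := hloc.inj.equalizerSieve_mem (X := op V₁)
      (Mod48.tp (O := X.sheaf) (M := CohB1.toPMod M) (N := CohB1.toPMod L) (X := op V₁)
        (QC70.res M inf_le_left m) (Var76.LineBundle.res L h₁ (e p)))
      (Mod48.tp (O := X.sheaf) (M := CohB1.toPMod M) (N := CohB1.toPMod L) (X := op V₁)
        (QC70.res M inf_le_left m') (Var76.LineBundle.res L h₁ (e p))) hr p ⟨hp, hxU p⟩
    have hbij := bijective_tq (M := M) (he p) (i.le.trans h₁)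
    have hmm : QC70.res M i.le (QC70.res M inf_le_left m) =
        QC70.res M i.le (QC70.res M (inf_le_left : V₁ ≤ V) m') := by
      refine hbij.1 ?_
      have hres := Var76.LineBundle.res_res L h₁ i.le (e p)
      have hi' : (CohB1.tensorPre M L).map i.op
            (Mod48.tp (O := X.sheaf) (M := CohB1.toPMod M) (N := CohB1.toPMod L) (X := op V₁)
              (QC70.res M inf_le_left m) (Var76.LineBundle.res L h₁ (e p))) =
          (CohB1.tensorPre M L).map i.op
            (Mod48.tp (O := X.sheaf) (M := CohB1.toPMod M) (N := CohB1.toPMod L) (X := op V₁)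
              (QC70.res M inf_le_left m') (Var76.LineBundle.res L h₁ (e p))) := hi
      have hm1 : ∀ a : Γ(M, V₁), (CohB1.tensorPre M L).map i.op
            (Mod48.tp (O := X.sheaf) (M := CohB1.toPMod M) (N := CohB1.toPMod L) (X := op V₁)
              a (Var76.LineBundle.res L h₁ (e p))) =
          Mod48.tp (O := X.sheaf) (M := CohB1.toPMod M) (N := CohB1.toPMod L) (X := op V₂)
            (QC70.res M i.le a) (Var76.LineBundle.res L (i.le.trans h₁) (e p)) := fun a =>
        (Mod48.map_tp (O := X.sheaf) (M := CohB1.toPMod M) (N := CohB1.toPMod L) i.op a _).trans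
          (congrArg (fun y => Mod48.tp (O := X.sheaf) (M := CohB1.toPMod M) (N := CohB1.toPMod L)
            (X := op V₂) (QC70.res M i.le a) y) hres)
      exact (hm1 _).symm.trans (hi'.trans (hm1 _))
    rw [QC70.res_res, QC70.res_res] at hmm
    exact ⟨V₂, i.le.trans inf_le_left, hp₂, hmm⟩
  have : Epi ψ := by
    refine QC70.epi_of_locally_surjective ψ fun V s p hp => ?_
    let V₁ := V ⊓ Uc p
    obtain ⟨V₂, i, ⟨z, hz⟩, hp₂⟩ := hloc.surj.imageSieve_mem (U := V₁)
      (QC70.res (CohB1.tensorMod M L) inf_le_left s) p ⟨hp, hxU p⟩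
    have h₂ : V₂ ≤ Uc p := i.le.trans inf_le_right
    obtain ⟨m, rfl⟩ := (bijective_tq (M := M) (he p) h₂).2 z
    refine ⟨V₂, i.le.trans inf_le_left, m, hp₂, ?_⟩
    rw [hψ p V₂ h₂, ← QC70.res_res (inf_le_left : V₁ ≤ V) i.le]
    exact hz
  have : IsIso ψ := isIso_of_mono_of_epi ψ
  exact ⟨asIso ψ⟩

end Twist

end Groth.Agent.Crv77
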