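import Groth.Agent.QC70.ToSheaf
import Groth.Prelude.Def_Coh
import Mathlib.Algebra.Homology.DerivedCategory.Ext.ExactSequences
import Mathlib.LinearAlgebra.FiniteDimensional.Basic

/-! The linear long exact cohomology sequence of `Coh.HH`. -/

set_option autoImplicit false
universe u

open CategoryTheory CategoryTheory.Limits AlgebraicGeometry Opposite CategoryTheory.Abelian TopologicalSpace

namespace Groth.Agent.Crv77

section Gen

universe w v'

variable {C : Type*} [Category.{v'} C] [Abelian C] [HasExt.{w} C] {Z A B D : C} {n : ℕ}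

theorem ext_comp_comp (x : Ext.{w} Z A n) (f : A ⟶ B) (g : B ⟶ D) :
    Ext.comp (Ext.comp x (Ext.mk₀ f) (add_zero n)) (Ext.mk₀ g) (add_zero n) =
      Ext.comp x (Ext.mk₀ (f ≫ g)) (add_zero n) := by
  rw [Ext.comp_assoc_of_second_deg_zero, Ext.mk₀_comp_mk₀]

theorem ext_comp_square {B' : C} (x : Ext.{w} Z A n) {f : A ⟶ B} {g : B ⟶ D} {f' : A ⟶ B'}
    {g' : B' ⟶ D} (h : f ≫ g = f' ≫ g') :
    Ext.comp (Ext.comp x (Ext.mk₀ f) (add_zero n)) (Ext.mk₀ g) (add_zero n) =
      Ext.comp (Ext.comp x (Ext.mk₀ f') (add_zero n)) (Ext.mk₀ g') (add_zero n) := by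
  rw [ext_comp_comp, ext_comp_comp, h]

theorem ext_comp_zero' (x : Ext.{w} Z A n) {f : A ⟶ B} {g : B ⟶ D} (h : f ≫ g = 0) :
    Ext.comp (Ext.comp x (Ext.mk₀ f) (add_zero n)) (Ext.mk₀ g) (add_zero n) = 0 := by
  rw [ext_comp_comp, h, Ext.mk₀_zero, Ext.comp_zero]

theorem ext_extClass_natural {S : ShortComplex C} (hS : S.ShortExact) (φ : S ⟶ S)
    (x : Ext.{w} Z S.X₃ n) :
    Ext.comp (Ext.comp x (Ext.mk₀ φ.τ₃) (add_zero n)) hS.extClass rfl =
      Ext.comp (Ext.comp x hS.extClass rfl) (Ext.mk₀ φ.τ₁) (add_zero (n + 1)) := by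
  rw [Ext.comp_assoc_of_second_deg_zero, Ext.comp_assoc_of_third_deg_zero,
    ShortComplex.ShortExact.extClass_naturality hS hS φ]

variable {S : ShortComplex C} (hS : S.ShortExact) (Z)

/-- The connecting map in abstract form. -/
noncomputable def gδ (n : ℕ) : Ext.{w} Z S.X₃ n →+ Ext.{w} Z S.X₁ (n + 1) where
  toFun x := Ext.comp x hS.extClass rfl
  map_zero' := Ext.zero_comp _ _ _ _ _
  map_add' x y := Ext.add_comp x y _ _

include hS in
theorem gexact₂ (n : ℕ) :
    Function.Exact (fun x : Ext.{w} Z S.X₁ n => Ext.comp x (Ext.mk₀ S.f) (add_zero n))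
      (fun x : Ext.{w} Z S.X₂ n => Ext.comp x (Ext.mk₀ S.g) (add_zero n)) := by
  intro x
  refine ⟨fun h => Ext.covariant_sequence_exact₂ Z hS x h, ?_⟩
  rintro ⟨x₁, rfl⟩
  exact ext_comp_zero' x₁ S.zero

theorem gexact₃ (n : ℕ) :
    Function.Exact (fun x : Ext.{w} Z S.X₂ n => Ext.comp x (Ext.mk₀ S.g) (add_zero n))
      (gδ Z hS n) := by
  intro x
  refine ⟨fun h => Ext.covariant_sequence_exact₃ Z hS x rfl h, ?_⟩
  rintro ⟨x₂, rfl⟩
  change Ext.comp (Ext.comp x₂ (Ext.mk₀ S.g) (add_zero n)) hS.extClass rfl = 0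
  rw [Ext.comp_assoc_of_second_deg_zero, hS.comp_extClass, Ext.comp_zero]

theorem gexact₁ (n : ℕ) :
    Function.Exact (gδ Z hS n)
      (fun x : Ext.{w} Z S.X₁ (n + 1) => Ext.comp x (Ext.mk₀ S.f) (add_zero (n + 1))) := by
  intro x
  refine ⟨fun h => Ext.covariant_sequence_exact₁ Z hS x h rfl, ?_⟩
  rintro ⟨x₃, rfl⟩
  change Ext.comp (Ext.comp x₃ hS.extClass rfl) (Ext.mk₀ S.f) (add_zero (n + 1)) = 0
  rw [Ext.comp_assoc_of_third_deg_zero, hS.extClass_comp, Ext.comp_zero]

include hS in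
theorem ginj :
    Function.Injective (fun x : Ext.{w} Z S.X₁ 0 => Ext.comp x (Ext.mk₀ S.f) (add_zero 0)) := by
  have hmono := hS.mono_f
  intro x y h
  obtain ⟨a, rfl⟩ := (Ext.mk₀_bijective _ _).2 x
  obtain ⟨b, rfl⟩ := (Ext.mk₀_bijective _ _).2 y
  simp only [Ext.mk₀_comp_mk₀] at h
  exact congrArg _ ((cancel_mono S.f).1 ((Ext.mk₀_bijective _ _).1 h))

end Gen

variable {X : Scheme.{u}}

/-- The forgetful functor to abelian sheaves, on `X.Modules`. -/
noncomputable def toAbF (X : Scheme.{u}) :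
    X.Modules ⥤ Sheaf (Opens.grothendieckTopology X) AddCommGrpCat.{u} :=
  SheafOfModules.toSheaf X.ringCatSheaf

instance toAbF_additive : (toAbF X).Additive where

instance toAbF_preservesFiniteLimits : PreservesFiniteLimits (toAbF X) :=
  inferInstanceAs (PreservesFiniteLimits (SheafOfModules.toSheaf.{u} X.ringCatSheaf))

instance toAbF_preservesFiniteColimits : PreservesFiniteColimits (toAbF X) :=
  inferInstanceAs (PreservesFiniteColimits (SheafOfModules.toSheaf.{u} X.ringCatSheaf))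

theorem smulAb_natural {M N : X.Modules} (φ : M ⟶ N) (r : Coh.Γtop X) :
    Coh.smulAb M r ≫ (toAbF X).map φ =
      (toAbF X).map φ ≫ Coh.smulAb N r := by
  ext U m
  exact (φ.val.app U).hom.map_smul (Coh.resTop X U r) m

/-- The short complex of abelian sheaves underlying a short complex of modules. -/
noncomputable abbrev abComplex (S : ShortComplex X.Modules) :
    ShortComplex (Sheaf (Opens.grothendieckTopology X) AddCommGrpCat.{u}) :=
  { X₁ := Coh.toAb S.X₁
    X₂ := Coh.toAb S.X₂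
    X₃ := Coh.toAb S.X₃
    f := (toAbF X).map S.f
    g := (toAbF X).map S.g
    zero := (S.map (toAbF X)).zero }

theorem abComplex_shortExact {S : ShortComplex X.Modules} (hS : S.ShortExact) :
    (abComplex S).ShortExact :=
  hS.map_of_exact (toAbF X)

/-- The endomorphism of the underlying short complex given by a global function. -/
noncomputable def smulComplex (S : ShortComplex X.Modules) (r : Coh.Γtop X) :
    abComplex S ⟶ abComplex S where
  τ₁ := Coh.smulAb S.X₁ r
  τ₂ := Coh.smulAb S.X₂ r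
  τ₃ := Coh.smulAb S.X₃ r
  comm₁₂ := smulAb_natural S.f r
  comm₂₃ := smulAb_natural S.g r

section Linear

/-- The source object of `Coh.HH`. -/
noncomputable abbrev srcObj (X : Scheme.{u}) :
    Sheaf (Opens.grothendieckTopology X) AddCommGrpCat.{u} :=
  (constantSheaf (Opens.grothendieckTopology X) AddCommGrpCat.{u}).obj (AddCommGrpCat.of (ULift.{u} ℤ))

variable (A : Type u) [CommRing A] [X.Over (Spec (CommRingCat.of A))]

theorem smul_eq_map (M : X.Modules) (n : ℕ) (a : A) (x : Coh.HH X M n) :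
    a • x = Sheaf.H.map (Coh.smulAb M (Coh.toGlobal (X ↘ Spec (CommRingCat.of A)) a)) n x := rfl

theorem smul_eq_comp (M : X.Modules) (n : ℕ) (a : A) (x : Coh.HH X M n) :
    a • x = Ext.comp x (Ext.mk₀ (Coh.smulAb M (Coh.toGlobal (X ↘ Spec (CommRingCat.of A)) a)))
      (add_zero n) := rfl

/-- Functoriality of cohomology. -/
noncomputable def hmap {M N : X.Modules} (φ : M ⟶ N) (n : ℕ) :
    Coh.HH X M n →ₗ[A] Coh.HH X N n where
  toFun x := Ext.comp x (Ext.mk₀ ((toAbF X).map φ)) (add_zero n)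
  map_add' x y := Ext.add_comp x y _ _
  map_smul' a x := ext_comp_square x (smulAb_natural φ _)

theorem hmap_comp {M N P : X.Modules} (φ : M ⟶ N) (ψ : N ⟶ P) (n : ℕ) (x : Coh.HH X M n) :
    hmap A ψ n (hmap A φ n x) = hmap A (φ ≫ ψ) n x := by
  refine (ext_comp_comp x _ _).trans ?_
  exact congrArg (fun f => Ext.comp x (Ext.mk₀ f) (add_zero n)) ((toAbF X).map_comp φ ψ).symm

theorem hmap_id (M : X.Modules) (n : ℕ) (x : Coh.HH X M n) : hmap A (𝟙 M) n x = x := by
  change Ext.comp x _ (add_zero n) = x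
  rw [show (toAbF X).map (𝟙 M) = 𝟙 _ from (toAbF X).map_id M]
  exact Ext.comp_mk₀_id x

/-- Isomorphic modules have isomorphic cohomology. -/
noncomputable def hEquiv {M N : X.Modules} (e : M ≅ N) (n : ℕ) :
    Coh.HH X M n ≃ₗ[A] Coh.HH X N n :=
  LinearEquiv.ofLinearMap (hmap A e.hom n) (hmap A e.inv n)
    (LinearMap.ext fun x => (hmap_comp A _ _ n x).trans (by rw [e.inv_hom_id]; exact hmap_id A N n x))
    (LinearMap.ext fun x => (hmap_comp A _ _ n x).trans (by rw [e.hom_inv_id]; exact hmap_id A M n x))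

variable {S : ShortComplex X.Modules} (hS : S.ShortExact)

include hS in
theorem gδ_smul (n : ℕ) (a : A) (x : Coh.HH X S.X₃ n) :
    gδ.{u} (srcObj X) (abComplex_shortExact hS) n
        (Ext.comp x (Ext.mk₀ (Coh.smulAb S.X₃ (Coh.toGlobal (X ↘ Spec (CommRingCat.of A)) a)))
          (add_zero n)) =
      Ext.comp (gδ.{u} (srcObj X) (abComplex_shortExact hS) n x)
        (Ext.mk₀ (Coh.smulAb S.X₁ (Coh.toGlobal (X ↘ Spec (CommRingCat.of A)) a)))
        (add_zero (n + 1)) :=
  ext_extClass_natural.{u} (Z := srcObj X) (n := n) (abComplex_shortExact hS)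
    (smulComplex S (Coh.toGlobal (X ↘ Spec (CommRingCat.of A)) a)) x

/-- The connecting map. -/
noncomputable def hδ (n : ℕ) : Coh.HH X S.X₃ n →ₗ[A] Coh.HH X S.X₁ (n + 1) :=
  { toFun := fun x => gδ.{u} (srcObj X) (abComplex_shortExact hS) n x
    map_add' := fun x y => map_add _ x y
    map_smul' := fun a x => by
      rw [RingHom.id_apply, smul_eq_comp A S.X₃ n a x]
      exact (gδ_smul A hS n a x).trans (smul_eq_comp A S.X₁ (n + 1) a _).symm }

include hS in
theorem exact_f_g (n : ℕ) : Function.Exact (hmap A S.f n) (hmap A S.g n) :=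
  gexact₂.{u} (srcObj X) (abComplex_shortExact hS) n

theorem exact_g_δ (n : ℕ) : Function.Exact (hmap A S.g n) (hδ A hS n) :=
  gexact₃.{u} (srcObj X) (abComplex_shortExact hS) n

theorem exact_δ_f (n : ℕ) : Function.Exact (hδ A hS n) (hmap A S.f (n + 1)) :=
  gexact₁.{u} (srcObj X) (abComplex_shortExact hS) n

include hS in
theorem injective_f_zero : Function.Injective (hmap A S.f 0) :=
  ginj.{u} (srcObj X) (abComplex_shortExact hS)

end Linear

end Groth.Agent.Crv77
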