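import Groth.Agent.Mod48.Flat
import Groth.Agent.Mero90.TensorLift
import Mathlib.CategoryTheory.Sites.EpiMono
import Mathlib.Algebra.Category.ModuleCat.Sheaf.Limits

/-! Twisting by an invertible module is exact. -/

set_option autoImplicit false
universe u

open CategoryTheory CategoryTheory.Limits AlgebraicGeometry MonoidalCategory Opposite TopologicalSpace

namespace Groth.Agent.Crv77

open Groth.Agent.Var76.LineBundle

variable {X : Scheme.{u}}

/-- `- ⊗ L` as an endofunctor of `X.Modules`. -/
noncomputable def twist (L : X.Modules) : X.Modules ⥤ X.Modules :=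
  Mod48.tR (O := X.sheaf) L

theorem twist_obj (L M : X.Modules) : (twist L).obj M = CohB1.tensorMod M L := rfl

section Site

variable {C : Type u} [SmallCategory C] {J : GrothendieckTopology C} {O : Sheaf J CommRingCat.{u}}

theorem mono_shf_map_of_isLocallyInjective {P Q : PresheafOfModules.{u} (ModSite.ringSh O).obj}
    (f : P ⟶ Q)
    [Presheaf.IsLocallyInjective J ((PresheafOfModules.toPresheaf _).map f)] :
    Mono ((PresheafOfModules.sheafification.{u} (𝟙 (ModSite.ringSh O).obj)).map f) := by
  have h1 : Mono ((presheafToSheaf J AddCommGrpCat.{u}).map ((PresheafOfModules.toPresheaf _).map f)) := by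
    have := (Presheaf.isLocallyInjective_presheafToSheaf_map_iff
      (J := J) ((PresheafOfModules.toPresheaf _).map f)).2 inferInstance
    exact Sheaf.mono_of_isLocallyInjective _
  refine (SheafOfModules.toSheaf (ModSite.ringSh O)).mono_of_mono_map ?_
  let e := PresheafOfModules.sheafificationCompToSheaf.{u} (J := J) (𝟙 (ModSite.ringSh O).obj)
  have h2 := e.hom.naturality f
  have h3 : Mono ((PresheafOfModules.toPresheaf _ ⋙ presheafToSheaf J AddCommGrpCat.{u}).map f) := h1
  change Mono ((PresheafOfModules.sheafification (𝟙 (ModSite.ringSh O).obj) ⋙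
      SheafOfModules.toSheaf (ModSite.ringSh O)).map f)
  have h4 : Mono (e.hom.app P ≫
      (PresheafOfModules.toPresheaf (ModSite.ringSh O).obj ⋙ presheafToSheaf J AddCommGrpCat.{u}).map f) :=
    mono_comp _ _
  exact mono_of_mono_fac h2

theorem injective_whiskerRight_app {P Q : Mod48.PreM O} (f : P ⟶ Q) [Mono f] (R : Mod48.PreM O) (V : Cᵒᵖ)
    (h : Module.Flat (O.obj.obj V) (R.obj V)) : Function.Injective ((f ▷ R).app V).hom := by
  have : Module.Flat ((O.obj ⋙ forget₂ CommRingCat.{u} RingCat.{u}).obj V) (R.obj V) := h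
  exact Module.Flat.rTensor_preserves_injective_linearMap (M := R.obj V)
    (f.app V).hom (PresheafOfModules.injective_of_mono f V)

theorem mono_tR_map_of_locally_flat (G : ModSite.Mod O)
    (hG : ∀ W : C, ∃ S ∈ J W, ∀ ⦃V : C⦄ (i : V ⟶ W), S.arrows i →
      Module.Flat (O.obj.obj (op V)) ((Mod48.pre G).obj (op V)))
    {A B : ModSite.Mod O} (k : A ⟶ B) [Mono k] : Mono ((Mod48.tR G).map k) := by
  let q : Mod48.pre A ⊗ Mod48.pre G ⟶ Mod48.pre B ⊗ Mod48.pre G :=
    Mod48.fgt.map k ▷ Mod48.pre G
  have : (Mod48.fgt : ModSite.Mod O ⥤ Mod48.PreM O).PreservesMonomorphisms :=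
    Functor.preservesMonomorphisms_of_adjunction Mod48.shfAdj
  have hk : Mono (Mod48.fgt.map k) := inferInstance
  have hinjq : Presheaf.IsLocallyInjective J ((PresheafOfModules.toPresheaf _).map q) := by
    refine ⟨fun {W} z z' hz => ?_⟩
    obtain ⟨S, hS, hflat⟩ := hG W.unop
    refine J.superset_covering (fun V i hi => ?_) hS
    change (Mod48.pre A ⊗ Mod48.pre G).map i.op z = (Mod48.pre A ⊗ Mod48.pre G).map i.op z'
    have hinj : Function.Injective (q.app (op V)).hom :=
      injective_whiskerRight_app (Mod48.fgt.map k) (Mod48.pre G) (op V) (hflat i hi)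
    apply hinj
    exact (PresheafOfModules.naturality_apply q i.op z).trans
      ((congrArg (fun w => (Mod48.pre B ⊗ Mod48.pre G).map i.op w)
        (show (q.app W).hom z = (q.app W).hom z' from hz)).trans
        (PresheafOfModules.naturality_apply q i.op z').symm)
  exact @mono_shf_map_of_isLocallyInjective _ _ _ O _ _ q hinjq

theorem shortExact_tR_of_locally_flat (G : ModSite.Mod O)
    (hG : ∀ W : C, ∃ S ∈ J W, ∀ ⦃V : C⦄ (i : V ⟶ W), S.arrows i →
      Module.Flat (O.obj.obj (op V)) ((Mod48.pre G).obj (op V)))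
    {S : ShortComplex (ModSite.Mod O)} (hS : S.ShortExact) : (S.map (Mod48.tR G)).ShortExact :=
  have := hS.mono_f
  have := hS.epi_g
  { exact := ShortComplex.Exact.map_of_epi_of_preservesCokernel hS.exact (Mod48.tR G) hS.epi_g inferInstance
    mono_f := mono_tR_map_of_locally_flat G hG S.f
    epi_g := inferInstanceAs (Epi ((Mod48.tR G).map S.g)) }

end Site

theorem locally_flat_of_rank_one {L : X.Modules} (hL : FlatMod.IsFinLocFreeOfRank 1 L) (W : X.Opens) :
    ∃ S ∈ (Opens.grothendieckTopology X) W, ∀ ⦃V : X.Opens⦄ (i : V ⟶ W), S.arrows i →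
      Module.Flat (X.sheaf.obj.obj (op V)) ((Mod48.pre (O := X.sheaf) L).obj (op V)) := by
  let S : Sieve W := { arrows := fun V _ => ∃ (U : X.Opens) (e : Γ(L, U)), V ≤ U ∧ IsFrame L U e
                       downward_closed := by
                         rintro Y Z f ⟨U, e, hU, he⟩ g
                         exact ⟨U, e, g.le.trans hU, he⟩ }
  refine ⟨S, fun x hx => ?_, ?_⟩
  · obtain ⟨U, hxU, e, he⟩ := exists_frame hL x
    exact ⟨W ⊓ U, homOfLE inf_le_left, ⟨U, e, inf_le_right, he⟩, hx, hxU⟩
  · rintro V i ⟨U, e, hVU, he⟩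
    let g : X.sheaf.obj.obj (op V) →ₗ[X.sheaf.obj.obj (op V)] (Mod48.pre (O := X.sheaf) L).obj (op V) :=
      LinearMap.toSpanSingleton _ _ (res L hVU e)
    exact Module.Flat.of_linearEquiv (LinearEquiv.ofBijective g (he V hVU)).symm

/-- Twisting by an invertible module preserves short exact sequences. -/
theorem shortExact_twist {L : X.Modules} (hL : FlatMod.IsFinLocFreeOfRank 1 L)
    {S : ShortComplex X.Modules} (hS : S.ShortExact) :
    ∃ T : ShortComplex X.Modules, T.ShortExact ∧ T.X₁ = CohB1.tensorMod S.X₁ L ∧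
      T.X₂ = CohB1.tensorMod S.X₂ L ∧ T.X₃ = CohB1.tensorMod S.X₃ L :=
  ⟨_, shortExact_tR_of_locally_flat (O := X.sheaf) L (locally_flat_of_rank_one hL) hS, rfl, rfl, rfl⟩

end Groth.Agent.Crv77
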