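import Mathlib.RingTheory.NoetherNormalization
import Mathlib.RingTheory.Valuation.ExtendToLocalization
import Mathlib.RingTheory.Valuation.Discrete.Basic
import Mathlib.RingTheory.DedekindDomain.AdicValuation
import Mathlib.FieldTheory.Minpoly.IsIntegrallyClosed
import Mathlib.RingTheory.Polynomial.UniqueFactorization
import Mathlib.Algebra.MvPolynomial.NoZeroDivisors
import Mathlib.RingTheory.Algebraic.Integral
import Groth.Agent.VarDim1.KrullAkizuki

/-! Units of a finitely generated domain modulo constants form a finitely generated group. -/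

set_option autoImplicit false
set_option linter.style.haveILetI false
universe u

open Polynomial nonZeroDivisors WithZero IsDedekindDomain

namespace Groth.Agent.Crv77

section Deg

variable {σ : Type*} {k : Type*} [Field k]

/-- The valuation `f ↦ exp (totalDegree f)` on a polynomial ring. -/
noncomputable def degValuation : Valuation (MvPolynomial σ k) ℤᵐ⁰ where
  toFun f := open scoped Classical in if f = 0 then 0 else exp (f.totalDegree : ℤ)
  map_zero' := by simp
  map_one' := by simp
  map_mul' f g := by
    by_cases hf : f = 0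
    · simp [hf]
    by_cases hg : g = 0
    · simp [hg]
    simp only [hf, hg, mul_ne_zero hf hg, if_false, MvPolynomial.totalDegree_mul_of_isDomain hf hg,
      Nat.cast_add, exp_add]
  map_add_le_max' f g := by
    by_cases hf : f = 0
    · subst hf; rw [zero_add]; exact le_max_right _ _
    by_cases hg : g = 0
    · subst hg; rw [add_zero]; exact le_max_left _ _
    by_cases hfg : f + g = 0
    · simp [hfg]
    simp only [hf, hg, hfg, if_false]
    have h := MvPolynomial.totalDegree_add f g
    rcases le_max_iff.1 h with h | h
    · exact le_max_of_le_left (exp_le_exp.2 (by exact_mod_cast h))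
    · exact le_max_of_le_right (exp_le_exp.2 (by exact_mod_cast h))

theorem degValuation_of_ne_zero {f : MvPolynomial σ k} (hf : f ≠ 0) :
    degValuation f = exp (f.totalDegree : ℤ) := by
  change (open scoped Classical in if f = 0 then (0 : ℤᵐ⁰) else exp (f.totalDegree : ℤ)) = _
  rw [if_neg hf]

theorem degValuation_supp :
    (MvPolynomial σ k)⁰ ≤ (degValuation : Valuation (MvPolynomial σ k) ℤᵐ⁰).supp.primeCompl := by
  intro f hf
  have hf0 : f ≠ 0 := nonZeroDivisors.ne_zero hf
  simp [Ideal.primeCompl, Valuation.mem_supp_iff, degValuation_of_ne_zero hf0]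

end Deg

/-- Units of a finitely generated domain over a field: a homomorphism to a lattice whose kernel
consists of constants (elements integral over the base). -/
theorem exists_units_hom (k : Type u) [Field k] (A : Type u) [CommRing A] [IsDomain A] [Algebra k A]
    [Algebra.FiniteType k A] :
    ∃ (ι : Type u) (_ : Finite ι) (φ : Aˣ →* Multiplicative (ι → ℤ)),
      ∀ u : Aˣ, φ u = 1 → IsIntegral k (u : A) := by
  classical
  obtain ⟨s, g, hginj, hgfin⟩ := exists_finite_inj_algHom_of_fg k A
  let P := MvPolynomial (Fin s) k
  letI : Algebra P A := g.toRingHom.toAlgebra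
  have : IsScalarTower k P A := IsScalarTower.of_algebraMap_eq fun c => (g.commutes c).symm
  have : Module.Finite P A := hgfin
  rcases Nat.eq_zero_or_pos s with rfl | hs
  · refine ⟨PEmpty, inferInstance, 1, fun u _ => ?_⟩
    have : Module.Finite k P :=
      Module.Finite.equiv (MvPolynomial.isEmptyAlgEquiv k (Fin 0)).symm.toLinearEquiv
    have : Module.Finite k A := Module.Finite.trans P A
    exact IsIntegral.of_finite k _
  let K₀ := FractionRing P
  let K := FractionRing A
  have hPK : Function.Injective (algebraMap P K) := by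
    rw [IsScalarTower.algebraMap_eq P A K, RingHom.coe_comp]
    exact (IsFractionRing.injective A K).comp hginj
  have : FaithfulSMul P K := (faithfulSMul_iff_algebraMap_injective _ _).2 hPK
  letI : Algebra K₀ K := FractionRing.liftAlgebra P K
  have : IsScalarTower P K₀ K := FractionRing.isScalarTower_liftAlgebra P K
  -- `K` is finite over `K₀`
  have : FiniteDimensional K₀ K := by
    obtain ⟨t, ht⟩ := Module.Finite.fg_top (R := P) (M := A)
    let L := IntermediateField.adjoin K₀ ((fun a => algebraMap A K a) '' (t : Set A))
    have hA : ∀ a : A, algebraMap A K a ∈ L := by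
      intro a
      have ha : a ∈ Submodule.span P (t : Set A) := by rw [ht]; trivial
      induction ha using Submodule.span_induction with
      | mem x hx => exact IntermediateField.subset_adjoin _ _ ⟨x, hx, rfl⟩
      | zero => rw [map_zero]; exact zero_mem L
      | add x y _ _ hx hy => rw [map_add]; exact add_mem hx hy
      | smul c x _ hx =>
        rw [Algebra.smul_def, map_mul, ← IsScalarTower.algebraMap_apply P A K,
          IsScalarTower.algebraMap_apply P K₀ K]
        exact mul_mem (IntermediateField.algebraMap_mem L _) hx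
    have hL : L = ⊤ := by
      rw [eq_top_iff]
      rintro x -
      obtain ⟨a, b, _, rfl⟩ := IsFractionRing.div_surjective (A := A) x
      exact div_mem (hA a) (hA b)
    have : FiniteDimensional K₀ L := IntermediateField.finiteDimensional_adjoin fun x hx => by
      obtain ⟨a, -, rfl⟩ := hx
      have : IsIntegral P (algebraMap A K a) := (IsIntegral.of_finite P a).map
        (IsScalarTower.toAlgHom P A K)
      exact this.tower_top
    rw [hL] at this
    exact IntermediateField.topEquiv.toLinearEquiv.finiteDimensional
  -- the degree valuation on `K₀` and its valuation ring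
  let w : Valuation P ℤᵐ⁰ := degValuation (σ := Fin s) (k := k)
  have hw : P⁰ ≤ w.supp.primeCompl := degValuation_supp
  let v : Valuation K₀ ℤᵐ⁰ := w.extendToLocalization hw K₀
  have hv : ∀ p : P, v (algebraMap P K₀ p) = degValuation p := fun p =>
    Valuation.extendToLocalization_apply_map_apply (v := w) hw K₀ p
  have : Nontrivial (MonoidWithZeroHom.valueGroup (MonoidWithZeroHom.ofClass v)) := by
    let x0 : P := MvPolynomial.X ⟨0, hs⟩
    have hx : v (algebraMap P K₀ x0) = exp (1 : ℤ) := by
      rw [hv, degValuation_of_ne_zero (MvPolynomial.X_ne_zero _), MvPolynomial.totalDegree_X]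
      rfl
    refine ⟨⟨⟨Units.mk0 (exp (1 : ℤ)) exp_ne_zero, MonoidWithZeroHom.mem_valueGroup _ ⟨_, hx⟩⟩, 1, ?_⟩⟩
    intro h
    simp [Subtype.ext_iff, Units.ext_iff] at h
  have : IsCyclic (MonoidWithZeroHom.valueGroup (MonoidWithZeroHom.ofClass v)) := inferInstance
  let O := v.valuationSubring
  have : IsDiscreteValuationRing O := Valuation.valuationSubring_isDiscreteValuationRing v
  have : IsFractionRing O K₀ := inferInstance
  have hOK : Function.Injective (algebraMap O K) := by
    rw [IsScalarTower.algebraMap_eq O K₀ K, RingHom.coe_comp]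
    exact (algebraMap K₀ K).injective.comp Subtype.coe_injective
  have : FaithfulSMul O K := (faithfulSMul_iff_algebraMap_injective _ _).2 hOK
  have : IsDedekindDomain (integralClosure O K) := VarDim1.isDedekindDomain_integralClosure K₀
  have : IsFractionRing (integralClosure O K) K :=
    integralClosure.isFractionRing_of_finite_extension K₀ K
  -- finitely many primes
  have hfin : Finite (HeightOneSpectrum (integralClosure O K)) := by
    let B := integralClosure O K
    let I : Ideal B := (IsLocalRing.maximalIdeal O).map (algebraMap O B)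
    have hI : I ≠ ⊥ := by
      intro h
      rw [Ideal.map_eq_bot_iff_le_ker] at h
      obtain ⟨x, hx, hx0⟩ := Submodule.exists_mem_ne_zero_of_ne_bot
        (IsDiscreteValuationRing.not_a_field O)
      have := h hx
      rw [RingHom.mem_ker] at this
      refine hx0 (hOK ?_)
      rw [map_zero, IsScalarTower.algebraMap_apply O B K, this, map_zero]
    have hS := (VarDim1.finite_setOf_prime_ge K₀ B hI).to_subtype
    refine Finite.of_injective
      (fun Q : HeightOneSpectrum B => (⟨Q.asIdeal, Q.isPrime, ?_⟩ : {J : Ideal B | J.IsPrime ∧ I ≤ J}))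
      (fun Q Q' h => HeightOneSpectrum.ext (congrArg Subtype.val h)) 
    rw [Ideal.map_le_iff_le_comap]
    have hmax : (Q.asIdeal.comap (algebraMap O B)).IsMaximal := by
      have := Q.isPrime.isMaximal Q.ne_bot
      exact Ideal.isMaximal_comap_of_isIntegral_of_isMaximal Q.asIdeal
    exact (IsLocalRing.eq_maximalIdeal hmax).ge
  let e : (ℤᵐ⁰)ˣ ≃* Multiplicative ℤ := WithZero.unitsWithZeroEquiv
  let φ₁ : Aˣ →* (HeightOneSpectrum (integralClosure O K) → Multiplicative ℤ) := MonoidHom.pi fun Q =>
    e.toMonoidHom.comp ((Units.map (Q.valuation K).toMonoidWithZeroHom.toMonoidHom).comp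
      (Units.map (algebraMap A K).toMonoidHom))
  refine ⟨HeightOneSpectrum (integralClosure O K), hfin,
    (MulEquiv.funMultiplicative _ ℤ).symm.toMonoidHom.comp φ₁, fun u hu => ?_⟩
  have hu1 : φ₁ u = 1 := (MulEquiv.funMultiplicative _ ℤ).symm.injective (hu.trans (map_one _).symm)
  have hval : ∀ Q : HeightOneSpectrum (integralClosure O K),
      Q.valuation K (algebraMap A K (u : A)) = 1 := by
    intro Q
    have := congrFun hu1 Q
    have := e.injective (this.trans (map_one e).symm)
    simpa using congrArg Units.val this
  obtain ⟨b, hb⟩ := HeightOneSpectrum.mem_integers_of_valuation_le_one K _ fun Q => (hval Q).le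
  have hPint : IsIntegral P (algebraMap A K (u : A)) :=
    (IsIntegral.of_finite P (u : A)).map (IsScalarTower.toAlgHom P A K)
  have hOint : IsIntegral O (algebraMap A K (u : A)) := hb ▸ b.2
  have hP := minpoly.isIntegrallyClosed_eq_field_fractions' K₀ hPint
  have hO := minpoly.isIntegrallyClosed_eq_field_fractions' K₀ hOint
  -- the coefficients are constants
  have hc : ∀ i, (minpoly P (algebraMap A K (u : A))).coeff i ∈ (algebraMap k P).range := by
    intro i
    set p := (minpoly P (algebraMap A K (u : A))).coeff i
    have h1 : (minpoly K₀ (algebraMap A K (u : A))).coeff i = algebraMap P K₀ p := by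
      rw [hP, Polynomial.coeff_map]
    have h2 : v ((minpoly K₀ (algebraMap A K (u : A))).coeff i) ≤ 1 := by
      rw [hO, Polynomial.coeff_map]
      exact ((minpoly O (algebraMap A K (u : A))).coeff i).2
    rcases eq_or_ne p 0 with hp | hp
    · exact ⟨0, by rw [map_zero, hp]⟩
    rw [h1, hv, degValuation_of_ne_zero hp, ← exp_zero, exp_le_exp] at h2
    have h3 : p.totalDegree = 0 := by omega
    rw [MvPolynomial.totalDegree_eq_zero_iff_eq_C] at h3
    exact ⟨_, h3.symm⟩
  obtain ⟨q, hq, -, hqm⟩ := Polynomial.lifts_and_degree_eq_and_monic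
    ((Polynomial.lifts_iff_coeff_lifts _).2 hc) (minpoly.monic hPint)
  have hk : IsIntegral k (algebraMap A K (u : A)) := by
    refine ⟨q, hqm, ?_⟩
    rw [← Polynomial.aeval_def, ← Polynomial.aeval_map_algebraMap P, hq, minpoly.aeval]
  exact (isIntegral_algebraMap_iff (IsFractionRing.injective A K)).1 hk

/-- A field inside a finitely generated domain over `k` consists of elements integral over `k`. -/
theorem isIntegral_of_field_hom (k : Type u) [Field k] (A : Type u) [CommRing A] [IsDomain A]
    [Algebra k A] [Algebra.FiniteType k A] (L : Type u) [Field L] (j : L →+* A) (l : L) :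
    IsIntegral k (j l) := by
  classical
  obtain ⟨ι, hι, φ, hφ⟩ := exists_units_hom k A
  have := Fintype.ofFinite ι
  let K := FractionRing A
  have hinj : Function.Injective (algebraMap A K) := IsFractionRing.injective A K
  let j' : L →+* K := (algebraMap A K).comp j
  let M : Subfield L := (algebraicClosure k K).toSubfield.comap j'
  have hM : ∀ m : L, m ∈ M ↔ IsIntegral k (j m) := fun m =>
    (mem_algebraicClosure_iff' (x := j' m)).trans (isIntegral_algebraMap_iff hinj)
  by_contra hl
  -- `l` is transcendental over `M`
  have htr : ∀ P : M[X], Polynomial.aeval l P = 0 → P = 0 := by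
    intro P hP
    by_contra hP0
    have h1 : IsIntegral M l := IsAlgebraic.isIntegral ⟨P, hP0, hP⟩
    obtain ⟨Q, hQ, hQ0⟩ := h1
    let C := algebraicClosure k K
    have hCi : Algebra.IsIntegral k C := inferInstance
    let σ : M →+* C := (j'.comp M.subtype).codRestrict C.toSubfield.toSubring fun m => m.2
    have h2 : IsIntegral C (j' l) := by
      refine ⟨Q.map σ, hQ.map σ, ?_⟩
      rw [Polynomial.eval₂_map]
      have : (algebraMap C K).comp σ = j'.comp (algebraMap M L) := RingHom.ext fun m => rfl
      rw [this, ← Polynomial.hom_eval₂, hQ0, map_zero]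
    exact hl ((isIntegral_algebraMap_iff hinj).1 (isIntegral_trans (j' l) h2))
  -- pairwise coprime nonconstant polynomials
  have hq : ∀ n : ℕ, ∃ q : Fin n → M[X], (∀ i, 1 ≤ (q i).natDegree) ∧
      Pairwise fun a b => IsCoprime (q a) (q b) := by
    intro n
    induction n with
    | zero => exact ⟨Fin.elim0, fun i => i.elim0, fun i => i.elim0⟩
    | succ n ih =>
      obtain ⟨q, hd, hc⟩ := ih
      have hne : ∀ i, q i ≠ 0 := fun i h => by have := hd i; simp [h] at this
      let r : M[X] := X * (∏ i, q i) + 1
      have hr : 1 ≤ r.natDegree := by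
        have h0 : (∏ i, q i) ≠ 0 := Finset.prod_ne_zero_iff.2 fun i _ => hne i
        rw [show r = X * (∏ i, q i) + C 1 by rw [map_one], Polynomial.natDegree_add_C,
          Polynomial.natDegree_mul X_ne_zero h0, natDegree_X]
        omega
      have hrc : ∀ i, IsCoprime (q i) r := fun i => by
        refine IsCoprime.of_mul_left_left (y := X * ∏ j ∈ Finset.univ.erase i, q j) ?_
        refine ⟨-1, 1, ?_⟩
        simp only [r, ← Finset.mul_prod_erase Finset.univ q (Finset.mem_univ i)]
        ring
      refine ⟨Fin.cons r q, fun i => Fin.cases hr hd i, fun a b hab => ?_⟩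
      induction a using Fin.cases with
      | zero =>
        induction b using Fin.cases with
        | zero => exact absurd rfl hab
        | succ b => simpa using (hrc b).symm
      | succ a =>
        induction b using Fin.cases with
        | zero => simpa using hrc a
        | succ b => simpa using hc (fun h => hab (congrArg Fin.succ h))
  obtain ⟨q, hd, hc⟩ := hq (Fintype.card ι + 1)
  have hne : ∀ i, q i ≠ 0 := fun i h => by have := hd i; simp [h] at this
  let w : Fin (Fintype.card ι + 1) → Lˣ := fun i =>
    Units.mk0 (Polynomial.aeval l (q i)) fun h => hne i (htr _ h)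
  let ψ : Lˣ →* Multiplicative (ι → ℤ) := φ.comp (Units.map j.toMonoidHom)
  have hdep : ¬ LinearIndependent ℤ fun i => (ψ (w i)).toAdd := by
    intro h
    have h1 := h.fintype_card_le_finrank
    rw [Fintype.card_fin, Module.finrank_fintype_fun_eq_card] at h1
    omega
  obtain ⟨c, hsum, i₀, hi₀⟩ := Fintype.not_linearIndependent_iff.1 hdep
  have hprod : ψ (∏ i, w i ^ c i) = 1 := by
    apply Multiplicative.toAdd.injective
    simpa [map_prod, map_zpow, toAdd_prod] using hsum
  let m : Lˣ := ∏ i, w i ^ c i
  have hmM : (m : L) ∈ M := (hM _).2 (hφ (Units.map j.toMonoidHom m) hprod)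
  let P : M[X] := ∏ i, q i ^ (c i).toNat
  let N : M[X] := ∏ i, q i ^ (-c i).toNat
  have hPN : P = C ⟨(m : L), hmM⟩ * N := by
    refine sub_eq_zero.1 (htr _ ?_)
    rw [map_sub, map_mul, Polynomial.aeval_C, map_prod, map_prod, sub_eq_zero,
      show algebraMap M L ⟨(m : L), hmM⟩ = (m : L) from rfl]
    have : ∀ i, w i ^ (c i).toNat = w i ^ c i * w i ^ (-c i).toNat := fun i => by
      rw [← zpow_natCast, ← zpow_natCast, ← zpow_add]
      congr 1
      omega
    have hu := Finset.prod_congr (rfl : Finset.univ = Finset.univ) fun i _ => this i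
    rw [Finset.prod_mul_distrib] at hu
    have := congrArg Units.val hu
    simpa [Units.coe_prod, w, m, map_pow] using this
  have hcop : IsCoprime P N := by
    refine IsCoprime.prod_left fun a _ => IsCoprime.prod_right fun b _ => ?_
    rcases eq_or_ne a b with rfl | hab
    · rcases le_total 0 (c a) with h | h
      · rw [show (-c a).toNat = 0 by omega, pow_zero]; exact isCoprime_one_right
      · rw [show (c a).toNat = 0 by omega, pow_zero]; exact isCoprime_one_left
    · exact (hc hab).pow
  have hm0 : IsUnit (C (⟨(m : L), hmM⟩ : M)) := Polynomial.isUnit_C.2 <|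
    isUnit_iff_ne_zero.2 fun h => m.ne_zero (congrArg Subtype.val h)
  have hPu : IsUnit P := hcop.isUnit_of_dvd' dvd_rfl
    (by rw [hPN]; exact (hm0.mul_left_dvd).2 dvd_rfl)
  have hNu : IsUnit N := by
    rw [hPN] at hPu
    exact isUnit_of_mul_isUnit_right hPu
  have key : ∀ (e : Fin (Fintype.card ι + 1) → ℕ), IsUnit (∏ i, q i ^ e i) → ∀ i, e i = 0 := by
    intro e he i
    by_contra hei
    have : q i ∣ ∏ j, q j ^ e j :=
      (dvd_pow_self _ hei).trans (Finset.dvd_prod_of_mem _ (Finset.mem_univ i))
    have := Polynomial.natDegree_eq_zero_of_isUnit (isUnit_of_dvd_unit this he)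
    have := hd i
    omega
  have := key _ hPu i₀
  have := key _ hNu i₀
  omega

/-- A field inside a reduced finitely generated algebra over `k` consists of integral elements. -/
theorem isIntegral_of_field_hom_reduced (k : Type u) [Field k] (B : Type u) [CommRing B]
    [_root_.IsReduced B] [Algebra k B] [Algebra.FiniteType k B] (L : Type u) [Field L]
    (j : L →+* B) (l : L) : IsIntegral k (j l) := by
  classical
  have : IsNoetherianRing B := Algebra.FiniteType.isNoetherianRing k B
  have h : ∀ p : minimalPrimes B, ∃ P : k[X], P.Monic ∧ Polynomial.aeval (j l) P ∈ (p : Ideal B) := by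
    rintro ⟨p, hp⟩
    have : p.IsPrime := hp.1.1
    obtain ⟨P, hP, hP0⟩ := isIntegral_of_field_hom k (B ⧸ p) L ((Ideal.Quotient.mk p).comp j) l
    refine ⟨P, hP, Ideal.Quotient.eq_zero_iff_mem.1 ?_⟩
    rw [← Ideal.Quotient.mkₐ_eq_mk k, ← Polynomial.aeval_algHom_apply]
    exact hP0
  choose P hP hPmem using h
  have := (minimalPrimes.finite_of_isNoetherianRing B).fintype
  refine ⟨∏ p, P p, monic_prod_of_monic _ _ fun p _ => hP p, ?_⟩
  rw [← Polynomial.aeval_def]
  have hmem : Polynomial.aeval (j l) (∏ p, P p) ∈ sInf (minimalPrimes B) := by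
    simp only [Submodule.mem_sInf]
    intro p hp
    rw [map_prod]
    exact Ideal.mem_of_dvd _ (Finset.dvd_prod_of_mem _ (Finset.mem_univ ⟨p, hp⟩)) (hPmem ⟨p, hp⟩)
  have hbot : sInf (minimalPrimes B) = ⊥ := by
    rw [show minimalPrimes B = (⊥ : Ideal B).minimalPrimes from rfl, Ideal.sInf_minimalPrimes,
      Ideal.radical_bot_of_isReduced]
  simpa [hbot] using hmem

end Groth.Agent.Crv77
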