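import Mathlib.AlgebraicGeometry.Morphisms.FiniteType
import Mathlib.AlgebraicGeometry.Noetherian
import Mathlib.AlgebraicGeometry.ResidueField
import Mathlib.RingTheory.IntegralClosure.IsIntegralClosure.Basic
import Groth.Agent.Crv77.UnitsFG

/-! Global functions integral over a base field, and constants. -/

set_option autoImplicit false
set_option linter.style.haveILetI false
universe u

open CategoryTheory AlgebraicGeometry TopologicalSpace Opposite Polynomial

namespace Groth.Agent.Crv77

variable {k : Type u} [Field k] {X : Scheme.{u}} (f : X ⟶ Spec (CommRingCat.of k))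

/-- The structure map `k → Γ(X, ⊤)`. -/
noncomputable def constMap : k →+* Γ(X, ⊤) :=
  f.appTop.hom.comp (Scheme.ΓSpecIso (CommRingCat.of k)).inv.hom

theorem constMap_res_finiteType [LocallyOfFiniteType f] {V : X.Opens} (hV : IsAffineOpen V) :
    ((X.presheaf.map (homOfLE (le_top (a := V))).op).hom.comp (constMap f)).FiniteType := by
  have h1 := f.finiteType_appLE (isAffineOpen_top _) hV (le_top (a := V))
  have h2 : (X.presheaf.map (homOfLE (le_top (a := V))).op).hom.comp (constMap f) =
      (f.appLE ⊤ V le_top).hom.comp (Scheme.ΓSpecIso (CommRingCat.of k)).inv.hom := rfl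
  rw [h2]
  exact h1.comp (RingHom.FiniteType.of_surjective _
    (ConcreteCategory.bijective_of_isIso (Scheme.ΓSpecIso (CommRingCat.of k)).inv).2)

/-- Only trivial idempotent global functions on a connected scheme. -/
theorem eq_zero_or_one_of_isIdempotentElem [ConnectedSpace X] {e : Γ(X, ⊤)}
    (he : IsIdempotentElem e) : e = 0 ∨ e = 1 := by
  have hmul : e * (1 - e) = 0 := by rw [mul_sub, mul_one, he, sub_self]
  have hd : X.basicOpen e ⊓ X.basicOpen (1 - e) = ⊥ := by
    rw [← Scheme.basicOpen_mul, hmul, Scheme.basicOpen_zero]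
  have hc : (X.basicOpen e : Set X) ∪ X.basicOpen (1 - e) = Set.univ := by
    refine Set.eq_univ_of_forall fun x => ?_
    by_contra h
    rw [Set.mem_union, not_or] at h
    have h1 := (X.evaluation_eq_zero_iff_notMem_basicOpen (U := ⊤) x trivial e).2 h.1
    have h2 := (X.evaluation_eq_zero_iff_notMem_basicOpen (U := ⊤) x trivial (1 - e)).2 h.2
    rw [map_sub, map_one, h1, sub_zero] at h2
    exact one_ne_zero h2
  have hcl : IsClopen (X.basicOpen e : Set X) := by
    refine ⟨⟨?_⟩, (X.basicOpen e).2⟩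
    have : (X.basicOpen e : Set X)ᶜ = X.basicOpen (1 - e) := by
      refine Set.Subset.antisymm (fun x hx => ?_) (fun x hx hx' => ?_)
      · exact (hc.ge (Set.mem_univ x)).resolve_left hx
      · exact (hd.le ⟨hx', hx⟩ : x ∈ (⊥ : X.Opens))
    rw [this]; exact (X.basicOpen (1 - e)).2
  have hu : ∀ a : Γ(X, ⊤), IsIdempotentElem a → (X.basicOpen a : Set X) = Set.univ → a = 1 := by
    intro a ha hau
    have : IsUnit a := by
      refine X.toLocallyRingedSpace.toRingedSpace.isUnit_of_isUnit_germ ⊤ a fun x hx => ?_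
      exact (X.mem_basicOpen a x hx).1 (hau.ge (Set.mem_univ x))
    exact ((IsIdempotentElem.iff_eq_one_of_isUnit this).1 ha)
  rcases isClopen_iff.1 hcl with h | h
  · refine Or.inl ?_
    have := hu (1 - e) he.one_sub (by rw [h, Set.empty_union] at hc; exact hc)
    exact sub_eq_self.1 this
  · exact Or.inr (hu e he h)

/-- An element integral over a field, in a reduced ring without nontrivial idempotents, is `0`
or invertible in the subalgebra it generates. -/
theorem exists_mul_eq_one_of_isIntegral {R : Type u} [CommRing R] [Algebra k R] [_root_.IsReduced R]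
    (hid : ∀ e : R, IsIdempotentElem e → e = 0 ∨ e = 1) {c : R} (hc : IsIntegral k c) (h0 : c ≠ 0) :
    ∃ z ∈ Algebra.adjoin k ({c} : Set R), c * z = 1 := by
  obtain ⟨P, hP, hPc⟩ := hc
  obtain ⟨m, Q, hQ, hPQ⟩ : ∃ (m : ℕ) (Q : k[X]), Q.coeff 0 ≠ 0 ∧ P = X ^ m * Q := by
    obtain ⟨Q, hQ, hQ'⟩ := Polynomial.exists_eq_pow_rootMultiplicity_mul_and_not_dvd P hP.ne_zero 0
    refine ⟨_, Q, ?_, by simpa using hQ⟩
    simpa [Polynomial.X_dvd_iff] using hQ'
  let q := Q.coeff 0
  let z : R := -(algebraMap k R q⁻¹) * aeval c (Q.divX)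
  have hz : z ∈ Algebra.adjoin k ({c} : Set R) := by
    have hA := Polynomial.aeval_mem_adjoin_singleton k c (p := Q.divX)
    exact mul_mem (neg_mem (Subalgebra.algebraMap_mem _ _)) hA
  refine ⟨z, hz, ?_⟩
  have h1 : c ^ m * (1 - c * z) = 0 := by
    have h2 : aeval c P = 0 := hPc
    rw [hPQ, map_mul, map_pow, aeval_X, ← Polynomial.divX_mul_X_add Q, map_add, map_mul, aeval_X,
      aeval_C] at h2
    have h3 : algebraMap k R q⁻¹ * algebraMap k R q = 1 := by
      rw [← map_mul, inv_mul_cancel₀ hQ, map_one]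
    calc c ^ m * (1 - c * z) = algebraMap k R q⁻¹ *
          (c ^ m * (aeval c Q.divX * c + algebraMap k R q)) := by
            simp only [z]; linear_combination (-(c ^ m)) * h3
      _ = 0 := by rw [h2, mul_zero]
  have h4 : c * (1 - c * z) = 0 := by
    refine IsReduced.eq_zero _ ⟨m + 1, ?_⟩
    rw [pow_succ, mul_pow]
    calc c ^ m * ((1 - c * z) ^ m) * (c * (1 - c * z))
        = (c ^ m * (1 - c * z)) * ((1 - c * z) ^ m * c) := by ring
      _ = 0 := by rw [h1, zero_mul]
  have he : IsIdempotentElem (c * z) := by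
    unfold IsIdempotentElem
    linear_combination (-z) * h4
  rcases hid _ he with h | h
  · exact absurd (by linear_combination h4 + c * h) h0
  · exact h

/-- Being integral over a second base field, locally. -/
theorem isIntegralElem_res [IsReduced X] [ConnectedSpace X] {k₁ : Type u} [Field k₁]
    (ρ₁ : k₁ →+* Γ(X, ⊤)) (b : X ⟶ Spec (CommRingCat.of k)) [LocallyOfFiniteType b] {x : Γ(X, ⊤)}
    (hx : ρ₁.IsIntegralElem x) {V : X.Opens} (hV : IsAffineOpen V) :
    ((X.presheaf.map (homOfLE (le_top (a := V))).op).hom.comp (constMap b)).IsIntegralElem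
      (X.presheaf.map (homOfLE (le_top (a := V))).op x) := by
  letI : Algebra k₁ Γ(X, ⊤) := ρ₁.toAlgebra
  let L₁ := Algebra.adjoin k₁ ({x} : Set Γ(X, ⊤))
  have hxi : IsIntegral k₁ x := hx
  have hint : Algebra.IsIntegral k₁ L₁ := Algebra.IsIntegral.adjoin (by simpa using hxi)
  have : Nontrivial Γ(X, ⊤) := by
    obtain ⟨p⟩ : Nonempty X := inferInstance
    exact (X.Γevaluation p).hom.domain_nontrivial
  have hF : IsField L₁ := by
    refine ⟨exists_pair_ne _, mul_comm, fun {a} ha => ?_⟩
    obtain ⟨z, hz, hmul⟩ := exists_mul_eq_one_of_isIntegral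
      (fun e he => eq_zero_or_one_of_isIdempotentElem he) (k := k₁) (c := (a : Γ(X, ⊤)))
      ((hint.isIntegral a).map L₁.val) (fun h => ha (Subtype.ext h))
    have hle : Algebra.adjoin k₁ ({(a : Γ(X, ⊤))} : Set Γ(X, ⊤)) ≤ L₁ :=
      Algebra.adjoin_le (by simp)
    exact ⟨⟨z, hle hz⟩, Subtype.ext hmul⟩
  letI := hF.toField
  letI : Algebra k Γ(X, V) :=
    ((X.presheaf.map (homOfLE (le_top (a := V))).op).hom.comp (constMap b)).toAlgebra
  have : Algebra.FiniteType k Γ(X, V) := constMap_res_finiteType b hV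
  exact isIntegral_of_field_hom_reduced k Γ(X, V) L₁
    ((X.presheaf.map (homOfLE (le_top (a := V))).op).hom.comp L₁.toSubring.subtype)
    ⟨x, Algebra.self_mem_adjoin_singleton _ _⟩

/-- On a connected reduced scheme locally of finite type, being integral is local. -/
theorem isIntegralElem_of_forall_res [IsReduced X] [ConnectedSpace X] {x : Γ(X, ⊤)}
    (h : ∀ V : X.Opens, IsAffineOpen V →
      ((X.presheaf.map (homOfLE (le_top (a := V))).op).hom.comp (constMap f)).IsIntegralElem
        (X.presheaf.map (homOfLE (le_top (a := V))).op x)) :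
    (constMap f).IsIntegralElem x := by
  classical
  let Z : k[X] → Set X := fun q => (X.basicOpen (q.eval₂ (constMap f) x) : Set X)ᶜ
  have hZc : ∀ q, IsClosed (Z q) := fun q => (X.basicOpen _).2.isClosed_compl
  have hev : ∀ (p : X) (q : k[X]), p ∈ Z q ↔
      q.eval₂ ((X.Γevaluation p).hom.comp (constMap f)) (X.Γevaluation p x) = 0 := fun p q => by
    rw [← Polynomial.hom_eval₂]
    exact (X.evaluation_eq_zero_iff_notMem_basicOpen (U := ⊤) p trivial _).symm
  -- two irreducible polynomials with a common zero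
  have huniq : ∀ (p : X) (q q' : k[X]), q.Monic → q'.Monic → Irreducible q → Irreducible q' →
      p ∈ Z q → p ∈ Z q' → q = q' := by
    intro p q q' hq hq' hqi hqi' hp hp'
    rw [hev] at hp hp'
    letI : Algebra k (X.residueField p) := ((X.Γevaluation p).hom.comp (constMap f)).toAlgebra
    rw [minpoly.eq_of_irreducible_of_monic hqi (show aeval _ q = 0 from hp) hq,
      minpoly.eq_of_irreducible_of_monic hqi' (show aeval _ q' = 0 from hp') hq']
  have hex : ∀ (V : X.Opens), IsAffineOpen V → ∃ s : Finset k[X],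
      (∀ q ∈ s, q.Monic ∧ Irreducible q) ∧ ∀ p ∈ V, ∃ q ∈ s, p ∈ Z q := by
    intro V hV
    obtain ⟨Q, hQ, hQ0⟩ := h V hV
    refine ⟨(UniqueFactorizationMonoid.normalizedFactors Q).toFinset, fun q hq => ?_, fun p hp => ?_⟩
    · rw [Multiset.mem_toFinset] at hq
      have hi := UniqueFactorizationMonoid.irreducible_of_normalized_factor _ hq
      have hn := UniqueFactorizationMonoid.normalize_normalized_factor _ hq
      exact ⟨hn ▸ Polynomial.monic_normalize hi.ne_zero, hi⟩
    have hp0 : Q.eval₂ ((X.Γevaluation p).hom.comp (constMap f)) (X.Γevaluation p x) = 0 := by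
      have h1 := congrArg (X.evaluation V p hp) hQ0
      rw [map_zero] at h1
      rw [Polynomial.hom_eval₂] at h1
      have h2 : ∀ a : Γ(X, ⊤), X.evaluation V p hp (X.presheaf.map (homOfLE (le_top (a := V))).op a) =
          X.Γevaluation p a := fun a => by
        show X.residue p (X.presheaf.germ V p hp _) = X.residue p (X.presheaf.germ ⊤ p trivial a)
        exact congrArg _ (X.presheaf.germ_res_apply (homOfLE (le_top (a := V))) p hp a)
      have h3 : (X.evaluation V p hp).hom.comp
          ((X.presheaf.map (homOfLE (le_top (a := V))).op).hom.comp (constMap f)) =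
          (X.Γevaluation p).hom.comp (constMap f) := RingHom.ext fun a => h2 _
      rw [h3, h2] at h1
      exact h1
    letI : Algebra k (X.residueField p) := ((X.Γevaluation p).hom.comp (constMap f)).toAlgebra
    have hint : IsIntegral k (X.Γevaluation p x) := ⟨Q, hQ, hp0⟩
    have hdvd : minpoly k (X.Γevaluation p x) ∣ Q := minpoly.dvd _ _ hp0
    obtain ⟨q, hq, hq'⟩ := UniqueFactorizationMonoid.exists_mem_normalizedFactors_of_dvd hQ.ne_zero
      (minpoly.irreducible hint) hdvd
    have hqm : q.Monic := by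
      rw [← UniqueFactorizationMonoid.normalize_normalized_factor _ hq]
      exact Polynomial.monic_normalize
        (UniqueFactorizationMonoid.irreducible_of_normalized_factor _ hq).ne_zero
    have heq : minpoly k (X.Γevaluation p x) = q :=
      eq_of_monic_of_associated (minpoly.monic hint) hqm hq'
    exact ⟨q, Multiset.mem_toFinset.2 hq, (hev p q).2 (heq ▸ minpoly.aeval k _)⟩
  obtain ⟨p₀⟩ : Nonempty X := inferInstance
  obtain ⟨V₀, hV₀, hp₀, -⟩ := exists_isAffineOpen_mem_and_subset (x := p₀) (U := ⊤) trivial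
  obtain ⟨s₀, hs₀, hs₀'⟩ := hex V₀ hV₀
  obtain ⟨q, hq, hpq⟩ := hs₀' p₀ hp₀
  obtain ⟨hqm, hqi⟩ := hs₀ q hq
  have hopen : IsOpen (Z q) := by
    refine isOpen_iff_forall_mem_open.2 fun p hp => ?_
    obtain ⟨V, hV, hpV, -⟩ := exists_isAffineOpen_mem_and_subset (x := p) (U := ⊤) trivial
    obtain ⟨s, hs, hs'⟩ := hex V hV
    refine ⟨(V : Set X) ∩ (⋃ q' ∈ s.erase q, Z q')ᶜ, ?_, ?_, ?_⟩
    · rintro z ⟨hzV, hz⟩
      obtain ⟨q', hq', hzq⟩ := hs' z hzV
      by_cases hqq : q' = q
      · exact hqq ▸ hzq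
      · exact absurd (Set.mem_iUnion₂.2 ⟨q', Finset.mem_erase.2 ⟨hqq, hq'⟩, hzq⟩) hz
    · exact V.2.inter (isClosed_biUnion_finset fun q' _ => hZc q').isOpen_compl
    · refine ⟨hpV, fun hmem => ?_⟩
      obtain ⟨q', hq', hpq'⟩ := Set.mem_iUnion₂.1 hmem
      obtain ⟨hne, hq's⟩ := Finset.mem_erase.1 hq'
      exact hne (huniq p q' q (hs q' hq's).1 hqm (hs q' hq's).2 hqi hpq' hp)
  have hall : Z q = Set.univ := IsClopen.eq_univ ⟨hZc q, hopen⟩ ⟨p₀, hpq⟩
  refine ⟨q, hqm, (AlgebraicGeometry.basicOpen_eq_bot_iff _).1 ?_⟩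
  refine SetLike.coe_injective (Set.eq_empty_of_forall_notMem fun p => ?_)
  exact hall.ge (Set.mem_univ p)

end Groth.Agent.Crv77
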