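import Groth.Agent.Crv77.HH
import Groth.Agent.TopCoh49.Top
import Groth.Agent.EGA73.Invertible

/-! Global sections and degree zero cohomology. -/

set_option autoImplicit false
universe u

open CategoryTheory CategoryTheory.Limits AlgebraicGeometry TopologicalSpace Opposite CategoryTheory.Abelian

namespace Groth.Agent.Crv77

variable {X : Scheme.{u}}

/-- The canonical section of the constant sheaf. -/
noncomputable def genZ (X : Scheme.{u}) :
    (TopCoh49.constZ X.toPresheafedSpace.carrier).obj.obj (op ⊤) :=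
  TopCoh49.constHomEquiv _ (𝟙 _)

theorem constHomEquiv_eq {F : CohTop.Ab X.toPresheafedSpace.carrier}
    (φ : TopCoh49.constZ X.toPresheafedSpace.carrier ⟶ F) :
    TopCoh49.constHomEquiv F φ = φ.hom.app (op ⊤) (genZ X) := by
  conv_lhs => rw [← Category.id_comp φ]
  exact TopCoh49.constHomEquiv_comp _ φ

/-- Degree zero cohomology is global sections, as a bijection. -/
noncomputable def secE (M : X.Modules) : Coh.HH X M 0 ≃ Γ(M, ⊤) :=
  (Equiv.ofBijective (fun φ : srcObj X ⟶ Coh.toAb M => (Ext.mk₀ φ : Coh.HH X M 0))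
      (Ext.mk₀_bijective (srcObj X) (Coh.toAb M))).symm.trans
    (TopCoh49.constHomEquiv (X := X.toPresheafedSpace.carrier) (Coh.toAb M))

theorem secE_mk₀ (M : X.Modules) (φ : srcObj X ⟶ Coh.toAb M) :
    secE M (Ext.mk₀ φ) = φ.hom.app (op ⊤) (genZ X) :=
  (congrArg (TopCoh49.constHomEquiv (X := X.toPresheafedSpace.carrier) (Coh.toAb M))
    ((Equiv.ofBijective (fun ψ : srcObj X ⟶ Coh.toAb M => (Ext.mk₀ ψ : Coh.HH X M 0))
      (Ext.mk₀_bijective (srcObj X) (Coh.toAb M))).symm_apply_apply φ)).trans (constHomEquiv_eq φ)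

/-- Degree zero cohomology is global sections. -/
noncomputable def sec (M : X.Modules) : Coh.HH X M 0 ≃+ Γ(M, ⊤) :=
  AddEquiv.mk' (secE M) (fun x y => by
    obtain ⟨a, rfl⟩ := (Ext.mk₀_bijective (srcObj X) (Coh.toAb M)).2 x
    obtain ⟨b, rfl⟩ := (Ext.mk₀_bijective (srcObj X) (Coh.toAb M)).2 y
    exact (congrArg (secE M) (Ext.mk₀_add a b).symm).trans ((secE_mk₀ M (a + b)).trans
      (congrArg₂ (· + ·) (secE_mk₀ M a).symm (secE_mk₀ M b).symm)))

theorem sec_mk₀ (M : X.Modules) (φ : srcObj X ⟶ Coh.toAb M) :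
    sec M (Ext.mk₀ φ) = φ.hom.app (op ⊤) (genZ X) :=
  secE_mk₀ M φ

variable (A : Type u) [CommRing A] [X.Over (Spec (CommRingCat.of A))]

theorem sec_hmap {M N : X.Modules} (f : M ⟶ N) (x : Coh.HH X M 0) :
    sec N (hmap A f 0 x) = f.app ⊤ (sec M x) := by
  obtain ⟨φ, rfl⟩ := (Ext.mk₀_bijective (srcObj X) (Coh.toAb M)).2 x
  refine (congrArg (sec N) (Ext.mk₀_comp_mk₀ φ ((toAbF X).map f))).trans ?_
  exact (sec_mk₀ N _).trans (congrArg (fun m => f.app ⊤ m) (sec_mk₀ M φ)).symm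

theorem sec_smul (M : X.Modules) (a : A) (x : Coh.HH X M 0) :
    sec M (a • x) =
      (show Γ(X, ⊤) from Coh.toGlobal (X ↘ Spec (CommRingCat.of A)) a) • sec M x := by
  obtain ⟨φ, rfl⟩ := (Ext.mk₀_bijective (srcObj X) (Coh.toAb M)).2 x
  refine (congrArg (sec M) ((smul_eq_comp A M 0 a _).trans (Ext.mk₀_comp_mk₀ φ _))).trans ?_
  refine (sec_mk₀ M _).trans ?_
  refine (congrArg (fun r : Γ(X, ⊤) => r • (show Γ(M, ⊤) from φ.hom.app (op ⊤) (genZ X))) ?_).trans
    (congrArg (fun m : Γ(M, ⊤) => (show Γ(X, ⊤) from Coh.toGlobal (X ↘ Spec (CommRingCat.of A)) a) • m)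
      (sec_mk₀ M φ).symm)
  change (X.presheaf.map (𝟙 (op ⊤))).hom _ = _
  rw [X.presheaf.map_id]
  rfl

/-- The morphism out of `O_X` attached to a class in degree zero. -/
noncomputable def toHom {M : X.Modules} (x : Coh.HH X M 0) : Coh.structureModule X ⟶ M :=
  EGA73.unitHom M (sec M x)

theorem toHom_app_one {M : X.Modules} (x : Coh.HH X M 0) :
    (toHom x).app ⊤ (1 : Γ(X, ⊤)) = sec M x := by
  refine (EGA73.unitHom_app M (sec M x) ⊤ 1).trans ((one_smul _ _).trans ?_)
  rw [show (homOfLE (le_top (a := (⊤ : X.Opens)))).op = 𝟙 _ from rfl, M.presheaf.map_id]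
  rfl

theorem toAb_toHom_add {M : X.Modules} (x y : Coh.HH X M 0) :
    (toAbF X).map (toHom (x + y)) = (toAbF X).map (toHom x) + (toAbF X).map (toHom y) := by
  ext U c
  refine (EGA73.unitHom_app M _ U.unop c).trans ?_
  refine ((congrArg (fun m : Γ(M, U.unop) => (show Γ(X, U.unop) from c) • m)
    ((congrArg _ (map_add (sec M) x y)).trans (map_add _ _ _))).trans (smul_add _ _ _)).trans ?_
  exact (congrArg₂ (· + ·) (EGA73.unitHom_app M _ U.unop c) (EGA73.unitHom_app M _ U.unop c)).symm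

theorem toAb_toHom_smul {M : X.Modules} (a : A) (x : Coh.HH X M 0) :
    (toAbF X).map (toHom (a • x)) = (toAbF X).map (toHom x) ≫
      Coh.smulAb M (Coh.toGlobal (X ↘ Spec (CommRingCat.of A)) a) := by
  ext U c
  refine (EGA73.unitHom_app M _ U.unop c).trans ?_
  rw [sec_smul A M a x]
  refine (congrArg (fun m : Γ(M, U.unop) => (show Γ(X, U.unop) from c) • m)
    (Scheme.Modules.map_smul M (homOfLE (le_top (a := U.unop))) _ _)).trans ?_
  rw [smul_comm]
  exact congrArg (fun m : Γ(M, U.unop) => (show Γ(X, U.unop) from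
    Coh.resTop X U (Coh.toGlobal (X ↘ Spec (CommRingCat.of A)) a)) • m) (EGA73.unitHom_app M _ U.unop c).symm

end Groth.Agent.Crv77
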