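import Groth.Agent.Crv77.Degree

/-! Degrees of invertible modules on integral one-dimensional schemes. -/

set_option autoImplicit false
universe u

open CategoryTheory CategoryTheory.Limits AlgebraicGeometry TopologicalSpace

namespace Groth.Agent.Crv77

open Groth.Agent.Var76.LineBundle (IsFrame)

variable {X : Scheme.{u}}

theorem isCoh_of_isInvertible {L : X.Modules} (hL : PicF.IsInvertible L) : Coh.IsCoh L := by
  choose U hxU e he using fun x => Mero90.exists_frame' hL x
  refine ⟨Mero90.isQCoh_of_isInvertible hL, QC70.isFiniteType_of_locGenBy _ U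
    (eq_top_iff.2 fun x _ => Opens.mem_iSup.2 ⟨x, hxU x⟩)
    (fun x => ⟨PUnit.{u+1}, inferInstance, fun _ => e x, ?_⟩)⟩
  intro W hW y p hp
  obtain ⟨a, ha⟩ := (he x W hW).2 y
  refine ⟨W, le_rfl, hW, fun _ => a, hp, ?_⟩
  rw [QC70.res_self, Fintype.sum_unique]
  exact ha.symm

theorem finite_closed [IsIntegral X] [NoetherianSpace X] (hdim : topologicalKrullDim X ≤ 1)
    {U : X.Opens} (hU : (U : Set X).Nonempty) :
    ((U : Set X)ᶜ).Finite ∧ ∀ x ∈ (U : Set X)ᶜ, IsClosed ({x} : Set X) := by
  have hgen : genericPoint X ∈ (U : Set X) :=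
    ((genericPoint_spec X).mem_open_set_iff U.2).2 (by simpa using hU)
  exact ⟨finite_of_isClosed' hdim U.2.isClosed_compl fun h => h hgen,
    fun x hx => isClosed_singleton hdim fun h => hx (h ▸ hgen)⟩

/-- Monomorphism criterion: a map out of a submodule of `O_X` which is injective on some nonempty open. -/
theorem mono_of_injective_on_open [IsIntegral X] {M N : X.Modules} (ι : M ⟶ Coh.structureModule X)
    [Mono ι] (φ : M ⟶ N) {U : X.Opens} (hU : (U : Set X).Nonempty)
    (h : ∀ (V : X.Opens), V ≤ U → Function.Injective (φ.app V)) : Mono φ := by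
  refine QC70.mono_of_app_injective φ fun W => ?_
  refine (injective_iff_map_eq_zero (φ.app W).hom).2 fun s hs => ?_
  by_cases hW : (W : Set X).Nonempty
  · have : Nonempty (W ⊓ U : X.Opens) := by
      obtain ⟨z, hz⟩ := nonempty_preirreducible_inter W.2 U.2 hW hU
      exact ⟨⟨z, hz⟩⟩
    have h0 : QC70.res M (inf_le_left : W ⊓ U ≤ W) s = 0 := by
      refine h _ inf_le_right ?_
      rw [QC70.app_res, hs, map_zero]
      exact map_zero _
    refine QC70.app_injective_of_mono ι W ?_
    rw [map_zero]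
    refine map_injective_of_isIntegral X (homOfLE (inf_le_left : W ⊓ U ≤ W)) ?_
    have h1 := (QC70.app_res ι (inf_le_left : W ⊓ U ≤ W) s).symm
    rw [h0, map_zero] at h1
    exact h1.trans (map_zero (X.presheaf.map _).hom).symm
  · have hWbot : ∀ x ∈ W, False := fun x hx => hW ⟨x, hx⟩
    exact QC70.section_ext M s 0 fun p hp => (hWbot p hp).elim

/-- An invertible module is, up to submodules with finite quotient, the structure sheaf. -/
theorem exists_comparison [IsIntegral X] [IsNoetherian X] (hdim : topologicalKrullDim X ≤ 1)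
    {L : X.Modules} (hL : PicF.IsInvertible L) :
    ∃ (J : X.Modules) (a : J ⟶ Coh.structureModule X) (b : J ⟶ L) (S : Set X),
      Coh.IsCoh J ∧ Mono a ∧ Mono b ∧ S.Finite ∧ (∀ x ∈ S, IsClosed ({x} : Set X)) ∧
      SuppIn (cokernel a) S ∧ SuppIn (cokernel b) S := by
  let η := genericPoint X
  obtain ⟨U, hηU, e, he⟩ := Mero90.exists_frame' hL η
  have hne : (U : Set X).Nonempty := ⟨η, hηU⟩
  obtain ⟨hfin, hcl⟩ := finite_closed hdim hne
  let I : X.IdealSheafData := Scheme.IdealSheafData.vanishingIdeal ⟨(U : Set X)ᶜ, U.2.isClosed_compl⟩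
  have hI : (U : Set X) = (I.support : Set X)ᶜ := by
    simp [I, Scheme.IdealSheafData.coe_support_vanishingIdeal]
  have := (isCoh_of_isInvertible hL).1
  have := (isCoh_structureModule (X := X)).1
  have := (isCoh_structureModule (X := X)).2
  let Φ : QC70.HomOn (Coh.structureModule X) L U :=
    { app := fun V hV => LinearMap.toSpanSingleton Γ(X, V) Γ(L, V) (Var76.LineBundle.res L hV e)
      app_res := fun {W W'} hW h s => by
        change QC70.resO X h s • Var76.LineBundle.res L (h.trans hW) e =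
          QC70.res L h (show Γ(L, W) from (show Γ(X, W) from s) • Var76.LineBundle.res L hW e)
        rw [QC70.res_smul]
        exact congrArg _ (Var76.LineBundle.res_res L hW h e).symm }
  obtain ⟨n, ψ, hψ⟩ := QC70.exists_idealMul_lift I hI L (Coh.structureModule X) Φ
  let ι := Dual3.idealMulι (I ^ n) (Coh.structureModule X)
  -- `ι` is surjective on stalks over `U`
  have hsurj : ∀ x ∈ U, Function.Surjective (QC70.stalkMapM ι x) := by
    intro x hx e'
    obtain ⟨W₀, hxW₀, s, rfl⟩ := QC70.germM_exist e'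
    obtain ⟨W, hW, hxW, hWle⟩ := exists_isAffineOpen_mem_and_subset (x := x) (U := W₀ ⊓ U) ⟨hxW₀, hx⟩
    have htop : (I ^ n).ideal ⟨W, hW⟩ = ⊤ := by
      have h1 : I.ideal ⟨W, hW⟩ = ⊤ := by
        change PrimeSpectrum.vanishingIdeal (hW.fromSpec ⁻¹' (U : Set X)ᶜ) = ⊤
        refine (congrArg PrimeSpectrum.vanishingIdeal (Set.eq_empty_of_forall_notMem fun z hz => ?_)).trans
          PrimeSpectrum.vanishingIdeal_empty
        exact hz (hWle (hW.range_fromSpec.le (Set.mem_range_self z))).2
      rw [Scheme.IdealSheafData.ideal_pow, Pi.pow_apply, h1, Ideal.top_pow]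
    have hle : W ≤ W₀ := fun y hy => (hWle hy).1
    obtain ⟨t, ht⟩ := (QC70.mem_idealMul_iff (I ^ n) (Coh.structureModule X) ⟨W, hW⟩
      (QC70.res (Coh.structureModule X) hle s)).2 (by rw [htop, Submodule.top_smul]; trivial)
    exact ⟨QC70.germM _ W x hxW t, by rw [QC70.stalkMapM_germ, ← QC70.germM_res hle hxW s]; exact congrArg _ ht⟩
  have hJc : Coh.IsCoh ((Dual3.idealMul (I ^ n)).obj (Coh.structureModule X)) :=
    ⟨QC70.isQuasicoherent_idealMul _ _, QC70.isFiniteType_idealMul _ _⟩
  have hmonoψ : Mono ψ := mono_of_injective_on_open ι ψ hne fun V hV s t hst => by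
    rw [hψ V hV, hψ V hV] at hst
    exact QC70.app_injective_of_mono ι V ((he V hV).1 hst)
  refine ⟨_, ι, ψ, (U : Set X)ᶜ, hJc, inferInstance, hmonoψ, hfin, hcl,
    suppIn_cokernel _ fun x hx => hsurj x (not_not.1 hx), suppIn_cokernel _ fun x hx => ?_⟩
  have hxU : x ∈ U := not_not.1 hx
  intro e'
  obtain ⟨W₀, hxW₀, s, rfl⟩ := QC70.germM_exist e'
  have hle : W₀ ⊓ U ≤ U := inf_le_right
  obtain ⟨c, hc⟩ := (he (W₀ ⊓ U) hle).2 (QC70.res L inf_le_left s)
  obtain ⟨d, hd⟩ := hsurj x hxU (QC70.germM (Coh.structureModule X) (W₀ ⊓ U) x ⟨hxW₀, hxU⟩ c)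
  refine ⟨d, ?_⟩
  obtain ⟨W₁, hxW₁, t, rfl⟩ := QC70.germM_exist d
  rw [QC70.stalkMapM_germ] at hd
  obtain ⟨W₂, hxW₂, i₁, i₂, heq⟩ := TopCat.Presheaf.germ_eq (Coh.structureModule X).presheaf x _ _ _ _ hd
  have hV₂ : W₂ ≤ U := i₂.le.trans hle
  rw [QC70.stalkMapM_germ, ← QC70.germM_res i₁.le hxW₂, ← QC70.app_res, hψ W₂ hV₂,
    ← QC70.germM_res (i₂.le.trans inf_le_left : W₂ ≤ W₀) hxW₂ s,
    ← QC70.res_res (inf_le_left : W₀ ⊓ U ≤ W₀) i₂.le]
  refine congrArg _ ?_
  rw [show QC70.res L inf_le_left s = (show Γ(L, W₀ ⊓ U) from c • Var76.LineBundle.res L hle e) from hc.symm,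
    QC70.res_smul]
  refine (congrArg (Φ.app W₂ hV₂) ((QC70.app_res ι i₁.le t).trans heq)).trans ?_
  exact congrArg _ (Var76.LineBundle.res_res L hle i₂.le e).symm

variable {k : Type u} [Field k] [X.Over (Spec (CommRingCat.of k))]

namespace CurveCoh

variable (hX : CurveCoh k X)
include hX

/-- Additivity of the degree. -/
theorem euler_tensor_sub [IsIntegral X] [IsNoetherian X] (hdim : topologicalKrullDim X ≤ 1)
    {L M : X.Modules} (hL : PicF.IsInvertible L) (hM : PicF.IsInvertible M) :
    Curv2.euler k X (CohB1.tensorMod L M) - Curv2.euler k X M =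
      Curv2.euler k X L - Curv2.euler k X (Coh.structureModule X) := by
  obtain ⟨J, a, b, S, hJ, ha, hb, hS, hcl, hsa, hsb⟩ := exists_comparison hdim hL
  let Ta := ShortComplex.mk a (cokernel.π a) (cokernel.condition a)
  let Tb := ShortComplex.mk b (cokernel.π b) (cokernel.condition b)
  have hTa : Ta.ShortExact :=
    { exact := ShortComplex.exact_of_g_is_cokernel _ (cokernelIsCokernel a)
      mono_f := ha
      epi_g := inferInstanceAs (Epi (cokernel.π a)) }
  have hTb : Tb.ShortExact :=
    { exact := ShortComplex.exact_of_g_is_cokernel _ (cokernelIsCokernel b)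
      mono_f := hb
      epi_g := inferInstanceAs (Epi (cokernel.π b)) }
  have h1 := hX.euler_twist_sub hTa hJ isCoh_structureModule hsa hS hcl hM (isCoh_of_isInvertible hM)
  have h2 := hX.euler_twist_sub hTb hJ (isCoh_of_isInvertible hL) hsb hS hcl hM (isCoh_of_isInvertible hM)
  have h3 := euler_congr (k := k) (EGA73.tensUnitLeft (X := X) M)
  change Curv2.euler k X (CohB1.tensorMod (Coh.structureModule X) M) - Curv2.euler k X (CohB1.tensorMod J M) =
    Curv2.euler k X (Coh.structureModule X) - Curv2.euler k X J at h1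
  change Curv2.euler k X (CohB1.tensorMod L M) - Curv2.euler k X (CohB1.tensorMod J M) =
    Curv2.euler k X L - Curv2.euler k X J at h2
  linarith

theorem deg_tensorMod [IsIntegral X] [IsNoetherian X] (hdim : topologicalKrullDim X ≤ 1)
    {L M : X.Modules} (hL : PicF.IsInvertible L) (hM : PicF.IsInvertible M) :
    Curv2.deg k X (CohB1.tensorMod L M) 1 = Curv2.deg k X L 1 + Curv2.deg k X M 1 := by
  have := hX.euler_tensor_sub hdim hL hM
  simp only [Curv2.deg, Nat.cast_one, one_mul]
  linarith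

/-- Riemann's formula. -/
theorem riemann (h0 : Module.finrank k (Coh.HH X (Coh.structureModule X) 0) = 1)
    {F : X.Modules} (hF : Coh.IsCoh F) :
    h (k := k) 0 F - h (k := k) 1 F = Curv2.deg k X F 1 + 1 - (Curv2.genus k X : ℤ) := by
  rw [← hX.euler_eq hF]
  simp only [Curv2.deg, Curv2.genus, hX.euler_eq isCoh_structureModule, h, h0]
  ring

end CurveCoh

end Groth.Agent.Crv77
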