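import Mathlib.AlgebraicGeometry.Noetherian
import Mathlib.AlgebraicGeometry.FunctionField
import Mathlib.AlgebraicGeometry.Morphisms.FiniteType
import Mathlib.AlgebraicGeometry.Morphisms.Separated
import Mathlib.AlgebraicGeometry.Morphisms.Proper
import Mathlib.Topology.KrullDimension
import Mathlib.RingTheory.DiscreteValuationRing.TFAE
import Mathlib.Tactic

/-!
Basic facts on one-dimensional schemes.
-/

set_option autoImplicit false
universe u

open CategoryTheory AlgebraicGeometry TopologicalSpace

namespace Groth.Agent.Crv77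

section Top

variable {T : Type u} [TopologicalSpace T]

theorem length_two_false [T0Space T] (hdim : topologicalKrullDim T ≤ 1) {a b c : T}
    (h1 : b ⤳ a) (hab : a ≠ b) (h2 : c ⤳ b) (hbc : b ≠ c) : False := by
  let e : T → IrreducibleCloseds T := fun y =>
    ⟨closure {y}, isIrreducible_singleton.closure, isClosed_closure⟩
  have hlt : ∀ {y y' : T}, y' ⤳ y → y ≠ y' → e y < e y' := fun {y y'} h hne =>
    lt_of_le_of_ne h.closure_subset fun he => hne
      (Inseparable.eq (inseparable_iff_closure_eq.2 (congrArg SetLike.coe he)))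
  let p : LTSeries (IrreducibleCloseds T) :=
    ((RelSeries.singleton _ (e a)).snoc (e b) (hlt h1 hab)).snoc (e c)
      (by simp only [RelSeries.last_snoc]; exact hlt h2 hbc)
  have h3 := (Order.LTSeries.length_le_krullDim p).trans hdim
  have h4 : p.length = 2 := rfl
  rw [h4] at h3
  exact absurd h3 (by norm_cast)

/-- A point which is not maximal for specialization is closed when the dimension is at most one. -/
theorem isClosed_singleton_of_generalization [T0Space T] (hdim : topologicalKrullDim T ≤ 1)
    {z ζ : T} (h : ζ ⤳ z) (hne : z ≠ ζ) : IsClosed ({z} : Set T) := by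
  rw [← closure_subset_iff_isClosed]
  intro w hw
  by_contra hwz
  exact length_two_false hdim (specializes_iff_mem_closure.2 hw) hwz h hne

theorem isClosed_singleton [IrreducibleSpace T] [QuasiSober T] [T0Space T]
    (hdim : topologicalKrullDim T ≤ 1) {z : T} (hz : z ≠ genericPoint T) : IsClosed ({z} : Set T) :=
  isClosed_singleton_of_generalization hdim (genericPoint_specializes z) hz

/-- A closed set without the generic points is finite on a Noetherian space of dimension ≤ 1. -/
theorem finite_of_isClosed [NoetherianSpace T] [QuasiSober T] [T0Space T]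
    (hdim : topologicalKrullDim T ≤ 1) {Z : Set T} (hZ : IsClosed Z)
    (hgen : ∀ z ∈ Z, ∃ ζ, ζ ⤳ z ∧ z ≠ ζ) : Z.Finite := by
  obtain ⟨S, hSfin, hScl, hSirr, hSZ⟩ :=
    NoetherianSpace.exists_finite_set_isClosed_irreducible hZ
  subst hSZ
  refine hSfin.sUnion fun t ht => ?_
  obtain ⟨g, hg⟩ := QuasiSober.sober (hSirr t ht) (hScl t ht)
  obtain ⟨ζ, hζ, hne⟩ := hgen g ⟨t, ht, hg.mem⟩
  refine (Set.finite_singleton g).subset fun y hy => ?_
  exact (isClosed_singleton_of_generalization hdim hζ hne).closure_eq.le
    (specializes_iff_mem_closure.1 (hg.specializes hy))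

theorem finite_of_isClosed' [NoetherianSpace T] [IrreducibleSpace T] [QuasiSober T] [T0Space T]
    (hdim : topologicalKrullDim T ≤ 1) {Z : Set T} (hZ : IsClosed Z) (hη : genericPoint T ∉ Z) :
    Z.Finite :=
  finite_of_isClosed hdim hZ fun z hz =>
    ⟨_, genericPoint_specializes z, fun e => hη (e ▸ hz)⟩

theorem exists_ne_genericPoint [IrreducibleSpace T] [QuasiSober T] [T0Space T]
    (hdim : topologicalKrullDim T = 1) : ∃ z : T, z ≠ genericPoint T := by
  by_contra h
  push Not at h
  have : Subsingleton T := ⟨fun a b => (h a).trans (h b).symm⟩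
  have h0 : topologicalKrullDim T ≤ 0 := by
    have : Subsingleton (IrreducibleCloseds T) := ⟨fun a b => IrreducibleCloseds.ext
      ((Subsingleton.eq_univ_of_nonempty a.2.nonempty).trans
        (Subsingleton.eq_univ_of_nonempty b.2.nonempty).symm)⟩
    exact Order.krullDim_nonpos_of_subsingleton
  rw [hdim] at h0
  exact not_le.2 zero_lt_one h0

end Top

variable {X : Scheme.{u}}

theorem stalk_dim_le (x : X) :
    ringKrullDim (X.presheaf.stalk x) ≤ topologicalKrullDim X := by
  rw [ringKrullDim_stalk_eq_coheight]
  exact (Order.coheight_le_krullDim x).trans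
    (Order.krullDim_eq_of_orderIso (irreducibleSetEquivPoints (α := X)).symm).le

theorem valuationRing_stalk [IsLocallyNoetherian X] (hdim : topologicalKrullDim X ≤ 1) (x : X)
    [IsDomain (X.presheaf.stalk x)] [IsIntegrallyClosed (X.presheaf.stalk x)] :
    IsPrincipalIdealRing (X.presheaf.stalk x) ∧ ValuationRing (X.presheaf.stalk x) := by
  have : Ring.KrullDimLE 1 (X.presheaf.stalk x) :=
    Ring.krullDimLE_iff.mpr (by simpa using (stalk_dim_le x).trans hdim)
  have h : IsIntegrallyClosed (X.presheaf.stalk x) ∧ ∀ P : Ideal (X.presheaf.stalk x),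
      P ≠ ⊥ → P.IsPrime → P = IsLocalRing.maximalIdeal _ :=
    ⟨inferInstance, fun P hP hPp => IsLocalRing.eq_maximalIdeal
      (Ring.krullDimLE_one_iff_of_noZeroDivisors.mp inferInstance P hP hPp)⟩
  have tf := tfae_of_isNoetherianRing_of_isLocalRing_of_isDomain (X.presheaf.stalk x)
  exact ⟨(tf.out 0 3).mpr h, (tf.out 1 3).mpr h⟩

/-- A dominant morphism of integral schemes is injective on stalks. -/
theorem stalkMap_injective {Y : Scheme.{u}} [IsIntegral X] [IsIntegral Y] (f : X ⟶ Y)
    (e : f (genericPoint X) = genericPoint Y) (x : X) : Function.Injective (f.stalkMap x) := by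
  rw [injective_iff_map_eq_zero]
  intro a ha
  have h1 := Scheme.Hom.stalkSpecializes_stalkMap_apply f (genericPoint X) x
    (genericPoint_specializes x) a
  rw [ha, map_zero] at h1
  have h2 : Function.Injective (Y.presheaf.stalkSpecializes
      ((genericPoint_specializes x).map f.continuous)).hom := by
    intro b c hbc
    apply IsFractionRing.injective (Y.presheaf.stalk (f x)) Y.functionField
    have h3 := congrArg (Y.presheaf.stalkSpecializes (specializes_of_eq e.symm)).hom hbc
    rw [← CommRingCat.comp_apply, ← CommRingCat.comp_apply,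
      TopCat.Presheaf.stalkSpecializes_comp] at h3
    exact h3
  apply h2
  rw [map_zero]
  by_contra hne
  have hF : IsField (Y.presheaf.stalk (f (genericPoint X))) := by
    rw [e]; exact Field.toIsField Y.functionField
  obtain ⟨c, hc⟩ := hF.mul_inv_cancel hne
  exact ((IsUnit.of_mul_eq_one c hc).map (f.stalkMap (genericPoint X)).hom).ne_zero h1

end Groth.Agent.Crv77
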