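import Groth.Agent.Omega57.Diag
import Groth.Agent.QC70.Stalk
import Groth.Prelude.Def_ClSub2
import Mathlib.AlgebraicGeometry.Morphisms.ClosedImmersion

/-! The exact sequence `0 → I → O_X → O_Z → 0`. -/

set_option autoImplicit false
universe u

open CategoryTheory CategoryTheory.Limits AlgebraicGeometry TopologicalSpace

namespace Groth.Agent.Crv77

variable {X : Scheme.{u}} (I : X.IdealSheafData)

theorem epi_toSubscheme : Epi (ClSub.toSubscheme I) := by
  refine QC70.epi_of_locally_surjective _ fun W s p hp => ?_
  obtain ⟨V, hV, hpV, hVW⟩ := exists_isAffineOpen_mem_and_subset (x := p) (U := W) hp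
  obtain ⟨a, ha⟩ := I.subschemeι.app_surjective V hV
    ((Scheme.Modules.presheaf (ClSub.quotMod I)).map (homOfLE hVW).op s)
  exact ⟨V, hVW, a, hpV, ha⟩

/-- `0 → I → O_X → O_Z → 0`. -/
noncomputable def idealSeq : ShortComplex X.Modules :=
  ShortComplex.mk (ClSub.idealModι I) (ClSub.toSubscheme I) (kernel.condition _)

theorem idealSeq_shortExact : (idealSeq I).ShortExact :=
  have := epi_toSubscheme I
  { exact := ShortComplex.exact_of_f_is_kernel _ (kernelIsKernel _)
    mono_f := inferInstanceAs (Mono (kernel.ι (ClSub.toSubscheme I)))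
    epi_g := this }

end Groth.Agent.Crv77
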