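import Groth.Agent.Crv77.Euler
import Groth.Agent.Crv77.FiniteSupp
import Groth.Agent.Crv77.IdealSeq
import Groth.Agent.Crv77.Basic
import Groth.Agent.QC70.Deligne
import Groth.Agent.QC70.Ideal
import Groth.Agent.QCTens72.Basic
import Groth.Agent.EGA73.Invertible
import Groth.Agent.Mero90.Triv
import Groth.Agent.QC70.FiniteType

/-! Euler characteristics and degrees on one-dimensional schemes. -/

set_option autoImplicit false
universe u

open CategoryTheory CategoryTheory.Limits AlgebraicGeometry TopologicalSpace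

namespace Groth.Agent.Crv77

variable {X : Scheme.{u}}

section Coherent

theorem isCoh_structureModule : Coh.IsCoh (Coh.structureModule X) :=
  ⟨QC70.isQuasicoherent_unit (X := X), by
    refine QC70.isFiniteType_of_locGenBy _ (fun _ : X => (⊤ : X.Opens))
      (eq_top_iff.2 fun x _ => Opens.mem_iSup.2 ⟨x, trivial⟩)
      (fun _ => ⟨PUnit.{u+1}, inferInstance, fun _ => QC70.toUnit (1 : Γ(X, ⊤)), ?_⟩)
    intro W hW y p hp
    refine ⟨W, le_rfl, le_top, fun _ => (show Γ(X, W) from y), hp, ?_⟩
    rw [QC70.res_self, Fintype.sum_unique, QC70.res_unit, QC70.smul_unit]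
    exact (congrArg QC70.toUnit ((congrArg (_ * ·) (map_one (X.presheaf.map _).hom)).trans (mul_one _))).symm⟩

theorem isCoh_of_iso {M N : X.Modules} (e : M ≅ N) (h : Coh.IsCoh M) : Coh.IsCoh N :=
  have := h.1; have := h.2
  ⟨(SheafOfModules.isQuasicoherent X.ringCatSheaf).prop_of_iso e h.1, QC70.isFiniteType_of_iso e⟩

theorem isCoh_cokernel {M N : X.Modules} (φ : M ⟶ N) (hM : Coh.IsCoh M) (hN : Coh.IsCoh N) :
    Coh.IsCoh (cokernel φ) :=
  have := hM.1; have := hN.1; have := hN.2
  ⟨QC70.isQuasicoherent_cokernel φ, QC70.isFiniteType_cokernel φ⟩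

theorem isCoh_tensorMod {M N : X.Modules} (hM : Coh.IsCoh M) (hN : Coh.IsCoh N) :
    Coh.IsCoh (CohB1.tensorMod M N) :=
  have := hM.1; have := hN.1; have := hM.2; have := hN.2
  ⟨QCTens72.isQuasicoherent_tensorMod M N, QCTens72.isFiniteType_tensorMod M N⟩

theorem isCoh_of_shortExact {S : ShortComplex X.Modules} (hS : S.ShortExact)
    (h₁ : Coh.IsCoh S.X₁) (h₂ : Coh.IsCoh S.X₂) : Coh.IsCoh S.X₃ :=
  have := h₁.1; have := h₂.1; have := h₂.2; have := hS.epi_g
  ⟨QC70.isQuasicoherent_X₃ S hS, QC70.isFiniteType_of_epi S.g⟩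

theorem isCoh_quotMod (I : X.IdealSheafData) : Coh.IsCoh (ClSub.quotMod I) := by
  have h1 : (Coh.structureModule I.subscheme).IsQuasicoherent := QC70.isQuasicoherent_unit (X := I.subscheme)
  have h2 : (ClSub.quotMod I).IsQuasicoherent :=
    QCqs72.isQuasicoherent_pushforward (M := Coh.structureModule I.subscheme) I.subschemeι
  have := epi_toSubscheme I
  have := (isCoh_structureModule (X := X)).2
  exact ⟨h2, QC70.isFiniteType_of_epi (ClSub.toSubscheme I)⟩

theorem isCoh_idealMod [IsLocallyNoetherian X] (I : X.IdealSheafData) : Coh.IsCoh (ClSub.idealMod I) := by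
  have := (isCoh_structureModule (X := X)).1
  have := (isCoh_structureModule (X := X)).2
  have := (isCoh_quotMod I).1
  have := Omega57.isQuasicoherent_idealMod I
  have : Mono (ClSub.idealModι I) := (idealSeq_shortExact I).mono_f
  exact ⟨Omega57.isQuasicoherent_idealMod I, QC70.isFiniteType_of_mono (ClSub.idealModι I)⟩

end Coherent

/-- A mono whose stalk maps are onto off `S` has cokernel supported in `S`. -/
theorem suppIn_cokernel {M N : X.Modules} (φ : M ⟶ N) {S : Set X}
    (h : ∀ x, x ∉ S → Function.Surjective (QC70.stalkMapM φ x)) : SuppIn (cokernel φ) S :=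
  fun x hx => QC70.subsingleton_stalk_cokernel φ x (h x hx)

theorem suppIn_quotMod (I : X.IdealSheafData) : SuppIn (ClSub.quotMod I) (I.support : Set X) := by
  intro x hx
  refine subsingleton_of_forall_eq 0 fun e => ?_
  obtain ⟨W, hW, s, rfl⟩ := QC70.germM_exist e
  let W' : X.Opens := W ⊓ ⟨(I.support : Set X)ᶜ, I.support.isClosed.isOpen_compl⟩
  have hle : W' ≤ W := inf_le_left
  rw [← QC70.germM_res hle (show x ∈ W' from ⟨hW, hx⟩) s]
  have hempty : I.subschemeι ⁻¹ᵁ W' = ⊥ := by
    ext z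
    simp only [Scheme.Hom.coe_preimage, Set.mem_preimage, Opens.coe_bot, Set.mem_empty_iff_false, iff_false]
    exact fun hz => hz.2 (I.range_subschemeι ▸ Set.mem_range_self z)
  have hsub : Subsingleton Γ(ClSub.quotMod I, W') := by
    change Subsingleton Γ(I.subscheme, I.subschemeι ⁻¹ᵁ W')
    rw [hempty]
    infer_instance
  rw [Subsingleton.elim (QC70.res (ClSub.quotMod I) hle s) 0]
  exact QC70.germM_zero _

variable (k : Type u) [Field k] [X.Over (Spec (CommRingCat.of k))]

/-- Finite dimensional cohomology of coherent modules, and vanishing above degree one. -/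
structure CurveCoh (X : Scheme.{u}) [X.Over (Spec (CommRingCat.of k))] : Prop where
  finite : ∀ M : X.Modules, Coh.IsCoh M → ∀ n, Module.Finite k (Coh.HH X M n)
  vanish : ∀ M : X.Modules, Coh.IsCoh M → ∀ n, 2 ≤ n → Subsingleton (Coh.HH X M n)

variable {k}

/-- `h^n`. -/
noncomputable abbrev h (n : ℕ) (M : X.Modules) : ℤ := Module.finrank k (Coh.HH X M n)

namespace CurveCoh

variable (hX : CurveCoh k X)
include hX

theorem finBdd {M : X.Modules} (hM : Coh.IsCoh M) : FinBdd k M 2 :=
  ⟨hX.finite M hM, hX.vanish M hM⟩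

theorem euler_eq {M : X.Modules} (hM : Coh.IsCoh M) :
    Curv2.euler k X M = h (k := k) 0 M - h (k := k) 1 M := by
  rw [(hX.finBdd hM).euler_eq, Finset.sum_range_succ, Finset.sum_range_succ, Finset.sum_range_zero]
  ring

theorem euler_eq_of_suppIn {M : X.Modules} (hM : Coh.IsCoh M) {S : Set X} (hs : SuppIn M S)
    (hS : S.Finite) (hcl : ∀ x ∈ S, IsClosed ({x} : Set X)) :
    Curv2.euler k X M = h (k := k) 0 M := by
  have := hs.subsingleton_HH hS hcl 0
  rw [hX.euler_eq hM, show h (k := k) 1 M = 0 from Nat.cast_eq_zero.2 Module.finrank_zero_of_subsingleton,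
    sub_zero]

theorem euler_add {S : ShortComplex X.Modules} (hS : S.ShortExact) (h₁ : Coh.IsCoh S.X₁)
    (h₂ : Coh.IsCoh S.X₂) :
    Curv2.euler k X S.X₂ = Curv2.euler k X S.X₁ + Curv2.euler k X S.X₃ :=
  Crv77.euler_add hS (hX.finBdd h₁) (hX.finBdd h₂) (hX.finBdd (isCoh_of_shortExact hS h₁ h₂))

/-- Modules supported in finitely many closed points do not notice invertible twists. -/
theorem euler_twist_of_suppIn {M L : X.Modules} {S : Set X} (hs : SuppIn M S)
    (hS : S.Finite) (hcl : ∀ x ∈ S, IsClosed ({x} : Set X)) (hL : PicF.IsInvertible L) :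
    Curv2.euler k X (CohB1.tensorMod M L) = Curv2.euler k X M := by
  obtain ⟨e⟩ := hs.nonempty_iso_tensorMod hS hcl hL
  exact (euler_congr e).symm

/-- A short exact sequence with finitely supported cokernel, twisted by an invertible module. -/
theorem euler_twist_sub {T : ShortComplex X.Modules} (hT : T.ShortExact) (h₁ : Coh.IsCoh T.X₁)
    (h₂ : Coh.IsCoh T.X₂) {S : Set X} (hs : SuppIn T.X₃ S) (hS : S.Finite)
    (hcl : ∀ x ∈ S, IsClosed ({x} : Set X)) {L : X.Modules} (hL : PicF.IsInvertible L)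
    (hLc : Coh.IsCoh L) :
    Curv2.euler k X (CohB1.tensorMod T.X₂ L) - Curv2.euler k X (CohB1.tensorMod T.X₁ L) =
      Curv2.euler k X T.X₂ - Curv2.euler k X T.X₁ := by
  obtain ⟨T', hT', e₁, e₂, e₃⟩ :=
    shortExact_twist (Mero90.isFinLocFreeOfRank_of_isInvertible hL) hT
  have h := hX.euler_add hT' (e₁ ▸ isCoh_tensorMod h₁ hLc) (e₂ ▸ isCoh_tensorMod h₂ hLc)
  rw [e₁, e₂, e₃, hX.euler_twist_of_suppIn hs hS hcl hL] at h
  rw [h, hX.euler_add hT h₁ h₂]
  ring

/-- Twisting by the ideal of a zero-dimensional subscheme lowers the Euler characteristic by its length. -/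
theorem euler_idealMod_tensor [IsLocallyNoetherian X] (Z : X.IdealSheafData)
    (hS : (Z.support : Set X).Finite) (hcl : ∀ x ∈ (Z.support : Set X), IsClosed ({x} : Set X))
    {L : X.Modules} (hL : PicF.IsInvertible L) (hLc : Coh.IsCoh L) :
    Curv2.euler k X (CohB1.tensorMod (ClSub.idealMod Z) L) =
      Curv2.euler k X L - h (k := k) 0 (ClSub.quotMod Z) := by
  have h1 := hX.euler_twist_sub (idealSeq_shortExact Z) (isCoh_idealMod Z) isCoh_structureModule
    (suppIn_quotMod Z) hS hcl hL hLc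
  have h2 := hX.euler_add (idealSeq_shortExact Z) (isCoh_idealMod Z) isCoh_structureModule
  have h3 := euler_congr (k := k) (EGA73.tensUnitLeft (X := X) L)
  have h4 := hX.euler_eq_of_suppIn (isCoh_quotMod Z) (suppIn_quotMod Z) hS hcl
  simp only [idealSeq] at h1 h2
  rw [h3] at h1
  change _ - _ = _ at h1
  change Curv2.euler k X (Coh.structureModule X) = Curv2.euler k X (ClSub.idealMod Z) +
    Curv2.euler k X (ClSub.quotMod Z) at h2
  linarith [h4]

end CurveCoh

end Groth.Agent.Crv77
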