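import Groth.Agent.RB70.FlatBC
import Groth.Agent.Mum71.Model
import Groth.Agent.FlatMor68.FibreStalk
import Groth.Agent.PP93.PicInj
import Groth.Agent.Crv77.Degree
import Mathlib.LinearAlgebra.Dimension.Constructions

/-! Cohomology of coherent modules and extension of the ground field. -/

set_option autoImplicit false
set_option linter.style.haveILetI false
set_option backward.isDefEq.respectTransparency.types false
universe u

open CategoryTheory CategoryTheory.Limits AlgebraicGeometry TopologicalSpace Opposite TensorProduct

noncomputable section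

namespace Groth.Agent.Crv77

variable (k : Type u) [Field k] {X : Scheme.{u}} [X.Over (Spec (CommRingCat.of k))]

/-- Everything is flat over a field. -/
theorem isFlatOver_field (F : X.Modules) :
    FlatMod.IsFlatOver (X ↘ Spec (CommRingCat.of k)) F := fun z => by
  unfold FlatMod.IsFlatOverAt
  letI := FlatMod.moduleStalkOver (X ↘ Spec (CommRingCat.of k)) F z
  have h := (IsLocalRing.isField_iff_maximalIdeal_eq).mpr
    (FlatMor68.FibreStalk.spec_field_stalk_maximalIdeal k ((X ↘ Spec (CommRingCat.of k)) z))
  letI := h.toField
  exact Module.Flat.of_free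

variable [IsProper (X ↘ Spec (CommRingCat.of k))] (k' : Type u) [Field k'] [Algebra k k']
  {X' : Scheme.{u}} [X'.Over (Spec (CommRingCat.of k'))] (g : X' ⟶ X)

/-- The dimensions of cohomology do not change under extension of the ground field. -/
theorem finrank_hh_baseChange
    (hpb : IsPullback g (X' ↘ Spec (CommRingCat.of k')) (X ↘ Spec (CommRingCat.of k))
      (Spec.map (CommRingCat.ofHom (algebraMap k k')))) (F : X.Modules) (hF : Coh.IsCoh F) (i : ℕ) :
    Module.finrank k' (Coh.HH X' ((Scheme.Modules.pullback g).obj F) i) = Module.finrank k (Coh.HH X F i) := by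
  haveI := hF.1
  obtain ⟨ι, hι, U, L, φ, N, hU, hU', hL, hN, hφ⟩ := Mum71.exists_model k F hF (isFlatOver_field k F)
  obtain ⟨e⟩ := RB70.nonempty_hh_flat_bc (B := k') (X' := X') hpb hU hU' hφ i
  exact e.finrank_eq.symm.trans Module.finrank_baseChange

/-- The cohomology of the structure sheaf under extension of the ground field. -/
theorem finrank_hh_structureModule_baseChange
    (hpb : IsPullback g (X' ↘ Spec (CommRingCat.of k')) (X ↘ Spec (CommRingCat.of k))
      (Spec.map (CommRingCat.ofHom (algebraMap k k')))) (i : ℕ) :
    Module.finrank k' (Coh.HH X' (Coh.structureModule X') i) =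
      Module.finrank k (Coh.HH X (Coh.structureModule X) i) := by
  obtain ⟨J⟩ := PP93.nonempty_pullback_unit g
  obtain ⟨e, he⟩ := Mum71.exists_hh_iso J i
  let e' : Coh.HH X' ((Scheme.Modules.pullback g).obj (Coh.structureModule X)) i ≃ₗ[k']
      Coh.HH X' (Coh.structureModule X') i := { e with map_smul' := fun a x => he _ x }
  exact e'.finrank_eq.symm.trans (finrank_hh_baseChange k k' g hpb _ isCoh_structureModule i)

end Groth.Agent.Crv77
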