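import Groth.Agent.Coh69.QcInd

/-! Boundedness of cohomology of quasi-coherent modules. -/

set_option autoImplicit false
universe u

open AlgebraicGeometry TopologicalSpace

namespace Groth.Agent.Crv77

/-- Cohomology of quasi-coherent modules on a quasi-compact quasi-separated scheme is bounded. -/
theorem exists_bound_HH {X : Scheme.{u}} [CompactSpace X] [QuasiSeparatedSpace X] :
    ∃ d : ℕ, ∀ (M : X.Modules), M.IsQuasicoherent → ∀ p, d ≤ p → Subsingleton (Coh.HH X M p) := by
  obtain ⟨d, hd⟩ := Coh69.exists_bound_HE (X := X) ⊤ (by simpa using isCompact_univ)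
  exact ⟨d, fun M hM p hp =>
    have := hd M hM p hp
    (Coh69.hhEquiv M p).toEquiv.subsingleton⟩

end Groth.Agent.Crv77
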