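import Groth.Agent.Crv77.Special
import Groth.Agent.TopCoh49.Noetherian
import Groth.Prelude.Def_Curv2

/-! Riemann–Roch consequences on proper integral curves. -/

set_option autoImplicit false
universe u

open CategoryTheory CategoryTheory.Limits AlgebraicGeometry TopologicalSpace

namespace Groth.Agent.Crv77

variable (k : Type u) [Field k] (X : Scheme.{u}) [X.Over (Spec (CommRingCat.of k))]

theorem isNoetherian_of_proper [IsProper (X ↘ (Spec (CommRingCat.of k)))] : IsNoetherian X :=
  have : IsLocallyNoetherian X := LocallyOfFiniteType.isLocallyNoetherian (X ↘ (Spec (CommRingCat.of k)))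
  have : CompactSpace X := QuasiCompact.compactSpace_of_compactSpace (X ↘ (Spec (CommRingCat.of k)))
  {}

/-- Vanishing is automatic in dimension one; only finiteness is needed. -/
theorem curveCoh_of_finite [IsProper (X ↘ (Spec (CommRingCat.of k)))]
    (hdim : topologicalKrullDim X ≤ 1)
    (hfin : ∀ M : X.Modules, Coh.IsCoh M → ∀ n, Module.Finite k (Coh.HH X M n)) : CurveCoh k X :=
  ⟨hfin, fun M _ n hn =>
    have := isNoetherian_of_proper k X
    TopCoh49.subsingleton_H_of_dim_lt (X := X.toPresheafedSpace.carrier) (d := 1) hdim (Coh.toAb M) n hn⟩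

variable {k X}

theorem finite_of_dim_le_zero [IsIntegral X] [NoetherianSpace X] (hdim : topologicalKrullDim X = 1)
    {Z : Set X} (hZc : IsClosed Z) (hZ : topologicalKrullDim Z ≤ 0) :
    Z.Finite ∧ ∀ x ∈ Z, IsClosed ({x} : Set X) := by
  have hη : genericPoint X ∉ Z := by
    intro h
    have huniv : Z = Set.univ := Set.eq_univ_of_forall fun x =>
      hZc.closure_subset_iff.2 (Set.singleton_subset_iff.2 h)
        (specializes_iff_mem_closure.1 (genericPoint_specializes x))
    subst huniv
    rw [(Homeomorph.Set.univ (X : Type u)).isHomeomorph.topologicalKrullDim_eq, hdim] at hZ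
    exact absurd hZ (by norm_num)
  exact ⟨finite_of_isClosed' hdim.le hZc hη, fun x hx => isClosed_singleton hdim.le fun h => hη (h ▸ hx)⟩

/-- `I ⊗ L` is a submodule of `L`. -/
theorem exists_mono_idealMod_tensor (I : X.IdealSheafData) {L : X.Modules} (hL : PicF.IsInvertible L) :
    ∃ j : CohB1.tensorMod (ClSub.idealMod I) L ⟶ L, Mono j := by
  obtain ⟨@⟨A, B, C, f, g, w⟩, hT, e₁, e₂, e₃⟩ :=
    shortExact_twist (Mero90.isFinLocFreeOfRank_of_isInvertible hL) (idealSeq_shortExact I)
  subst e₁ e₂
  have : Mono f := hT.mono_f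
  let e : CohB1.tensorMod (idealSeq I).X₂ L ≅ L := EGA73.tensUnitLeft L
  exact ⟨f ≫ e.hom, ⟨fun {Z} a b h => this.right_cancellation a b
    (((Category.comp_id _).symm.trans (congrArg (_ ≫ ·) e.hom_inv_id.symm)).trans
      (((Category.assoc _ _ _).symm.trans (congrArg (· ≫ e.inv) (((Category.assoc _ _ _)).trans
        (h.trans (Category.assoc _ _ _).symm)))).trans
        ((Category.assoc _ _ _).trans ((congrArg (_ ≫ ·) e.hom_inv_id).trans (Category.comp_id _)))))⟩⟩

namespace CurveCoh

variable (hX : CurveCoh k X)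
include hX

/-- Non-vanishing of `H¹(I ⊗ L)` bounds the degree. -/
theorem deg_le_of_h1 [IsIntegral X] [IsNoetherian X] (hdim : topologicalKrullDim X = 1)
    (h0 : Module.finrank k (Coh.HH X (Coh.structureModule X) 0) = 1)
    {L : X.Modules} (hL : PicF.IsInvertible L) (Z : X.IdealSheafData)
    (hZ : topologicalKrullDim (Z.support : Set X) ≤ 0)
    (h1 : Nontrivial (Coh.HH X (CohB1.tensorMod (ClSub.idealMod Z) L) 1)) :
    Curv2.deg k X L 1 ≤ 2 * (Curv2.genus k X : ℤ) - 2 + h (k := k) 0 (ClSub.quotMod Z) := by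
  obtain ⟨hfin, hcl⟩ := finite_of_dim_le_zero hdim Z.support.isClosed hZ
  obtain ⟨j, hj⟩ := exists_mono_idealMod_tensor Z hL
  have hLc := isCoh_of_isInvertible hL
  have hF := isCoh_tensorMod (isCoh_idealMod Z) hLc
  have hg := hX.h0_le_genus hdim.le hF hL j h1
  have hpos : 0 < Module.finrank k (Coh.HH X (CohB1.tensorMod (ClSub.idealMod Z) L) 1) :=
    have := hX.finite _ hF 1
    Module.finrank_pos
  have e1 := hX.euler_idealMod_tensor Z hfin hcl hL hLc
  rw [hX.euler_eq hF] at e1
  have e2 := hX.riemann h0 hLc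
  rw [← hX.euler_eq hLc] at e2
  simp only [h] at e1 e2 ⊢
  omega

/-- Vanishing above `2g - 2`. -/
theorem h1_eq_zero_of_deg_gt [IsIntegral X] [IsNoetherian X] (hdim : topologicalKrullDim X = 1)
    (h0 : Module.finrank k (Coh.HH X (Coh.structureModule X) 0) = 1)
    {L : X.Modules} (hL : PicF.IsInvertible L)
    (hdeg : 2 * (Curv2.genus k X : ℤ) - 2 < Curv2.deg k X L 1) : Subsingleton (Coh.HH X L 1) := by
  by_contra hcon
  rw [not_subsingleton_iff_nontrivial] at hcon
  have hLc := isCoh_of_isInvertible hL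
  have hg := hX.h0_le_genus hdim.le hLc hL (𝟙 L) hcon
  have hpos : 0 < Module.finrank k (Coh.HH X L 1) :=
    have := hX.finite _ hLc 1
    Module.finrank_pos
  have e2 := hX.riemann h0 hLc
  simp only [h] at e2
  omega

/-- A section of an invertible module and the degree of its cokernel. -/
theorem exists_section_seq [IsIntegral X] [IsNoetherian X] (hdim : topologicalKrullDim X ≤ 1)
    {L : X.Modules} (hL : PicF.IsInvertible L) (hs : Nontrivial (Coh.HH X L 0)) :
    ∃ (s : Coh.structureModule X ⟶ L) (S : Set X), Mono s ∧ S.Finite ∧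
      (∀ x ∈ S, IsClosed ({x} : Set X)) ∧ SuppIn (cokernel s) S ∧ Coh.IsCoh (cokernel s) ∧
      Curv2.deg k X L 1 = h (k := k) 0 (cokernel s) ∧
      h (k := k) 0 L ≤ h (k := k) 0 (Coh.structureModule X) + h (k := k) 0 (cokernel s) := by
  obtain ⟨x, hx⟩ := exists_ne (0 : Coh.HH X L 0)
  have hsec : (toHom x).app ⊤ (1 : Γ(X, ⊤)) ≠ 0 := by
    rw [toHom_app_one]
    exact fun h => hx ((sec L).injective (h.trans (map_zero _).symm))
  obtain ⟨hm, hgen⟩ := section_of_invertible hL (toHom x) hsec
  have hLc := isCoh_of_isInvertible hL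
  have hQ := isCoh_cokernel (toHom x) isCoh_structureModule hLc
  obtain ⟨S, hS, hcl, hsupp⟩ := exists_suppIn hdim hQ (QC70.subsingleton_stalk_cokernel (toHom x) _ hgen)
  let T := ShortComplex.mk (toHom x) (cokernel.π (toHom x)) (cokernel.condition _)
  have hT : T.ShortExact :=
    { exact := ShortComplex.exact_of_g_is_cokernel _ (cokernelIsCokernel _)
      mono_f := hm
      epi_g := inferInstanceAs (Epi (cokernel.π _)) }
  refine ⟨toHom x, S, hm, hS, hcl, hsupp, hQ, ?_, ?_⟩
  · have e := hX.euler_add hT isCoh_structureModule hLc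
    rw [hX.euler_eq_of_suppIn hQ hsupp hS hcl] at e
    simp only [Curv2.deg, Nat.cast_one, one_mul]
    change Curv2.euler k X L = _ at e
    linarith
  · have := hX.finite _ hLc 0
    have := hX.finite _ hQ 0
    have := hX.finite _ (isCoh_structureModule (X := X)) 0
    have e := finrank_range_add_of_exact (exact_f_g k hT 0)
    have a := LinearMap.finrank_range_le (hmap k T.f 0)
    have b := Submodule.finrank_le (LinearMap.range (hmap k T.g 0))
    simp only [h]
    exact_mod_cast e.symm.le.trans (add_le_add a b)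

/-- `h⁰(L) ≤ deg L + 1`. -/
theorem h0_le_deg_add_one [IsIntegral X] [IsNoetherian X] (hdim : topologicalKrullDim X ≤ 1)
    (h0 : Module.finrank k (Coh.HH X (Coh.structureModule X) 0) = 1)
    {L : X.Modules} (hL : PicF.IsInvertible L) (hs : Nontrivial (Coh.HH X L 0)) :
    h (k := k) 0 L ≤ Curv2.deg k X L 1 + 1 := by
  obtain ⟨s, S, -, -, -, -, -, hdeg, hle⟩ := hX.exists_section_seq hdim hL hs
  simp only [h, h0] at hdeg hle ⊢
  omega

end CurveCoh

/-- A module supported in finitely many closed points without global sections is zero. -/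
theorem SuppIn.isZero {M : X.Modules} {S : Set X} (hM : SuppIn M S) (hS : S.Finite)
    (hcl : ∀ x ∈ S, IsClosed ({x} : Set X)) (h : Subsingleton (Coh.HH X M 0)) : IsZero M := by
  refine QC70.isZero_of_sections_subsingleton fun W => subsingleton_of_forall_eq 0 fun s => ?_
  obtain ⟨t, rfl⟩ := hM.surjective_res hS hcl (le_top (a := W)) s
  have : Subsingleton Γ(M, ⊤) := (sec M).toEquiv.symm.subsingleton
  rw [Subsingleton.elim t 0]
  exact map_zero _

namespace CurveCoh

variable (hX : CurveCoh k X)
include hX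

/-- In genus zero the only invertible module of degree zero is the structure sheaf. -/
theorem nonempty_iso_of_genus_zero [IsIntegral X] [IsNoetherian X] (hdim : topologicalKrullDim X = 1)
    (h0 : Module.finrank k (Coh.HH X (Coh.structureModule X) 0) = 1) (hg : Curv2.genus k X = 0)
    {L : X.Modules} (hL : PicF.IsInvertible L) (hdeg : Curv2.deg k X L 1 = 0) :
    Nonempty (L ≅ Coh.structureModule X) := by
  have hLc := isCoh_of_isInvertible hL
  have := hX.h1_eq_zero_of_deg_gt hdim h0 hL (by omega)
  have e := hX.riemann h0 hLc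
  have h1z : Module.finrank k (Coh.HH X L 1) = 0 := Module.finrank_zero_of_subsingleton
  simp only [h, h1z] at e
  have hs : Nontrivial (Coh.HH X L 0) := Module.nontrivial_of_finrank_pos (R := k) (by omega)
  obtain ⟨s, S, hm, hS, hcl, hsupp, hQ, hdeg', -⟩ := hX.exists_section_seq hdim.le hL hs
  have hz : IsZero (cokernel s) := by
    have := hX.finite _ hQ 0
    refine hsupp.isZero hS hcl ((Module.finrank_zero_iff (R := k)).1 ?_)
    simp only [h] at hdeg'
    omega
  have : Epi s := Preadditive.epi_of_isZero_cokernel s hz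
  have := isIso_of_mono_of_epi s
  exact ⟨(asIso s).symm⟩

end CurveCoh

end Groth.Agent.Crv77
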