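import Groth.Agent.Crv77.RR
import Groth.Agent.Props58.Stalks
import Groth.Agent.Mero90.Depth

/-! Curves whose only global functions are constants: connectedness, depth, equidimensionality. -/

set_option autoImplicit false
set_option linter.style.haveILetI false
universe u

open CategoryTheory AlgebraicGeometry TopologicalSpace Opposite

namespace Groth.Agent.Crv77

variable {X : Scheme.{u}}

/-- Extend a function by zero. -/
theorem exists_glue_zero (N O : X.Opens) (h : ∀ x : X, x ∈ N ∨ x ∈ O) (t : Γ(X, N))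
    (ht : ∀ (x : X) (hx : x ∈ N), x ∈ O → X.presheaf.germ N x hx t = 0) :
    ∃ g : Γ(X, ⊤), X.presheaf.map (homOfLE (le_top : N ≤ ⊤)).op g = t ∧
      X.presheaf.map (homOfLE (le_top : O ≤ ⊤)).op g = 0 := by
  let U : Bool → X.Opens := fun b => bif b then N else O
  let sf : ∀ b : Bool, Γ(X, U b) := fun b => Bool.rec (0 : Γ(X, O)) t b
  have hc : TopCat.Presheaf.IsCompatible X.presheaf U sf := by
    intro i j
    refine TopCat.Presheaf.section_ext X.sheaf _ _ _ fun x hx => ?_
    refine (TopCat.Presheaf.germ_res_apply _ _ _ hx _).trans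
      (Eq.trans ?_ (TopCat.Presheaf.germ_res_apply _ _ _ hx _).symm)
    cases i <;> cases j
    · rfl
    · exact (map_zero _).trans (ht x hx.2 hx.1).symm
    · exact (ht x hx.1 hx.2).trans (map_zero _).symm
    · rfl
  obtain ⟨g, hg, -⟩ := X.sheaf.existsUnique_gluing' U ⊤ (fun b => homOfLE le_top)
    (fun x _ => Opens.mem_iSup.2 ((h x).elim (fun hx => ⟨true, hx⟩) fun hx => ⟨false, hx⟩)) sf hc
  exact ⟨g, hg true, hg false⟩

/-- Only constant global functions. -/
def OnlyConst (k : Type u) [Field k] (X : Scheme.{u}) [X.Over (Spec (CommRingCat.of k))] : Prop :=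
  ∀ g : Γ(X, ⊤), ∃ c : k, g = Coh.toGlobal (X ↘ Spec (CommRingCat.of k)) c

variable (k : Type u) [Field k] [X.Over (Spec (CommRingCat.of k))]

theorem onlyConst_of_finrank [Nonempty X]
    (h0 : Module.finrank k (Coh.HH X (Coh.structureModule X) 0) = 1) : OnlyConst k X := by
  intro g
  have : Nonempty (⊤ : X.Opens) := Nonempty.map (fun x : X => ⟨x, trivial⟩) inferInstance
  have : Nontrivial Γ(X, ⊤) := Scheme.component_nontrivial X ⊤
  let v : Coh.HH X (Coh.structureModule X) 0 := (sec (Coh.structureModule X)).symm (1 : Γ(X, ⊤))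
  have hv : v ≠ 0 := fun e => one_ne_zero (α := Γ(X, ⊤))
    (((sec (Coh.structureModule X)).apply_symm_apply _).symm.trans
      ((congrArg (sec (Coh.structureModule X)) e).trans (map_zero _)))
  obtain ⟨c, hc⟩ := (finrank_eq_one_iff_of_nonzero' v hv).1 h0 ((sec (Coh.structureModule X)).symm g)
  refine ⟨c, ?_⟩
  have h := congrArg (sec (Coh.structureModule X)) hc
  refine (((sec (Coh.structureModule X)).apply_symm_apply g).symm.trans h.symm).trans ?_
  refine (sec_smul k (Coh.structureModule X) c v).trans ?_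
  refine (congrArg (fun m : Γ(X, ⊤) =>
    (show Γ(X, ⊤) from Coh.toGlobal (X ↘ Spec (CommRingCat.of k)) c) * m)
    ((sec (Coh.structureModule X)).apply_symm_apply _)).trans (mul_one _)

variable {k}

theorem OnlyConst.eq_zero (hX : OnlyConst k X) {g : Γ(X, ⊤)} {U : X.Opens} [Nonempty U]
    (hg : X.presheaf.map (homOfLE (le_top : U ≤ ⊤)).op g = 0) : g = 0 := by
  obtain ⟨c, rfl⟩ := hX g
  by_cases hc : c = 0
  · exact (congrArg _ hc).trans (map_zero _)
  have : Nontrivial Γ(X, U) := Scheme.component_nontrivial X U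
  exact absurd hg (((isUnit_iff_ne_zero.2 hc).map _).map _).ne_zero

theorem OnlyConst.connectedSpace [Nonempty X] (hX : OnlyConst k X) : ConnectedSpace X := by
  refine connectedSpace_iff_clopen.2 ⟨inferInstance, fun S hS => ?_⟩
  by_contra hcon
  rw [not_or, ← Ne, ← Set.nonempty_iff_ne_empty, ← Ne, ← Set.nonempty_compl] at hcon
  let N : X.Opens := ⟨S, hS.isOpen⟩
  let O : X.Opens := ⟨Sᶜ, hS.compl.isOpen⟩
  obtain ⟨g, h1, h2⟩ := exists_glue_zero N O (fun x => em _) 1 (fun x hx hx' => absurd hx hx')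
  have : Nonempty O := hcon.2.to_subtype
  have : Nonempty N := hcon.1.to_subtype
  have : Nontrivial Γ(X, N) := Scheme.component_nontrivial X N
  rw [hX.eq_zero h2, map_zero] at h1
  exact zero_ne_one h1

theorem OnlyConst.eq_zero_of_killed [IsLocallyNoetherian X] (hX : OnlyConst k X) {x : X}
    (hx : IsClosed ({x} : Set X)) (hne : ∃ y : X, y ≠ x) (s : X.presheaf.stalk x)
    (hs : ∀ r ∈ IsLocalRing.maximalIdeal (X.presheaf.stalk x), r * s = 0) : s = 0 := by
  obtain ⟨W, hxW, t₀, rfl⟩ := TopCat.Presheaf.exists_germ_eq X.presheaf s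
  obtain ⟨U, hU, hxU, hUW⟩ := exists_isAffineOpen_mem_and_subset hxW
  let t : Γ(X, U) := X.presheaf.map (homOfLE hUW).op t₀
  have hts : X.presheaf.germ U x hxU t = X.presheaf.germ W x hxW t₀ :=
    TopCat.Presheaf.germ_res_apply _ _ _ _ _
  have : IsNoetherianRing Γ(X, U) := IsLocallyNoetherian.component_noetherian ⟨U, hU⟩
  let p := hU.primeIdealOf ⟨x, hxU⟩
  have hmem : ∀ (y : X) (hy : y ∈ U) (a : Γ(X, U)),
      y ∈ X.basicOpen a ↔ a ∉ (hU.primeIdealOf ⟨y, hy⟩).asIdeal := by
    intro y hy a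
    refine Iff.trans (Eq.to_iff (congrArg (· ∈ X.basicOpen a) (hU.fromSpec_primeIdealOf ⟨y, hy⟩).symm)) ?_
    show hU.primeIdealOf ⟨y, hy⟩ ∈ hU.fromSpec ⁻¹ᵁ X.basicOpen a ↔ _
    rw [hU.fromSpec_preimage_basicOpen]
    rfl
  have hmax : p.asIdeal.IsMaximal := by
    refine (PrimeSpectrum.isClosed_singleton_iff_isMaximal p).1 ?_
    have h1 : ({p} : Set (PrimeSpectrum Γ(X, U))) = hU.fromSpec ⁻¹' {x} := by
      ext q
      refine ⟨fun hq => ?_, fun hq => ?_⟩
      · rw [Set.mem_singleton_iff] at hq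
        subst hq
        exact hU.fromSpec_primeIdealOf ⟨x, hxU⟩
      · exact hU.fromSpec.isOpenEmbedding.injective
          (Eq.trans hq (hU.fromSpec_primeIdealOf ⟨x, hxU⟩).symm)
    rw [h1]
    exact hx.preimage hU.fromSpec.continuous
  obtain ⟨A, hA⟩ := IsNoetherian.noetherian p.asIdeal
  have key : ∀ a ∈ A, ∃ (N : X.Opens) (hN : N ≤ U), x ∈ N ∧
      X.presheaf.map (homOfLE hN).op (a * t) = 0 := by
    intro a ha
    have hap : a ∈ p.asIdeal := hA ▸ Ideal.subset_span ha
    have h0 : X.presheaf.germ U x hxU (a * t) = X.presheaf.germ U x hxU 0 := by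
      rw [map_mul, map_zero, hts]
      refine hs _ ?_
      by_contra hu
      rw [IsLocalRing.mem_maximalIdeal, mem_nonunits_iff, not_not] at hu
      exact (hmem x hxU a).1 ((X.mem_basicOpen a x hxU).2 hu) hap
    obtain ⟨N, hxN, i, j, hij⟩ := TopCat.Presheaf.germ_eq X.presheaf x hxU hxU _ _ h0
    exact ⟨N, i.le, hxN, hij.trans (map_zero _)⟩
  have key2 : ∀ B ⊆ A, ∃ (N : X.Opens) (hN : N ≤ U), x ∈ N ∧
      ∀ a ∈ B, X.presheaf.map (homOfLE hN).op (a * t) = 0 := by
    classical
    intro B hB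
    induction B using Finset.induction_on with
    | empty => exact ⟨U, le_rfl, hxU, fun a ha => absurd ha (Finset.notMem_empty a)⟩
    | @insert b B hb ih =>
      obtain ⟨N₁, hN₁, hx₁, h₁⟩ := key b (hB (Finset.mem_insert_self b B))
      obtain ⟨N₂, hN₂, hx₂, h₂⟩ := ih ((Finset.subset_insert b B).trans hB)
      refine ⟨N₁ ⊓ N₂, inf_le_left.trans hN₁, ⟨hx₁, hx₂⟩, fun a ha => ?_⟩
      rcases Finset.mem_insert.1 ha with rfl | ha
      · have := congrArg (X.presheaf.map (homOfLE (inf_le_left : N₁ ⊓ N₂ ≤ N₁)).op) h₁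
        rw [map_zero, ← ConcreteCategory.comp_apply, ← X.presheaf.map_comp] at this
        exact this
      · have := congrArg (X.presheaf.map (homOfLE (inf_le_right : N₁ ⊓ N₂ ≤ N₂)).op) (h₂ a ha)
        rw [map_zero, ← ConcreteCategory.comp_apply, ← X.presheaf.map_comp] at this
        exact this
  obtain ⟨N, hNU, hxN, hN⟩ := key2 A subset_rfl
  let O : X.Opens := ⟨{x}ᶜ, hx.isOpen_compl⟩
  have hvan : ∀ (y : X) (hy : y ∈ N), y ∈ O →
      X.presheaf.germ N y hy (X.presheaf.map (homOfLE hNU).op t) = 0 := by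
    intro y hy hyx
    by_cases hall : ∀ a ∈ A, a ∈ (hU.primeIdealOf ⟨y, hNU hy⟩).asIdeal
    · exfalso
      refine hyx (show y = x from ?_)
      have hle : p.asIdeal ≤ (hU.primeIdealOf ⟨y, hNU hy⟩).asIdeal := hA ▸ Ideal.span_le.2 hall
      have heq : p = hU.primeIdealOf ⟨y, hNU hy⟩ :=
        PrimeSpectrum.ext (hmax.eq_of_le (hU.primeIdealOf ⟨y, hNU hy⟩).2.ne_top hle)
      exact ((hU.fromSpec_primeIdealOf ⟨y, hNU hy⟩).symm.trans
        ((congrArg hU.fromSpec heq.symm).trans (hU.fromSpec_primeIdealOf ⟨x, hxU⟩)))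
    · push Not at hall
      obtain ⟨a, ha, hay⟩ := hall
      have hu := (X.mem_basicOpen a y (hNU hy)).1 ((hmem y (hNU hy) a).2 hay)
      have h0 := congrArg (X.presheaf.germ N y hy) (hN a ha)
      rw [map_zero, TopCat.Presheaf.germ_res_apply, map_mul] at h0
      rw [TopCat.Presheaf.germ_res_apply]
      exact hu.mul_right_eq_zero.1 h0
  obtain ⟨g, h1, h2⟩ := exists_glue_zero N O
    (fun y => (em (y = x)).imp (fun h => Eq.mpr (congrArg (· ∈ N) h) hxN) (fun h => h)) _ hvan
  obtain ⟨y, hy⟩ := hne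
  have : Nonempty O := ⟨⟨y, hy⟩⟩
  rw [hX.eq_zero h2, map_zero] at h1
  have h3 := congrArg (X.presheaf.germ N x hxN) h1
  rw [map_zero, TopCat.Presheaf.germ_res_apply, hts] at h3
  exact h3.symm

/-- All local rings are Cohen–Macaulay. -/
theorem OnlyConst.isCM [IsLocallyNoetherian X] (hX : OnlyConst k X)
    (hdim : topologicalKrullDim X ≤ 1) (x : X) :
    LocCoh.IsCohenMacaulayLocalRing (X.presheaf.stalk x) := by
  let R := X.presheaf.stalk x
  refine { supportDim_eq_depth := le_antisymm ?_ EGA4Alg4.depth_le_supportDim }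
  rw [Module.supportDim_self_eq_ringKrullDim, ringKrullDim_stalk_eq_coheight]
  by_cases h0 : Order.coheight x = 0
  · rw [h0]
    exact WithBot.coe_le_coe.mpr zero_le
  obtain ⟨y, hyx, hne⟩ : ∃ y : X, y ⤳ x ∧ x ≠ y := by
    rw [Order.coheight_eq_zero, not_isMax_iff] at h0
    obtain ⟨y, hy⟩ := h0
    exact ⟨y, hy.le, hy.ne⟩
  have hx := isClosed_singleton_of_generalization hdim hyx hne
  have hd : LocCoh.depth R R ≠ 0 := by
    intro hd
    rw [EGA4Alg4.depth_eq_zero_iff] at hd
    obtain ⟨-, c, hc⟩ := isAssociatedPrime_iff.mp hd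
    have h1 : c = 0 := hX.eq_zero_of_killed hx ⟨y, hne.symm⟩ c fun r hr => by
      rw [hc] at hr
      simpa [Submodule.mem_colon_singleton] using hr
    exact hd.isPrime.ne_top (by rw [hc, h1]; simp)
  refine le_trans ?_ (WithBot.coe_le_coe.mpr (Order.one_le_iff_pos.2 (pos_iff_ne_zero.2 hd)))
  exact ((ringKrullDim_stalk_eq_coheight x).symm.trans_le ((stalk_dim_le x).trans hdim))

theorem OnlyConst.dim_component [NoetherianSpace X] (hX : OnlyConst k X)
    (hdim : topologicalKrullDim X = 1) {Z : Set X} (hZ : Z ∈ irreducibleComponents X) :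
    topologicalKrullDim Z = 1 := by
  have : Nonempty X := hZ.1.nonempty.to_subtype.map Subtype.val
  have := hX.connectedSpace
  have hcl := isClosed_of_mem_irreducibleComponents Z hZ
  have : IrreducibleSpace Z := isIrreducible_iff_irreducibleSpace.mp hZ.1
  have : QuasiSober Z := hcl.isClosedEmbedding_subtypeVal.quasiSober
  have hle : topologicalKrullDim Z ≤ 1 :=
    hdim ▸ hcl.isClosedEmbedding_subtypeVal.isInducing.topologicalKrullDim_le
  refine le_antisymm hle ?_
  by_cases hz : ∃ z : Z, z ≠ genericPoint Z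
  · obtain ⟨z, hz⟩ := hz
    let e : Z → IrreducibleCloseds Z := fun y =>
      ⟨closure {y}, isIrreducible_singleton.closure, isClosed_closure⟩
    have hlt : e z < e (genericPoint Z) := lt_of_le_of_ne
      (genericPoint_specializes z).closure_subset fun he => hz
        (Inseparable.eq (inseparable_iff_closure_eq.2 (congrArg SetLike.coe he)))
    exact Order.LTSeries.length_le_krullDim ((RelSeries.singleton _ (e z)).snoc _ hlt)
  · push Not at hz
    exfalso
    have hsub : Z = {(genericPoint Z : X)} := Set.Subset.antisymm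
      (fun w hw => congrArg Subtype.val (hz ⟨w, hw⟩))
      (Set.singleton_subset_iff.2 (genericPoint Z).2)
    obtain ⟨o, ho, hne, hoZ⟩ :=
      NoetherianSpace.exists_isOpen_nonempty_subset_irreducibleComponent Z hZ
    have hop : IsOpen Z := by
      have : o = Z := hoZ.antisymm (by
        rw [hsub]; obtain ⟨w, hw⟩ := hne
        have := hoZ hw
        rw [hsub] at this
        exact Set.singleton_subset_iff.2 (this ▸ hw))
      exact this ▸ ho
    have huniv : Z = Set.univ := (isClopen_iff.1 ⟨hcl, hop⟩).resolve_left hZ.1.nonempty.ne_empty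
    have : Subsingleton X := ⟨fun a b => by
      have ha : a ∈ Z := huniv ▸ Set.mem_univ a
      have hb : b ∈ Z := huniv ▸ Set.mem_univ b
      exact (congrArg Subtype.val (hz ⟨a, ha⟩)).trans (congrArg Subtype.val (hz ⟨b, hb⟩)).symm⟩
    have : Subsingleton (IrreducibleCloseds X) := ⟨fun a b => IrreducibleCloseds.ext
      ((Subsingleton.eq_univ_of_nonempty a.2.nonempty).trans
        (Subsingleton.eq_univ_of_nonempty b.2.nonempty).symm)⟩
    have h0 : topologicalKrullDim X ≤ 0 := Order.krullDim_nonpos_of_subsingleton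
    rw [hdim] at h0
    exact not_le.2 zero_lt_one h0

end Groth.Agent.Crv77
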