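import Mathlib.AlgebraicGeometry.Birational.RationalMap
import Mathlib.AlgebraicGeometry.ValuativeCriterion
import Mathlib.AlgebraicGeometry.Morphisms.Proper
import Mathlib.Tactic

set_option autoImplicit false
universe u

open CategoryTheory AlgebraicGeometry TopologicalSpace

namespace Groth.Agent.Crv77

variable {X Y S : Scheme.{u}}

theorem fromFunctionField_eq [IrreducibleSpace X] (g : X.PartialMap Y) {x : X}
    (hx : x ∈ g.domain) :
    g.fromFunctionField =
      Spec.map (X.presheaf.stalkSpecializes (genericPoint_specializes x)) ≫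
        g.fromSpecStalkOfMem hx := by
  simp only [Scheme.PartialMap.fromFunctionField, Scheme.PartialMap.fromSpecStalkOfMem]
  rw [← Category.assoc]
  congr 1
  rw [← cancel_mono g.domain.ι, Category.assoc, Scheme.Opens.fromSpecStalkOfMem_ι,
    Scheme.Opens.fromSpecStalkOfMem_ι, Scheme.SpecMap_stalkSpecializes_fromSpecStalk]

/-- A morphism on a dense open of an integral scheme into a proper scheme extends over any point
whose local ring is a valuation ring. -/
theorem exists_extend [IsIntegral X] (sX : X ⟶ S) (sY : Y ⟶ S) [S.IsSeparated] [IsProper sY]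
    (U : X.Opens) (hU : (U : Set X).Nonempty) (f : (U : Scheme.{u}) ⟶ Y)
    (hf : f ≫ sY = U.ι ≫ sX) (x : X) [ValuationRing (X.presheaf.stalk x)] :
    ∃ (U' : X.Opens) (hUU' : U ≤ U') (f' : (U' : Scheme.{u}) ⟶ Y), x ∈ U' ∧
      f' ≫ sY = U'.ι ≫ sX ∧ X.homOfLE hUU' ≫ f' = f := by
  let : X.Over S := ⟨sX⟩
  let : Y.Over S := ⟨sY⟩
  have : IsProper (Y ↘ S) := inferInstanceAs (IsProper sY)
  have : Y.IsSeparated := by
    rw [Scheme.isSeparated_iff, ← Limits.terminal.comp_from sY]
    infer_instance
  let p : X.PartialMap Y := ⟨U, U.2.dense hU, f⟩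
  have : p.IsOver S := ⟨hf⟩
  have hK : p.fromFunctionField ≫ sY = X.fromSpecStalk (genericPoint X) ≫ sX := by
    simp only [Scheme.PartialMap.fromFunctionField, Scheme.PartialMap.fromSpecStalkOfMem,
      Category.assoc, p, hf]
    rw [← Category.assoc, Scheme.Opens.fromSpecStalkOfMem_ι]
  have hdom : IsDomain (X.presheaf.stalk x) := inferInstance
  let sq : ValuativeCommSq sY :=
    { R := X.presheaf.stalk x
      domain := hdom
      K := X.functionField
      i₁ := p.fromFunctionField
      i₂ := X.fromSpecStalk x ≫ sX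
      commSq := ⟨by
        rw [hK]
        show _ = Spec.map (X.presheaf.stalkSpecializes (genericPoint_specializes x)) ≫ _
        rw [Scheme.SpecMap_stalkSpecializes_fromSpecStalk_assoc]⟩ }
  have hex : ValuativeCriterion.Existence sY :=
    ((congr_fun₃ UniversallyClosed.eq_valuativeCriterion Y S sY).mp
      (inferInstance : UniversallyClosed sY)).1
  obtain ⟨⟨l, hl₁, hl₂⟩⟩ := hex sq
  let g := Scheme.PartialMap.ofFromSpecStalk sX sY l hl₂
  have hxg : x ∈ g.domain := Scheme.PartialMap.mem_domain_ofFromSpecStalk sX sY l hl₂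
  have hgl : g.fromSpecStalkOfMem hxg = l :=
    Scheme.PartialMap.fromSpecStalkOfMem_ofFromSpecStalk sX sY l hl₂
  have heq : g.toRationalMap = p.toRationalMap := by
    apply Scheme.RationalMap.eq_of_fromFunctionField_eq
    rw [Scheme.RationalMap.fromFunctionField_toRationalMap,
      Scheme.RationalMap.fromFunctionField_toRationalMap, fromFunctionField_eq g hxg, hgl]
    exact hl₁
  refine ⟨p.toRationalMap.domain, p.le_domain_toRationalMap, p.toRationalMap.toPartialMap.hom,
    ?_, ?_, p.toPartialMap_toRationalMap_restrict⟩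
  · exact heq ▸ g.le_domain_toRationalMap hxg
  · exact (inferInstance : p.toRationalMap.toPartialMap.IsOver S).1

end Groth.Agent.Crv77
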