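import Groth.Agent.Crv77.PointDeg
import Mathlib.AlgebraicGeometry.Morphisms.FiniteType

/-! Sections of a tensor product of invertible modules (Hopf's lemma). -/

set_option autoImplicit false
set_option linter.style.haveILetI false
universe u

open CategoryTheory CategoryTheory.Limits AlgebraicGeometry TopologicalSpace Opposite

attribute [local instance] Curv2.resAlgebra

namespace Groth.Agent.Crv77

open Groth.Agent.Var76.LineBundle Groth.Agent.Var76.ZeroScheme
open Groth.Agent.Amp73 (tm tmLeft)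

variable {X : Scheme.{u}} {L L' : X.Modules}

/-- The generating locus of a global section. -/
noncomputable abbrev gl (L : X.Modules) (t : Γ(L, ⊤)) : X.Opens :=
  CohB1.genLocus L (Var76.Frames.ofSection L t)

theorem genericPoint_mem_gl [IsIntegral X] (hL : PicF.IsInvertible L) {t : Γ(L, ⊤)} (ht : t ≠ 0) :
    genericPoint X ∈ gl L t := by
  obtain ⟨U, hηU, -, e, he⟩ := Mero90.exists_affine_frame hL (genericPoint X) ⊤ trivial
  obtain ⟨c, hc⟩ := Amp73.exists_coord (Var76.Frames.ofSection L t) he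
  have hc0 : c ≠ 0 := by
    intro h0
    refine ht (eq_zero_of_res_eq_zero hL (le_top : U.1 ≤ ⊤) ⟨_, hηU⟩ t ?_)
    rw [h0, zero_smul, Var76.Frames.val_ofSection] at hc
    exact hc.symm
  obtain ⟨z, hz⟩ : (X.basicOpen c : Set X).Nonempty := by
    rw [Set.nonempty_iff_ne_empty]
    exact fun h => hc0 ((AlgebraicGeometry.basicOpen_eq_bot_iff c).1 (Opens.ext h))
  have := (genericPoint_specializes z).mem_open (X.basicOpen c).2 hz
  rw [← Amp73.genLocus_inf_eq_basicOpen _ he hc] at this
  exact this.1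

theorem gl_inf_le_gl_tm (t : Γ(L, ⊤)) (t' : Γ(L', ⊤)) :
    gl L t ⊓ gl L' t' ≤ gl (CohB1.tensorMod L L') (tm L L' t t') := by
  refine (Amp73.isFrame_iff_le_genLocus _ _).1 ?_
  rw [Var76.Frames.val_ofSection, Amp73.res_tm]
  have h1 := (Amp73.isFrame_iff_le_genLocus (Var76.Frames.ofSection L t) (gl L t ⊓ gl L' t')).2 inf_le_left
  have h2 := (Amp73.isFrame_iff_le_genLocus (Var76.Frames.ofSection L' t') (gl L t ⊓ gl L' t')).2 inf_le_right
  rw [Var76.Frames.val_ofSection] at h1 h2
  exact Amp73.isFrame_tm h1 h2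

theorem gl_tm_le (hL : PicF.IsInvertible L) (hL' : PicF.IsInvertible L') (t : Γ(L, ⊤)) (t' : Γ(L', ⊤)) :
    gl (CohB1.tensorMod L L') (tm L L' t t') ≤ gl L t := by
  intro x hx
  obtain ⟨U, hxU, -, e, he⟩ := Mero90.exists_affine_frame hL x ⊤ trivial
  obtain ⟨U', hxU', hle, e', he'⟩ := Mero90.exists_affine_frame hL' x U.1 hxU
  have he1 := he.res hle
  obtain ⟨c, hc⟩ := Amp73.exists_coord (Var76.Frames.ofSection L t) he1
  obtain ⟨c', hc'⟩ := Amp73.exists_coord (Var76.Frames.ofSection L' t') he'
  have ht : (c * c') • tm L L' (res L hle e) e' =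
      val _ (Var76.Frames.ofSection (CohB1.tensorMod L L') (tm L L' t t')) U'.1 := by
    rw [← Amp73.tm_smul, hc, hc', Var76.Frames.val_ofSection, Var76.Frames.val_ofSection,
      Var76.Frames.val_ofSection, Amp73.res_tm]
  have h := (Amp73.genLocus_inf_eq_basicOpen _ (Amp73.isFrame_tm he1 he') ht).le ⟨hx, hxU'⟩
  rw [X.basicOpen_mul] at h
  exact ((Amp73.genLocus_inf_eq_basicOpen _ he1 hc).ge h.1).1

variable {k : Type u} [Field k] [X.Over (Spec (CommRingCat.of k))]

/-- Multiplication of sections. -/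
noncomputable def mulSec (L' : X.Modules) (v : Coh.HH X L 0) :
    Coh.HH X L' 0 →ₗ[k] Coh.HH X (CohB1.tensorMod L L') 0 :=
  hmap k (tmLeft (sec L v) L') 0

theorem sec_mulSec (v : Coh.HH X L 0) (w : Coh.HH X L' 0) :
    sec _ (mulSec (k := k) L' v w) = tm L L' (sec L v) (sec L' w) := by
  refine (sec_hmap k _ w).trans ((Amp73.tmLeft_app (sec L v) L' ⊤ (sec L' w)).trans ?_)
  rw [Amp73.res_self]

theorem gl_zero_eq_bot (hL : PicF.IsInvertible L) : gl L (0 : Γ(L, ⊤)) = ⊥ := by
  refine bot_unique fun x hx => ?_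
  obtain ⟨U, hxU, -, e, he⟩ := Mero90.exists_affine_frame hL x ⊤ trivial
  have hc : (0 : Γ(X, U.1)) • e = val L (Var76.Frames.ofSection L (0 : Γ(L, ⊤))) U.1 := by
    rw [zero_smul, Var76.Frames.val_ofSection]
    exact (map_zero _).symm
  have h := (Amp73.genLocus_inf_eq_basicOpen _ he hc).le ⟨hx, hxU⟩
  rwa [X.basicOpen_zero] at h

theorem mulSec_injective [IsIntegral X] (hL : PicF.IsInvertible L) (hL' : PicF.IsInvertible L')
    {v : Coh.HH X L 0} (hv : v ≠ 0) : Function.Injective (mulSec (k := k) L' v) := by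
  refine (injective_iff_map_eq_zero _).2 fun w hw => ?_
  by_contra hw0
  have h1 := genericPoint_mem_gl hL (t := sec L v) fun h => hv ((sec L).injective (h.trans (map_zero _).symm))
  have h2 := genericPoint_mem_gl hL' (t := sec L' w) fun h => hw0 ((sec L').injective (h.trans (map_zero _).symm))
  have h3 := gl_inf_le_gl_tm _ _ ⟨h1, h2⟩
  rw [← sec_mulSec (k := k), hw, map_zero] at h3
  rw [gl_zero_eq_bot (EGA73.isInvertible_tensorMod hL hL')] at h3
  exact h3

namespace CurveCoh

variable (hX : CurveCoh k X)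
include hX

/-- Hopf's lemma for sections of invertible modules. -/
theorem h0_add_le [IsAlgClosed k] [IsIntegral X] [IsNoetherian X]
    [LocallyOfFiniteType (X ↘ Spec (CommRingCat.of k))]
    (hL : PicF.IsInvertible L) (hL' : PicF.IsInvertible L') (hs : Nontrivial (Coh.HH X L 0))
    (hs' : Nontrivial (Coh.HH X L' 0)) :
    Module.finrank k (Coh.HH X L 0) + Module.finrank k (Coh.HH X L' 0) ≤
      Module.finrank k (Coh.HH X (CohB1.tensorMod L L') 0) + 1 := by
  have := hX.finite _ (isCoh_of_isInvertible hL) 0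
  have := hX.finite _ (isCoh_of_isInvertible hL') 0
  have hLL' := EGA73.isInvertible_tensorMod hL hL'
  have := hX.finite _ (isCoh_of_isInvertible hLL') 0
  have : JacobsonSpace X := LocallyOfFiniteType.jacobsonSpace (X ↘ Spec (CommRingCat.of k))
  obtain ⟨w₀, hw₀⟩ := exists_ne (0 : Coh.HH X L' 0)
  let S : Submodule k (Coh.HH X L 0) → Submodule k (Coh.HH X (CohB1.tensorMod L L') 0) :=
    fun A => ⨆ v : A, LinearMap.range (mulSec (k := k) L' v.1)
  suffices key : ∀ n (A : Submodule k (Coh.HH X L 0)), Module.finrank k A = n + 1 →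
      n + Module.finrank k (Coh.HH X L' 0) ≤ Module.finrank k (S A) by
    obtain ⟨n, hn⟩ : ∃ n, Module.finrank k (⊤ : Submodule k (Coh.HH X L 0)) = n + 1 :=
      Nat.exists_eq_succ_of_ne_zero (by rw [finrank_top]; exact Module.finrank_pos.ne')
    have h1 := key n ⊤ hn
    have h2 := Submodule.finrank_le (S ⊤)
    rw [finrank_top] at hn
    omega
  intro n
  induction n with
  | zero =>
    intro A hA
    obtain ⟨v, hv⟩ : ∃ v : A, v ≠ 0 := by
      have := Module.nontrivial_of_finrank_eq_succ hA
      exact exists_ne 0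
    have hv' : v.1 ≠ 0 := fun h => hv (Subtype.ext h)
    rw [Nat.zero_add, ← LinearMap.finrank_range_of_inj (mulSec_injective (k := k) hL hL' hv')]
    exact Submodule.finrank_mono (le_iSup (fun v : A => LinearMap.range (mulSec (k := k) L' v.1)) v)
  | succ n ih =>
    intro A hA
    obtain ⟨v, hv⟩ : ∃ v : A, v ≠ 0 := by
      have := Module.nontrivial_of_finrank_eq_succ hA
      exact exists_ne 0
    have hv' : sec L v.1 ≠ 0 := fun h => hv (Subtype.ext ((sec L).injective (h.trans (map_zero _).symm)))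
    have hw' : sec L' w₀ ≠ 0 := fun h => hw₀ ((sec L').injective (h.trans (map_zero _).symm))
    obtain ⟨P, hP, hPc⟩ : ∃ P : X, P ∈ gl L (sec L v.1) ⊓ gl L' (sec L' w₀) ∧ IsClosed ({P} : Set X) := by
      obtain ⟨P, hP⟩ := nonempty_inter_closedPoints
        (Z := ((gl L (sec L v.1) ⊓ gl L' (sec L' w₀) : X.Opens) : Set X))
        ⟨_, genericPoint_mem_gl hL hv', genericPoint_mem_gl hL' hw'⟩
        (Opens.isOpen _).isLocallyClosed
      exact ⟨P, hP.1, hP.2⟩
    let f := hmap k (valueAt (ptIdeal hPc) L) 0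
    let g := hmap k (valueAt (ptIdeal hPc) (CohB1.tensorMod L L')) 0
    let A' := A ⊓ LinearMap.ker f
    have hA' : Module.finrank k A' = n + 1 := by
      let fA := f ∘ₗ A.subtype
      have hr := LinearMap.finrank_range_add_finrank_ker fA
      rw [hA] at hr
      have hker : LinearMap.ker fA = A'.comap A.subtype := by
        ext a
        simp [fA, A']
      have e1 : Module.finrank k (LinearMap.ker fA) = Module.finrank k A' := by
        rw [hker]
        exact (Submodule.comapSubtypeEquivOfLe inf_le_left).finrank_eq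
      obtain ⟨e⟩ := (suppIn_quotMod (ptIdeal hPc)).nonempty_iso_tensorMod (L := L)
        ((ptIdeal_support hPc) ▸ Set.finite_singleton P)
        (fun y hy => by rw [ptIdeal_support hPc, Set.mem_singleton_iff] at hy; exact hy ▸ hPc) hL
      have hQ1 : Module.finrank k (Coh.HH X (CohB1.tensorMod (ClSub.quotMod (ptIdeal hPc)) L) 0) = 1 := by
        rw [← (hEquiv k e 0).finrank_eq, finrank_quot_point k hPc, finrank_residueField_eq_one k hPc]
      have : Module.Finite k (Coh.HH X (CohB1.tensorMod (ClSub.quotMod (ptIdeal hPc)) L) 0) :=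
        Module.finite_of_finrank_eq_succ hQ1
      have e2 := Submodule.finrank_le (LinearMap.range fA)
      have e3 : Module.finrank k (LinearMap.range fA) ≠ 0 := by
        intro h0
        rw [Submodule.finrank_eq_zero, LinearMap.range_eq_bot] at h0
        exact (valueAt_hmap_eq_zero (k := k) hPc hL v.1).1 (LinearMap.congr_fun h0 v) hP.1
      omega
    have hle : S A' ≤ S A ⊓ LinearMap.ker g := by
      refine iSup_le fun a => le_inf ?_ ?_
      · exact le_iSup (fun b : A => LinearMap.range (mulSec (k := k) L' b.1)) ⟨a.1, a.2.1⟩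
      · rintro _ ⟨w, rfl⟩
        refine (valueAt_hmap_eq_zero (k := k) hPc hLL' _).2 fun hmem => ?_
        rw [sec_mulSec] at hmem
        exact (valueAt_hmap_eq_zero (k := k) hPc hL a.1).1 a.2.2 (gl_tm_le hL hL' _ _ hmem)
    have hlt : S A ⊓ LinearMap.ker g < S A := by
      refine inf_le_left.lt_of_ne fun heq => ?_
      have hmem : mulSec (k := k) L' v.1 w₀ ∈ S A :=
        le_iSup (fun b : A => LinearMap.range (mulSec (k := k) L' b.1)) v ⟨w₀, rfl⟩
      rw [← heq] at hmem
      refine (valueAt_hmap_eq_zero (k := k) hPc hLL' _).1 hmem.2 ?_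
      rw [sec_mulSec]
      exact gl_inf_le_gl_tm _ _ hP
    have h1 := ih A' hA'
    have h2 := Submodule.finrank_mono hle
    have h3 := Submodule.finrank_lt_finrank_of_lt hlt
    omega

end CurveCoh

end Groth.Agent.Crv77
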