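import Groth.Agent.Crv77.RR
import Groth.Agent.Amp73.GlobGen
import Groth.Agent.Serre71.Finite

/-! Sections of an invertible module and their values at a closed point. -/

set_option autoImplicit false
universe u

open CategoryTheory CategoryTheory.Limits AlgebraicGeometry TopologicalSpace Opposite MonoidalCategory

namespace Groth.Agent.Crv77

open Groth.Agent.Var76.LineBundle Groth.Agent.Var76.ZeroScheme
open Groth.Agent.Amp73 (tm tmLeft)

theorem curveCoh_of_proper (k : Type u) [Field k] (X : Scheme.{u}) [X.Over (Spec (CommRingCat.of k))]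
    [IsProper (X ↘ (Spec (CommRingCat.of k)))] (hdim : topologicalKrullDim X ≤ 1) : CurveCoh k X :=
  curveCoh_of_finite k X hdim fun M hM n => Serre71.finite_hh_of_isProper k M hM n

variable {X : Scheme.{u}}

/-- The twist of a morphism, with tensor products as source and target. -/
noncomputable def twistMap {A B : X.Modules} (g : A ⟶ B) (L : X.Modules) :
    CohB1.tensorMod A L ⟶ CohB1.tensorMod B L :=
  (twist L).map g

theorem twist_map_tm {A B : X.Modules} (g : A ⟶ B) (L : X.Modules) (U : X.Opens)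
    (m : Γ(A, U)) (n : Γ(L, U)) :
    (twistMap g L).app U (tm A L m n) = tm B L (g.app U m) n := by
  have h := Mod48.shfU_naturality (O := X.sheaf)
    (Mod48.fgt.map g ▷ Mod48.pre (O := X.sheaf) L : Mod48.pre (O := X.sheaf) A ⊗ Mod48.pre L ⟶ _)
  exact (congrArg (fun φ => (φ.app (op U)).hom (Mero90.tq m n)) h).symm

theorem shortExact_middle_iso {C : Type*} [Category C] [Abelian C] {A B B' D : C} (f : A ⟶ B) (g : B ⟶ D)
    (h0 : f ≫ g = 0) (h : (ShortComplex.mk f g h0).ShortExact) (u : B' ⟶ B) [IsIso u]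
    (h0' : (f ≫ inv u) ≫ (u ≫ g) = 0) :
    (ShortComplex.mk (f ≫ inv u) (u ≫ g) h0').ShortExact :=
  ShortComplex.shortExact_of_iso (ShortComplex.isoMk (S₁ := ShortComplex.mk f g h0)
    (S₂ := ShortComplex.mk (f ≫ inv u) (u ≫ g) h0') (Iso.refl _) (asIso u).symm (Iso.refl _)
    (by simp) (by simp)) h

section Site

variable {C : Type u} [SmallCategory C] {J : GrothendieckTopology C} {O : Sheaf J CommRingCat.{u}}

theorem exists_tR_shortExact (G : ModSite.Mod O)
    (hG : ∀ W : C, ∃ S ∈ J W, ∀ ⦃V : C⦄ (i : V ⟶ W), S.arrows i →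
      Module.Flat (O.obj.obj (op V)) ((Mod48.pre G).obj (op V)))
    {S : ShortComplex (ModSite.Mod O)} (hS : S.ShortExact) :
    ∃ h0 : (Mod48.tR G).map S.f ≫ (Mod48.tR G).map S.g = 0,
      (ShortComplex.mk ((Mod48.tR G).map S.f) ((Mod48.tR G).map S.g) h0).ShortExact :=
  ⟨(S.map (Mod48.tR G)).zero, shortExact_tR_of_locally_flat G hG hS⟩

end Site

/-- `y ↦ 1 ⊗ y`. -/
noncomputable def unitTm (L : X.Modules) : L ⟶ CohB1.tensorMod (Coh.structureModule X) L :=
  tmLeft (G := Coh.structureModule X) (1 : Γ(X, ⊤)) L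

theorem unitTm_app (L : X.Modules) (U : X.Opens) (y : Γ(L, U)) :
    (unitTm L).app U y = tm (Coh.structureModule X) L (1 : Γ(X, U)) y := by
  refine (Amp73.tmLeft_app (G := Coh.structureModule X) (1 : Γ(X, ⊤)) L U y).trans ?_
  exact congrArg (fun a => tm (Coh.structureModule X) L a y) (map_one (X.presheaf.map _).hom)

theorem unitTm_frame (L : X.Modules) {U : X.Opens} (e : Γ(L, U)) {W : X.Opens} (h : W ≤ U) (a : Γ(X, W)) :
    (unitTm L).app W (a • res L h e) = tm (Coh.structureModule X) L (a : Γ(Coh.structureModule X, W)) (res L h e) := by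
  let one : Γ(Coh.structureModule X, W) := (1 : Γ(X, W))
  exact (unitTm_app L W _).trans
    ((Amp73.tm_smul_right (L := Coh.structureModule X) (M := L) a one (res L h e)).trans
    ((Amp73.tm_smul_left (L := Coh.structureModule X) (M := L) a one (res L h e)).symm.trans
      (congrArg (fun b => tm (Coh.structureModule X) L b (res L h e)) (mul_one a))))

theorem isIso_unitTm {L : X.Modules} (hL : PicF.IsInvertible L) : IsIso (unitTm L) := by
  have hinj : ∀ U : X.Opens, Function.Injective ((unitTm L).app U) := by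
    intro U y y' hy
    refine eq_of_locally L _ _ fun x hx => ?_
    obtain ⟨U', hxU', e, he⟩ := Mero90.exists_frame' hL x
    refine ⟨U ⊓ U', inf_le_left, ⟨hx, hxU'⟩, ?_⟩
    obtain ⟨a, ha⟩ := (he (U ⊓ U') inf_le_right).2 (res L inf_le_left y)
    obtain ⟨a', ha'⟩ := (he (U ⊓ U') inf_le_right).2 (res L inf_le_left y')
    have h2 : (unitTm L).app (U ⊓ U') (res L inf_le_left y) = (unitTm L).app (U ⊓ U') (res L inf_le_left y') := by
      rw [Mero90.app_res, Mero90.app_res, hy]
    dsimp only at ha ha'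
    rw [← ha, ← ha', unitTm_frame, unitTm_frame] at h2
    rw [← ha, ← ha', Amp73.tm_frame_injective he inf_le_right _ _ h2]
  rw [Scheme.Modules.Hom.isIso_iff_isIso_app]
  intro U
  refine (ConcreteCategory.isIso_iff_bijective _).2 ⟨hinj U, fun z => ?_⟩
  have key : ∀ x : U, ∃ (W : X.Opens) (hW : W ≤ U) (y : Γ(L, W)), x.1 ∈ W ∧
      (unitTm L).app W y = res _ hW z := by
    intro x
    obtain ⟨U', hxU', e, he⟩ := Mero90.exists_frame' hL x.1
    obtain ⟨a, ha⟩ := Amp73.exists_eq_tm_frame (L := Coh.structureModule X) he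
      (inf_le_right : U ⊓ U' ≤ U') (res _ inf_le_left z)
    exact ⟨U ⊓ U', inf_le_left, (show Γ(X, U ⊓ U') from a) • res L inf_le_right e, ⟨x.2, hxU'⟩,
      (unitTm_frame L e inf_le_right a).trans ha⟩
  choose W hW y hxW hy using key
  obtain ⟨y₀, hy₀, -⟩ := TopCat.Sheaf.existsUnique_gluing' ⟨L.presheaf, L.isSheaf⟩ W U
    (fun x => homOfLE (hW x)) (fun x hx => Opens.mem_iSup.2 ⟨⟨x, hx⟩, hxW ⟨x, hx⟩⟩) y
    (fun x x' => hinj _ (by
      change (unitTm L).app _ (res L inf_le_left (y x)) = (unitTm L).app _ (res L inf_le_right (y x'))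
      rw [Mero90.app_res, Mero90.app_res, hy, hy, res_res, res_res]))
  refine ⟨y₀, eq_of_locally _ _ _ fun x hx => ⟨W ⟨x, hx⟩, hW _, hxW _, ?_⟩⟩
  rw [← Mero90.app_res, ← hy ⟨x, hx⟩]
  exact congrArg _ (hy₀ ⟨x, hx⟩)

/-- `L → (O/I) ⊗ L`. -/
noncomputable def valueAt (I : X.IdealSheafData) (L : X.Modules) :
    L ⟶ CohB1.tensorMod (ClSub.quotMod I) L :=
  unitTm L ≫ twistMap (ClSub.toSubscheme I) L

theorem valueAt_frame (I : X.IdealSheafData) (L : X.Modules) {U : X.Opens} (e : Γ(L, U)) (a : Γ(X, U)) :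
    (valueAt I L).app U (a • e) =
      tm (ClSub.quotMod I) L ((ClSub.toSubscheme I).app U (a : Γ(Coh.structureModule X, U))) e := by
  refine (congrArg ((twistMap (ClSub.toSubscheme I) L).app U) ?_).trans
    (twist_map_tm (ClSub.toSubscheme I) L U a e)
  have := unitTm_frame L e le_rfl a
  rwa [Amp73.res_self] at this

theorem toSubscheme_eq_zero_iff (I : X.IdealSheafData) {U : X.Opens} (hU : IsAffineOpen U) (a : Γ(X, U)) :
    (ClSub.toSubscheme I).app U (a : Γ(Coh.structureModule X, U)) = 0 ↔ a ∈ I.ideal ⟨U, hU⟩ := by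
  rw [← I.ker_subschemeι_app ⟨U, hU⟩]
  exact Iff.rfl

theorem mem_vanishingIdeal_singleton_iff {x : X} (hx : IsClosed ({x} : Set X)) {U : X.Opens}
    (hU : IsAffineOpen U) (hxU : x ∈ U) (a : Γ(X, U)) :
    a ∈ (Scheme.IdealSheafData.vanishingIdeal ⟨{x}, hx⟩).ideal ⟨U, hU⟩ ↔ x ∉ X.basicOpen a := by
  rw [Scheme.IdealSheafData.vanishingIdeal_ideal, PrimeSpectrum.mem_vanishingIdeal]
  constructor
  · intro h hxa
    have h1 : hU.primeIdealOf ⟨x, hxU⟩ ∈ hU.fromSpec ⁻¹ᵁ X.basicOpen a := by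
      show hU.fromSpec _ ∈ X.basicOpen a
      rw [hU.fromSpec_primeIdealOf]; exact hxa
    rw [hU.fromSpec_preimage_basicOpen] at h1
    exact h1 (h _ (hU.fromSpec_primeIdealOf ⟨x, hxU⟩))
  · intro hxa p hp
    by_contra hap
    have h1 : p ∈ hU.fromSpec ⁻¹ᵁ X.basicOpen a := by
      rw [hU.fromSpec_preimage_basicOpen]; exact hap
    exact hxa ((congrArg (· ∈ X.basicOpen a) (show hU.fromSpec p = x from hp)).mp h1)

/-- A section has zero value at `x` exactly when it does not generate at `x`. -/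
theorem valueAt_eq_zero_iff {x : X} (hx : IsClosed ({x} : Set X)) {L : X.Modules}
    (hL : PicF.IsInvertible L) (t : Γ(L, ⊤)) :
    (valueAt (Scheme.IdealSheafData.vanishingIdeal ⟨{x}, hx⟩) L).app ⊤ t = 0 ↔
      x ∉ CohB1.genLocus L (Var76.Frames.ofSection L t) := by
  set I := Scheme.IdealSheafData.vanishingIdeal ⟨{x}, hx⟩
  obtain ⟨U, hxU, -, e, he⟩ := Mero90.exists_affine_frame hL x ⊤ trivial
  obtain ⟨c, hc⟩ := Amp73.exists_coord (Var76.Frames.ofSection L t) he
  have hloc : x ∉ CohB1.genLocus L (Var76.Frames.ofSection L t) ↔ x ∉ X.basicOpen c := by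
    rw [← Amp73.genLocus_inf_eq_basicOpen _ he hc]
    exact ⟨fun h h' => h h'.1, fun h h' => h ⟨h', hxU⟩⟩
  have hU : res _ (le_top : U.1 ≤ ⊤) ((valueAt I L).app ⊤ t) =
      tm (ClSub.quotMod I) L ((ClSub.toSubscheme I).app U.1 (c : Γ(Coh.structureModule X, U.1))) e := by
    rw [← Mero90.app_res, ← valueAt_frame, hc, Var76.Frames.val_ofSection]
  have hzero : (ClSub.toSubscheme I).app U.1 (c : Γ(Coh.structureModule X, U.1)) = 0 ↔ x ∉ X.basicOpen c :=
    (toSubscheme_eq_zero_iff I U.2 c).trans (mem_vanishingIdeal_singleton_iff hx U.2 hxU c)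
  rw [hloc, ← hzero]
  constructor
  · intro h
    rw [h, show res _ (le_top : U.1 ≤ ⊤) (0 : Γ(CohB1.tensorMod (ClSub.quotMod I) L, ⊤)) = 0 from map_zero _,
      ← Amp73.tm_zero_left e] at hU
    exact Amp73.tm_frame_injective (L := ClSub.quotMod I) he le_rfl
      ((ClSub.toSubscheme I).app U.1 (c : Γ(Coh.structureModule X, U.1))) 0 (by
      rw [Amp73.res_self]; exact hU.symm)
  · intro h
    refine eq_of_locally _ _ _ fun y _ => ?_
    by_cases hy : y ∈ U.1
    · refine ⟨U.1, le_top, hy, ?_⟩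
      rw [hU, h, Amp73.tm_zero_left]
      exact (map_zero _).symm
    · obtain ⟨U', hyU', e', he'⟩ := Mero90.exists_frame' hL y
      let W : X.Opens := U' ⊓ ⟨{x}ᶜ, hx.isOpen_compl⟩
      refine ⟨W, le_top, ⟨hyU', fun e'' => hy ((Set.mem_singleton_iff.1 e'') ▸ hxU)⟩, ?_⟩
      obtain ⟨a, ha⟩ := (he' W inf_le_left).2 (res L le_top t)
      have hz : ∀ m : Γ(ClSub.quotMod I, W), m = 0 := (suppIn_quotMod I).section_eq_zero (V := W)
        (fun z hz hzS => by
          rw [Scheme.IdealSheafData.coe_support_vanishingIdeal] at hzS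
          exact hz.2 hzS)
      rw [← Mero90.app_res, ← ha, valueAt_frame]
      refine (congrArg (fun m => tm (ClSub.quotMod I) L m _) (hz _)).trans ((Amp73.tm_zero_left _).trans ?_)
      exact (map_zero _).symm

variable {k : Type u} [Field k] [X.Over (Spec (CommRingCat.of k))]

/-- The sequence `0 → I ⊗ L → L → (O/I) ⊗ L → 0` in degree zero. -/
theorem exists_point_seq (I : X.IdealSheafData) {L : X.Modules} (hL : PicF.IsInvertible L) :
    ∃ j : CohB1.tensorMod (ClSub.idealMod I) L ⟶ L, Function.Injective (hmap k j 0) ∧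
      Function.Exact (hmap k j 0) (hmap k (valueAt I L) 0) := by
  have := isIso_unitTm hL
  obtain ⟨h0, h1⟩ := exists_tR_shortExact (O := X.sheaf) L
    (locally_flat_of_rank_one (Mero90.isFinLocFreeOfRank_of_isInvertible hL)) (idealSeq_shortExact I)
  obtain ⟨j, T, hT, hf, hg⟩ : ∃ (j : CohB1.tensorMod (ClSub.idealMod I) L ⟶ L)
      (hj : j ≫ valueAt I L = 0) (_ : (ShortComplex.mk j (valueAt I L) hj).ShortExact), True ∧ True := by
    refine ⟨twistMap (ClSub.idealModι I) L ≫ inv (unitTm L), ?_, ?_, trivial, trivial⟩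
    · exact (Category.assoc _ _ _).trans ((congrArg (_ ≫ ·) (IsIso.inv_hom_id_assoc _ _)).trans h0)
    · exact shortExact_middle_iso (twistMap (ClSub.idealModι I) L) (twistMap (ClSub.toSubscheme I) L)
        h0 h1 (unitTm L) _
  exact ⟨j, injective_f_zero (S := ShortComplex.mk j (valueAt I L) T) k hT,
    exact_f_g (S := ShortComplex.mk j (valueAt I L) T) k hT 0⟩

end Groth.Agent.Crv77
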