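import Groth.Agent.Crv77.DegreeInt
import Groth.Agent.Crv77.Sections
import Mathlib.LinearAlgebra.Dual.Lemmas

/-! Special sheaves have at most `g` independent sections, without duality. -/

set_option autoImplicit false
universe u

open CategoryTheory CategoryTheory.Limits AlgebraicGeometry TopologicalSpace CategoryTheory.Abelian

namespace Groth.Agent.Crv77

open Groth.Agent.Var76.LineBundle (IsFrame)

variable {X : Scheme.{u}}

/-- Coherent modules with vanishing generic stalk are supported in finitely many closed points. -/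
theorem exists_suppIn [IsIntegral X] [NoetherianSpace X] (hdim : topologicalKrullDim X ≤ 1)
    {Q : X.Modules} (hQ : Coh.IsCoh Q) (h : Subsingleton (Q.presheaf.stalk (genericPoint X))) :
    ∃ S : Set X, S.Finite ∧ (∀ x ∈ S, IsClosed ({x} : Set X)) ∧ SuppIn Q S := by
  have := hQ.2
  obtain ⟨U, hηU, hU⟩ := QC70.exists_nhd_sections_subsingleton (M := Q) (genericPoint X) h
  obtain ⟨hfin, hcl⟩ := finite_closed hdim ⟨_, hηU⟩
  refine ⟨(U : Set X)ᶜ, hfin, hcl, fun x hx => subsingleton_of_forall_eq 0 fun e => ?_⟩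
  obtain ⟨W, hW, s, rfl⟩ := QC70.germM_exist e
  have := hU (W ⊓ U) inf_le_right
  rw [← QC70.germM_res (inf_le_left : W ⊓ U ≤ W) (show x ∈ W ⊓ U from ⟨hW, not_not.1 hx⟩) s,
    Subsingleton.elim (QC70.res Q (inf_le_left : W ⊓ U ≤ W) s) 0]
  exact QC70.germM_zero _

/-- Restriction to a nonempty open is injective on an invertible module over an integral scheme. -/
theorem eq_zero_of_res_eq_zero [IsIntegral X] {L : X.Modules} (hL : PicF.IsInvertible L)
    {U W : X.Opens} (h : U ≤ W) (hU : (U : Set X).Nonempty) (s : Γ(L, W))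
    (hs : QC70.res L h s = 0) : s = 0 := by
  refine QC70.section_ext L s 0 fun p hp => ?_
  obtain ⟨V, hpV, e, he⟩ := Mero90.exists_frame' hL p
  let V' := V ⊓ W
  have h' : V' ≤ V := inf_le_left
  obtain ⟨a, ha⟩ := (he V' h').2 (QC70.res L inf_le_right s)
  have hne : ((V' : Set X) ∩ U).Nonempty :=
    nonempty_preirreducible_inter V'.2 U.2 ⟨p, hpV, hp⟩ hU
  have : Nonempty (V' ⊓ U : X.Opens) := ⟨⟨_, hne.choose_spec⟩⟩
  have ha0 : a = 0 := by
    refine map_injective_of_isIntegral X (homOfLE (inf_le_left : V' ⊓ U ≤ V')) ?_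
    rw [map_zero]
    refine (he (V' ⊓ U) (inf_le_left.trans h')).1 ?_
    change QC70.resO X _ a • Var76.LineBundle.res L _ e = (0 : Γ(X, V' ⊓ U)) • Var76.LineBundle.res L _ e
    rw [zero_smul, ← Var76.LineBundle.res_res L h' inf_le_left e]
    refine ((QC70.res_smul (inf_le_left : V' ⊓ U ≤ V') a (Var76.LineBundle.res L h' e)).symm.trans ?_)
    rw [show (a • Var76.LineBundle.res L h' e) = QC70.res L inf_le_right s from ha, QC70.res_res,
      ← QC70.res_res h (inf_le_right : V' ⊓ U ≤ U), hs]
    exact map_zero _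
  refine ⟨V', inf_le_right, ⟨hpV, hp⟩, ?_⟩
  rw [← ha, ha0]
  exact (zero_smul _ _).trans (map_zero _).symm

/-- A nonzero section of an invertible module is injective and generates at the generic point. -/
theorem section_of_invertible [IsIntegral X] {L : X.Modules} (hL : PicF.IsInvertible L)
    (s : Coh.structureModule X ⟶ L) (hs : s.app ⊤ (1 : Γ(X, ⊤)) ≠ 0) :
    Mono s ∧ Function.Surjective (QC70.stalkMapM s (genericPoint X)) := by
  obtain ⟨U, hηU, e, he⟩ := Mero90.exists_frame' hL (genericPoint X)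
  obtain ⟨a, ha⟩ := (he U le_rfl).2 (s.app U (1 : Γ(X, U)))
  have ha0 : a ≠ 0 := by
    intro h0
    refine hs (eq_zero_of_res_eq_zero hL (le_top (a := U)) ⟨_, hηU⟩ _ ?_)
    refine (QC70.app_res s (le_top (a := U)) (show Γ(Coh.structureModule X, ⊤) from (1 : Γ(X, ⊤)))).symm.trans ?_
    refine (congrArg (s.app U) (map_one (X.presheaf.map (homOfLE (le_top (a := U))).op).hom)).trans ?_
    rw [← ha, h0]
    exact zero_smul _ _
  let D := X.basicOpen a
  have hDU : D ≤ U := X.basicOpen_le a
  have hηD : genericPoint X ∈ D := by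
    refine ((genericPoint_spec X).mem_open_set_iff D.2).2 ?_
    rw [Set.univ_inter]
    refine Set.nonempty_iff_ne_empty.2 fun h => ha0 ((basicOpen_eq_bot_iff a).1 ?_)
    exact SetLike.coe_injective h
  -- formula
  have key : ∀ (V : X.Opens) (hV : V ≤ D) (c : Γ(X, V)), s.app V c =
      (c * QC70.resO X (hV.trans hDU) a) • Var76.LineBundle.res L (hV.trans hDU) e := by
    intro V hV c
    have hc : s.app V c = c • s.app V (1 : Γ(X, V)) := by
      refine Eq.trans ?_ (Scheme.Modules.Hom.app_smul s c (1 : Γ(X, V)))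
      exact congrArg (s.app V) (mul_one c).symm
    have h1 : s.app V (1 : Γ(X, V)) = QC70.resO X (hV.trans hDU) a • Var76.LineBundle.res L (hV.trans hDU) e := by
      refine (congrArg (s.app V) (map_one (X.presheaf.map (homOfLE (hV.trans hDU)).op).hom).symm).trans ?_
      refine (QC70.app_res s (hV.trans hDU) (show Γ(Coh.structureModule X, U) from (1 : Γ(X, U)))).trans ?_
      rw [← ha]
      refine (QC70.res_smul (hV.trans hDU) a (Var76.LineBundle.res L le_rfl e)).trans ?_
      exact congrArg _ (Var76.LineBundle.res_res L le_rfl (hV.trans hDU) e)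
    rw [hc, h1, smul_smul]
  have hunit : ∀ (V : X.Opens) (hV : V ≤ D), IsUnit (QC70.resO X (hV.trans hDU) a) := by
    intro V hV
    have := (RingedSpace.isUnit_res_basicOpen X.toRingedSpace a).map (X.presheaf.map (homOfLE hV).op).hom
    rw [← QC70.resO_resO hDU hV a]
    exact this
  refine ⟨mono_of_injective_on_open (𝟙 _) s ⟨_, hηD⟩ fun V hV c d hcd => ?_, fun t => ?_⟩
  · exact ((hunit V hV).mul_left_injective) ((he V (hV.trans hDU)).1
      ((key V hV c).symm.trans (hcd.trans (key V hV d))))
  · obtain ⟨W, hW, m, rfl⟩ := QC70.germM_exist t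
    let V := W ⊓ D
    obtain ⟨b, hb⟩ := (he V (inf_le_right.trans hDU)).2 (QC70.res L inf_le_left m)
    obtain ⟨u, hu⟩ := hunit V inf_le_right
    refine ⟨QC70.germM (Coh.structureModule X) V _ ⟨hW, hηD⟩ (show Γ(X, V) from b * ↑u⁻¹), ?_⟩
    refine (QC70.stalkMapM_germ s _ _).trans ?_
    rw [← QC70.germM_res (inf_le_left : V ≤ W) ⟨hW, hηD⟩ m]
    refine congrArg _ ((key V inf_le_right _).trans ?_)
    rw [← hb, ← hu, mul_assoc, Units.inv_mul, mul_one]

theorem ext_comp_add' {C : Type*} [Category C] [Abelian C] [HasExt.{u} C] {Z A B : C} {n : ℕ}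
    (x : Ext.{u} Z A n) {f g e : A ⟶ B} (he : e = f + g) :
    Ext.comp x (Ext.mk₀ e) (add_zero n) =
      Ext.comp x (Ext.mk₀ f) (add_zero n) + Ext.comp x (Ext.mk₀ g) (add_zero n) := by
  rw [he, Ext.mk₀_add, Ext.comp_add]

variable {k : Type u} [Field k] [X.Over (Spec (CommRingCat.of k))]

namespace CurveCoh

variable (hX : CurveCoh k X)
include hX

/-- A rank one torsion free module with nonzero `H¹` has at most `g` independent sections. -/
theorem h0_le_genus [IsIntegral X] [IsNoetherian X] (hdim : topologicalKrullDim X ≤ 1)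
    {F L : X.Modules} (hF : Coh.IsCoh F) (hL : PicF.IsInvertible L) (j : F ⟶ L) [Mono j]
    (h1 : Nontrivial (Coh.HH X F 1)) :
    Module.finrank k (Coh.HH X F 0) ≤ Curv2.genus k X := by
  have := hX.finite F hF 0
  have := hX.finite F hF 1
  have := hX.finite _ (isCoh_structureModule (X := X)) 1
  obtain ⟨v, hv⟩ := exists_ne (0 : Coh.HH X F 1)
  obtain ⟨ξ, hξ⟩ : ∃ ξ : Coh.HH X F 1 →ₗ[k] k, ξ v ≠ 0 := by
    by_contra hcon
    push Not at hcon
    exact hv ((Module.forall_dual_apply_eq_zero_iff k v).1 hcon)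
  have hadd : ∀ (x y : Coh.HH X F 0) (z : Coh.HH X (Coh.structureModule X) 1),
      hmap k (toHom (x + y)) 1 z = hmap k (toHom x) 1 z + hmap k (toHom y) 1 z := fun x y z => by
    exact ext_comp_add' z (toAb_toHom_add x y)
  have hsmul : ∀ (a : k) (x : Coh.HH X F 0) (z : Coh.HH X (Coh.structureModule X) 1),
      hmap k (toHom (a • x)) 1 z = a • hmap k (toHom x) 1 z := fun a x z => by
    refine (congrArg (fun e => Ext.comp z (Ext.mk₀ e) (add_zero 1)) (toAb_toHom_smul k a x)).trans ?_
    exact (ext_comp_comp z _ _).symm.trans (smul_eq_comp k F 1 a _).symm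
  let Ψ : Coh.HH X F 0 →ₗ[k] Module.Dual k (Coh.HH X (Coh.structureModule X) 1) :=
    { toFun := fun x => ξ ∘ₗ hmap k (toHom x) 1
      map_add' := fun x y => LinearMap.ext fun z => by
        simp only [LinearMap.coe_comp, Function.comp_apply, LinearMap.add_apply, hadd, map_add]
      map_smul' := fun a x => LinearMap.ext fun z => by
        simp only [LinearMap.coe_comp, Function.comp_apply, LinearMap.smul_apply, hsmul, map_smul,
          RingHom.id_apply] }
  have hinj : Function.Injective Ψ := by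
    refine (injective_iff_map_eq_zero Ψ).2 fun x hx => ?_
    by_contra hx0
    have hsec : (toHom x ≫ j).app ⊤ (1 : Γ(X, ⊤)) ≠ 0 := by
      intro h
      refine hx0 ((sec F).injective ?_)
      rw [map_zero]
      refine QC70.app_injective_of_mono j ⊤ ?_
      rw [map_zero, ← toHom_app_one x]
      exact h
    obtain ⟨hm, hsurj⟩ := section_of_invertible hL (toHom x ≫ j) hsec
    have : Mono (toHom x) := mono_of_mono (toHom x) j
    have hgen : Function.Surjective (QC70.stalkMapM (toHom x) (genericPoint X)) := by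
      intro e
      obtain ⟨d, hd⟩ := hsurj (QC70.stalkMapM j _ e)
      refine ⟨d, QC70.injective_stalkMapM_of_mono j _ ?_⟩
      rw [← hd]
      obtain ⟨W, hW, m, rfl⟩ := QC70.germM_exist d
      rw [QC70.stalkMapM_germ, QC70.stalkMapM_germ, QC70.stalkMapM_germ]
      rfl
    obtain ⟨S, hS, hcl, hsupp⟩ := exists_suppIn hdim (isCoh_cokernel (toHom x) isCoh_structureModule hF)
      (QC70.subsingleton_stalk_cokernel (toHom x) _ hgen)
    let T := ShortComplex.mk (toHom x) (cokernel.π (toHom x)) (cokernel.condition _)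
    have hT : T.ShortExact :=
      { exact := ShortComplex.exact_of_g_is_cokernel _ (cokernelIsCokernel _)
        mono_f := ‹Mono (toHom x)›
        epi_g := inferInstanceAs (Epi (cokernel.π _)) }
    have := hsupp.subsingleton_HH hS hcl 0
    obtain ⟨z, hz⟩ := (exact_f_g k hT 1 v).1 (Subsingleton.elim _ _)
    exact hξ (hz ▸ LinearMap.congr_fun hx z)
  exact (LinearMap.finrank_le_finrank_of_injective hinj).trans_eq Subspace.dual_finrank_eq

end CurveCoh

end Groth.Agent.Crv77
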