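import Groth.Agent.Crv77.Degree
import Groth.Agent.Crv77.Sections
import Groth.Agent.Crv77.TwistSection
import Groth.Agent.Var76.HHPush
import Groth.Agent.QC70.PushFinite
import Groth.Agent.Ega11.PointDim
import Groth.Agent.VarGal.LocalDim
import Groth.Prelude.Def_ClSub2

/-! Genus under finite birational morphisms of one-dimensional proper schemes. -/

set_option autoImplicit false
set_option backward.isDefEq.respectTransparency false
universe u

open CategoryTheory CategoryTheory.Limits AlgebraicGeometry TopologicalSpace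

namespace Groth.Agent.Crv77

section Top

variable {T : Type u} [TopologicalSpace T]

theorem exists_generic_in_dense [NoetherianSpace T] [QuasiSober T] {U : Set T} (hU : IsOpen U)
    (hd : Dense U) (z : T) : ∃ ζ ∈ U, ζ ⤳ z := by
  have hC : irreducibleComponent z ∈ irreducibleComponents T := irreducibleComponent_mem_irreducibleComponents z
  obtain ⟨ζ, hζ⟩ := QuasiSober.sober isIrreducible_irreducibleComponent (isClosed_irreducibleComponent (x := z))
  obtain ⟨o, ho, hne, hle⟩ := NoetherianSpace.exists_isOpen_nonempty_subset_irreducibleComponent _ hC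
  obtain ⟨y, hyo, hyU⟩ := hd.inter_open_nonempty o ho hne
  refine ⟨ζ, (hζ.mem_open_set_iff hU).2 ⟨y, hle hyo, hyU⟩, hζ.specializes ?_⟩
  exact mem_irreducibleComponent

theorem finite_compl_dense [NoetherianSpace T] [QuasiSober T] [T0Space T]
    (hdim : topologicalKrullDim T ≤ 1) {U : Set T} (hU : IsOpen U) (hd : Dense U) :
    Uᶜ.Finite ∧ ∀ x ∈ Uᶜ, IsClosed ({x} : Set T) := by
  have h : ∀ z ∈ Uᶜ, ∃ ζ, ζ ⤳ z ∧ z ≠ ζ := fun z hz => by
    obtain ⟨ζ, hζ, hs⟩ := exists_generic_in_dense hU hd z
    exact ⟨ζ, hs, fun e => hz (e ▸ hζ)⟩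
  refine ⟨finite_of_isClosed hdim hU.isClosed_compl h, fun x hx => ?_⟩
  obtain ⟨ζ, hs, hne⟩ := h x hx
  exact isClosed_singleton_of_generalization hdim hs hne

end Top

variable {k : Type u} [Field k]

theorem h1_le_of_suppIn {X : Scheme.{u}} [X.Over (Spec (CommRingCat.of k))] [IsLocallyNoetherian X]
    (hX : CurveCoh k X) {M N : X.Modules} (φ : M ⟶ N) (hM : Coh.IsCoh M) (hN : Coh.IsCoh N)
    {S : Set X} (hS : S.Finite) (hcl : ∀ x ∈ S, IsClosed ({x} : Set X))
    (hφ : ∀ x, x ∉ S → Function.Surjective (QC70.stalkMapM φ x)) :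
    Function.Surjective (hmap k φ 1) := by
  let T₁ : ShortComplex X.Modules := ShortComplex.mk (kernel.ι φ) (Abelian.factorThruImage φ) (by
    rw [← cancel_mono (Abelian.image.ι φ), Category.assoc, Abelian.image.fac, kernel.condition,
      zero_comp])
  let T₂ : ShortComplex X.Modules :=
    ShortComplex.mk (Abelian.image.ι φ) (cokernel.π φ) (kernel.condition _)
  have h₂ : T₂.ShortExact :=
    { exact := ShortComplex.exact_of_f_is_kernel _ (kernelIsKernel _) }
  have h₁ : T₁.ShortExact :=
    { exact := ShortComplex.exact_of_f_is_kernel _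
        (isKernelOfComp (f := Abelian.factorThruImage φ) (Abelian.image.ι φ) φ (kernelIsKernel φ)
          T₁.zero (Abelian.image.fac φ)) }
  have hK : Coh.IsCoh (kernel φ) := by
    have := hM.1; have := hM.2; have := hN.1
    have hq : (kernel φ).IsQuasicoherent := QC70.isQuasicoherent_kernel φ
    exact ⟨hq, QC70.isFiniteType_of_mono (kernel.ι φ)⟩
  have hI : Coh.IsCoh T₁.X₃ := isCoh_of_shortExact h₁ hK hM
  have s₁ : Function.Surjective (hmap k T₁.g 1) := fun y =>
    ((exact_g_δ k h₁ 1) y).1 (@Subsingleton.elim _ (hX.vanish _ hK 2 le_rfl) _ _)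
  have s₂ : Function.Surjective (hmap k T₂.f 1) := fun y =>
    ((exact_f_g k h₂ 1) y).1 (@Subsingleton.elim _
      ((suppIn_cokernel φ hφ).subsingleton_HH hS hcl 0) _ _)
  intro y
  obtain ⟨z, rfl⟩ := s₂ y
  obtain ⟨x, rfl⟩ := s₁ z
  refine ⟨x, ?_⟩
  rw [hmap_comp]
  exact congrArg (fun f => hmap k f 1 x) (Abelian.image.fac φ).symm

/-- Off the locus where a morphism fails to be a closed immersion, functions upstairs come from below. -/
theorem surjective_stalkMapM_unitToPush {X Y : Scheme.{u}} (f : Y ⟶ X) (U : X.Opens)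
    (hfU : IsClosedImmersion (f ∣_ U)) (x : X) (hx : x ∈ U) :
    Function.Surjective (QC70.stalkMapM (ClSub.unitToPush f) x) := by
  intro e
  obtain ⟨W, hxW, s, rfl⟩ := QC70.germM_exist e
  obtain ⟨_, ⟨V, hV, rfl⟩, hxV, hVW⟩ :=
    X.isBasis_affineOpens.exists_subset_of_mem_open (show x ∈ ((W ⊓ U : X.Opens) : Set X) from ⟨hxW, hx⟩)
      (W ⊓ U).2
  have hle : V ≤ U := fun y hy => (hVW hy).2
  let V' : (U : Scheme.{u}).Opens := U.ι ⁻¹ᵁ V
  have hV' : IsAffineOpen V' := hV.preimage_of_isOpenImmersion U.ι (by simpa using hle)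
  have h2 : (U.ι ''ᵁ V') = V := by
    rw [Scheme.Hom.image_preimage_eq_opensRange_inf, Scheme.Opens.opensRange_ι]
    exact inf_eq_right.2 hle
  have hs : Function.Surjective ((f ∣_ U).app V').hom := by
    have := hfU
    exact (f ∣_ U).app_surjective V' hV'
  have hs' : Function.Surjective (f.app (U.ι ''ᵁ V')).hom := by
    intro b
    obtain ⟨c, hc⟩ := hs ((Y.presheaf.map (eqToHom (image_morphismRestrict_preimage f U V')).op).hom b)
    refine ⟨c, ?_⟩
    rw [morphismRestrict_app, CommRingCat.hom_comp, RingHom.comp_apply] at hc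
    exact (ConcreteCategory.bijective_of_isIso
      (Y.presheaf.map (eqToHom (image_morphismRestrict_preimage f U V')).op)).1 hc
  have hs'' : Function.Surjective (f.app V).hom := h2 ▸ hs'
  have hVW' : V ≤ W := fun y hy => (hVW hy).1
  obtain ⟨c, hc⟩ := hs'' (QC70.res _ hVW' s)
  refine ⟨QC70.germM (Coh.structureModule X) V x hxV c, ?_⟩
  rw [QC70.stalkMapM_germ, ← QC70.germM_res hVW' hxV s]
  exact congrArg (QC70.germM _ V x hxV) hc

variable (k) {X Y : Scheme.{u}} [X.Over (Spec (CommRingCat.of k))] [Y.Over (Spec (CommRingCat.of k))]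

/-- Pushing the structure sheaf along a finite morphism does not change its cohomology. -/
theorem finrank_hh_push [IsProper (X ↘ (Spec (CommRingCat.of k)))] (f : Y ⟶ X) [IsFinite f]
    (hf : f ≫ (X ↘ (Spec (CommRingCat.of k))) = Y ↘ (Spec (CommRingCat.of k))) (n : ℕ) :
    Coh.IsCoh ((Coh.push f).obj (Coh.structureModule Y)) ∧
    Module.finrank k (Coh.HH X ((Coh.push f).obj (Coh.structureModule Y)) n) =
      Module.finrank k (Coh.HH Y (Coh.structureModule Y) n) := by
  have : IsLocallyNoetherian X := LocallyOfFiniteType.isLocallyNoetherian (X ↘ (Spec (CommRingCat.of k)))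
  have hc : Coh.IsCoh ((Coh.push f).obj (Coh.structureModule Y)) :=
    QC70.isCoh_pushforward_of_isFinite f _ isCoh_structureModule
  have : (Coh.structureModule Y).IsQuasicoherent := (isCoh_structureModule (X := Y)).1
  obtain ⟨e⟩ := Var76.nonempty_hhLin_push (A := k) f hf (Coh.structureModule Y) hc.1 n
  exact ⟨hc, e.finrank_eq⟩

theorem surjective_h1_unitToPush [IsProper (X ↘ (Spec (CommRingCat.of k)))] (hdim : topologicalKrullDim X ≤ 1)
    (f : Y ⟶ X) [IsFinite f] (hf : f ≫ (X ↘ (Spec (CommRingCat.of k))) = Y ↘ (Spec (CommRingCat.of k)))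
    (U : X.Opens) (hU : Dense (U : Set X)) (hfU : IsClosedImmersion (f ∣_ U)) :
    Function.Surjective (hmap k (ClSub.unitToPush f) 1) := by
  have : IsLocallyNoetherian X := LocallyOfFiniteType.isLocallyNoetherian (X ↘ (Spec (CommRingCat.of k)))
  have : CompactSpace X := QuasiCompact.compactSpace_of_compactSpace (X ↘ (Spec (CommRingCat.of k)))
  have : IsNoetherian X := ⟨⟩
  obtain ⟨hfin, hcl⟩ := finite_compl_dense hdim U.2 hU
  exact h1_le_of_suppIn (curveCoh_of_proper k X hdim) _ isCoh_structureModule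
    (finrank_hh_push k f hf 0).1 hfin hcl
    fun x hx => surjective_stalkMapM_unitToPush f U hfU x (not_not.1 hx)

theorem genus_le_of_closedImmersion_dense [IsProper (X ↘ (Spec (CommRingCat.of k)))]
    (hdim : topologicalKrullDim X ≤ 1)
    (f : Y ⟶ X) [IsFinite f] (hf : f ≫ (X ↘ (Spec (CommRingCat.of k))) = Y ↘ (Spec (CommRingCat.of k)))
    (U : X.Opens) (hU : Dense (U : Set X)) (hfU : IsClosedImmersion (f ∣_ U)) :
    Curv2.genus k Y ≤ Curv2.genus k X := by
  have := (curveCoh_of_proper k X hdim).finite _ (isCoh_structureModule (X := X)) 1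
  rw [Curv2.genus, Curv2.genus, ← (finrank_hh_push k f hf 1).2]
  exact LinearMap.finrank_le_finrank_of_surjective (surjective_h1_unitToPush k hdim f hf U hU hfU)

end Groth.Agent.Crv77
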