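import Groth.Agent.Crv77.Sections
import Groth.Agent.Crv77.Const
import Groth.Agent.Crv77.TwistSection
import Groth.Agent.Crv77.Birat
import Groth.Agent.NormY57.Scheme
import Mathlib.RingTheory.Artinian.Module
import Mathlib.FieldTheory.IsAlgClosed.Basic

/-! Global functions on reduced proper one-dimensional schemes over an algebraically closed field. -/

set_option autoImplicit false
set_option backward.isDefEq.respectTransparency false
universe u

open CategoryTheory CategoryTheory.Limits AlgebraicGeometry TopologicalSpace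

namespace Groth.Agent.Crv77

variable (k : Type u) [Field k] (Y : Scheme.{u}) [Y.Over (Spec (CommRingCat.of k))]

/-- The algebra of global functions. -/
noncomputable abbrev topAlg : Algebra k Γ(Y, ⊤) := (Coh.toGlobal (Y ↘ Spec (CommRingCat.of k))).toAlgebra

/-- Degree zero cohomology of the structure sheaf is the algebra of global functions. -/
noncomputable def secAlg : letI := topAlg k Y; Coh.HH Y (Coh.structureModule Y) 0 ≃ₗ[k] Γ(Y, ⊤) :=
  letI := topAlg k Y
  { (sec (Coh.structureModule Y)).trans (AddEquiv.refl _ : Γ(Coh.structureModule Y, ⊤) ≃+ Γ(Y, ⊤)) with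
    map_smul' := fun a x => sec_smul k (Coh.structureModule Y) a x }

theorem finite_top [IsProper (Y ↘ Spec (CommRingCat.of k))] (hdim : topologicalKrullDim Y ≤ 1) :
    letI := topAlg k Y; Module.Finite k Γ(Y, ⊤) := by
  letI := topAlg k Y
  have := (curveCoh_of_proper k Y hdim).finite _ (isCoh_structureModule (X := Y)) 0
  exact Module.Finite.equiv (secAlg k Y)

variable [IsAlgClosed k]

theorem finrank_h0_of_reduced_connected [IsProper (Y ↘ Spec (CommRingCat.of k))] [IsReduced Y]
    [ConnectedSpace Y] (hdim : topologicalKrullDim Y ≤ 1) :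
    Module.finrank k (Coh.HH Y (Coh.structureModule Y) 0) = 1 := by
  letI := topAlg k Y
  have := finite_top k Y hdim
  rw [(secAlg k Y).finrank_eq]
  have : Nonempty Y := inferInstance
  have : Nonempty (⊤ : Y.Opens) := ⟨⟨Classical.arbitrary Y, trivial⟩⟩
  have hfield : IsField Γ(Y, ⊤) :=
    { exists_pair_ne := exists_pair_ne _
      mul_comm := mul_comm
      mul_inv_cancel := fun {a} ha => by
        obtain ⟨z, -, hz⟩ := exists_mul_eq_one_of_isIntegral
          (fun e he => eq_zero_or_one_of_isIdempotentElem he) (Algebra.IsIntegral.isIntegral (R := k) a) ha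
        exact ⟨z, hz⟩ }
  letI := hfield.toField
  have hb := IsAlgClosed.algebraMap_bijective_of_isIntegral (k := k) (K := Γ(Y, ⊤))
  exact ((LinearEquiv.ofBijective (Algebra.linearMap k Γ(Y, ⊤)) hb).finrank_eq).symm.trans (Module.finrank_self k)

/-- A normal proper curve has one constant for each component. -/
theorem finrank_h0_of_normal [IsProper (Y ↘ Spec (CommRingCat.of k))]
    (hY : Pi1.IsNormalScheme Y) (hdim : topologicalKrullDim Y ≤ 1) :
    Module.finrank k (Coh.HH Y (Coh.structureModule Y) 0) = Nat.card (irreducibleComponents (Y : Type u)) := by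
  classical
  letI := topAlg k Y
  have := finite_top k Y hdim
  rw [(secAlg k Y).finrank_eq]
  have := NormY57.isReduced_of_isNormalScheme hY
  have : IsLocallyNoetherian Y := LocallyOfFiniteType.isLocallyNoetherian (Y ↘ (Spec (CommRingCat.of k)))
  have : CompactSpace Y := QuasiCompact.compactSpace_of_compactSpace (Y ↘ (Spec (CommRingCat.of k)))
  have : IsNoetherian Y := ⟨⟩
  have hfinC : (irreducibleComponents (Y : Type u)).Finite := NoetherianSpace.finite_irreducibleComponents
  have : Finite (irreducibleComponents (Y : Type u)) := hfinC.to_subtype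
  have hlf : LocallyFinite (fun Z : ↥(irreducibleComponents ↥Y) => (Z : Set ↥Y)) := locallyFinite_of_finite _
  let ζ : irreducibleComponents (Y : Type u) → Y := fun Z => (show IsIrreducible (Z : Set Y) from Z.2.1).genericPoint
  have hζ : ∀ Z, closure ({ζ Z} : Set Y) = Z := fun Z => by
    rw [(show IsIrreducible (Z : Set Y) from Z.2.1).genericPoint_closure_eq,
      (isClosed_of_mem_irreducibleComponents _ Z.2).closure_eq]
  have hζmem : ∀ Z : irreducibleComponents (Y : Type u), ζ Z ∈ (Z : Set Y) := fun Z => (hζ Z).le (subset_closure rfl)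
  let ev : ∀ Z, Γ(Y, ⊤) →+* Y.residueField (ζ Z) := fun Z => (Y.evaluation ⊤ (ζ Z) trivial).hom
  let P : irreducibleComponents (Y : Type u) → Ideal Γ(Y, ⊤) := fun Z => RingHom.ker (ev Z)
  have : IsArtinianRing Γ(Y, ⊤) := IsArtinianRing.of_finite k _
  have hP : ∀ Z, (P Z).IsMaximal := fun Z => (RingHom.ker_isPrime (ev Z)).isMaximal'
  have hb : ∀ Z, Function.Bijective (algebraMap k (Γ(Y, ⊤) ⧸ P Z)) := fun Z => by
    letI := Ideal.Quotient.field (P Z)
    exact IsAlgClosed.algebraMap_bijective_of_isIntegral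
  let χ : ∀ Z, Γ(Y, ⊤) →ₗ[k] k := fun Z =>
    (LinearEquiv.ofBijective (Algebra.linearMap k (Γ(Y, ⊤) ⧸ P Z)) (hb Z)).symm.toLinearMap.comp
      (Ideal.Quotient.mkₐ k (P Z)).toLinearMap
  have hχ : ∀ Z a (r : k), χ Z a = r ↔ a - algebraMap k _ r ∈ P Z := fun Z a r => by
    show (LinearEquiv.ofBijective (Algebra.linearMap k (Γ(Y, ⊤) ⧸ P Z)) (hb Z)).symm (Ideal.Quotient.mk (P Z) a) = r ↔ _
    rw [LinearEquiv.symm_apply_eq, LinearEquiv.ofBijective_apply, Algebra.linearMap_apply,
      ← Ideal.Quotient.mk_algebraMap, Ideal.Quotient.mk_eq_mk_iff_sub_mem]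
  let Φ : Γ(Y, ⊤) →ₗ[k] (irreducibleComponents (Y : Type u) → k) := LinearMap.pi χ
  have hinj : Function.Injective Φ := by
    refine (injective_iff_map_eq_zero Φ).2 fun a ha => ?_
    rw [← basicOpen_eq_bot_iff]
    refine eq_bot_iff.2 fun y hy => ?_
    let Z : irreducibleComponents (Y : Type u) := ⟨_, irreducibleComponent_mem_irreducibleComponents y⟩
    have hs : ζ Z ⤳ y := specializes_iff_mem_closure.2 ((hζ Z).ge mem_irreducibleComponent)
    have hmem := hs.mem_open (Y.basicOpen a).2 hy
    have h0 : a - algebraMap k _ (0 : k) ∈ P Z := (hχ Z a 0).1 (congr_fun ha Z)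
    rw [map_zero, sub_zero, RingHom.mem_ker] at h0
    exact absurd hmem ((Y.evaluation_eq_zero_iff_notMem_basicOpen (U := ⊤) (ζ Z) trivial a).1 h0)
  have hsurj : Function.Surjective Φ := by
    intro v
    have hsingle : ∀ Z, ∃ e, Φ e = Pi.single Z 1 := by
      intro Z
      let W : Y.Opens := ⟨Z, NormY57.isOpen_component hY hlf Z.2⟩
      let C : Y.Opens := ⟨(Z : Set Y)ᶜ, (isClosed_of_mem_irreducibleComponents _ Z.2).isOpen_compl⟩
      obtain ⟨e, he1, he0⟩ := NormY57.exists_extend (⊤ : Y.Opens) W C le_top le_top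
        (fun z _ => (em (z ∈ (Z : Set Y))).elim (fun h => Or.inl h) (fun h => Or.inr h))
        (eq_bot_iff.2 fun z hz => (hz.2 hz.1).elim) 1
      refine ⟨e, funext fun Z' => (hχ Z' e _).2 ?_⟩
      rw [RingHom.mem_ker, map_sub, sub_eq_zero]
      by_cases h : Z' = Z
      · subst h
        rw [Pi.single_eq_same, map_one, map_one]
        show (Y.evaluation ⊤ (ζ Z') trivial).hom e = 1
        rw [Scheme.evaluation, CommRingCat.hom_comp, RingHom.comp_apply,
          ← TopCat.Presheaf.germ_res_apply Y.presheaf (homOfLE (le_top : W ≤ ⊤)) (ζ Z') (hζmem Z') e]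
        erw [he1]
        rw [map_one, map_one]
      · rw [Pi.single_eq_of_ne h, map_zero, map_zero]
        have hnot : ζ Z' ∈ C := fun hm => h (Subtype.ext (Set.Subset.antisymm
          ((hζ Z') ▸ closure_minimal (Set.singleton_subset_iff.2 hm) (isClosed_of_mem_irreducibleComponents _ Z.2))
          (Z'.2.2 Z.2.1 ((hζ Z') ▸ closure_minimal (Set.singleton_subset_iff.2 hm) (isClosed_of_mem_irreducibleComponents _ Z.2)))))
        show (Y.evaluation ⊤ (ζ Z') trivial).hom e = 0
        rw [Scheme.evaluation, CommRingCat.hom_comp, RingHom.comp_apply,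
          ← TopCat.Presheaf.germ_res_apply Y.presheaf (homOfLE (le_top : C ≤ ⊤)) (ζ Z') hnot e]
        erw [he0]
        rw [map_zero, map_zero]
    choose e he using hsingle
    have := Fintype.ofFinite (irreducibleComponents (Y : Type u))
    refine ⟨∑ Z, v Z • e Z, ?_⟩
    rw [map_sum]
    simp only [map_smul, he]
    ext Z'
    simp [Finset.sum_apply, Pi.single_apply]
  have := Fintype.ofFinite (irreducibleComponents (Y : Type u))
  rw [(LinearEquiv.ofBijective Φ ⟨hinj, hsurj⟩).finrank_eq, Module.finrank_pi, Nat.card_eq_fintype_card]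

end Groth.Agent.Crv77
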