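import Groth.Agent.Crv77.TwistSection

/-! Base points of invertible modules on proper curves. -/

set_option autoImplicit false
universe u

open CategoryTheory CategoryTheory.Limits AlgebraicGeometry TopologicalSpace Opposite

namespace Groth.Agent.Crv77

open Groth.Agent.Var76.LineBundle Groth.Agent.Var76.ZeroScheme

variable {X : Scheme.{u}}

/-- The reduced ideal of a closed point. -/
noncomputable abbrev ptIdeal {x : X} (hx : IsClosed ({x} : Set X)) : X.IdealSheafData :=
  Scheme.IdealSheafData.vanishingIdeal ⟨{x}, hx⟩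

theorem ptIdeal_support {x : X} (hx : IsClosed ({x} : Set X)) :
    ((ptIdeal hx).support : Set X) = {x} := Scheme.IdealSheafData.coe_support_vanishingIdeal _

theorem exists_isClosed_specializes [CompactSpace X] (x : X) :
    ∃ y : X, IsClosed ({y} : Set X) ∧ x ⤳ y := by
  obtain ⟨y, hy, hc⟩ := (isClosed_closure (s := ({x} : Set X))).exists_closed_singleton
    ⟨x, subset_closure rfl⟩
  exact ⟨y, hc, specializes_iff_mem_closure.2 hy⟩

theorem isGloballyGenerated_of_gen [CompactSpace X] {L : X.Modules} (hL : PicF.IsInvertible L)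
    (h : ∀ x : X, IsClosed ({x} : Set X) →
      ∃ t : Γ(L, ⊤), x ∈ CohB1.genLocus L (Var76.Frames.ofSection L t)) :
    Curv2.IsGloballyGenerated L := by
  refine Amp73.isGloballyGenerated_of_spanAt (Mero90.isQCoh_of_isInvertible hL) fun x => ?_
  obtain ⟨y, hy, hxy⟩ := exists_isClosed_specializes x
  obtain ⟨t, ht⟩ := h y hy
  obtain ⟨U, hU, hxU, hle⟩ := exists_isAffineOpen_mem_and_subset
    (hxy.mem_open (CohB1.genLocus L (Var76.Frames.ofSection L t)).2 ht)
  exact ⟨U, hxU, hU, Amp73.spanAt_of_le_genLocus _ hle⟩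

theorem valueAt_ne_zero {x : X} (hx : IsClosed ({x} : Set X)) {L : X.Modules}
    (hL : PicF.IsInvertible L) : valueAt (ptIdeal hx) L ≠ 0 := by
  intro h0
  obtain ⟨U, hxU, -, e, he⟩ := Mero90.exists_affine_frame hL x ⊤ trivial
  have h1 : (valueAt (ptIdeal hx) L).app U.1 ((1 : Γ(X, U.1)) • e) = 0 := by rw [h0]; rfl
  rw [valueAt_frame, ← Amp73.tm_zero_left e] at h1
  have h2 := Amp73.tm_frame_injective (L := ClSub.quotMod (ptIdeal hx)) he le_rfl
    ((ClSub.toSubscheme (ptIdeal hx)).app U.1 ((1 : Γ(X, U.1)) : Γ(Coh.structureModule X, U.1))) 0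
    (by rw [Amp73.res_self]; exact h1)
  refine (mem_vanishingIdeal_singleton_iff hx U.2 hxU (1 : Γ(X, U.1))).1
    ((toSubscheme_eq_zero_iff (ptIdeal hx) U.2 1).1 h2) ?_
  rw [X.basicOpen_of_isUnit isUnit_one]
  exact hxU

theorem exists_gen_of_isGloballyGenerated {L : X.Modules} (hL : PicF.IsInvertible L)
    (h : Curv2.IsGloballyGenerated L) {x : X} (hx : IsClosed ({x} : Set X)) :
    ∃ t : Γ(L, ⊤), x ∈ CohB1.genLocus L (Var76.Frames.ofSection L t) := by
  obtain ⟨ι, p, hp⟩ := h
  by_contra hcon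
  push Not at hcon
  refine valueAt_ne_zero hx hL ((cancel_epi p).1 ?_)
  refine Eq.trans ?_ comp_zero.symm
  let q : (SheafOfModules.free ι : X.Modules) ⟶ CohB1.tensorMod (ClSub.quotMod (ptIdeal hx)) L :=
    p ≫ valueAt (ptIdeal hx) L
  refine ((CohB1.tensorMod (ClSub.quotMod (ptIdeal hx)) L).freeHomEquiv).injective ?_
  funext i
  refine Subtype.ext (funext fun V => ?_)
  have hzero : ((CohB1.tensorMod (ClSub.quotMod (ptIdeal hx)) L).freeHomEquiv q i).1 (op ⊤) = 0 :=
    (valueAt_eq_zero_iff hx hL _).2 (hcon ((L.freeHomEquiv p i).1 (op ⊤)))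
  have h1 := ((CohB1.tensorMod (ClSub.quotMod (ptIdeal hx)) L).freeHomEquiv q i).2
    (homOfLE (le_top (a := V.unop))).op
  refine h1.symm.trans ((congrArg _ hzero).trans ?_)
  exact map_zero ((CohB1.tensorMod (ClSub.quotMod (ptIdeal hx)) L).presheaf.map
    (homOfLE (le_top (a := V.unop))).op).hom

variable {k : Type u} [Field k] [X.Over (Spec (CommRingCat.of k))]

namespace CurveCoh

variable (hX : CurveCoh k X)
include hX

theorem h0_le_add_point [IsLocallyNoetherian X] {x : X} (hx : IsClosed ({x} : Set X)) {L : X.Modules}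
    (hL : PicF.IsInvertible L) :
    Module.finrank k (Coh.HH X L 0) ≤
      Module.finrank k (Coh.HH X (CohB1.tensorMod (ClSub.idealMod (ptIdeal hx)) L) 0) +
        Module.finrank k (Coh.HH X (ClSub.quotMod (ptIdeal hx)) 0) := by
  obtain ⟨j, hj, hex⟩ := exists_point_seq (k := k) (ptIdeal hx) hL
  obtain ⟨e⟩ := (suppIn_quotMod (ptIdeal hx)).nonempty_iso_tensorMod (L := L)
    ((ptIdeal_support hx) ▸ Set.finite_singleton x)
    (fun y hy => by rw [ptIdeal_support hx, Set.mem_singleton_iff] at hy; exact hy ▸ hx) hL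
  have := hX.finite _ (isCoh_of_isInvertible hL) 0
  have := hX.finite _ (isCoh_quotMod (ptIdeal hx)) 0
  have := hX.finite _ (isCoh_tensorMod (isCoh_idealMod (ptIdeal hx)) (isCoh_of_isInvertible hL)) 0
  have hfin : Module.Finite k (Coh.HH X (CohB1.tensorMod (ClSub.quotMod (ptIdeal hx)) L) 0) :=
    Module.Finite.equiv (hEquiv k e 0)
  have := finrank_range_add_of_exact hex
  have a := LinearMap.finrank_range_le (hmap k j 0)
  have b := Submodule.finrank_le (LinearMap.range (hmap k (valueAt (ptIdeal hx) L) 0))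
  have c := (hEquiv k e 0).finrank_eq
  omega

omit hX in
theorem valueAt_hmap_eq_zero {x : X} (hx : IsClosed ({x} : Set X)) {L : X.Modules}
    (hL : PicF.IsInvertible L) (v : Coh.HH X L 0) :
    hmap k (valueAt (ptIdeal hx) L) 0 v = 0 ↔
      x ∉ CohB1.genLocus L (Var76.Frames.ofSection L (sec L v)) := by
  rw [← valueAt_eq_zero_iff hx hL, ← sec_hmap k]
  exact ⟨fun h => by rw [h, map_zero], fun h => (sec _).injective (h.trans (map_zero _).symm)⟩

theorem exists_gen_iff_h0_lt [IsLocallyNoetherian X] {x : X} (hx : IsClosed ({x} : Set X)) {L : X.Modules}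
    (hL : PicF.IsInvertible L) :
    (∃ t : Γ(L, ⊤), x ∈ CohB1.genLocus L (Var76.Frames.ofSection L t)) ↔
      Module.finrank k (Coh.HH X (CohB1.tensorMod (ClSub.idealMod (ptIdeal hx)) L) 0) <
        Module.finrank k (Coh.HH X L 0) := by
  obtain ⟨j, hj, hex⟩ := exists_point_seq (k := k) (ptIdeal hx) hL
  have := hX.finite _ (isCoh_of_isInvertible hL) 0
  have hr := LinearMap.finrank_range_of_inj hj
  constructor
  · rintro ⟨t, ht⟩
    rw [← hr]
    refine Submodule.finrank_lt fun htop => ?_
    have h0 : hmap k (valueAt (ptIdeal hx) L) 0 ((sec L).symm t) = 0 :=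
      (hex _).2 (htop.ge Submodule.mem_top)
    rw [valueAt_hmap_eq_zero hx hL, AddEquiv.apply_symm_apply] at h0
    exact h0 ht
  · intro hlt
    by_contra hcon
    push Not at hcon
    have htop : LinearMap.range (hmap k j 0) = ⊤ := eq_top_iff.2 fun v _ =>
      (hex v).1 ((valueAt_hmap_eq_zero hx hL v).2 (hcon _))
    rw [htop, finrank_top] at hr
    omega

/-- Invertible modules of degree at least `2g` are globally generated. -/
theorem isGloballyGenerated_of_deg [IsIntegral X] [IsNoetherian X] (hdim : topologicalKrullDim X = 1)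
    (h0 : Module.finrank k (Coh.HH X (Coh.structureModule X) 0) = 1)
    {L : X.Modules} (hL : PicF.IsInvertible L)
    (hdeg : 2 * (Curv2.genus k X : ℤ) ≤ Curv2.deg k X L 1) : Curv2.IsGloballyGenerated L := by
  refine isGloballyGenerated_of_gen hL fun x hx => (hX.exists_gen_iff_h0_lt hx hL).2 ?_
  by_contra hcon
  rw [not_lt] at hcon
  set I := ptIdeal hx
  obtain ⟨j, hj⟩ := exists_mono_idealMod_tensor I hL
  have hLc := isCoh_of_isInvertible hL
  have hF := isCoh_tensorMod (isCoh_idealMod I) hLc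
  have hS : (I.support : Set X).Finite := (ptIdeal_support hx) ▸ Set.finite_singleton x
  have hcl : ∀ y ∈ (I.support : Set X), IsClosed ({y} : Set X) := fun y hy => by
    rw [ptIdeal_support hx, Set.mem_singleton_iff] at hy; exact hy ▸ hx
  have e1 := hX.euler_idealMod_tensor I hS hcl hL hLc
  rw [hX.euler_eq hF, hX.euler_eq hLc] at e1
  have e2 := hX.riemann h0 hLc
  obtain ⟨j', hj', -⟩ := exists_point_seq (k := k) I hL
  have := hX.finite _ hLc 0
  have := hX.finite _ hF 1
  have hle := LinearMap.finrank_le_finrank_of_injective hj'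
  have hdz : 0 < Module.finrank k (Coh.HH X (ClSub.quotMod I) 0) := by
    have := hX.finite _ (isCoh_quotMod I) 0
    by_contra hz
    rw [not_lt, Nat.le_zero, Module.finrank_zero_iff] at hz
    have hzero := (suppIn_quotMod I).isZero hS hcl hz
    obtain ⟨e⟩ := (suppIn_quotMod I).nonempty_iso_tensorMod (L := L) hS hcl hL
    exact valueAt_ne_zero hx hL ((hzero.of_iso e.symm).eq_zero_of_tgt _)
  simp only [h] at e1 e2
  have h1pos : 0 < Module.finrank k (Coh.HH X (CohB1.tensorMod (ClSub.idealMod I) L) 1) := by omega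
  have hg := hX.h0_le_genus hdim.le hF hL j (Module.nontrivial_of_finrank_pos h1pos)
  omega

end CurveCoh

end Groth.Agent.Crv77
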