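import Groth.Agent.Mero90.Dense
import Groth.Agent.Mero90.MulDiv
import Groth.Agent.EGA73.Invertible
import Mathlib.AlgebraicGeometry.Noetherian

/-! Inverses of invertible modules on reduced Noetherian schemes. -/

set_option autoImplicit false
universe u

open CategoryTheory AlgebraicGeometry TopologicalSpace Opposite

namespace Groth.Agent.Crv77

open Groth.Agent.Var76.LineBundle

variable {X : Scheme.{u}}

theorem isIso_unitHom_of_isFrame {M : X.Modules} {e : Γ(M, ⊤)} (he : IsFrame M ⊤ e) :
    IsIso (EGA73.unitHom M e) := by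
  rw [Scheme.Modules.Hom.isIso_iff_isIso_app]
  intro V
  refine (ConcreteCategory.isIso_iff_bijective _).2 ?_
  rw [show ((EGA73.unitHom M e).app V : Γ(Coh.structureModule X, V) → Γ(M, V)) =
    fun c : Γ(X, V) => c • res M (le_top (a := V)) e from funext fun c => EGA73.unitHom_app M e V c]
  exact he V le_top

/-- `O(1) = O`. -/
theorem nonempty_divMod_one_iso : Nonempty (Mero.divMod (1 : Mero.Divisor X) ≅ Coh.structureModule X) := by
  let f : (Γ(Mero.kmod X, (⊤ : X.Opens)))ˣ := 1
  have hf : ∀ y : (⊤ : X.Opens), (1 : Mero.Divisor X).1 y.1 = Mero.germOf f y := fun y => by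
    show (1 : Mero.Germ X y.1) = _
    rw [Mero.germOf, map_one, QuotientGroup.mk_one]
  have := isIso_unitHom_of_isFrame (Mero90.isFrame_frameSec (1 : Mero.Divisor X) f hf)
  exact ⟨(asIso (EGA73.unitHom (Mero.divMod (1 : Mero.Divisor X)) (Mero90.frameSec (1 : Mero.Divisor X) f hf))).symm⟩

/-- On a reduced Noetherian scheme an invertible module has an inverse. -/
theorem exists_inverse [IsReduced X] [NoetherianSpace X] {L : X.Modules} (hL : PicF.IsInvertible L) :
    ∃ M : X.Modules, PicF.IsInvertible M ∧ Nonempty (CohB1.tensorMod L M ≅ Coh.structureModule X) := by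
  obtain ⟨s, hs⟩ := Mero90.hasRegularMero_of_isReduced
    (fun x => ⟨⊤, trivial, NoetherianSpace.finite_irreducibleComponents.subset fun Z hZ => hZ.1⟩) hL
  obtain ⟨D, hD⟩ := Mero90.exists_isDivOfMero hL s hs
  obtain ⟨φ, -⟩ := Mero90.exists_iso_divMod hL s hs D hD
  have := Mero90.isIso_mulPairing_lift φ (Iso.refl (Mero.divMod D⁻¹))
  obtain ⟨e⟩ := nonempty_divMod_one_iso (X := X)
  refine ⟨Mero.divMod D⁻¹, Mero90.isInvertible_divMod _, ⟨?_⟩⟩
  exact asIso (Mero90.mulPairing φ.hom (Iso.refl (Mero.divMod D⁻¹)).hom).lift ≪≫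
    eqToIso (congrArg Mero.divMod (mul_inv_cancel D)) ≪≫ e

end Groth.Agent.Crv77
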