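import Groth.Agent.Crv77.P1Deg
import Groth.Agent.Crv77.InvMod
import Groth.Agent.Props58.Comp
import Groth.Agent.Curves2.IdealFrame
import Groth.Agent.Div89.UFD
import Groth.Agent.Curves2.CurveMaps
import Groth.Agent.Coh69.AffinePush
import Groth.Agent.Pn71.Cohomology
import Groth.Agent.EGA73.TwistInvertible
import Groth.Agent.ValVan29.Vanish

/-! The invertible module of a rational point of a normal curve. -/

set_option autoImplicit false
set_option linter.style.haveILetI false
universe u

open CategoryTheory CategoryTheory.Limits AlgebraicGeometry TopologicalSpace Opposite IsLocalRing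

namespace Groth.Agent.Crv77

variable {X : Scheme.{u}} (k : Type u) [Field k] [X.Over (Spec (CommRingCat.of k))]

attribute [local instance] Curv2.resAlgebra

/-- The point of a section is closed, with residue field `k`. -/
theorem section_point [IsSeparated (X ↘ Spec (CommRingCat.of k))]
    (x : Spec (CommRingCat.of k) ⟶ X) (hx : x ≫ X ↘ Spec (CommRingCat.of k) = 𝟙 _) :
    ∃ hc : IsClosed ({x (closedPoint k)} : Set X), x.ker = ptIdeal hc ∧
      Module.finrank k (X.residueField (x (closedPoint k))) = 1 := by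
  have : IsClosedImmersion x := isClosedImmersion_of_comp_eq_id _ _ hx
  let c := x (closedPoint k)
  have hr : Set.range x = {c} := Set.ext fun y =>
    ⟨fun ⟨p, hp⟩ => hp.symm.trans (congrArg x (Subsingleton.elim (α := Spec (CommRingCat.of k)) p (closedPoint k))),
      fun hy => ⟨closedPoint k, hy.symm⟩⟩
  have hc : IsClosed ({c} : Set X) := hr ▸ x.isClosedEmbedding.isClosed_range
  refine ⟨hc, ?_, ?_⟩
  · rw [← Scheme.IdealSheafData.map_bot, ← Scheme.nilradical_eq_bot, ← Scheme.IdealSheafData.vanishingIdeal_top,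
      Scheme.IdealSheafData.map_vanishingIdeal]
    congr 1
    apply TopologicalSpace.Closeds.ext
    show closure (x '' Set.univ) = {c}
    rw [Set.image_univ, hr, hc.closure_eq]
  · let f := Scheme.stalkClosedPointTo x
    have hf : CommRingCat.ofHom (Curv2.stalkMap k X c) ≫ f = 𝟙 _ := by
      apply Spec.map_injective
      rw [Spec.map_comp, VarGal.SpecMap_curvStalkMap, Spec.map_id, ← Category.assoc]
      exact (congrArg (· ≫ _) (Scheme.Spec_stalkClosedPointTo_fromSpecStalk x)).trans hx
    have hloc : IsLocalHom f.hom := inferInstanceAs (IsLocalHom (Scheme.stalkClosedPointTo x).hom)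
    have hsurj : Function.Surjective (Curv2.resMap k X c) := by
      intro w
      obtain ⟨a, rfl⟩ := X.residue_surjective c w
      refine ⟨f.hom a, ?_⟩
      show X.residue c (Curv2.stalkMap k X c (f.hom a)) = X.residue c a
      rw [← sub_eq_zero, ← map_sub]
      refine (IsLocalRing.residue_eq_zero_iff _).2 ((IsLocalRing.mem_maximalIdeal _).2 fun hu => ?_)
      refine (hu.map f.hom).ne_zero ?_
      rw [map_sub, sub_eq_zero]
      exact congr($hf (f.hom a))
    rw [← Module.finrank_self k]
    exact (LinearEquiv.ofBijective (Algebra.linearMap k (X.residueField c))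
      ⟨(Curv2.resMap k X c).injective, hsurj⟩).finrank_eq.symm

variable [IsIntegral X]

/-- The ideal of a closed point of a normal curve is invertible. -/
theorem isInvertible_idealMod_point [IsLocallyNoetherian X] (hdim : topologicalKrullDim X = 1)
    {c : X} (hc : IsClosed ({c} : Set X)) [IsIntegrallyClosed (X.presheaf.stalk c)] :
    PicF.IsInvertible (ClSub.idealMod (ptIdeal hc)) := by
  rw [Curves2.isInvertible_idealMod_iff]
  obtain ⟨hpir, -⟩ := valuationRing_stalk hdim.le c
  refine Div89.isEffCartier_of_radical_codim_one_ufd _ (fun U => ?_) (fun z hz _ => ?_) fun z hz => ?_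
  · rw [Scheme.IdealSheafData.vanishingIdeal_ideal]
    exact PrimeSpectrum.isRadical_vanishingIdeal _
  · obtain rfl : z = c := (ptIdeal_support hc).le hz
    have : Ring.KrullDimLE 1 (X.presheaf.stalk z) :=
      Ring.krullDimLE_iff.mpr (by simpa using (stalk_dim_le z).trans hdim.le)
    refine le_antisymm (Ring.krullDimLE_iff.mp this) (not_lt.1 fun hlt => ?_)
    have h0 : ringKrullDim (X.presheaf.stalk z) ≤ 0 := by
      revert hlt
      cases ringKrullDim (X.presheaf.stalk z) using WithBot.recBotCoe with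
      | bot => intro _; exact bot_le
      | coe a => simp [ENat.lt_one_iff_eq_zero]
    have hne := Curves2.maximalIdeal_stalk_ne_bot (hdim ▸ zero_lt_one) z hc
    have : Ring.KrullDimLE 0 (X.presheaf.stalk z) := Ring.krullDimLE_iff.mpr h0
    exact hne (IsLocalRing.isField_iff_maximalIdeal_eq.mp
      (Ring.KrullDimLE.isField_of_isDomain (R := X.presheaf.stalk z)))
  · obtain rfl : z = c := (ptIdeal_support hc).le hz
    exact ⟨inferInstance, inferInstance⟩

/-- The invertible module of a rational point. -/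
theorem exists_invertible_of_point [IsProper (X ↘ Spec (CommRingCat.of k))]
    (hdim : topologicalKrullDim X = 1) {c : X} (hc : IsClosed ({c} : Set X))
    [IsIntegrallyClosed (X.presheaf.stalk c)] (hk : Module.finrank k (X.residueField c) = 1) :
    ∃ L : X.Modules, PicF.IsInvertible L ∧ Curv2.deg k X L 1 = 1 ∧
      Nonempty (CohB1.tensorMod (ClSub.idealMod (ptIdeal hc)) L ≅ Coh.structureModule X) := by
  have := isNoetherian_of_proper k X
  have hX := curveCoh_of_proper k X hdim.le
  obtain ⟨L, hL, ⟨e⟩⟩ := exists_inverse (isInvertible_idealMod_point hdim hc)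
  refine ⟨L, hL, ?_, ⟨e⟩⟩
  have hLc := isCoh_of_isInvertible hL
  have h := hX.euler_idealMod_tensor (ptIdeal hc) ((ptIdeal_support hc) ▸ Set.finite_singleton c)
    (fun y hy => by rw [ptIdeal_support hc, Set.mem_singleton_iff] at hy; exact hy ▸ hc) hL hLc
  rw [euler_congr (k := k) e] at h
  simp only [Crv77.h] at h
  rw [finrank_quot_point k hc, hk] at h
  simp only [Curv2.deg, Nat.cast_one, one_mul]
  omega

omit [IsIntegral X] in
/-- The first cohomology of the structure sheaf of a scheme isomorphic to the line vanishes. -/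
theorem subsingleton_h1_of_iso_projLine (e : X ≅ CohB1.ProjSpace 1 k) :
    Subsingleton (Coh.HH X (Coh.structureModule X) 1) := by
  let φ := ClSub.unitToPush e.hom
  have : IsIso φ := by
    rw [Scheme.Modules.Hom.isIso_iff_isIso_app]
    intro U
    rw [ConcreteCategory.isIso_iff_bijective]
    exact ConcreteCategory.bijective_of_isIso (e.hom.app U)
  have h := Pn71.subsingleton_hh 1 k 0 1 (fun h => one_ne_zero h.1) (fun h => by simp at h)
  obtain ⟨e0⟩ : Nonempty (Twist.twistProjSpace 1 k 0 ≅ Coh.structureModule (CohB1.ProjSpace 1 k)) :=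
    EGA73.nonempty_twist_zero_iso
  obtain ⟨f⟩ := Coh69.nonempty_hh_push e.hom (Coh.structureModule X) 1
  have h2 : Subsingleton (Coh.HH (CohB1.ProjSpace 1 k) ((Coh.push e.hom).obj (Coh.structureModule X)) 1) :=
    ValVan29.subsingleton_hh_of_iso (e0 ≪≫ asIso φ) 1 h
  exact f.toEquiv.subsingleton

/-- A rational point of the line. -/
noncomputable def linePoint : Spec (CommRingCat.of k) ⟶ CohB1.ProjSpace 1 k :=
  Spec.map (CommRingCat.ofHom ((Polynomial.evalRingHom (0 : k)).comp
      (RingEquiv.ofBijective (Curves2.ProjLine.ψ₀ k) (Curves2.ProjLine.ψ₀_bijective k)).symm.toRingHom)) ≫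
    (Var76.ProjCoord.isAffineOpen_U k 1 0).fromSpec

theorem linePoint_comp : linePoint k ≫ CohB1.ProjSpace.toSpec 1 k = 𝟙 _ := by
  show (Spec.map _ ≫ _) ≫ (CohB1.ProjSpace 1 k ↘ Spec (CommRingCat.of k)) = _
  rw [Category.assoc, ← Var76.BertiniScheme.SpecMap_const (Var76.ProjCoord.isAffineOpen_U k 1 0), ← Spec.map_comp,
    ← Spec.map_id]
  congr 1
  ext r
  show Polynomial.eval 0 ((RingEquiv.ofBijective (Curves2.ProjLine.ψ₀ k) (Curves2.ProjLine.ψ₀_bijective k)).symm
    (Var76.BertiniScheme.const (k := k) (CohB1.ProjSpace 1 k) _ r)) = r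
  rw [← Curves2.ProjLine.ψ₀_C, show Curves2.ProjLine.ψ₀ k (Polynomial.C r) =
    (RingEquiv.ofBijective (Curves2.ProjLine.ψ₀ k) (Curves2.ProjLine.ψ₀_bijective k)) (Polynomial.C r) from rfl,
    RingEquiv.symm_apply_apply, Polynomial.eval_C]

omit [X.Over (Spec (CommRingCat.of k))] in
theorem isFrame_unit_smul {L : X.Modules} {U : X.Opens} {e : Γ(L, U)} (he : Var76.LineBundle.IsFrame L U e)
    {a : Γ(X, U)} (ha : IsUnit a) : Var76.LineBundle.IsFrame L U (a • e) := by
  intro V hV
  have hu : IsUnit (X.presheaf.map (homOfLE hV).op a) := ha.map (X.presheaf.map (homOfLE hV).op).hom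
  have : (fun b : Γ(X, V) => b • Var76.LineBundle.res L hV (a • e)) =
      (fun b : Γ(X, V) => b • Var76.LineBundle.res L hV e) ∘ (fun b => b * X.presheaf.map (homOfLE hV).op a) := by
    funext b
    rw [Var76.LineBundle.res_smul, Function.comp_apply, mul_smul]
  rw [this]
  refine (he V hV).comp ⟨hu.mul_left_injective, fun b => ⟨b * ↑hu.unit⁻¹, ?_⟩⟩
  change b * ↑hu.unit⁻¹ * _ = b
  rw [mul_assoc, IsUnit.val_inv_mul, mul_one]

theorem mem_genLocus_smul {L : X.Modules} {v : Coh.HH X L 0} {r : k} (hr : r ≠ 0) {x : X}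
    (hx : x ∈ CohB1.genLocus L (toHom v)) : x ∈ CohB1.genLocus L (toHom (r • v)) := by
  have hv : ∀ (w : Coh.HH X L 0) (U : X.Opens), Var76.ZeroScheme.val L (toHom w) U =
      Var76.LineBundle.res L (le_top : U ≤ ⊤) (sec L w) := fun w U => by
    rw [← toHom_app_one, ← Var76.ZeroScheme.res_val L _ (le_top : U ≤ ⊤)]
    rfl
  obtain ⟨U, hxU, hU⟩ := Amp73.mem_genLocus_iff.1 hx
  refine Amp73.mem_genLocus_iff.2 ⟨U, hxU, ?_⟩
  rw [hv] at hU ⊢
  rw [sec_smul k L r v, Var76.LineBundle.res_smul]
  refine isFrame_unit_smul hU ?_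
  exact (((IsUnit.mk0 r hr).map (Coh.toGlobal (X ↘ Spec (CommRingCat.of k)))).map
    (X.presheaf.map (homOfLE (le_top : U ≤ ⊤)).op).hom)

omit [IsIntegral X] in
/-- Sections with the same kernel agree. -/
theorem section_ext [IsSeparated (X ↘ Spec (CommRingCat.of k))] (x y : Spec (CommRingCat.of k) ⟶ X)
    (hx : x ≫ X ↘ Spec (CommRingCat.of k) = 𝟙 _) (hy : y ≫ X ↘ Spec (CommRingCat.of k) = 𝟙 _)
    (h : x.ker = y.ker) : x = y := by
  have : IsClosedImmersion y := isClosedImmersion_of_comp_eq_id _ _ hy
  let g := IsClosedImmersion.lift y x h.ge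
  have hg : g ≫ y = x := IsClosedImmersion.lift_fac _ _ _
  have : g = 𝟙 _ := by
    calc g = g ≫ (y ≫ X ↘ Spec (CommRingCat.of k)) := by rw [hy, Category.comp_id]
      _ = x ≫ X ↘ Spec (CommRingCat.of k) := by rw [← Category.assoc, hg]
      _ = 𝟙 _ := hx
  rw [← hg, this, Category.id_comp]

/-- A connected Noetherian normal scheme is integral. -/
theorem isIntegral_of_connected_normal {C : Scheme.{u}} [IsNoetherian C] [ConnectedSpace C]
    (hN : Pi1.IsNormalScheme C) : IsIntegral C := by
  obtain ⟨y⟩ : Nonempty C := inferInstance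
  have hfin : (irreducibleComponents (C : Type u)).Finite := NoetherianSpace.finite_irreducibleComponents
  let Z := irreducibleComponent y
  have hZ : Z ∈ irreducibleComponents (C : Type u) := irreducibleComponent_mem_irreducibleComponents y
  have hopen : IsOpen Z := by
    have : Zᶜ = ⋃₀ (irreducibleComponents (C : Type u) \ {Z}) := by
      refine Set.Subset.antisymm (fun x hx => ⟨_, ⟨irreducibleComponent_mem_irreducibleComponents x,
        fun h => hx (h ▸ mem_irreducibleComponent)⟩, mem_irreducibleComponent⟩) ?_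
      rintro x ⟨Z', ⟨hZ', hne⟩, hx⟩ hxZ
      exact hne (Props58.eq_of_isDomain_stalk x (hN x).1 Z' hZ' Z hZ hx hxZ)
    rw [← isClosed_compl_iff, this, Set.sUnion_eq_biUnion]
    exact (hfin.subset Set.sdiff_subset).isClosed_biUnion
      fun Z' hZ' => isClosed_of_mem_irreducibleComponents Z' hZ'.1
  have hu : Z = Set.univ :=
    (IsClopen.eq_univ ⟨isClosed_irreducibleComponent, hopen⟩ ⟨y, mem_irreducibleComponent⟩)
  have : IrreducibleSpace C := by
    rw [irreducibleSpace_def, Set.top_eq_univ, ← hu]
    exact hZ.1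
  have (x : C) : _root_.IsReduced (C.presheaf.stalk x) :=
    have := (hN x).1
    inferInstance
  have := isReduced_of_isReduced_stalk C
  exact isIntegral_of_irreducibleSpace_of_isReduced C

end Groth.Agent.Crv77
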