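import Groth.Agent.Crv77.HH
import Groth.Prelude.Def_CurvBase
import Mathlib.LinearAlgebra.Dimension.Finite
import Mathlib.LinearAlgebra.FiniteDimensional.Lemmas

/-! Euler characteristics: additivity in short exact sequences. -/

set_option autoImplicit false
universe u

open CategoryTheory AlgebraicGeometry

namespace Groth.Agent.Crv77

variable (k : Type u) [Field k] {X : Scheme.{u}} [X.Over (Spec (CommRingCat.of k))]

/-- Finite cohomology, vanishing from degree `d` on. -/
structure FinBdd (M : X.Modules) (d : ℕ) : Prop where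
  finite : ∀ n, Module.Finite k (Coh.HH X M n)
  vanish : ∀ n, d ≤ n → Subsingleton (Coh.HH X M n)

variable {k}

theorem FinBdd.mono {M : X.Modules} {d e : ℕ} (h : FinBdd k M d) (hde : d ≤ e) : FinBdd k M e :=
  ⟨h.finite, fun n hn => h.vanish n (hde.trans hn)⟩

theorem FinBdd.finrank_eq_zero {M : X.Modules} {d n : ℕ} (h : FinBdd k M d) (hn : d ≤ n) :
    Module.finrank k (Coh.HH X M n) = 0 := by
  have := h.vanish n hn
  exact Module.finrank_zero_of_subsingleton

theorem FinBdd.euler_eq {M : X.Modules} {d : ℕ} (h : FinBdd k M d) :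
    Curv2.euler k X M =
      ∑ i ∈ Finset.range d, (-1 : ℤ) ^ i * (Module.finrank k (Coh.HH X M i) : ℤ) := by
  refine finsum_eq_sum_of_support_subset _ fun i hi => ?_
  rw [Function.mem_support] at hi
  rw [Finset.coe_range, Set.mem_Iio]
  by_contra hd
  exact hi (by rw [h.finrank_eq_zero (not_lt.1 hd)]; simp)

/-- The rank of a linear map and of its successor in an exact sequence. -/
theorem finrank_range_add_of_exact {U V W : Type*} [AddCommGroup U] [Module k U] [AddCommGroup V]
    [Module k V] [AddCommGroup W] [Module k W] [FiniteDimensional k V] {f : U →ₗ[k] V} {g : V →ₗ[k] W}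
    (h : Function.Exact f g) :
    Module.finrank k (LinearMap.range f) + Module.finrank k (LinearMap.range g) = Module.finrank k V := by
  rw [← LinearMap.exact_iff.1 h, add_comm, g.finrank_range_add_finrank_ker]

theorem telescope (T : ℕ → ℤ) (d : ℕ) :
    ∑ i ∈ Finset.range d, (-1 : ℤ) ^ i * (T i + T (i + 1)) = T 0 - (-1 : ℤ) ^ d * T d := by
  induction d with
  | zero => simp
  | succ d ih => rw [Finset.sum_range_succ, ih, pow_succ]; ring

/-- Additivity of the Euler characteristic. -/
theorem euler_add {S : ShortComplex X.Modules} (hS : S.ShortExact) {d : ℕ}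
    (h₁ : FinBdd k S.X₁ d) (h₂ : FinBdd k S.X₂ d) (h₃ : FinBdd k S.X₃ d) :
    Curv2.euler k X S.X₂ = Curv2.euler k X S.X₁ + Curv2.euler k X S.X₃ := by
  have := h₁.finite; have := h₂.finite; have := h₃.finite
  let T : ℕ → ℤ
    | 0 => 0
    | n + 1 => Module.finrank k (LinearMap.range (hδ k hS n))
  have e₂ : ∀ i, Module.finrank k (LinearMap.range (hmap k S.f i)) +
      Module.finrank k (LinearMap.range (hmap k S.g i)) = Module.finrank k (Coh.HH X S.X₂ i) :=
    fun i => finrank_range_add_of_exact (exact_f_g k hS i)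
  have e₃ : ∀ i, Module.finrank k (LinearMap.range (hmap k S.g i)) +
      Module.finrank k (LinearMap.range (hδ k hS i)) = Module.finrank k (Coh.HH X S.X₃ i) :=
    fun i => finrank_range_add_of_exact (exact_g_δ k hS i)
  have e₁ : ∀ i, T i + Module.finrank k (LinearMap.range (hmap k S.f i)) =
      Module.finrank k (Coh.HH X S.X₁ i) := by
    intro i
    cases i with
    | zero =>
      simp only [T, zero_add, Nat.cast_inj]
      exact LinearMap.finrank_range_of_inj (injective_f_zero k hS)
    | succ n =>
      simp only [T]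
      exact_mod_cast finrank_range_add_of_exact (exact_δ_f k hS n)
  have key : ∀ i, (-1 : ℤ) ^ i * (Module.finrank k (Coh.HH X S.X₁ i) : ℤ) +
      (-1 : ℤ) ^ i * (Module.finrank k (Coh.HH X S.X₃ i) : ℤ) -
      (-1 : ℤ) ^ i * (Module.finrank k (Coh.HH X S.X₂ i) : ℤ) = (-1 : ℤ) ^ i * (T i + T (i + 1)) := by
    intro i
    rw [← e₁ i, ← e₂ i, ← e₃ i]
    simp only [T]
    push_cast
    ring
  have hT : T d = 0 := by
    cases d with
    | zero => rfl
    | succ n =>
      have := h₁.vanish (n + 1) le_rfl
      simp only [T, Nat.cast_eq_zero]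
      exact Nat.le_zero.1 ((Submodule.finrank_le _).trans_eq Module.finrank_zero_of_subsingleton)
  have hsum := Finset.sum_congr (rfl : Finset.range d = Finset.range d) fun i _ => key i
  rw [telescope, Finset.sum_sub_distrib, Finset.sum_add_distrib, hT] at hsum
  rw [h₁.euler_eq, h₂.euler_eq, h₃.euler_eq]
  have h0 : T 0 = 0 := rfl
  rw [h0] at hsum
  linarith

/-- Isomorphic modules have the same Euler characteristic. -/
theorem euler_congr {M N : X.Modules} (e : M ≅ N) : Curv2.euler k X M = Curv2.euler k X N :=
  finsum_congr fun i => by rw [(hEquiv k e i).finrank_eq]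

end Groth.Agent.Crv77
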