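import Groth.Agent.Var76.RegPow
import Groth.Agent.An92.Lef.HypIdeal
import Groth.Agent.Curves2.IdealFrame
import Groth.Agent.Amp73.Gen
import Groth.Agent.Crv77.IdealSeq
import Groth.Agent.Crv77.HH
import Groth.Agent.Pn71.Cohomology
import Groth.Agent.Var76.MumLevel
import Groth.Agent.Var76.HHPush
import Groth.Agent.Crv77.Sections
import Groth.Agent.Crv77.Degree
import Groth.Agent.QC70.PushClosed
import Groth.Agent.Curves2.ProjLineProper

/-! The ideal of a hypersurface of degree `d` of projective space is `O(-d)`. -/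

universe u

open CategoryTheory CategoryTheory.Limits AlgebraicGeometry Opposite TopologicalSpace

noncomputable section

set_option backward.isDefEq.respectTransparency false

namespace Groth.Agent.Crv77

open Var76 Var76.Reg Var76.LineBundle
open scoped nonZeroDivisors

variable {k : Type u} [Field k] {r : ℕ}

/-- The dehomogenisation as a function on the coordinate open. -/
def dh {d : ℕ} (G : LefPen.Form r k d) (l : Fin (r + 1)) : Γ(CohB1.ProjSpace r k, xOpen r k l) :=
  LefPen.dehom G l

theorem res_globalOf {d : ℕ} (G : LefPen.Form r k d) (l : Fin (r + 1)) :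
    res (Twist.twistProjSpace r k (d : ℤ)) (le_top : xOpen r k l ≤ ⊤)
        (Twist.globalOf (CohB1.polyGrading r k) G) = dh G l • pSec (k := k) l (d : ℤ) le_rfl := by
  refine sectN_ext fun x => ?_
  refine Eq.trans ?_ (Twist.coe_smul_val (d : ℤ) x.1 _ _).symm
  have h3 : (((gUnit (xVar r k l) (d : ℤ)).fwd).1 ⟨x.1, x.2⟩).1 =
      Localization.mk ((MvPolynomial.X l : MvPolynomial (Fin (r + 1)) k) ^ ((d : ℤ)).toNat)
        (⟨(MvPolynomial.X l) ^ (-(d : ℤ)).toNat, EGA73.pow_notMem x.2 _⟩ :
          x.1.asHomogeneousIdeal.toIdeal.primeCompl) := by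
    simp only [gUnit]
    erw [EGA73.castTwist_apply]
    rfl
  refine Eq.trans ?_ (congrArg (_ * ·) h3).symm
  have h2 : HomogeneousLocalization.val ((dh G l).1 x) =
      Localization.mk G.1 (⟨(MvPolynomial.X l) ^ d, EGA73.pow_notMem x.2 _⟩ :
          x.1.asHomogeneousIdeal.toIdeal.primeCompl) := rfl
  refine Eq.trans ?_ (congrArg (· * _) h2).symm
  show Localization.mk G.1 _ = _
  rw [Localization.mk_mul, Localization.mk_eq_mk_iff, Localization.r_iff_exists]
  refine ⟨1, ?_⟩
  simp
  ring

theorem dehom_mem_nonZeroDivisors {d : ℕ} (G : LefPen.Form r k d) (hG : G ≠ 0) (l : Fin (r + 1)) :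
    LefPen.dehom G l ∈ Γ(CohB1.ProjSpace r k, LefPen.chart r k l)⁰ := by
  let 𝒜 := CohB1.polyGrading r k
  let f : MvPolynomial (Fin (r + 1)) k := MvPolynomial.X l
  have hf : f ≠ 0 := MvPolynomial.X_ne_zero l
  have hp : Submonoid.powers f ≤ (MvPolynomial (Fin (r + 1)) k)⁰ :=
    powers_le_nonZeroDivisors_of_noZeroDivisors hf
  have : IsDomain (Localization.Away f) := IsLocalization.isDomain_localization hp
  have hbij : Function.Bijective (Proj.awayToSection 𝒜 f).hom :=
    ConcreteCategory.bijective_of_isIso (Proj.basicOpenIsoAway 𝒜 f (LefPen.X_mem r k l) one_pos).hom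
  have hval : (HomogeneousLocalization.Away.mk 𝒜 (LefPen.X_mem r k l) d G.1
      (by rw [smul_eq_mul, mul_one]; exact G.2)).val ≠ 0 := by
    rw [HomogeneousLocalization.Away.val_mk, Localization.mk_eq_mk']
    intro h
    obtain ⟨c, hc⟩ := (IsLocalization.mk'_eq_zero_iff _ _).1 h
    rcases mul_eq_zero.1 hc with hc | hc
    · exact (nonZeroDivisors.ne_zero (hp c.2)) hc
    · exact hG (Subtype.ext hc)
  refine mem_nonZeroDivisors_iff_right.2 fun a ha => ?_
  obtain ⟨a, rfl⟩ := hbij.2 a
  rw [LefPen.dehom] at ha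
  erw [← map_mul] at ha
  have h0 := congrArg HomogeneousLocalization.val (hbij.1 (ha.trans (map_zero _).symm))
  rw [HomogeneousLocalization.val_mul, HomogeneousLocalization.val_zero] at h0
  have : a = 0 := HomogeneousLocalization.val_injective _
    ((mul_eq_zero.1 h0).resolve_right hval |>.trans HomogeneousLocalization.val_zero.symm)
  rw [this, map_zero]

theorem dh_mem_nonZeroDivisors {d : ℕ} (G : LefPen.Form r k d) (hG : G ≠ 0) (l : Fin (r + 1)) :
    dh G l ∈ Γ(CohB1.ProjSpace r k, xOpen r k l)⁰ :=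
  dehom_mem_nonZeroDivisors G hG l

theorem ideal_xOpen {d : ℕ} (G : LefPen.Form r k d) (l : Fin (r + 1)) :
    (LefPen.hypIdeal G).ideal ⟨xOpen r k l, isAffineOpen_xOpen r k l⟩ = Ideal.span {dh G l} :=
  An92.Lef.hypIdeal_chart G l

/-- `O(-d) ≅ I` for the ideal `I` of a hypersurface of degree `d`. -/
theorem nonempty_twist_iso_hypIdeal {d : ℕ} (G : LefPen.Form r k d) (hG : G ≠ 0) :
    Nonempty (Twist.twistProjSpace r k (-(d : ℤ)) ≅ ClSub.idealMod (LefPen.hypIdeal G)) := by
  obtain ⟨e0⟩ := nonempty_twist_zero (n := r) (A := k)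
  let I := LefPen.hypIdeal G
  let φ : Twist.twistProjSpace r k (-(d : ℤ)) ⟶ Coh.structureModule (CohB1.ProjSpace r k) :=
    mulSec (Twist.globalOf (CohB1.polyGrading r k) G) (show (0 : ℤ) = -(d : ℤ) + d by ring) ≫ e0.hom
  -- the value of `φ` on the frame
  have key : ∀ l : Fin (r + 1), ∃ u : Γ(CohB1.ProjSpace r k, xOpen r k l), IsUnit u ∧
      OmegaSh.fnSect _ _ (φ.app (xOpen r k l) (pSec l (-(d : ℤ)) le_rfl)) = dh G l * u := by
    intro l
    refine ⟨OmegaSh.fnSect _ _ (e0.hom.app (xOpen r k l) (pSec l 0 le_rfl)), ?_, ?_⟩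
    · have hb : Function.Bijective (e0.hom.app (xOpen r k l)) :=
        ConcreteCategory.bijective_of_isIso (e0.hom.app (xOpen r k l))
      obtain ⟨z, hz⟩ := hb.2 ((1 : Γ(CohB1.ProjSpace r k, xOpen r k l)) :
        Γ(Coh.structureModule (CohB1.ProjSpace r k), xOpen r k l))
      obtain ⟨a, rfl⟩ := (isFrame_pSec (k := k) l 0 (xOpen r k l) le_rfl).2 z
      refine IsUnit.of_mul_eq_one a ?_
      have h1 : a • (e0.hom.app (xOpen r k l)) (pSec l 0 le_rfl) =
          ((1 : Γ(CohB1.ProjSpace r k, xOpen r k l)) :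
            Γ(Coh.structureModule (CohB1.ProjSpace r k), xOpen r k l)) := by
        rw [← Scheme.Modules.Hom.app_smul]
        rw [res_pSec] at hz
        exact hz
      rw [mul_comm]
      exact h1
    · have h := mulSec_gSec (𝒜 := CohB1.polyGrading r k) (xVar r k l)
        (Twist.globalOf (CohB1.polyGrading r k) G) (show (0 : ℤ) = -(d : ℤ) + d by ring)
        (V := xOpen r k l) le_rfl (res_globalOf G l)
      have h2 : φ.app (xOpen r k l) (pSec l (-(d : ℤ)) le_rfl) =
          dh G l • e0.hom.app (xOpen r k l) (pSec l 0 le_rfl) :=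
        (congrArg (e0.hom.app (xOpen r k l)) h).trans (Scheme.Modules.Hom.app_smul _ _ _)
      exact (congrArg (OmegaSh.fnSect _ _) h2).trans rfl
  -- the image is killed by the restriction to the hypersurface
  have hmem : ∀ l : Fin (r + 1), ∃ m : Γ(ClSub.idealMod I, xOpen r k l),
      (ClSub.idealModι I).app (xOpen r k l) m = φ.app (xOpen r k l) (pSec l (-(d : ℤ)) le_rfl) := by
    intro l
    obtain ⟨u, -, hu⟩ := key l
    have hI : dh G l * u ∈ I.ideal ⟨xOpen r k l, isAffineOpen_xOpen r k l⟩ := by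
      rw [ideal_xOpen]
      exact Ideal.mul_mem_right _ _ (Ideal.mem_span_singleton_self _)
    obtain ⟨m, hm⟩ := Curves2.exists_idealSect_of_mem I ⟨xOpen r k l, isAffineOpen_xOpen r k l⟩ hI
    exact ⟨m, hm.trans hu.symm⟩
  have hφ : φ ≫ ClSub.toSubscheme I = 0 := by
    refine Scheme.Modules.hom_ext _ _ fun W => ?_
    ext z
    refine QC70.section_ext _ _ _ fun q hq => ?_
    obtain ⟨l, hl⟩ := exists_mem_xOpen r k q
    refine ⟨W ⊓ xOpen r k l, inf_le_left, ⟨hq, hl⟩, ?_⟩
    refine (QC70.app_res (φ ≫ ClSub.toSubscheme I) inf_le_left z).symm.trans ?_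
    refine Eq.trans ?_ (map_zero _).symm
    obtain ⟨a, ha⟩ := (isFrame_pSec (k := k) l (-(d : ℤ)) (W ⊓ xOpen r k l) inf_le_right).2
      (res (Twist.twistProjSpace r k (-(d : ℤ))) inf_le_left z)
    have h0 : (φ ≫ ClSub.toSubscheme I).app (xOpen r k l) (pSec l (-(d : ℤ)) le_rfl) = 0 := by
      obtain ⟨m, hm⟩ := hmem l
      refine (congrArg ((ClSub.toSubscheme I).app (xOpen r k l)) hm.symm).trans ?_
      exact congr((Scheme.Modules.Hom.app $(kernel.condition (ClSub.toSubscheme I)) (xOpen r k l)) m)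
    refine (congrArg _ ha.symm).trans ((Scheme.Modules.Hom.app_smul _ _ _).trans ?_)
    erw [QC70.app_res (φ ≫ ClSub.toSubscheme I), h0]
    exact (congrArg (a • ·) (map_zero _)).trans (smul_zero a)
  let lam : Twist.twistProjSpace r k (-(d : ℤ)) ⟶ ClSub.idealMod I := kernel.lift _ φ hφ
  have : IsIso lam := by
    refine Amp73.isIso_of_frames lam fun x => ?_
    obtain ⟨l, hl⟩ := exists_mem_xOpen r k x
    refine ⟨xOpen r k l, pSec l (-(d : ℤ)) le_rfl, hl, isFrame_pSec l _, ?_⟩
    obtain ⟨u, hu, hu'⟩ := key l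
    refine Curves2.isFrame_of_span I ⟨xOpen r k l, isAffineOpen_xOpen r k l⟩
      (f := dh G l * u) (mul_mem (dh_mem_nonZeroDivisors G hG l) hu.mem_nonZeroDivisors) ?_ _ ?_
    · rw [ideal_xOpen, Ideal.span_singleton_mul_right_unit hu]
    · refine Eq.trans ?_ hu'
      exact congrArg (OmegaSh.fnSect _ _)
        congr((Scheme.Modules.Hom.app $(kernel.lift_ι (ClSub.toSubscheme I) φ hφ) (xOpen r k l))
          (pSec l (-(d : ℤ)) le_rfl))
  exact ⟨asIso lam⟩

/-- A scheme over a field with one-dimensional `H⁰(O)` is connected. -/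
theorem connectedSpace_of_h0 (X : Scheme.{u}) [X.Over (Spec (CommRingCat.of k))]
    (h0 : Module.finrank k (Coh.HH X (Coh.structureModule X) 0) = 1) : ConnectedSpace X := by
  classical
  let one : Γ(Coh.structureModule X, ⊤) := (1 : Γ(X, ⊤))
  let v := (sec (Coh.structureModule X)).symm one
  have hne : Nonempty X := by
    by_contra he
    rw [not_nonempty_iff] at he
    have hs : Subsingleton (Coh.HH X (Coh.structureModule X) 0) := by
      have h1 : (⊤ : X.Opens) = ⊥ := Opens.ext (Set.eq_empty_of_isEmpty _)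
      have h2 : Subsingleton Γ(X, ⊤) := by rw [h1]; infer_instance
      have h3 : Subsingleton Γ(Coh.structureModule X, ⊤) := h2
      exact (sec (Coh.structureModule X)).toEquiv.subsingleton
    rw [Module.finrank_zero_of_subsingleton] at h0
    exact zero_ne_one h0
  have : Nontrivial Γ(X, ⊤) := by
    have : Nonempty (⊤ : X.Opens) := ⟨⟨hne.some, trivial⟩⟩
    infer_instance
  have hv : v ≠ 0 := fun h => by
    have h2 := congrArg (sec (Coh.structureModule X)) h
    rw [AddEquiv.apply_symm_apply, map_zero] at h2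
    exact one_ne_zero (α := Γ(X, ⊤)) h2
  have hconst : ∀ s : Γ(X, ⊤), ∃ r : k, Coh.toGlobal (X ↘ Spec (CommRingCat.of k)) r = s := fun s => by
    obtain ⟨r, hr⟩ := (finrank_eq_one_iff_of_nonzero' v hv).1 h0
      ((sec (Coh.structureModule X)).symm (s : Γ(Coh.structureModule X, ⊤)))
    have h2 := congrArg (sec (Coh.structureModule X)) hr
    rw [sec_smul k, AddEquiv.apply_symm_apply] at h2
    exact ⟨r, (mul_one _).symm.trans (h2.trans ((sec (Coh.structureModule X)).apply_symm_apply _))⟩
  refine { toPreconnectedSpace := preconnectedSpace_iff_clopen.2 fun s hs => ?_, toNonempty := hne }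
  let U : Bool → X.Opens := fun b => cond b ⟨s, hs.2⟩ ⟨sᶜ, hs.1.isOpen_compl⟩
  have hbot : U true ⊓ U false = ⊥ := TopologicalSpace.Opens.ext (Set.inter_compl_self s)
  let sf : ∀ b, Γ(X, U b) := fun b => match b with | true => 1 | false => 0
  obtain ⟨f, hf, -⟩ := X.sheaf.existsUnique_gluing' U ⊤ (fun b => homOfLE le_top) (fun x _ => by
      rw [TopologicalSpace.Opens.mem_iSup]
      by_cases hx : x ∈ s
      · exact ⟨true, hx⟩
      · exact ⟨false, hx⟩) sf (fun b c => by
      have hss : ∀ O : X.Opens, O = ⊥ → Subsingleton Γ(X, O) := by rintro O rfl; infer_instance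
      rcases b <;> rcases c
      · rfl
      · have : U false ⊓ U true = ⊥ := by rw [inf_comm]; exact hbot
        exact @Subsingleton.elim _ (hss _ this) _ _
      · exact @Subsingleton.elim _ (hss _ hbot) _ _
      · rfl)
  obtain ⟨a, rfl⟩ := hconst f
  let res : ∀ b, k →+* Γ(X, U b) := fun b =>
    (X.presheaf.map (homOfLE le_top).op).hom.comp (Coh.toGlobal (X ↘ Spec (CommRingCat.of k)))
  have h1 : res true a = 1 := hf true
  have h0' : res false a = 0 := hf false
  have hempty : ∀ b, (1 : Γ(X, U b)) = 0 → U b = ⊥ := fun b h => by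
    have h2 := X.basicOpen_of_isUnit (U := U b) (f := (1 : Γ(X, U b))) isUnit_one
    rw [← h2, h, Scheme.basicOpen_zero]
  rcases eq_or_ne a 0 with rfl | ha
  · left
    have h := hempty true (by rw [← h1, map_zero])
    exact congrArg (fun O : X.Opens => (O : Set X)) h
  · right
    have h := hempty false (by
      have := (ha.isUnit.map (res false))
      rw [h0'] at this
      exact (isUnit_zero_iff.1 this).symm)
    exact Set.compl_empty_iff.1 (congrArg (fun O : X.Opens => (O : Set X)) h)

/-- The number of monomials in three variables with all exponents negative of total degree `-d`. -/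
theorem finrank_hh_two_twist_neg (d : ℕ) (hd : 1 ≤ d) :
    Module.finrank k (Coh.HH (CohB1.ProjSpace 2 k) (Twist.twistProjSpace 2 k (-(d : ℤ))) 2) =
      (d - 1) * (d - 2) / 2 := by
  classical
  rcases Nat.lt_or_ge d 3 with h3 | h3
  · have := Pn71.subsingleton_hh 2 k (-(d : ℤ)) 2 (by omega) (by omega)
    rw [Module.finrank_zero_of_subsingleton]
    interval_cases d <;> rfl
  obtain ⟨m, rfl⟩ : ∃ m, d = m + 3 := ⟨d - 3, by omega⟩
  rw [(Pn71.hhTopEquiv 2 k (-((m + 3 : ℕ) : ℤ)) (by omega)).finrank_eq,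
    (Finsupp.supportedEquivFinsupp (M := k) (R := k) _).finrank_eq]
  have hcast : -((m + 3 : ℕ) : ℤ) = -((m : ℤ) + Fintype.card (Fin 3)) := by simp
  rw [hcast]
  let e : Pn71.negCell (ι := Fin 3) (-((m : ℤ) + Fintype.card (Fin 3))) ≃
      (Finset.univ : Finset (Fin 3)).finsuppAntidiag m :=
    (Pn71.negCellEquiv m).trans (Equiv.subtypeEquivRight fun m => by simp [Finsupp.degree_eq_sum])
  have := Fintype.ofEquiv _ e.symm
  rw [Module.finrank_finsupp_self, Fintype.card_congr e, Fintype.card_coe,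
    Finset.card_finsuppAntidiag_nat_eq_choose, Finset.card_univ, Fintype.card_fin,
    show 3 + m - 1 = m + 2 by omega, Nat.choose_symm_add, Nat.choose_two_right,
    show m + 3 - 1 = m + 2 by omega, show m + 3 - 2 = m + 1 by omega, show m + 2 - 1 = m + 1 by omega]

/-- Cohomology of the structure sheaf of a plane curve of degree `d`. -/
theorem finrank_hh_hypersurface {d : ℕ} (hd : 1 ≤ d) (G : LefPen.Form 2 k d) (hG : G ≠ 0)
    [(LefPen.hypIdeal G).subscheme.Over (Spec (CommRingCat.of k))]
    (hC : (LefPen.hypIdeal G).subscheme ↘ Spec (CommRingCat.of k) =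
      (LefPen.hypIdeal G).subschemeι ≫ CohB1.ProjSpace.toSpec 2 k) :
    Module.finrank k (Coh.HH (LefPen.hypIdeal G).subscheme
        (Coh.structureModule (LefPen.hypIdeal G).subscheme) 0) = 1 ∧
      Module.finrank k (Coh.HH (LefPen.hypIdeal G).subscheme
        (Coh.structureModule (LefPen.hypIdeal G).subscheme) 1) = (d - 1) * (d - 2) / 2 := by
  let I := LefPen.hypIdeal G
  let P := CohB1.ProjSpace 2 k
  have : IsProper (P ↘ Spec (CommRingCat.of k)) := Curves2.ProjLine.isProper_toSpec k 2
  obtain ⟨e⟩ := nonempty_twist_iso_hypIdeal G hG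
  obtain ⟨e0⟩ := nonempty_twist_zero (n := 2) (A := k)
  have hS := idealSeq_shortExact I
  have hsubI : ∀ q, q < 2 → Subsingleton (Coh.HH P (idealSeq I).X₁ q) := fun q hq => by
    have := Pn71.subsingleton_hh 2 k (-(d : ℤ)) q (by omega) (by omega)
    exact (hEquiv k e q).symm.toEquiv.subsingleton
  have hsubO : ∀ q, 1 ≤ q → Subsingleton (Coh.HH P (idealSeq I).X₂ q) := fun q hq => by
    have := Pn71.subsingleton_hh 2 k 0 q (by omega) (by omega)
    exact (hEquiv k e0 q).symm.toEquiv.subsingleton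
  have hq : ∀ q, Module.finrank k (Coh.HH I.subscheme (Coh.structureModule I.subscheme) q) =
      Module.finrank k (Coh.HH P (idealSeq I).X₃ q) := fun q => by
    obtain ⟨f⟩ := Var76.nonempty_hhLin_push (A := k) I.subschemeι hC.symm
      (Coh.structureModule I.subscheme) (isCoh_quotMod I).1 q
    exact f.symm.finrank_eq
  refine ⟨?_, ?_⟩
  · rw [hq 0]
    have hb : Function.Bijective (hmap k (idealSeq I).g 0) := by
      refine ⟨?_, fun z => ?_⟩
      · refine (injective_iff_map_eq_zero _).2 fun z hz => ?_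
        obtain ⟨w, rfl⟩ := (exact_f_g k hS 0 z).1 hz
        have := hsubI 0 (by norm_num)
        rw [Subsingleton.elim w 0, map_zero]
      · have := hsubI 1 (by norm_num)
        exact (exact_g_δ k hS 0 z).1 (Subsingleton.elim _ _)
    rw [← (LinearEquiv.ofBijective _ hb).finrank_eq]
    exact (hEquiv k e0 0).symm.finrank_eq.trans ((finrank_hh_twist (k := k) (n := 2) 0).trans (by norm_num))
  · rw [hq 1]
    have hb : Function.Bijective (hδ k hS 1) := by
      refine ⟨?_, fun z => ?_⟩
      · refine (injective_iff_map_eq_zero _).2 fun z hz => ?_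
        obtain ⟨w, rfl⟩ := (exact_g_δ k hS 1 z).1 hz
        have := hsubO 1 le_rfl
        rw [Subsingleton.elim w 0, map_zero]
      · have := hsubO 2 (by norm_num)
        exact (exact_δ_f k hS 1 z).1 (Subsingleton.elim _ _)
    rw [(LinearEquiv.ofBijective _ hb).finrank_eq]
    exact (hEquiv k e 2).symm.finrank_eq.trans (finrank_hh_two_twist_neg d hd)

end Groth.Agent.Crv77
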