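import Groth.Agent.Mero90.Regular
import Groth.Agent.Mero90.Div
import Mathlib.RingTheory.Ideal.AssociatedPrime.Finiteness
import Mathlib.Tactic

/-!
Divisors on absolute curves.
-/

set_option autoImplicit false
universe u

open CategoryTheory AlgebraicGeometry TopologicalSpace IsLocalRing

namespace Groth.Agent.Crv77

variable {C : Scheme.{u}} [IsNoetherian C]
    (hC : ∀ x : C, IsClosed ({x} : Set C) → ringKrullDim (C.presheaf.stalk x) = 1)

include hC in
/-- The points which are not closed are maximal. -/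
theorem eq_of_specializes {z : C} (hz : ¬ IsClosed ({z} : Set C)) {w : C} (hw : w ⤳ z) :
    w = z := by
  by_contra hne
  obtain ⟨x, hx, hxc⟩ := IsClosed.exists_closed_singleton (isClosed_closure (s := ({z} : Set C)))
    ⟨z, subset_closure rfl⟩
  have hzx : z ⤳ x := specializes_iff_mem_closure.2 hx
  have hxz : x ≠ z := fun e => hz (e ▸ hxc)
  have hlt : ∀ {a b : C}, b ⤳ a → a ≠ b → a < b := fun {a b} h hab =>
    lt_iff_le_not_ge.2 ⟨h, fun h' => hab ((h.antisymm h').eq.symm)⟩
  let p : LTSeries C := ((RelSeries.singleton _ x).snoc z (hlt hzx hxz)).snoc w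
    (by simp only [RelSeries.last_snoc]; exact hlt hw (Ne.symm hne))
  have h1 := Order.length_le_coheight (x := x) (p := p) (le_of_eq (by simp [p, RelSeries.head]; rfl))
  have h2 := hC x hxc
  rw [ringKrullDim_stalk_eq_coheight] at h2
  have h3 : Order.coheight x = 1 := by exact_mod_cast h2
  rw [h3] at h1
  have h4 : p.length = 2 := rfl
  rw [h4] at h1
  exact absurd h1 (by norm_cast)

include hC in
theorem isUnit_regStalk {z : C} (hz : ¬ IsClosed ({z} : Set C)) (a : Mero.regStalk C z) :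
    IsUnit a.1 :=
  Mero90.isUnit_of_maximal (fun _ hw => eq_of_specializes hC hz hw)
    (Mero.regStalk_le_nonZeroDivisors _ a.2)

theorem cls_eq_one_of_isUnit {x : C} {a b : Mero.regStalk C x} (ha : IsUnit a.1) (hb : IsUnit b.1) :
    Mero90.cls x a b = 1 :=
  (Mero90.cls_eq_one_iff a b).2
    ((associated_one_iff_isUnit.2 hb).trans (associated_one_iff_isUnit.2 ha).symm)

include hC in
theorem germ_eq_one (D : Mero.Divisor C) {z : C} (hz : ¬ IsClosed ({z} : Set C)) : D.1 z = 1 := by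
  obtain ⟨a, b, h⟩ := Mero90.exists_cls_germ D z
  rw [h]
  exact cls_eq_one_of_isUnit (isUnit_regStalk hC hz a) (isUnit_regStalk hC hz b)

/-- A closed subset all of whose points in an open are closed points is finite there. -/
theorem finite_inter_of_forall_closed {Z : Set C} (hZ : IsClosed Z) (V : C.Opens)
    (h : ∀ y ∈ Z ∩ (V : Set C), IsClosed ({y} : Set C)) : (Z ∩ (V : Set C)).Finite := by
  obtain ⟨S, hSfin, hScl, hSirr, rfl⟩ :=
    NoetherianSpace.exists_finite_set_isClosed_irreducible hZ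
  rw [Set.sUnion_eq_biUnion, Set.iUnion₂_inter]
  refine hSfin.biUnion fun t ht => ?_
  obtain ⟨r, hr⟩ := QuasiSober.sober (hSirr t ht) (hScl t ht)
  refine (Set.finite_singleton r).subset fun y hy => ?_
  have hrV : r ∈ V := (hr.specializes hy.1).mem_open V.2 hy.2
  exact (h r ⟨⟨t, ht, hr.mem⟩, hrV⟩).closure_eq.le
    (specializes_iff_mem_closure.1 (hr.specializes hy.1))

include hC in
/-- The class of a quotient of regular sections is trivial outside finitely many closed points. -/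
theorem exists_finite_cls {V : C.Opens} (a b : Mero.regSub C V) :
    ∃ T : Set C, T.Finite ∧ (∀ y ∈ T, IsClosed ({y} : Set C)) ∧
      ∀ y : V, (y : C) ∉ T → Mero90.cls y.1 (Mero.regGerm y a) (Mero.regGerm y b) = 1 := by
  let O : C.Opens := C.basicOpen a.1 ⊓ C.basicOpen b.1
  have hcl : ∀ y ∈ (O : Set C)ᶜ ∩ (V : Set C), IsClosed ({y} : Set C) := by
    rintro y ⟨hyO, hyV⟩
    by_contra h
    exact hyO ⟨(C.mem_basicOpen a.1 y hyV).2 (isUnit_regStalk hC h (Mero.regGerm ⟨y, hyV⟩ a)),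
      (C.mem_basicOpen b.1 y hyV).2 (isUnit_regStalk hC h (Mero.regGerm ⟨y, hyV⟩ b))⟩
  refine ⟨_, finite_inter_of_forall_closed O.2.isClosed_compl V hcl, hcl, fun y hy => ?_⟩
  have hyO : (y : C) ∈ O := by_contra fun h => hy ⟨h, y.2⟩
  exact cls_eq_one_of_isUnit ((C.mem_basicOpen a.1 y y.2).1 hyO.1)
    ((C.mem_basicOpen b.1 y y.2).1 hyO.2)

include hC in
theorem finite_supp (D : Mero.Divisor C) : {x : C | D.1 x ≠ 1}.Finite := by
  choose V hV a b h using Mero90.exists_cls D
  choose T hT hTcl hT1 using fun x => exists_finite_cls hC (a x) (b x)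
  obtain ⟨F, hF⟩ := isCompact_univ.elim_finite_subcover (fun x => (V x : Set C)) (fun x => (V x).2)
    (fun x _ => Set.mem_iUnion.2 ⟨x, hV x⟩)
  refine (F.finite_toSet.biUnion fun x _ => hT x).subset fun y hy => ?_
  obtain ⟨x, hx, hyV⟩ := Set.mem_iUnion₂.1 (hF (Set.mem_univ y))
  refine Set.mem_biUnion (Finset.mem_coe.2 hx) (by_contra fun hn => hy ?_)
  rw [h x ⟨y, hyV⟩]
  exact hT1 x ⟨y, hyV⟩ hn

include hC in
/-- A family of germs trivial outside finitely many closed points is a divisor. -/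
theorem mem_divisorGroup (g : ∀ x : C, Mero.Germ C x) (hfin : {x : C | g x ≠ 1}.Finite)
    (hcl : ∀ x : C, ¬ IsClosed ({x} : Set C) → g x = 1) : g ∈ Mero.divisorGroup C := by
  intro x
  let S : Set C := {y | g y ≠ 1}
  have hScl : ∀ y ∈ S, IsClosed ({y} : Set C) := fun y hy => by_contra fun h => hy (hcl y h)
  by_cases hx : g x = 1
  · let U : C.Opens := ⟨Sᶜ, by
      rw [isOpen_compl_iff, ← Set.biUnion_of_singleton S]
      exact hfin.isClosed_biUnion hScl⟩
    refine ⟨U, fun h => h hx, 1, fun y => ?_⟩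
    rw [Mero.germOf, map_one, QuotientGroup.mk_one]
    exact not_not.1 y.2
  · obtain ⟨q, hq⟩ := QuotientGroup.mk_surjective (g x)
    obtain ⟨n, b, hnb⟩ := IsLocalization.exists_mk'_eq (Mero.regStalk C x) (q : Mero.KStalk C x)
    obtain ⟨c, d, hcd⟩ := IsLocalization.exists_mk'_eq (Mero.regStalk C x)
      ((q⁻¹ : (Mero.KStalk C x)ˣ) : Mero.KStalk C x)
    have hnreg : n ∈ Mero.regStalk C x := by
      have h1 : IsLocalization.mk' (Mero.KStalk C x) (n * c) (b * d) = 1 := by
        rw [IsLocalization.mk'_mul, hnb, hcd]; exact q.mul_inv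
      rw [IsLocalization.mk'_eq_iff_eq_mul, one_mul] at h1
      have h2 := Mero.algebraMap_KStalk_injective x h1
      exact Mero90.mem_regStalk_of_mul (a := b * d) (b := c) (by rw [mul_comm]; exact h2)
    have hgx : g x = Mero90.cls x ⟨n, hnreg⟩ b := by
      rw [← hq, Mero90.cls]
      exact congrArg _ (Units.ext (by rw [Mero90.regUnit_div_val]; exact hnb.symm))
    obtain ⟨V₁, hx₁, n', hn', hn''⟩ := hnreg
    obtain ⟨_, V₂, hx₂, b', hb', rfl⟩ := b
    let V := V₁ ⊓ V₂
    let a0 : Mero.regSub C V := ⟨C.presheaf.map (homOfLE inf_le_left).op n', Mero.regSub_res _ hn'⟩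
    let b0 : Mero.regSub C V := ⟨C.presheaf.map (homOfLE inf_le_right).op b', Mero.regSub_res _ hb'⟩
    obtain ⟨T, hTfin, hTcl, hT⟩ := exists_finite_cls hC a0 b0
    let B : Set C := (S ∪ T) \ {x}
    let U : C.Opens := V ⊓ ⟨Bᶜ, by
      rw [isOpen_compl_iff, ← Set.biUnion_of_singleton B]
      exact ((hfin.union hTfin).sdiff).isClosed_biUnion fun y hy => hy.1.elim (hScl y) (hTcl y)⟩
    refine ⟨U, ⟨⟨hx₁, hx₂⟩, fun h => h.2 rfl⟩,
      Units.map ((Mero.kring C).obj.map (homOfLE (inf_le_left : U ≤ V)).op).hom.toMonoidHom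
        (Mero90.fracUnit a0 b0), fun y => ?_⟩
    refine Eq.trans ?_ (congrArg (QuotientGroup.mk (s := Mero.stalkUnits C y.1)) (Units.ext rfl) :
      Mero.germOf (Mero90.fracUnit a0 b0) ⟨y.1, y.2.1⟩ = _)
    refine Eq.trans ?_ (Mero90.germOf_fracUnit a0 b0 ⟨y.1, y.2.1⟩).symm
    by_cases hyx : y.1 = x
    · obtain ⟨y, hy⟩ := y
      obtain rfl : y = x := hyx
      rw [hgx]
      congr 1
      · exact Subtype.ext (hn''.symm.trans (TopCat.Presheaf.germ_res_apply _ _ _ _ _).symm)
      · exact Subtype.ext (TopCat.Presheaf.germ_res_apply _ _ _ _ _).symm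
    · have hyB : y.1 ∉ S ∪ T := fun h => y.2.2 ⟨h, hyx⟩
      rw [hT ⟨y.1, y.2.1⟩ fun h => hyB (Or.inr h)]
      exact not_not.1 fun h => hyB (Or.inl h)

end Groth.Agent.Crv77
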