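import Groth.Agent.Crv77.Birat
import Mathlib.AlgebraicGeometry.ZariskisMainTheorem

/-! Proper birational morphisms onto one-dimensional schemes are finite. -/

set_option autoImplicit false
set_option backward.isDefEq.respectTransparency false
universe u

open CategoryTheory CategoryTheory.Limits AlgebraicGeometry TopologicalSpace

namespace Groth.Agent.Crv77

variable {k : Type u} [Field k] {X Y : Scheme.{u}}

/-- Birational morphisms of finite type schemes over a field do not raise the dimension. -/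
theorem dim_le_one_of_birational (g : Y ⟶ Spec (CommRingCat.of k)) [LocallyOfFiniteType g]
    [NoetherianSpace Y] (hdim : topologicalKrullDim X ≤ 1) (f : Y ⟶ X) (U : X.Opens)
    (hU' : Dense ((f ⁻¹ᵁ U : Y.Opens) : Set Y)) (hfU : IsIso (f ∣_ U)) :
    topologicalKrullDim Y ≤ 1 := by
  refine Ega11.PointDim.dim_le_iff (fun _ => zero_le_one) fun n a ha hn => ?_
  by_contra hlt
  have hn2 : 2 ≤ n := by
    by_contra h
    exact hlt (by have : n = 1 := (by omega); subst this; exact le_rfl)
  obtain ⟨ζ, hζU, hζ⟩ := exists_generic_in_dense (f ⁻¹ᵁ U).2 hU' (a 2)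
  let I := Scheme.IdealSheafData.vanishingIdeal (X := Y) ⟨closure {ζ}, isClosed_closure⟩
  have hrange : Set.range I.subschemeι = closure {ζ} := by
    rw [Scheme.IdealSheafData.range_subschemeι, Scheme.IdealSheafData.coe_support_vanishingIdeal]; rfl
  have hemb := I.subschemeι.isClosedEmbedding
  have : IrreducibleSpace I.subscheme := by
    obtain ⟨ζ', hζ'⟩ := hrange.symm ▸ (subset_closure (Set.mem_singleton ζ))
    refine irreducibleSpace_def _ |>.2 ?_
    have hd : closure ({ζ'} : Set I.subscheme) = Set.univ := by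
      rw [hemb.isInducing.closure_eq_preimage_closure_image, Set.image_singleton, hζ', ← hrange]
      exact Set.preimage_range _
    have h := isIrreducible_singleton.closure (s := ({ζ'} : Set I.subscheme))
    rw [hd] at h
    exact h
  have hne : ((I.subschemeι ⁻¹ᵁ (f ⁻¹ᵁ U) : I.subscheme.Opens) : Set I.subscheme).Nonempty := by
    obtain ⟨ζ', hζ'⟩ := hrange.symm ▸ (subset_closure (Set.mem_singleton ζ))
    exact ⟨ζ', show I.subschemeι ζ' ∈ f ⁻¹ᵁ U by rw [hζ']; exact hζU⟩
  have h1 := VarGal.topologicalKrullDim_open_eq (I.subschemeι ≫ g) _ hne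
  have h2 : topologicalKrullDim (I.subschemeι ⁻¹ᵁ (f ⁻¹ᵁ U) : I.subscheme.Opens) ≤ 1 := by
    refine le_trans (Topology.IsInducing.topologicalKrullDim_le
      (f := fun z => ((I.subschemeι ∣_ (f ⁻¹ᵁ U)) ≫ (f ∣_ U) ≫ U.ι) z) ?_) hdim
    exact (((I.subschemeι ∣_ (f ⁻¹ᵁ U)) ≫ (f ∣_ U) ≫ U.ι).isEmbedding).isInducing
  rw [h1] at h2
  have hlift : ∀ j ≤ 2, ∃ z : I.subscheme, I.subschemeι z = a j := by
    intro j hj
    have : a j ∈ closure ({ζ} : Set Y) := by
      refine specializes_iff_mem_closure.1 (hζ.trans ?_)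
      obtain rfl | rfl | rfl : j = 0 ∨ j = 1 ∨ j = 2 := by omega
      · exact (ha 1 (by omega)).1.trans (ha 0 (by omega)).1
      · exact (ha 1 (by omega)).1
      · exact specializes_rfl
    rw [← hrange] at this
    exact this
  obtain ⟨z0, h0⟩ := hlift 0 (by omega)
  obtain ⟨z1, h1'⟩ := hlift 1 (by omega)
  obtain ⟨z2, h2'⟩ := hlift 2 le_rfl
  refine length_two_false h2 (a := z0) (b := z1) (c := z2) ?_ ?_ ?_ ?_
  · rw [← hemb.isInducing.specializes_iff, h0, h1']; exact (ha 0 (by omega)).1
  · exact fun e => (ha 0 (by omega)).2 (by rw [← h0, ← h1', e])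
  · rw [← hemb.isInducing.specializes_iff, h1', h2']; exact (ha 1 (by omega)).1
  · exact fun e => (ha 1 (by omega)).2 (by rw [← h2', ← h1', e])

/-- A proper morphism which is an isomorphism over a dense open with dense preimage is finite. -/
theorem isFinite_of_birational (g : X ⟶ Spec (CommRingCat.of k)) [LocallyOfFiniteType g] [QuasiCompact g]
    (hdim : topologicalKrullDim X ≤ 1) (f : Y ⟶ X) [IsProper f] (U : X.Opens)
    (hU' : Dense ((f ⁻¹ᵁ U : Y.Opens) : Set Y)) (hfU : IsIso (f ∣_ U)) : IsFinite f := by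
  have : CompactSpace Y := QuasiCompact.compactSpace_of_compactSpace (f ≫ g)
  have : IsLocallyNoetherian Y := LocallyOfFiniteType.isLocallyNoetherian (f ≫ g)
  have : IsNoetherian Y := ⟨⟩
  obtain ⟨hfin, -⟩ := finite_compl_dense (dim_le_one_of_birational (f ≫ g) hdim f U hU' hfU) (f ⁻¹ᵁ U).2 hU'
  have : LocallyQuasiFinite f := by
    refine LocallyQuasiFinite.of_finite_preimage_singleton f fun x => ?_
    by_cases hx : x ∈ U
    · refine Set.Subsingleton.finite fun p hp q hq => ?_
      have hpU : p ∈ f ⁻¹ᵁ U := show f p ∈ U from (show f p = x from hp) ▸ hx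
      have hqU : q ∈ f ⁻¹ᵁ U := show f q ∈ U from (show f q = x from hq) ▸ hx
      have hinj := ((f ∣_ U) ≫ U.ι).isEmbedding.injective (a₁ := (⟨p, hpU⟩ : (f ⁻¹ᵁ U : Y.Opens))) (a₂ := ⟨q, hqU⟩)
      refine congrArg Subtype.val (hinj ?_)
      have e : ∀ r : (f ⁻¹ᵁ U : Y.Opens), ((f ∣_ U) ≫ U.ι) r = f r.1 := fun r => by
        rw [morphismRestrict_ι]; rfl
      rw [e, e]
      exact (hp : f p = x).trans (hq : f q = x).symm
    · exact hfin.subset fun p hp hpU => hx ((hp : f p = x) ▸ hpU)
  exact IsFinite.of_isProper_of_locallyQuasiFinite f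

end Groth.Agent.Crv77
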