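import Groth.Agent.Crv77.Birat2

/-! A birational morphism preserving `h⁰` and `h¹` is an isomorphism. -/

set_option autoImplicit false
set_option backward.isDefEq.respectTransparency false
universe u

open CategoryTheory CategoryTheory.Limits AlgebraicGeometry TopologicalSpace

namespace Groth.Agent.Crv77

theorem injective_app_of_dense {X Y : Scheme.{u}} [IsReduced X] (f : Y ⟶ X) (U : X.Opens)
    (hU : Dense (U : Set X)) (hfU : IsIso (f ∣_ U)) (W : X.Opens) : Function.Injective (f.app W).hom := by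
  refine (injective_iff_map_eq_zero _).2 fun s hs => ?_
  rw [← basicOpen_eq_bot_iff]
  by_contra hne
  obtain ⟨x, hxs, hxU⟩ := hU.inter_open_nonempty _ (X.basicOpen s).2
    (Set.nonempty_iff_ne_empty.2 fun e => hne (SetLike.ext' (e.trans Opens.coe_bot.symm)))
  have hxW : x ∈ W := X.basicOpen_le s hxs
  have hinj : Function.Injective (f.app (U.ι ''ᵁ (U.ι ⁻¹ᵁ W))).hom := by
    have h := ConcreteCategory.bijective_of_isIso ((f ∣_ U).app (U.ι ⁻¹ᵁ W))
    intro a b hab
    refine h.1 ?_
    show ((f ∣_ U).app (U.ι ⁻¹ᵁ W)).hom a = ((f ∣_ U).app (U.ι ⁻¹ᵁ W)).hom b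
    rw [morphismRestrict_app, CommRingCat.hom_comp, RingHom.comp_apply, RingHom.comp_apply]
    exact congrArg _ hab
  have h2 : U.ι ''ᵁ (U.ι ⁻¹ᵁ W) ≤ W := U.ι.image_preimage_le W
  have h0 : (X.presheaf.map (homOfLE h2).op).hom s = 0 := by
    refine hinj ?_
    have := congr($(f.naturality (homOfLE h2).op) s)
    simp only [CommRingCat.hom_comp, RingHom.comp_apply] at this
    refine this.trans ?_
    rw [hs, map_zero, map_zero]
  have hb : X.basicOpen ((X.presheaf.map (homOfLE h2).op).hom s) = ⊥ := by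
    rw [h0, Scheme.basicOpen_zero]
  have hmem : x ∈ X.basicOpen ((X.presheaf.map (homOfLE h2).op).hom s) := by
    rw [Scheme.basicOpen_res]
    exact ⟨by rw [Scheme.Hom.image_preimage_eq_opensRange_inf, Scheme.Opens.opensRange_ι]; exact ⟨hxU, hxW⟩, hxs⟩
  rw [hb] at hmem
  exact hmem

variable (k : Type u) [Field k] {X Y : Scheme.{u}} [X.Over (Spec (CommRingCat.of k))]
  [Y.Over (Spec (CommRingCat.of k))]

theorem isIso_of_genus_eq [IsProper (X ↘ (Spec (CommRingCat.of k)))] [IsReduced X]
    (hdim : topologicalKrullDim X ≤ 1) (f : Y ⟶ X) [IsFinite f]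
    (hf : f ≫ (X ↘ (Spec (CommRingCat.of k))) = Y ↘ (Spec (CommRingCat.of k)))
    (U : X.Opens) (hU : Dense (U : Set X)) (hfU : IsIso (f ∣_ U))
    (h0 : Function.Surjective (f.app ⊤).hom) (h1 : Curv2.genus k Y = Curv2.genus k X) : IsIso f := by
  have : IsLocallyNoetherian X := LocallyOfFiniteType.isLocallyNoetherian (X ↘ (Spec (CommRingCat.of k)))
  have : CompactSpace X := QuasiCompact.compactSpace_of_compactSpace (X ↘ (Spec (CommRingCat.of k)))
  have : IsNoetherian X := ⟨⟩
  have hX := curveCoh_of_proper k X hdim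
  let φ := ClSub.unitToPush f
  have hmono : Mono φ := QC70.mono_of_app_injective φ fun W => injective_app_of_dense f U hU hfU W
  let S : ShortComplex X.Modules := ShortComplex.mk φ (cokernel.π φ) (cokernel.condition _)
  have hS : S.ShortExact := { exact := ShortComplex.exact_of_g_is_cokernel _ (cokernelIsCokernel _) }
  obtain ⟨hfin, hcl⟩ := finite_compl_dense hdim U.2 hU
  have hsupp : SuppIn S.X₃ ((U : Set X)ᶜ) := suppIn_cokernel φ fun x hx =>
    surjective_stalkMapM_unitToPush f U inferInstance x (not_not.1 hx)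
  have hz : Subsingleton Γ(S.X₃, ⊤) := by
    have s1 : Function.Surjective (hmap k S.f 1) :=
      surjective_h1_unitToPush k hdim f hf U hU inferInstance
    have i1 : Function.Injective (hmap k S.f 1) := by
      have := hX.finite _ (isCoh_structureModule (X := X)) 1
      have := hX.finite _ (finrank_hh_push k f hf 1).1 1
      exact (LinearMap.injective_iff_surjective_of_finrank_eq_finrank
        (((finrank_hh_push k f hf 1).2.trans h1).symm)).2 s1
    have z1 : ∀ c : Coh.HH X S.X₃ 0, c = 0 := fun c => by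
      have hd : hδ k hS 0 c = 0 := i1 ((((exact_δ_f k hS 0) (hδ k hS 0 c)).2 ⟨c, rfl⟩).trans (map_zero _).symm)
      obtain ⟨b, rfl⟩ := ((exact_g_δ k hS 0) c).1 hd
      obtain ⟨a, ha⟩ := h0 (sec S.X₂ b)
      have hb : hmap k S.f 0 ((sec S.X₁).symm a) = b := by
        apply (sec S.X₂).injective
        rw [sec_hmap, AddEquiv.apply_symm_apply]
        exact ha
      exact ((exact_f_g k hS 0) b).2 ⟨_, hb⟩
    refine subsingleton_of_forall_eq 0 fun c => ?_
    have := congrArg (sec S.X₃) (z1 ((sec S.X₃).symm c))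
    rwa [AddEquiv.apply_symm_apply, map_zero] at this
  have hC : ∀ (W : X.Opens) (c : Γ(S.X₃, W)), c = 0 := fun W c => by
    obtain ⟨t, rfl⟩ := hsupp.surjective_res hfin hcl (le_top : W ≤ ⊤) c
    rw [Subsingleton.elim t 0]
    exact map_zero _
  have hbij : ∀ W : X.Opens, Function.Bijective (f.app W).hom := fun W =>
    ⟨injective_app_of_dense f U hU hfU W, fun b => by
      obtain ⟨a, ha⟩ := QC70.exists_app_eq_of_exact S hS.exact W b (hC W _)
      exact ⟨a, ha⟩⟩
  refine (IsZariskiLocalAtTarget.iff_of_iSup_eq_top (P := MorphismProperty.isomorphisms Scheme)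
    (fun W : X.affineOpens => W.1) (iSup_affineOpens_eq_top X)).2 fun W => ?_
  have : IsAffine (W.1 : Scheme.{u}) := W.2
  have : IsAffine (f ⁻¹ᵁ W.1 : Scheme.{u}) := W.2.preimage f
  rw [MorphismProperty.isomorphisms.iff]
  suffices h : IsIso (f ∣_ W.1).appTop by
    exact (MorphismProperty.isomorphisms Scheme).arrow_mk_iso_iff (arrowIsoSpecΓOfIsAffine (f ∣_ W.1)) |>.2
      (inferInstanceAs (IsIso (Spec.map (f ∣_ W.1).appTop)))
  rw [ConcreteCategory.isIso_iff_bijective]
  show Function.Bijective ((f ∣_ W.1).app ⊤).hom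
  rw [morphismRestrict_app, CommRingCat.hom_comp, RingHom.coe_comp]
  exact (ConcreteCategory.bijective_of_isIso _).comp (hbij _)

end Groth.Agent.Crv77
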