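import Groth.Agent.Crv77.Birat3
import Groth.Agent.NormY57.Scheme

/-! A finite map bijective on maximal points with equal residue fields is an isomorphism on a dense open. -/

set_option autoImplicit false
set_option backward.isDefEq.respectTransparency false
universe u

open CategoryTheory CategoryTheory.Limits AlgebraicGeometry TopologicalSpace

namespace Groth.Agent.Crv77

variable {X X' : Scheme.{u}}

theorem eq_of_closure_mem_irreducibleComponents {T : Type u} [TopologicalSpace T] [T0Space T] {z a : T}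
    (hz : closure ({z} : Set T) ∈ irreducibleComponents T) (h : a ⤳ z) : a = z := by
  have h1 : closure ({z} : Set T) ⊆ closure {a} := specializes_iff_closure_subset.1 h
  have h2 : closure ({a} : Set T) ⊆ closure {z} := hz.2 isIrreducible_singleton.closure h1
  exact (h.antisymm (specializes_iff_closure_subset.2 h2)).eq

theorem exists_generic_component {T : Type u} [TopologicalSpace T] [QuasiSober T] (y : T) :
    ∃ ζ, closure ({ζ} : Set T) ∈ irreducibleComponents T ∧ ζ ⤳ y := by
  obtain ⟨ζ, hζ⟩ := QuasiSober.sober (isIrreducible_irreducibleComponent (x := y)) isClosed_irreducibleComponent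
  exact ⟨ζ, hζ.def.symm ▸ irreducibleComponent_mem_irreducibleComponents y, hζ.specializes mem_irreducibleComponent⟩

theorem eq_zero_of_forall_generic {Y : Scheme.{u}} [IsReduced Y] {W : Y.Opens} (d : Γ(Y, W))
    (h : ∀ ζ : Y, closure ({ζ} : Set Y) ∈ irreducibleComponents (Y : Type u) → ζ ∉ Y.basicOpen d) : d = 0 := by
  rw [← basicOpen_eq_bot_iff]
  refine eq_bot_iff.2 fun y hy => ?_
  obtain ⟨ζ, hζ, hs⟩ := exists_generic_component y
  exact (h ζ hζ (hs.mem_open (Y.basicOpen d).2 hy)).elim

variable [IsReduced X] [IsLocallyNoetherian X] [CompactSpace X] (π : X' ⟶ X) [IsFinite π]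

omit [CompactSpace X] in
theorem bijective_stalkMapM_generic [IsReduced X'] [IsNoetherian X']
    (hbij : Set.BijOn (fun x' : X' => π x') {x' : X' | closure ({x'} : Set X') ∈ irreducibleComponents (X' : Type u)}
      {x : X | closure ({x} : Set X) ∈ irreducibleComponents (X : Type u)})
    {ζ : X'} (hζ : closure ({ζ} : Set X') ∈ irreducibleComponents (X' : Type u))
    (hres : Function.Bijective (π.residueFieldMap ζ).hom) :
    Function.Bijective (QC70.stalkMapM (ClSub.unitToPush π) (π ζ)) := by
  classical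
  have hη := hbij.1 hζ
  have hGfin : {x' : X' | closure ({x'} : Set X') ∈ irreducibleComponents (X' : Type u)}.Finite := by
    refine Set.Finite.of_injOn (f := fun x' => closure ({x'} : Set X')) (fun x' h => h) ?_
      NoetherianSpace.finite_irreducibleComponents
    exact fun a _ b _ h => (inseparable_iff_closure_eq.2 h).eq
  constructor
  · refine (injective_iff_map_eq_zero ((TopCat.Presheaf.stalkFunctor _ (π ζ)).map (ClSub.unitToPush π).mapPresheaf).hom).2
      fun e he => ?_
    obtain ⟨W, hW, a, rfl⟩ := QC70.germM_exist e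
    have he' := (QC70.stalkMapM_germ (ClSub.unitToPush π) hW a).symm.trans he
    obtain ⟨W', hle, hW', h0⟩ := QC70.germM_eq_zero he'
    rw [← QC70.app_res] at h0
    have hnot : π ζ ∉ X.basicOpen (QC70.res (Coh.structureModule X) hle a : Γ(X, W')) := fun hh => by
      have h1 : ζ ∈ π ⁻¹ᵁ X.basicOpen (QC70.res (Coh.structureModule X) hle a : Γ(X, W')) := hh
      rw [Scheme.preimage_basicOpen] at h1
      have h2 : (π.app W').hom (QC70.res (Coh.structureModule X) hle a : Γ(X, W')) = 0 := h0
      rw [show π.app W' (QC70.res (Coh.structureModule X) hle a : Γ(X, W')) = 0 from h2,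
        Scheme.basicOpen_zero] at h1
      exact h1
    let W'' : X.Opens := W' ⊓ ⟨(⋃ x ∈ {x : X | closure ({x} : Set X) ∈ irreducibleComponents (X : Type u) ∧ x ≠ π ζ ∧
      x ∈ (fun x' => π x') '' {x' : X' | closure ({x'} : Set X') ∈ irreducibleComponents (X' : Type u)}},
      closure ({x} : Set X))ᶜ, (Set.Finite.isClosed_biUnion ((hGfin.image _).subset fun x hx => hx.2.2)
        fun _ _ => isClosed_closure).isOpen_compl⟩
    have hW'' : π ζ ∈ W'' := ⟨hW', fun h => by
      obtain ⟨x, hx, hmem⟩ := Set.mem_iUnion₂.1 h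
      exact hx.2.1 (eq_of_closure_mem_irreducibleComponents hη (specializes_iff_mem_closure.2 hmem))⟩
    have hz : QC70.res (Coh.structureModule X) ((inf_le_left : W'' ≤ W').trans hle) a = 0 := by
      refine eq_zero_of_forall_generic (Y := X) _ fun η' hη' hmem => ?_
      have hW2 : η' ∈ W'' := X.basicOpen_le _ hmem
      by_cases h : η' = π ζ
      · subst h
        refine hnot ?_
        have := (X.basicOpen_res (U := W') (QC70.res (Coh.structureModule X) hle a : Γ(X, W'))
          (homOfLE (inf_le_left : W'' ≤ W')).op).le (show π ζ ∈ X.basicOpen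
            ((X.presheaf.map (homOfLE (inf_le_left : W'' ≤ W')).op).hom (QC70.res (Coh.structureModule X) hle a : Γ(X, W'))) by
          have hrr : QC70.res (Coh.structureModule X) (inf_le_left : W'' ≤ W') (QC70.res (Coh.structureModule X) hle a) =
              QC70.res (Coh.structureModule X) ((inf_le_left : W'' ≤ W').trans hle) a := QC70.res_res _ _ _
          exact (congrArg (fun c : Γ(X, W'') => π ζ ∈ X.basicOpen c) hrr).mpr hmem)
        exact this.2
      · exact hW2.2 (Set.mem_iUnion₂.2 ⟨η', ⟨hη', h, hbij.2.2 hη'⟩, subset_closure rfl⟩)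
    rw [← QC70.germM_res (((inf_le_left : W'' ≤ W')).trans hle) hW'' a, hz]
    exact QC70.germM_zero hW''
  · intro e
    obtain ⟨W, hW, s, rfl⟩ := QC70.germM_exist e
    obtain ⟨r, hr⟩ := hres.2 ((X'.evaluation (π ⁻¹ᵁ W) ζ hW).hom (s : Γ(X', π ⁻¹ᵁ W)))
    obtain ⟨w, rfl⟩ := X.residue_surjective _ r
    obtain ⟨W₁, hW₁, a, rfl⟩ := TopCat.Presheaf.exists_germ_eq X.presheaf w
    let W₂ : X.Opens := W ⊓ W₁
    let a₂ : Γ(X, W₂) := (X.presheaf.map (homOfLE (inf_le_right : W₂ ≤ W₁)).op).hom a
    let s₂ : Γ(X', π ⁻¹ᵁ W₂) := (X'.presheaf.map (homOfLE (π.preimage_mono (inf_le_left : W₂ ≤ W))).op).hom s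
    let d : Γ(X', π ⁻¹ᵁ W₂) := s₂ - (π.app W₂).hom a₂
    have hd : (X'.evaluation (π ⁻¹ᵁ W₂) ζ ⟨hW, hW₁⟩).hom d = 0 := by
      rw [map_sub, sub_eq_zero]
      refine Eq.trans ?_ (hr.symm.trans ?_)
      · exact congrArg (X'.residue ζ).hom (TopCat.Presheaf.germ_res_apply X'.presheaf _ ζ _ _)
      · show (π.residueFieldMap ζ).hom _ = _
        have h3 := congr($(Scheme.evaluation_naturality π (V := W₂) ζ ⟨hW, hW₁⟩) a₂)
        refine Eq.trans ?_ h3
        show _ = (π.residueFieldMap ζ).hom ((X.evaluation W₂ (π ζ) _).hom a₂)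
        refine congrArg (π.residueFieldMap ζ).hom ?_
        exact congrArg (X.residue (π ζ)).hom (TopCat.Presheaf.germ_res_apply X.presheaf (homOfLE (inf_le_right : W₂ ≤ W₁)) (π ζ) ⟨hW, hW₁⟩ a).symm
    let W₃ : X.Opens := W₂ ⊓ ⟨(⋃ z ∈ {z : X' | closure ({z} : Set X') ∈ irreducibleComponents (X' : Type u) ∧ z ≠ ζ},
      closure ({π z} : Set X))ᶜ, (Set.Finite.isClosed_biUnion (hGfin.subset fun z hz => hz.1)
        fun _ _ => isClosed_closure).isOpen_compl⟩
    have hW₃ : π ζ ∈ W₃ := ⟨⟨hW, hW₁⟩, fun h => by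
      obtain ⟨z, hz, hmem⟩ := Set.mem_iUnion₂.1 h
      exact hz.2 (hbij.2.1 hz.1 hζ (eq_of_closure_mem_irreducibleComponents hη (specializes_iff_mem_closure.2 hmem)))⟩
    have h3 : (X'.presheaf.map (homOfLE (π.preimage_mono (inf_le_left : W₃ ≤ W₂))).op).hom d = 0 := by
      refine eq_zero_of_forall_generic _ fun z hz hmem => ?_
      rw [Scheme.basicOpen_res] at hmem
      by_cases h : z = ζ
      · subst h
        exact (X'.evaluation_eq_zero_iff_notMem_basicOpen (U := π ⁻¹ᵁ W₂) z ⟨hW, hW₁⟩ d).1 hd hmem.2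
      · exact hmem.1.2 (Set.mem_iUnion₂.2 ⟨z, ⟨hz, h⟩, subset_closure rfl⟩)
    rw [map_sub, sub_eq_zero] at h3
    refine ⟨QC70.germM (Coh.structureModule X) W₃ (π ζ) hW₃
      ((X.presheaf.map (homOfLE (inf_le_left : W₃ ≤ W₂)).op).hom a₂ : Γ(X, W₃)), ?_⟩
    rw [QC70.stalkMapM_germ, ← QC70.germM_res ((inf_le_left : W₃ ≤ W₂).trans (inf_le_left : W₂ ≤ W)) hW₃ s]
    refine congrArg _ ?_
    have hn := congr($(π.naturality (homOfLE (inf_le_left : W₃ ≤ W₂)).op) a₂)
    refine Eq.trans hn (h3.symm.trans ?_)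
    exact (CommRingCat.comp_apply _ _ _).symm.trans (congr($((X'.presheaf.map_comp _ _).symm) s))

theorem exists_isIso_open (hX' : Pi1.IsNormalScheme X')
    (hbij : Set.BijOn (fun x' : X' => π x') {x' : X' | closure ({x'} : Set X') ∈ irreducibleComponents (X' : Type u)}
      {x : X | closure ({x} : Set X) ∈ irreducibleComponents (X : Type u)})
    (hres : ∀ x' : X', closure ({x'} : Set X') ∈ irreducibleComponents (X' : Type u) → Function.Bijective (π.residueFieldMap x').hom) :
    ∃ U : X.Opens, Dense (U : Set X) ∧ Dense ((π ⁻¹ᵁ U : X'.Opens) : Set X') ∧ IsIso (π ∣_ U) := by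
  classical
  have := NormY57.isReduced_of_isNormalScheme hX'
  have : IsLocallyNoetherian X' := LocallyOfFiniteType.isLocallyNoetherian π
  have : CompactSpace X' := QuasiCompact.compactSpace_of_compactSpace π
  have : IsNoetherian X' := ⟨⟩
  have : IsNoetherian X := ⟨⟩
  let φ := ClSub.unitToPush π
  have hP : Coh.IsCoh ((Coh.push π).obj (Coh.structureModule X')) :=
    QC70.isCoh_pushforward_of_isFinite π _ isCoh_structureModule
  have hK : Coh.IsCoh (kernel φ) := by
    have := (isCoh_structureModule (X := X)).1; have := (isCoh_structureModule (X := X)).2; have := hP.1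
    have hq : (kernel φ).IsQuasicoherent := QC70.isQuasicoherent_kernel φ
    exact ⟨hq, QC70.isFiniteType_of_mono (kernel.ι φ)⟩
  have hC : Coh.IsCoh (cokernel φ) := isCoh_cokernel φ isCoh_structureModule hP
  have hcl : IsClosed (CohB1.support (kernel φ) ∪ CohB1.support (cokernel φ)) := by
    have := hK.1; have := hK.2; have := hC.1; have := hC.2
    exact (QC70.isClosed_support _).union (QC70.isClosed_support _)
  let U : X.Opens := ⟨_, hcl.isOpen_compl⟩
  have hgenU : ∀ η : X, closure ({η} : Set X) ∈ irreducibleComponents (X : Type u) → η ∈ U := by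
    intro η hη
    obtain ⟨ζ, hζ, rfl⟩ := hbij.2.2 hη
    obtain ⟨hi, hs⟩ := bijective_stalkMapM_generic π hbij hζ (hres ζ hζ)
    rintro (h | h)
    · refine QC70.notMem_support_iff.2 (subsingleton_of_forall_eq 0 fun e => ?_) h
      refine QC70.injective_stalkMapM_of_mono (kernel.ι φ) (π ζ) ?_
      have h0 : QC70.stalkMapM φ (π ζ) (QC70.stalkMapM (kernel.ι φ) (π ζ) e) = 0 := by
        obtain ⟨W, hxW, s, rfl⟩ := QC70.germM_exist e
        rw [QC70.stalkMapM_germ, QC70.stalkMapM_germ, ← ConcreteCategory.comp_apply, ← Scheme.Modules.Hom.comp_app,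
          kernel.condition, Scheme.Modules.Hom.zero_app]
        exact QC70.germM_zero hxW
      exact (hi (h0.trans (map_zero _).symm)).trans (map_zero _).symm
    · exact QC70.notMem_support_iff.2 (QC70.subsingleton_stalk_cokernel φ (π ζ) hs) h
  have hd : Dense (U : Set X) := dense_iff_inter_open.2 fun O hO ⟨y, hy⟩ => by
    obtain ⟨η, hη, hs⟩ := exists_generic_component y
    exact ⟨η, hs.mem_open hO hy, hgenU η hη⟩
  have hd' : Dense ((π ⁻¹ᵁ U : X'.Opens) : Set X') := dense_iff_inter_open.2 fun O hO ⟨y, hy⟩ => by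
    obtain ⟨ζ, hζ, hs⟩ := exists_generic_component y
    exact ⟨ζ, hs.mem_open hO hy, hgenU _ (hbij.1 hζ)⟩
  refine ⟨U, hd, hd', ?_⟩
  have hbijU : ∀ W : X.Opens, W ≤ U → Function.Bijective (π.app W).hom := by
    intro W hW
    have hiK : ∀ (W' : X.Opens), W' ≤ U → Function.Injective (π.app W').hom := by
      intro W' hW'
      refine (injective_iff_map_eq_zero _).2 fun a ha => ?_
      refine QC70.section_ext (Coh.structureModule X) (a : Γ(Coh.structureModule X, W')) 0 fun p hp => ?_
      have hK0 : Subsingleton ((kernel φ).presheaf.stalk p) :=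
        QC70.notMem_support_iff.1 fun h => hW' hp (Or.inl h)
      obtain ⟨c, hc⟩ := QC70.exists_app_eq_of_exact (ShortComplex.mk (kernel.ι φ) φ (kernel.condition φ))
        (ShortComplex.exact_of_f_is_kernel _ (kernelIsKernel φ)) W' _ (show φ.app W' (a : Γ(Coh.structureModule X, W')) = 0 from ha)
      obtain ⟨W'', hle, hp'', h0⟩ := QC70.germM_eq_zero (M := kernel φ) (hx := hp) (s := c) (Subsingleton.elim _ _)
      refine ⟨W'', hle, hp'', ?_⟩
      rw [← hc]
      refine ((QC70.app_res (kernel.ι φ) hle c).symm.trans ?_).trans (map_zero _).symm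
      rw [h0]
      exact map_zero _
    refine ⟨hiK W hW, fun b => ?_⟩
    have hloc : ∀ p : W, ∃ (V : X.Opens) (h : V ≤ W), (p : X) ∈ V ∧
        ∃ a : Γ(X, V), (π.app V).hom a = (X'.presheaf.map (homOfLE (π.preimage_mono h)).op).hom b := by
      intro p
      have hC0 : Subsingleton ((cokernel φ).presheaf.stalk (p : X)) :=
        QC70.notMem_support_iff.1 fun h => hW p.2 (Or.inr h)
      obtain ⟨V, hle, hpV, h0⟩ := QC70.germM_eq_zero (M := cokernel φ) (hx := p.2)
        (s := (cokernel.π φ).app W (b : Γ((Coh.push π).obj (Coh.structureModule X'), W))) (Subsingleton.elim _ _)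
      rw [← QC70.app_res] at h0
      obtain ⟨V', hle', t, hpV', ht⟩ : ∃ (V' : X.Opens) (hle' : V' ≤ V) (t : Γ(Coh.structureModule X, V')), (p : X) ∈ V' ∧
          φ.app V' t = QC70.res _ hle' (QC70.res _ hle (b : Γ((Coh.push π).obj (Coh.structureModule X'), W))) := by
        let S : ShortComplex X.Modules := ShortComplex.mk (kernel.ι (cokernel.π φ)) (cokernel.π φ) (kernel.condition _)
        obtain ⟨c, hc⟩ := QC70.exists_app_eq_of_exact S
          (ShortComplex.exact_of_f_is_kernel _ (kernelIsKernel _)) V _ h0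
        have : Epi (Abelian.factorThruImage φ) := inferInstance
        obtain ⟨V', h', t, hpV', ht⟩ := QC70.exists_local_lift (Abelian.factorThruImage φ) c hpV
        refine ⟨V', h', t, hpV', ?_⟩
        have hfac : φ.app V' t = (Abelian.image.ι φ).app V' ((Abelian.factorThruImage φ).app V' t) := by
          conv_lhs => rw [← Abelian.image.fac φ]
          rfl
        rw [hfac, ht, QC70.app_res]
        exact congrArg (QC70.res _ h') hc
      exact ⟨V', hle'.trans hle, hpV', t, ht.trans (QC70.res_res _ _ _)⟩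
    choose V hV hpV a ha using hloc
    have hcov : W ≤ ⨆ p, V p := fun z hz => Opens.mem_iSup.2 ⟨⟨z, hz⟩, hpV ⟨z, hz⟩⟩
    obtain ⟨t, ht⟩ := QC70.exists_glue (Coh.structureModule X) V hV hcov (fun p => (a p : Γ(Coh.structureModule X, V p))) (by
      intro i j
      refine hiK (V i ⊓ V j) ((inf_le_left.trans (hV i)).trans hW) ?_
      refine (QC70.app_res φ (inf_le_left : V i ⊓ V j ≤ V i) (a i : Γ(Coh.structureModule X, V i))).trans
        (Eq.trans ?_ (QC70.app_res φ (inf_le_right : V i ⊓ V j ≤ V j) (a j : Γ(Coh.structureModule X, V j))).symm)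
      rw [show φ.app (V i) (a i : Γ(Coh.structureModule X, V i)) = QC70.res _ (hV i) (b : Γ((Coh.push π).obj (Coh.structureModule X'), W)) from ha i,
        show φ.app (V j) (a j : Γ(Coh.structureModule X, V j)) = QC70.res _ (hV j) (b : Γ((Coh.push π).obj (Coh.structureModule X'), W)) from ha j,
        QC70.res_res, QC70.res_res])
    refine ⟨t, ?_⟩
    refine QC70.section_ext ((Coh.push π).obj (Coh.structureModule X')) (φ.app W (t : Γ(Coh.structureModule X, W)))
      (b : Γ((Coh.push π).obj (Coh.structureModule X'), W)) fun p hp => ?_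
    refine ⟨V ⟨p, hp⟩, hV _, hpV _, ?_⟩
    rw [← QC70.app_res, ht]
    exact ha _
  refine (IsZariskiLocalAtTarget.iff_of_iSup_eq_top (P := MorphismProperty.isomorphisms Scheme)
    (fun W : (U : Scheme.{u}).affineOpens => W.1) (iSup_affineOpens_eq_top _)).2 fun W => ?_
  have : IsAffine (W.1 : Scheme.{u}) := W.2
  have : IsAffine ((π ∣_ U) ⁻¹ᵁ W.1 : Scheme.{u}) := W.2.preimage (π ∣_ U)
  rw [MorphismProperty.isomorphisms.iff]
  suffices h : IsIso ((π ∣_ U) ∣_ W.1).appTop by
    exact (MorphismProperty.isomorphisms Scheme).arrow_mk_iso_iff (arrowIsoSpecΓOfIsAffine ((π ∣_ U) ∣_ W.1)) |>.2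
      (inferInstanceAs (IsIso (Spec.map ((π ∣_ U) ∣_ W.1).appTop)))
  rw [ConcreteCategory.isIso_iff_bijective]
  show Function.Bijective (((π ∣_ U) ∣_ W.1).app ⊤).hom
  rw [morphismRestrict_app, CommRingCat.hom_comp, RingHom.coe_comp, morphismRestrict_app, CommRingCat.hom_comp, RingHom.coe_comp]
  exact (ConcreteCategory.bijective_of_isIso _).comp ((ConcreteCategory.bijective_of_isIso _).comp
    (hbijU _ (U.ι_image_le _)))

end Groth.Agent.Crv77
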