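import Groth.Agent.Delta12.Curve
import Groth.Agent.VarNorm.BranchesDelta
import Groth.Agent.VarNorm.Branches
import Groth.Agent.VarDim1.TotalRing
import Groth.Prelude.Def_Brnch
import Groth.Prelude.Def_Curv2

/-! Branches are at most one more than the delta invariant. -/

set_option autoImplicit false
universe u

namespace Groth.Agent.Crv77

/-- A reduced Nagata local ring of dimension one has finite delta invariant, at least branches minus one. -/
theorem numBranches_le_delta (A : Type u) [CommRing A] [IsLocalRing A] [IsReduced A]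
    (hN : CAlg.IsNagata A) (hdim : ringKrullDim A = 1) :
    Brnch.numBranches A ≤ Curv2.deltaInv A + 1 ∧ Curv2.deltaInv A ≠ ⊤ ∧ 1 ≤ Brnch.numBranches A := by
  obtain ⟨hnoeth, hN2⟩ := hN
  have : Ring.KrullDimLE 1 A := by rw [Ring.KrullDimLE, Order.krullDimLE_iff]; exact hdim.le
  have hfin : Module.Finite A (integralClosure A (FractionRing A)) :=
    VarDim1.finite_integralClosure fun p _ _ => hN2 p (FractionRing (A ⧸ p)) inferInstance
  have hmin : (minimalPrimes A).Finite := minimalPrimes.finite_of_isNoetherianRing A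
  have hne : ∀ Q : MaximalSpectrum (integralClosure A (FractionRing A)),
      Nonempty (VarNorm.EmbOf A (integralClosure A (FractionRing A)) Q) := by
    intro Q
    letI := Ideal.Quotient.field Q.asIdeal
    let D := integralClosure A (FractionRing A)
    have hmax : Q.asIdeal.comap (algebraMap A D) = IsLocalRing.maximalIdeal A :=
      IsLocalRing.eq_maximalIdeal (Ideal.isMaximal_comap_of_isIntegral_of_isMaximal Q.asIdeal)
    let κ := IsLocalRing.ResidueField A
    let φ : κ →+* D ⧸ Q.asIdeal := Ideal.Quotient.lift (IsLocalRing.maximalIdeal A) (algebraMap A (D ⧸ Q.asIdeal))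
      fun a ha => by
        rw [← hmax] at ha
        exact Ideal.Quotient.eq_zero_iff_mem.2 ha
    letI : Algebra κ (D ⧸ Q.asIdeal) := φ.toAlgebra
    have : IsScalarTower A κ (D ⧸ Q.asIdeal) := IsScalarTower.of_algebraMap_eq fun a => rfl
    have : Algebra.IsIntegral A (D ⧸ Q.asIdeal) := inferInstance
    have : Algebra.IsIntegral κ (D ⧸ Q.asIdeal) := Algebra.IsIntegral.tower_top A
    have : Algebra.IsAlgebraic κ (D ⧸ Q.asIdeal) := Algebra.IsIntegral.isAlgebraic
    let σ : (D ⧸ Q.asIdeal) →ₐ[κ] AlgebraicClosure κ := IsAlgClosed.lift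
    exact ⟨⟨σ.toRingHom, RingHom.ext fun a => σ.commutes (IsLocalRing.residue A a)⟩⟩
  refine ⟨?_, ?_, ?_⟩
  · rw [VarNorm.numBranches_eq A (FractionRing A) hmin]
    refine le_trans ?_ (VarNorm.card_sigma_embOf_le A (integralClosure A (FractionRing A)))
    refine ENat.card_le_card_of_injective (f := fun Q => (⟨Q, (hne Q).some⟩ :
      Σ Q : MaximalSpectrum (integralClosure A (FractionRing A)),
        VarNorm.EmbOf A (integralClosure A (FractionRing A)) Q)) fun a b h => congrArg Sigma.fst h
  · exact (VarDim1.deltaLength_lt_top (A := A)).ne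
  · rw [VarNorm.numBranches_eq A (FractionRing A) hmin]
    have : Nontrivial (integralClosure A (FractionRing A)) := inferInstance
    obtain ⟨I, hI⟩ := Ideal.exists_maximal (integralClosure A (FractionRing A))
    exact ENat.one_le_card_iff_nonempty _ |>.2 ⟨⟨I, hI⟩⟩

end Groth.Agent.Crv77
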