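import Groth.Agent.Crv77.GenusMono
import Groth.Agent.FF30.GeometricCrit

/-! The field of constants of a proper normal curve; the arithmetic genus. -/

set_option autoImplicit false
set_option linter.style.haveILetI false
set_option backward.isDefEq.respectTransparency false
set_option maxHeartbeats 1000000
universe u

open CategoryTheory CategoryTheory.Limits AlgebraicGeometry TopologicalSpace Opposite FunFld

namespace Groth.Agent.Crv77

section Tower

variable {k k' : Type u} [Field k] [Field k'] [Algebra k k'] {X : Scheme.{u}}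

theorem toGlobal_comp (s' : X ⟶ Spec (CommRingCat.of k')) (r : k) :
    Coh.toGlobal (s' ≫ Spec.map (CommRingCat.ofHom (algebraMap k k'))) r =
      Coh.toGlobal s' (algebraMap k k' r) := by
  have h := congr($(Scheme.ΓSpecIso_inv_naturality (CommRingCat.ofHom (algebraMap k k'))) r)
  show (s' ≫ Spec.map (CommRingCat.ofHom (algebraMap k k'))).appTop ((Scheme.ΓSpecIso (CommRingCat.of k)).inv r) =
    s'.appTop ((Scheme.ΓSpecIso (CommRingCat.of k')).inv (algebraMap k k' r))
  rw [Scheme.Hom.comp_appTop]
  exact congrArg s'.appTop h.symm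

variable [X.Over (Spec (CommRingCat.of k))]

/-- Cohomology dimensions over an extension of the constants. -/
theorem finrank_hh_tower (s' : X ⟶ Spec (CommRingCat.of k'))
    (hs : s' ≫ Spec.map (CommRingCat.ofHom (algebraMap k k')) = X ↘ Spec (CommRingCat.of k))
    (M : X.Modules) (i : ℕ) :
    Module.finrank k (Coh.HH X M i) = Module.finrank k k' *
      (letI : X.Over (Spec (CommRingCat.of k')) := ⟨s'⟩; Module.finrank k' (Coh.HH X M i)) := by
  letI : X.Over (Spec (CommRingCat.of k')) := ⟨s'⟩
  have : IsScalarTower k k' (Coh.HH X M i) := IsScalarTower.of_algebraMap_smul fun r x => by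
    show Coh.toGlobal s' (algebraMap k k' r) • x = Coh.toGlobal (X ↘ Spec (CommRingCat.of k)) r • x
    rw [← hs, toGlobal_comp]
  exact (Module.finrank_mul_finrank k k' (Coh.HH X M i)).symm

variable [IsIntegral X]

attribute [local instance] CrvPic30.ffAlg

/-- The structures of algebra on the function field over `k` and over an extension of the constants. -/
theorem isScalarTower_ffAlg (s' : X ⟶ Spec (CommRingCat.of k'))
    (hs : s' ≫ Spec.map (CommRingCat.ofHom (algebraMap k k')) = X ↘ Spec (CommRingCat.of k)) :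
    letI : X.Over (Spec (CommRingCat.of k')) := ⟨s'⟩
    IsScalarTower k k' X.functionField := by
  letI : X.Over (Spec (CommRingCat.of k')) := ⟨s'⟩
  refine IsScalarTower.of_algebraMap_eq fun r => ?_
  have : CommRingCat.ofHom (algebraMap k X.functionField) =
      CommRingCat.ofHom (algebraMap k k') ≫ CommRingCat.ofHom (algebraMap k' X.functionField) := by
    apply Spec.map_injective
    rw [Spec.map_comp, spec_ffAlg, spec_ffAlg, Category.assoc]
    exact congrArg (_ ≫ ·) hs.symm
  exact congr($this r)

end Tower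

variable (k : Type u) [Field k] (X : Scheme.{u}) [X.Over (Spec (CommRingCat.of k))] [IsIntegral X]
  [IsProper (X ↘ Spec (CommRingCat.of k))]

/-- A proper normal curve over its field of constants. -/
theorem exists_constField (hdim : topologicalKrullDim X = 1)
    (hst : ∀ y : X, ∃ _ : IsDomain (X.presheaf.stalk y), ValuationRing (X.presheaf.stalk y)) :
    ∃ (k' : Type u) (_ : Field k') (_ : Algebra k k') (s' : X ⟶ Spec (CommRingCat.of k')),
      FiniteDimensional k k' ∧
      s' ≫ Spec.map (CommRingCat.ofHom (algebraMap k k')) = X ↘ Spec (CommRingCat.of k) ∧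
      (letI : X.Over (Spec (CommRingCat.of k')) := ⟨s'⟩; CrvPic30.Setup k' X) ∧
      Function.Bijective (fun c : k' => Coh.toGlobal s' c) := by
  let f := X ↘ Spec (CommRingCat.of k)
  let iF : Field Γ(X, ⊤) := (isField_of_universallyClosed k f).toField
  let φ : CommRingCat.of k ⟶ Γ(X, ⊤) := (Scheme.ΓSpecIso (CommRingCat.of k)).inv ≫ f.appTop
  let _ : Algebra k Γ(X, ⊤) := φ.hom.toAlgebra
  have hfin : Module.Finite k Γ(X, ⊤) :=
    ((finite_appTop_of_universallyClosed k f).comp
      (RingHom.Finite.of_surjective _ (Scheme.ΓSpecIso (CommRingCat.of k)).symm.commRingCatIsoToRingEquiv.surjective) :)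
  let s' : X ⟶ Spec (CommRingCat.of Γ(X, ⊤)) := X.toSpecΓ
  have hs : s' ≫ Spec.map (CommRingCat.ofHom (algebraMap k Γ(X, ⊤))) = f := by
    show X.toSpecΓ ≫ Spec.map φ = f
    rw [Spec.map_comp, ← Category.assoc, ← Scheme.toSpecΓ_naturality f, Category.assoc, ← SpecMap_ΓSpecIso_hom,
      ← Spec.map_comp, Iso.inv_hom_id, Spec.map_id, Category.comp_id]
  have hb : Function.Bijective (fun c : Γ(X, ⊤) => Coh.toGlobal s' c) := by
    have : (fun c : Γ(X, ⊤) => Coh.toGlobal s' c) = id := by
      funext c
      show X.toSpecΓ.appTop ((Scheme.ΓSpecIso Γ(X, ⊤)).inv c) = c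
      rw [Scheme.toSpecΓ_appTop]
      exact congr($((Scheme.ΓSpecIso Γ(X, ⊤)).inv_hom_id) c)
    rw [this]; exact Function.bijective_id
  refine ⟨Γ(X, ⊤), iF, _, s', hfin, hs, ?_, hb⟩
  letI : X.Over (Spec (CommRingCat.of Γ(X, ⊤))) := ⟨s'⟩
  have : IsProper (s' ≫ Spec.map (CommRingCat.ofHom (algebraMap k Γ(X, ⊤)))) := hs ▸ inferInstance
  have : IsProper (X ↘ Spec (CommRingCat.of Γ(X, ⊤))) :=
    IsProper.of_comp s' (Spec.map (CommRingCat.ofHom (algebraMap k Γ(X, ⊤))))
  refine setup_of_h0 hdim hst ?_
  let one : Γ(Coh.structureModule X, ⊤) := (1 : Γ(X, ⊤))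
  let v := (sec (Coh.structureModule X)).symm one
  have hsec : ∀ c : Γ(X, ⊤), sec (Coh.structureModule X) (c • v) =
      (show Γ(Coh.structureModule X, ⊤) from Coh.toGlobal s' c) := fun c => by
    rw [sec_smul, AddEquiv.apply_symm_apply]
    exact mul_one (show Γ(X, ⊤) from Coh.toGlobal s' c)
  refine (LinearEquiv.ofBijective (LinearMap.toSpanSingleton Γ(X, ⊤) _ v) ⟨fun a b h => hb.1 ?_, fun w => ?_⟩).finrank_eq.symm.trans
    (Module.finrank_self _)
  · have h2 := congrArg (sec (Coh.structureModule X)) h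
    rw [LinearMap.toSpanSingleton_apply, LinearMap.toSpanSingleton_apply, hsec, hsec] at h2
    exact h2
  · obtain ⟨c, hc⟩ := hb.2 (sec (Coh.structureModule X) w)
    exact ⟨c, (sec (Coh.structureModule X)).injective ((hsec c).trans hc)⟩

end Groth.Agent.Crv77
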