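import Groth.Agent.Crv77.TraceGenus
import Groth.Agent.FF30.GeometricCrit
import Mathlib.RingTheory.PowerBasis
import Mathlib.FieldTheory.PrimitiveElement

/-! The genus in a separable extension with a bigger field of constants. -/

set_option autoImplicit false
universe u v

open FunFld

namespace Groth.Agent.Crv77.Trace

variable {k k' : Type u} {K K' : Type v} [Field k] [Field k'] [Field K] [Field K'] [Algebra k k']
  [Algebra k K] [Algebra K K'] [Algebra k' K'] [Algebra k K'] [IsScalarTower k k' K']
  [IsScalarTower k K K'] [FiniteDimensional k k'] [FiniteDimensional K K'] [Algebra.IsSeparable K K']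

/-- The genus does not drop in a separable extension, also with more constants. -/
theorem genus_le_const (hK : IsFunctionField k K) (hK' : IsFunctionField k' K') :
    genus k K ≤ genus k' K' := by
  classical
  have hmin : ∀ c : k', minpoly K (algebraMap k' K' c) = (minpoly k c).map (algebraMap k K) := fun c => by
    have hc : IsIntegral k c := Algebra.IsIntegral.isIntegral c
    refine (minpoly.eq_of_irreducible_of_monic (FF30.irreducible_map_of_closed hK.2 (minpoly.monic hc)
      (minpoly.irreducible hc)) ?_ ((minpoly.monic hc).map _)).symm
    rw [Polynomial.aeval_map_algebraMap, show algebraMap k' K' c = IsScalarTower.toAlgHom k k' K' c from rfl,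
      Polynomial.aeval_algHom_apply, minpoly.aeval, map_zero]
  have : Algebra.IsSeparable k k' := ⟨fun c => by
    have h := Algebra.IsSeparable.isSeparable K (algebraMap k' K' c)
    rw [IsSeparable, hmin, Polynomial.separable_map] at h
    exact h⟩
  obtain ⟨α, hα⟩ := Field.exists_primitive_element k k'
  set y := algebraMap k' K' α
  have hd : (minpoly K y).natDegree = Module.finrank k k' := by
    rw [hmin, Polynomial.natDegree_map, ← IntermediateField.adjoin.finrank (Algebra.IsIntegral.isIntegral α), hα,
      IntermediateField.finrank_top']
  have hli : LinearIndependent K fun i : Fin (minpoly K y).natDegree => y ^ (i : ℕ) := linearIndependent_pow y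
  have hω : ∀ (i : Fin (minpoly K y).natDegree) (Q : Place k K'), Q.1 (y ^ (i : ℕ)) ≤ 1 := fun i Q => by
    have h := ((Diff31.placeEquiv k k' K').symm Q).2.1 (α ^ (i : ℕ))
    rwa [map_pow] at h
  have hFK' : FF30.FF k K' := (FF30.FF.of_isFunctionField hK).extension K'
  have h := card_mul_finrank_quot_le (FF30.FF.of_isFunctionField hK) _ hω hli
  rw [Fintype.card_fin, hd, finrank_quot_of_isFunctionField hK, finrank_quot_const hK' hFK'] at h
  exact Nat.le_of_mul_le_mul_left h Module.finrank_pos

end Groth.Agent.Crv77.Trace
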