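import Groth.Agent.FF30.Rational
import Groth.Agent.FF30.RR
import Groth.Agent.Hyp31.DoubleLine

/-! Function fields of degree two over a rational subfield: a normal form for the functions with poles
along the pole divisor, and the quadratic equation. -/

set_option autoImplicit false

open FunFld WithZero IntermediateField Polynomial
open scoped Multiplicative

namespace Groth.Agent.Crv77.DL

open FF30

variable {k K : Type*} [Field k] [Field K] [Algebra k K]

theorem finiteDimensional_two {z : K} (hz : Module.finrank k⟮z⟯ K = 2) : FiniteDimensional k⟮z⟯ K :=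
  Module.finite_of_finrank_eq_succ hz

variable (hK : IsFunctionField k K) {z : K} (hz : Module.finrank k⟮z⟯ K = 2)
include hK hz

theorem transcendental : Transcendental k z := Hyp31.transcendental_of_double hK hz

theorem deg_poleDiv_eq : (poleDiv z : Divisor k K).deg = 2 := by
  rw [(FF.of_isFunctionField hK).deg_poleDiv (transcendental hK hz), hz]
  rfl

omit hz in
theorem mem_L_nsmul_iff {x : K} (n : ℕ) :
    x ∈ L (n • (poleDiv z : Divisor k K)) ↔ ∀ P : Place k K, P.1 x ≤ exp ((n : ℤ) * max (-P.ord z) 0) := by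
  rw [FF30.mem_L]
  refine forall_congr' fun P => ?_
  rw [Finsupp.coe_smul, Pi.smul_apply, (FF.of_isFunctionField hK).poleDiv_apply, nsmul_eq_mul]

omit hz in
theorem val_pow_le (P : Place k K) {n i : ℕ} (h : i ≤ n) :
    P.1 (z ^ i) ≤ exp ((n : ℤ) * max (-P.ord z) 0) := by
  by_cases hz0 : z = 0
  · subst hz0
    rcases Nat.eq_zero_or_pos i with rfl | hi
    · rw [pow_zero, map_one, ← exp_zero, exp_le_exp]
      exact mul_nonneg (by positivity) (le_max_right _ _)
    · rw [zero_pow hi.ne', map_zero]; exact zero_le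
  · rw [FF30.val_le_exp_iff P (pow_ne_zero i hz0), FF30.ord_pow]
    have h1 : (i : ℤ) * (-P.ord z) ≤ (n : ℤ) * max (-P.ord z) 0 :=
      (mul_le_mul_of_nonneg_left (le_max_left _ _) (by positivity)).trans
        (mul_le_mul_of_nonneg_right (by exact_mod_cast h) (le_max_right _ _))
    linarith

omit hz in
/-- Polynomials of degree at most `n` lie in `L(n D)`. -/
theorem aeval_mem_L {a : k[X]} {n : ℕ} (ha : a ∈ degreeLE k n) :
    aeval z a ∈ L (n • (poleDiv z : Divisor k K)) := by
  rw [Polynomial.mem_degreeLE, Polynomial.degree_le_iff_coeff_zero] at ha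
  rw [aeval_eq_sum_range]
  refine Submodule.sum_mem _ fun i _ => ?_
  by_cases h : i ≤ n
  · refine Submodule.smul_mem _ _ ?_
    exact (mem_L_nsmul_iff hK n).2 fun P => val_pow_le hK P h
  · rw [ha i (by exact_mod_cast not_le.1 h), zero_smul]
    exact zero_mem _

omit hz in
theorem mul_mem_L {x y : K} {m n : ℕ} (hx : x ∈ L (m • (poleDiv z : Divisor k K)))
    (hy : y ∈ L (n • (poleDiv z : Divisor k K))) : x * y ∈ L ((m + n) • (poleDiv z : Divisor k K)) := by
  rw [mem_L_nsmul_iff hK] at hx hy ⊢
  intro P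
  rw [map_mul, Nat.cast_add, add_mul, exp_add]
  exact mul_le_mul' (hx P) (hy P)

omit hz in
theorem L_mono_nsmul {m n : ℕ} (h : m ≤ n) :
    L (m • (poleDiv z : Divisor k K)) ≤ L (n • (poleDiv z : Divisor k K)) :=
  fun _ hx => (mem_L_nsmul_iff hK n).2 fun P => ((mem_L_nsmul_iff hK m).1 hx P).trans
    (exp_le_exp.2 (mul_le_mul_of_nonneg_right (by exact_mod_cast h) (le_max_right _ _)))

omit hz in
/-- Dividing by a power of `z`. -/
theorem mem_L_of_pow_mul {w : K} {n j m : ℕ} (hw : w ∈ L (m • (poleDiv z : Divisor k K)))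
    (h : z ^ j * w ∈ L ((n + j) • (poleDiv z : Divisor k K))) : w ∈ L (n • (poleDiv z : Divisor k K)) := by
  rw [mem_L_nsmul_iff hK] at hw h ⊢
  intro P
  by_cases hP : P.ord z < 0
  · have hz0 : z ≠ 0 := fun e => by rw [e, FF30.ord_zero] at hP; exact lt_irrefl _ hP
    by_cases hw0 : w = 0
    · rw [hw0, map_zero]; exact zero_le
    have h1 := h P
    rw [FF30.val_le_exp_iff P (mul_ne_zero (pow_ne_zero _ hz0) hw0), FF30.ord_mul P (pow_ne_zero _ hz0) hw0,
      FF30.ord_pow, max_eq_left (by omega)] at h1
    rw [FF30.val_le_exp_iff P hw0, max_eq_left (by omega)]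
    push_cast at h1
    linarith
  · have h1 := hw P
    rw [max_eq_right (by omega), mul_zero] at h1 ⊢
    exact h1

/-- Elements of `k(z)` in `L(n D)` are polynomials of degree at most `n`. -/
theorem exists_poly_of_mem {v : K} (hv : v ∈ k⟮z⟯) {n : ℕ}
    (hn : v ∈ L (n • (poleDiv z : Divisor k K))) : ∃ a ∈ degreeLE k n, v = aeval z a := by
  have htr := transcendental hK hz
  have hF := FF.of_isFunctionField hK
  obtain ⟨r, s, rfl⟩ := (mem_adjoin_simple_iff k v).1 hv
  -- the function is a polynomial
  obtain ⟨a, ha⟩ : ∃ a : k[X], aeval z r / aeval z s = aeval z a := by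
    by_cases hs : s = 0
    · exact ⟨0, by rw [hs, map_zero, div_zero]⟩
    obtain ⟨r', s', c, hrel, hr, hs'⟩ := UniqueFactorizationMonoid.exists_reduced_factors' r s hs
    have hc : aeval z c ≠ 0 := by
      refine fun h => hs ?_
      have : c = 0 := (transcendental_iff.1 htr) c h
      rw [← hs', this, zero_mul]
    have heq : aeval z r / aeval z s = aeval z r' / aeval z s' := by
      rw [← hr, ← hs', map_mul, map_mul, mul_div_mul_left _ _ hc]
    by_cases hu : IsUnit s'
    · obtain ⟨e, he, rfl⟩ := Polynomial.isUnit_iff.1 hu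
      refine ⟨C e⁻¹ * r', ?_⟩
      rw [heq, map_mul, aeval_C, aeval_C, map_inv₀, mul_comm, div_eq_mul_inv]
    · exfalso
      have hs0 : s' ≠ 0 := fun h => hs (by rw [← hs', h, mul_zero])
      obtain ⟨p, q, hpq⟩ := hrel.isCoprime
      have hst : Transcendental k (aeval z s') := by
        refine htr.aeval s' ?_ (mem_nonZeroDivisors_of_ne_zero (leadingCoeff_ne_zero.2 hs0))
        by_contra hdeg
        exact hu (Polynomial.isUnit_iff_degree_eq_zero.2
          ((degree_eq_natDegree hs0).trans (by rw [show s'.natDegree = 0 by omega]; rfl)))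
      obtain ⟨P, hP⟩ := hF.exists_place_pos hst
      have hz' : ¬ P.ord z < 0 := by
        intro hneg
        have h1 := congrArg (aeval (R := k) z) hpq
        have hval : ∀ f : k[X], f ≠ 0 → P.ord (aeval z f) ≤ 0 := by
          intro f hf
          have hv1 : 1 < P.1 z := (FF30.one_lt_val_iff P).2 hneg
          have : 1 ≤ P.1 (aeval z f) := by
            rw [aeval_def, eval₂_eq_sum_range,
              Valuation.map_sum_eq_of_lt (j := f.natDegree) _ (by simp) ?_]
            · rw [map_mul, map_pow, FF30.val_algebraMap P (by exact leadingCoeff_ne_zero.2 hf), one_mul]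
              exact one_le_pow₀ hv1.le
            · intro i hi
              rw [Finset.mem_sdiff, Finset.mem_range, Finset.mem_singleton] at hi
              rw [map_mul, map_mul, map_pow, map_pow,
                FF30.val_algebraMap P (show f.coeff f.natDegree ≠ 0 from leadingCoeff_ne_zero.2 hf), one_mul]
              by_cases hci : f.coeff i = 0
              · rw [hci, map_zero, map_zero, zero_mul]
                exact pow_pos (zero_lt_one.trans hv1) _
              · rw [FF30.val_algebraMap P hci, one_mul]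
                exact pow_lt_pow_right₀ hv1 (by omega)
          by_contra hpos
          have hne : aeval z f ≠ 0 := fun h => hf ((transcendental_iff.1 htr) f h)
          exact absurd this (not_le.2 ((FF30.val_lt_one_iff P hne).2 (by omega)))
        exact absurd (hval s' hs0) (by omega)
      have hreg : ∀ f : k[X], P.1 (aeval z f) ≤ 1 := by
        intro f
        rw [aeval_eq_sum_range]
        refine P.1.map_sum_le fun i _ => (FF30.val_smul_le P _ _).trans ?_
        rw [map_pow]
        exact pow_le_one₀ zero_le ((FF30.val_le_one_iff P).2 (by omega))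
      have hlt : P.1 (aeval z s') < 1 :=
        (FF30.val_lt_one_iff P (fun h => hs0 ((transcendental_iff.1 htr) s' h))).2 hP
      have hr1 : P.1 (aeval z r') = 1 := by
        refine le_antisymm (hreg r') (not_lt.1 fun hr' => ?_)
        have h1 := congrArg (fun f : k[X] => P.1 (aeval z f)) hpq
        simp only [map_add, map_mul, map_one] at h1
        have h2 : P.1 (aeval z p * aeval z r' + aeval z q * aeval z s') < 1 := by
          refine P.1.map_add_lt ?_ ?_
          · rw [map_mul]; exact mul_lt_one_of_nonneg_of_lt_one_right (hreg p) zero_le hr'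
          · rw [map_mul]; exact mul_lt_one_of_nonneg_of_lt_one_right (hreg q) zero_le hlt
        rw [h1] at h2
        exact lt_irrefl _ h2
      have h3 := (mem_L_nsmul_iff hK n).1 hn P
      rw [heq, map_div₀, hr1, max_eq_right (by omega), mul_zero, exp_zero, div_le_one₀
        (zero_lt_iff.2 ((Valuation.ne_zero_iff _).2 fun h => hs0 ((transcendental_iff.1 htr) s' h)))] at h3
      exact not_le.2 hlt h3
  rw [ha] at hn ⊢
  -- its degree
  clear ha
  induction n generalizing a with
  | zero =>
    rw [zero_smul, FF30.L_zero' hK, FF30.mem_one_iff] at hn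
    obtain ⟨c, hc⟩ := hn
    refine ⟨a, ?_, rfl⟩
    have : a = C c := by
      have h1 : aeval z a = aeval z (C c) := by rw [aeval_C, hc]
      exact transcendental_iff_injective.1 htr h1
    rw [this, Polynomial.mem_degreeLE]
    exact degree_C_le
  | succ n ih =>
    have hzw : z * aeval z a.divX = aeval z a - algebraMap k K (a.coeff 0) := by
      rw [eq_sub_iff_add_eq]
      conv_rhs => rw [← X_mul_divX_add a]
      rw [map_add, map_mul, aeval_X, aeval_C]
    have h1 : z ^ 1 * aeval z a.divX ∈ L ((n + 1) • (poleDiv z : Divisor k K)) := by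
      rw [pow_one, hzw]
      refine sub_mem hn ?_
      have := aeval_mem_L hK (z := z) (a := C (a.coeff 0)) (n := n + 1)
        (Polynomial.mem_degreeLE.2 (degree_C_le.trans (WithBot.coe_le_coe.2 (Nat.zero_le _))))
      rwa [aeval_C] at this
    have h2 : aeval z a.divX ∈ L (a.divX.natDegree • (poleDiv z : Divisor k K)) :=
      aeval_mem_L hK (Polynomial.mem_degreeLE.2 degree_le_natDegree)
    obtain ⟨b, hb, hb'⟩ := ih a.divX (mem_L_of_pow_mul hK h2 h1)
    refine ⟨a, ?_, rfl⟩
    rw [Polynomial.mem_degreeLE] at hb ⊢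
    refine (degree_le_iff_coeff_zero _ _).2 fun i hi => ?_
    obtain ⟨j, rfl⟩ : ∃ j, i = j + 1 := ⟨i - 1, by
      have : n + 1 < i := by exact_mod_cast hi
      omega⟩
    rw [← coeff_divX, transcendental_iff_injective.1 htr hb']
    exact (degree_le_iff_coeff_zero _ _).1 hb j (by
      have : n + 1 < j + 1 := by exact_mod_cast hi
      exact_mod_cast (show n < j by omega))

omit hK in
/-- `1` and an element outside `k(z)` are independent over `k[z]`. -/
theorem eq_of_add_mul_eq {y : K} (hy : y ∉ k⟮z⟯) (htr : Transcendental k z) {a b a' b' : k[X]}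
    (h : aeval z a + aeval z b * y = aeval z a' + aeval z b' * y) : a = a' ∧ b = b' := by
  have hb : b = b' := by
    by_contra hne
    have hne' : aeval z (b - b') ≠ 0 := fun e => hne (sub_eq_zero.1 ((transcendental_iff.1 htr) _ e))
    refine hy ?_
    have : y = aeval z (a' - a) / aeval z (b - b') := by
      rw [eq_div_iff hne', map_sub, map_sub]
      linear_combination h
    rw [this]
    exact div_mem (algebra_adjoin_le_adjoin k {z} (aeval_mem_adjoin_singleton k z))
      (algebra_adjoin_le_adjoin k {z} (aeval_mem_adjoin_singleton k z))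
  subst hb
  exact ⟨transcendental_iff_injective.1 htr (add_right_cancel h), rfl⟩

/-- The parametrisation `(a, b) ↦ a(z) + b(z) y`. -/
theorem finrank_range_le {y : K} (hy : y ∉ k⟮z⟯) {m N : ℕ} (hm : m ≤ N + 1)
    (hyL : y ∈ L (m • (poleDiv z : Divisor k K))) :
    ∃ Φ : (degreeLE k (N : WithBot ℕ)) × (degreeLT k (N + 1 - m)) →ₗ[k] L (N • (poleDiv z : Divisor k K)),
      Function.Injective Φ ∧ (∀ x, (Φ x : K) = aeval z (x.1 : k[X]) + aeval z (x.2 : k[X]) * y) := by
  let φ : (degreeLE k (N : WithBot ℕ)) × (degreeLT k (N + 1 - m)) →ₗ[k] K :=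
    ((aeval (R := k) z).toLinearMap ∘ₗ (degreeLE k (N : WithBot ℕ)).subtype ∘ₗ LinearMap.fst k _ _) +
      (LinearMap.mulRight k y ∘ₗ (aeval (R := k) z).toLinearMap ∘ₗ (degreeLT k (N + 1 - m)).subtype ∘ₗ
        LinearMap.snd k _ _)
  have hmem : ∀ x, φ x ∈ L (N • (poleDiv z : Divisor k K)) := by
    rintro ⟨⟨a, ha⟩, ⟨b, hb⟩⟩
    refine add_mem (aeval_mem_L hK ha) ?_
    show aeval z b * y ∈ _
    rcases Nat.eq_zero_or_pos (N + 1 - m) with h0 | hpos
    · rw [h0, Polynomial.mem_degreeLT] at hb
      rw [show b = 0 from degree_eq_bot.1 (Nat.WithBot.lt_zero_iff.1 hb), map_zero, zero_mul]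
      exact zero_mem _
    · have hb' : b ∈ degreeLE k ((N - m : ℕ) : WithBot ℕ) := by
        rw [Polynomial.mem_degreeLT] at hb
        rw [Polynomial.mem_degreeLE]
        by_cases hb0 : b = 0
        · simp [hb0]
        · rw [degree_eq_natDegree hb0] at hb ⊢
          have : b.natDegree < N + 1 - m := by exact_mod_cast hb
          exact_mod_cast (show b.natDegree ≤ N - m by omega)
      have := mul_mem_L hK (aeval_mem_L hK hb') hyL
      rwa [show N - m + m = N by omega] at this
  refine ⟨φ.codRestrict _ hmem, ?_, fun x => rfl⟩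
  rintro ⟨a, b⟩ ⟨a', b'⟩ h
  obtain ⟨h1, h2⟩ := eq_of_add_mul_eq hz hy (transcendental hK hz) (congrArg Subtype.val h)
  exact Prod.ext (Subtype.ext h1) (Subtype.ext h2)

omit hK hz in
theorem finrank_domain (N M : ℕ) :
    Module.Finite k ((degreeLE k (N : WithBot ℕ)) × (degreeLT k M)) ∧
      Module.finrank k ((degreeLE k (N : WithBot ℕ)) × (degreeLT k M)) = N + 1 + M := by
  have e1 : degreeLE k (N : WithBot ℕ) = degreeLT k (N + 1) := by
    ext f
    rw [Polynomial.mem_degreeLE, Polynomial.mem_degreeLT, degree_le_iff_coeff_zero, degree_lt_iff_coeff_zero]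
    exact forall_congr' fun i => ⟨fun h hi => h (by exact_mod_cast Nat.lt_of_succ_le hi),
      fun h hi => h (Nat.succ_le_of_lt (by exact_mod_cast hi))⟩
  rw [e1]
  have := Module.Finite.equiv (degreeLTEquiv k (N + 1)).symm
  have := Module.Finite.equiv (degreeLTEquiv k M).symm
  refine ⟨inferInstance, ?_⟩
  rw [Module.finrank_prod, (degreeLTEquiv k (N + 1)).finrank_eq, (degreeLTEquiv k M).finrank_eq,
    Module.finrank_fin_fun, Module.finrank_fin_fun]

/-- Functions outside `k(z)` need pole order at least `g + 1`. -/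
theorem genus_lt_of_mem {y : K} (hy : y ∉ k⟮z⟯) {m : ℕ} (hyL : y ∈ L (m • (poleDiv z : Divisor k K))) :
    FunFld.genus k K < m := by
  set g := FunFld.genus k K
  let N := m + 2 * g + 1
  obtain ⟨Φ, hΦ, -⟩ := finrank_range_le hK hz hy (N := N) (by omega) hyL
  obtain ⟨hfin, hdim⟩ := finrank_domain (k := k) N (N + 1 - m)
  have := (FF.of_isFunctionField hK).finite_L (N • (poleDiv z : Divisor k K))
  have h1 := LinearMap.finrank_le_finrank_of_injective hΦ
  have hd : (N • (poleDiv z : Divisor k K)).deg = 2 * N := by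
    rw [FF30.deg_nsmul, deg_poleDiv_eq hK hz]; ring
  have h2 := FF30.ell_eq_of_deg_gt hK (D := N • (poleDiv z : Divisor k K)) (by rw [hd]; push_cast [N]; omega)
  rw [hd] at h2
  rw [hdim] at h1
  unfold ell at h2
  omega

/-- A function of minimal pole order outside `k(z)`. -/
theorem exists_gen : ∃ y, y ∉ k⟮z⟯ ∧ y ∈ L ((FunFld.genus k K + 1) • (poleDiv z : Divisor k K)) := by
  by_contra hne
  push Not at hne
  set g := FunFld.genus k K
  have hF := FF.of_isFunctionField hK
  have := hF.finite_L ((g + 1) • (poleDiv z : Divisor k K))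
  have hle : L ((g + 1) • (poleDiv z : Divisor k K)) ≤
      (degreeLE k ((g + 1 : ℕ) : WithBot ℕ)).map (aeval (R := k) z).toLinearMap := by
    intro v hv
    obtain ⟨a, ha, rfl⟩ := exists_poly_of_mem hK hz (by_contra fun h => hne v h hv) hv
    exact ⟨a, ha, rfl⟩
  obtain ⟨hfin, hdim⟩ := finrank_domain (k := k) (g + 1) 0
  have e1 : Module.finrank k (degreeLE k ((g + 1 : ℕ) : WithBot ℕ)) = g + 1 + 1 ∧
      Module.Finite k (degreeLE k ((g + 1 : ℕ) : WithBot ℕ)) := by
    have := Module.Finite.of_surjective (LinearMap.fst k (degreeLE k ((g + 1 : ℕ) : WithBot ℕ)) (degreeLT k 0))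
      fun a => ⟨(a, 0), rfl⟩
    have := Module.Finite.equiv (degreeLTEquiv k 0).symm
    rw [Module.finrank_prod, (degreeLTEquiv k 0).finrank_eq, Module.finrank_fin_fun] at hdim
    exact ⟨hdim, ‹_›⟩
  have := e1.2
  have h1 := (Submodule.finrank_mono hle).trans (Submodule.finrank_map_le _ _)
  have h2 := hF.delta_le_genus ((g + 1) • (poleDiv z : Divisor k K))
  unfold delta at h2
  rw [FF30.deg_nsmul, deg_poleDiv_eq hK hz] at h2
  rw [e1.1] at h1
  unfold ell at h2
  push_cast at h2
  omega

/-- **Normal form.** -/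
theorem exists_repr {y : K} (hy : y ∉ k⟮z⟯)
    (hyL : y ∈ L ((FunFld.genus k K + 1) • (poleDiv z : Divisor k K))) {v : K} {n : ℕ}
    (hv : v ∈ L (n • (poleDiv z : Divisor k K))) :
    ∃ a ∈ degreeLE k (n : WithBot ℕ), ∃ b ∈ degreeLT k (n - FunFld.genus k K),
      v = aeval z a + aeval z b * y := by
  set g := FunFld.genus k K
  have hF := FF.of_isFunctionField hK
  suffices H : ∀ (j n : ℕ), 2 * g + 1 ≤ n + j → ∀ v ∈ L (n • (poleDiv z : Divisor k K)),
      ∃ a ∈ degreeLE k (n : WithBot ℕ), ∃ b ∈ degreeLT k (n - g), v = aeval z a + aeval z b * y from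
    H (2 * g + 1) n (by omega) v hv
  intro j
  induction j with
  | zero =>
    intro n hn v hv
    obtain ⟨Φ, hΦ, hΦ'⟩ := finrank_range_le hK hz hy (N := n) (by omega) hyL
    obtain ⟨hfin, hdim⟩ := finrank_domain (k := k) n (n + 1 - (g + 1))
    have := hF.finite_L (n • (poleDiv z : Divisor k K))
    have hd : (n • (poleDiv z : Divisor k K)).deg = 2 * n := by
      rw [FF30.deg_nsmul, deg_poleDiv_eq hK hz]; ring
    have h2 := FF30.ell_eq_of_deg_gt hK (D := n • (poleDiv z : Divisor k K)) (by rw [hd]; omega)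
    rw [hd] at h2
    have hsurj : Function.Surjective Φ :=
      (LinearMap.injective_iff_surjective_of_finrank_eq_finrank (by
        rw [hdim]; unfold ell at h2; omega)).1 hΦ
    obtain ⟨⟨⟨a, ha⟩, ⟨b, hb⟩⟩, h⟩ := hsurj ⟨v, hv⟩
    refine ⟨a, ha, b, by rwa [show n + 1 - (g + 1) = n - g by omega] at hb, ?_⟩
    exact (congrArg Subtype.val h).symm.trans (hΦ' _)
  | succ j ih =>
    intro n hn v hv
    obtain ⟨a, ha, b, hb, hab⟩ := ih (n + 1) (by omega) v (L_mono_nsmul hK n.le_succ hv)
    by_cases hng : n < g + 1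
    · -- everything lies in `k(z)`
      have hvz : v ∈ k⟮z⟯ := by
        by_contra hnot
        have := genus_lt_of_mem hK hz hnot hv
        omega
      obtain ⟨a', ha', hva⟩ := exists_poly_of_mem hK hz hvz hv
      exact ⟨a', ha', 0, zero_mem _, by rw [hva, map_zero, zero_mul, add_zero]⟩
    rw [Polynomial.mem_degreeLE, degree_le_iff_coeff_zero] at ha
    rw [Polynomial.mem_degreeLT, degree_lt_iff_coeff_zero] at hb
    set c := a.coeff (n + 1)
    set e := b.coeff (n - g)
    set a' := a - C c * X ^ (n + 1)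
    set b' := b - C e * X ^ (n - g)
    have ha' : a' ∈ degreeLE k (n : WithBot ℕ) := by
      rw [Polynomial.mem_degreeLE, degree_le_iff_coeff_zero]
      intro i hi
      have hi' : n < i := by exact_mod_cast hi
      simp only [a', coeff_sub, coeff_C_mul, coeff_X_pow]
      rcases eq_or_ne i (n + 1) with rfl | hne
      · simp [c]
      · rw [ha i (by exact_mod_cast (show n + 1 < i by omega))]; simp [hne]
    have hb' : b' ∈ degreeLT k (n - g) := by
      rw [Polynomial.mem_degreeLT, degree_lt_iff_coeff_zero]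
      intro i hi
      simp only [b', coeff_sub, coeff_C_mul, coeff_X_pow]
      rcases eq_or_ne i (n - g) with rfl | hne
      · simp [e]
      · rw [hb i (by omega)]; simp [hne]
    obtain ⟨Φ, -, hΦ'⟩ := finrank_range_le hK hz hy (N := n) (by omega) hyL
    have hlow : aeval z a' + aeval z b' * y ∈ L (n • (poleDiv z : Divisor k K)) := by
      have hb'' : b' ∈ degreeLT k (n + 1 - (g + 1)) := by rwa [show n + 1 - (g + 1) = n - g by omega]
      have := (Φ (⟨a', ha'⟩, ⟨b', hb''⟩)).2
      rwa [hΦ'] at this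
    set w := algebraMap k K c * z ^ (g + 1) + algebraMap k K e * y
    have hdec : z ^ (n - g) * w = v - (aeval z a' + aeval z b' * y) := by
      rw [hab]
      simp only [w, a', b', map_sub, map_mul, aeval_C, map_pow, aeval_X]
      rw [show n + 1 = (n - g) + (g + 1) by omega, pow_add z (n - g) (g + 1)]
      ring
    have hw : w ∈ L ((g + 1) • (poleDiv z : Divisor k K)) := by
      refine add_mem ?_ ?_
      · rw [← Algebra.smul_def]
        exact Submodule.smul_mem _ _ ((mem_L_nsmul_iff hK _).2 fun P => val_pow_le hK P le_rfl)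
      · rw [← Algebra.smul_def]
        exact Submodule.smul_mem _ _ hyL
    have hw' : w ∈ L (g • (poleDiv z : Divisor k K)) := by
      refine mem_L_of_pow_mul hK (j := n - g) hw ?_
      rw [hdec, show g + (n - g) = n by omega]
      exact sub_mem hv hlow
    have hwz : w ∈ k⟮z⟯ := by
      by_contra hnot
      have := genus_lt_of_mem hK hz hnot hw'
      omega
    obtain ⟨p, hp, hwp⟩ := exists_poly_of_mem hK hz hwz hw'
    have h3 : aeval z (C c * X ^ (g + 1)) + aeval z (C e) * y = aeval z p + aeval z (0 : k[X]) * y := by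
      simp only [map_mul, aeval_C, map_pow, aeval_X, map_zero, zero_mul, add_zero]
      exact hwp
    obtain ⟨h4, h5⟩ := eq_of_add_mul_eq hz hy (transcendental hK hz) h3
    have hc : c = 0 := by
      have := congrArg (fun f : k[X] => f.coeff (g + 1)) h4
      rw [Polynomial.mem_degreeLE, degree_le_iff_coeff_zero] at hp
      simpa [hp (g + 1) (by exact_mod_cast g.lt_succ_self)] using this
    have he : e = 0 := by simpa using congrArg (fun f : k[X] => f.coeff 0) h5
    refine ⟨a', ha', b', hb', ?_⟩
    have hw0 : z ^ (n - g) * w = 0 := by simp [w, hc, he]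
    rw [hdec, sub_eq_zero] at hw0
    exact hw0

/-- **The quadratic equation.** -/
theorem exists_equation {y : K} (hy : y ∉ k⟮z⟯)
    (hyL : y ∈ L ((FunFld.genus k K + 1) • (poleDiv z : Divisor k K))) :
    ∃ P Q : k[X], y ^ 2 + aeval z Q * y = aeval z P ∧ P.natDegree ≤ 2 * FunFld.genus k K + 2 ∧
      Q.natDegree ≤ FunFld.genus k K + 1 := by
  set g := FunFld.genus k K
  obtain ⟨a, ha, b, hb, h⟩ := exists_repr hK hz hy hyL (mul_mem_L hK hyL hyL)
  refine ⟨a, -b, ?_, ?_, ?_⟩
  · rw [map_neg, pow_two, h]; ring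
  · rw [Polynomial.mem_degreeLE] at ha
    exact natDegree_le_iff_degree_le.2 (ha.trans (by exact_mod_cast (show g + 1 + (g + 1) ≤ 2 * g + 2 by omega)))
  · rw [natDegree_neg]
    rw [Polynomial.mem_degreeLT, degree_lt_iff_coeff_zero] at hb
    exact natDegree_le_iff_coeff_eq_zero.2 fun i hi => hb i (by omega)

/-- The equation has degree at least `2g + 1`. -/
theorem le_degree {y : K} (hy : y ∉ k⟮z⟯)
    (hyL : y ∈ L ((FunFld.genus k K + 1) • (poleDiv z : Divisor k K))) {P Q : k[X]}
    (h : y ^ 2 + aeval z Q * y = aeval z P) :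
    2 * FunFld.genus k K + 1 ≤ max (2 * Q.natDegree) P.natDegree := by
  by_contra hlt
  set g := FunFld.genus k K
  have hP : P ∈ degreeLE k ((2 * g : ℕ) : WithBot ℕ) :=
    Polynomial.mem_degreeLE.2 (natDegree_le_iff_degree_le.1 (by omega))
  have hQ : Q ∈ degreeLE k ((g : ℕ) : WithBot ℕ) :=
    Polynomial.mem_degreeLE.2 (natDegree_le_iff_degree_le.1 (by omega))
  have hyg : y ∈ L (g • (poleDiv z : Divisor k K)) := by
    rw [mem_L_nsmul_iff hK]
    intro p
    set B := exp ((g : ℤ) * max (-p.ord z) 0)
    by_contra hB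
    rw [not_le] at hB
    have hPv := (mem_L_nsmul_iff hK _).1 (aeval_mem_L (z := z) hK hP) p
    rw [Nat.cast_mul, Nat.cast_ofNat, mul_assoc, two_mul, exp_add] at hPv
    have h1 : p.1 (y ^ 2) = p.1 (aeval z P - aeval z Q * y) := by
      rw [show aeval z P - aeval z Q * y = y ^ 2 by rw [← h]; ring]
    have hy0 : 0 < p.1 y := lt_of_le_of_lt zero_le hB
    have h2 : p.1 (aeval z P - aeval z Q * y) < p.1 y * p.1 y := by
      refine p.1.map_sub_lt ?_ ?_
      · refine lt_of_le_of_lt hPv ?_
        exact mul_lt_mul'' hB hB zero_le zero_le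
      · rw [map_mul]
        exact mul_lt_mul_of_pos_right
          (lt_of_le_of_lt ((mem_L_nsmul_iff hK _).1 (aeval_mem_L (z := z) hK hQ) p) hB) hy0
    rw [← h1, map_pow, pow_two] at h2
    exact lt_irrefl _ h2
  exact absurd (genus_lt_of_mem hK hz hy hyg) (lt_irrefl g)

/-- `z` and `y` generate. -/
theorem adjoin_eq_top {y : K} (hy : y ∉ k⟮z⟯) : IntermediateField.adjoin k ({z, y} : Set K) = ⊤ := by
  have hle : k⟮z⟯ ≤ IntermediateField.adjoin k ({z, y} : Set K) :=
    IntermediateField.adjoin.mono _ _ _ (by simp)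
  have hd := IntermediateField.finrank_dvd_of_le_left hle
  rw [hz, Nat.dvd_prime Nat.prime_two] at hd
  rcases hd with h1 | h2
  · exact IntermediateField.finrank_eq_one_iff_eq_top.1 h1
  · have := finiteDimensional_two hz
    exfalso
    refine hy ?_
    rw [IntermediateField.eq_of_le_of_finrank_eq' hle (by rw [hz, h2])]
    exact IntermediateField.subset_adjoin k _ (by simp)

end Groth.Agent.Crv77.DL
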