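import Groth.Agent.Crv77.FunDeg
import Groth.Agent.Crv77.DoubleLine
import Groth.Agent.Curves2.SmoothHyper
import Mathlib.AlgebraicGeometry.Morphisms.Smooth

/-! Double covers of the line: the affine chart, and separability for smooth curves of positive genus. -/

set_option autoImplicit false
set_option linter.style.haveILetI false
set_option backward.isDefEq.respectTransparency false
universe u

open CategoryTheory CategoryTheory.Limits AlgebraicGeometry TopologicalSpace Opposite IntermediateField FunFld
open scoped Polynomial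

namespace Groth.Agent.Crv77

variable {k : Type u} [Field k] {C : Scheme.{u}} [C.Over (Spec (CommRingCat.of k))] [IsIntegral C]

attribute [local instance] CrvPic30.ffAlg

/-- The equation `X₁² + Q(X₀) X₁ - P(X₀)`. -/
noncomputable def dblEq (P Q : k[X]) : MvPolynomial (Fin 2) k :=
  MvPolynomial.X 1 ^ 2 + Polynomial.aeval (MvPolynomial.X 0) Q * MvPolynomial.X 1 -
    Polynomial.aeval (MvPolynomial.X 0) P

theorem exists_reduced (P Q : k[X]) (p : MvPolynomial (Fin 2) k) :
    ∃ a b : k[X], p - (Polynomial.aeval (MvPolynomial.X 0) a +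
      Polynomial.aeval (MvPolynomial.X 0) b * MvPolynomial.X 1) ∈ Ideal.span {dblEq P Q} := by
  induction p using MvPolynomial.induction_on with
  | C r =>
    refine ⟨Polynomial.C r, 0, ?_⟩
    simp [MvPolynomial.algebraMap_eq]
  | add p q hp hq =>
    obtain ⟨a, b, h⟩ := hp
    obtain ⟨a', b', h'⟩ := hq
    refine ⟨a + a', b + b', ?_⟩
    convert add_mem h h' using 1
    simp only [map_add]
    ring
  | mul_X p i hp =>
    obtain ⟨a, b, h⟩ := hp
    fin_cases i
    · refine ⟨a * Polynomial.X, b * Polynomial.X, ?_⟩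
      convert Ideal.mul_mem_right (MvPolynomial.X 0) _ h using 1
      simp only [map_mul, Polynomial.aeval_X, Fin.zero_eta]
      ring
    · refine ⟨b * P, a - b * Q, ?_⟩
      have h2 : Polynomial.aeval (MvPolynomial.X (0 : Fin 2)) b * dblEq P Q ∈ Ideal.span {dblEq P Q} :=
        Ideal.mul_mem_left _ _ (Ideal.mem_span_singleton_self _)
      convert add_mem (Ideal.mul_mem_right (MvPolynomial.X 1) _ h) h2 using 1
      simp only [map_mul, map_sub, Fin.mk_one, dblEq]
      ring

/-- The open where a function is regular. -/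
def regOpen (z : C.functionField) : C.Opens := ⟨{x | Curves2.RegAt x z}, Curves2.isOpen_regAt z⟩

theorem mem_regOpen {z : C.functionField} {x : C} : x ∈ regOpen z ↔ Curves2.RegAt x z := Iff.rfl

theorem genericPoint_mem_regOpen (z : C.functionField) : genericPoint C ∈ regOpen z :=
  Curves2.regAt_genericPoint z

variable [IsIntegral (CohB1.ProjSpace 1 k)]

/-- Morphisms to the line with the same rational function are equal. -/
theorem eq_of_ffMap_eq (f f' : C ⟶ CohB1.ProjSpace 1 k)
    (hf : f ≫ CohB1.ProjSpace.toSpec 1 k = C ↘ Spec (CommRingCat.of k))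
    (hf' : f' ≫ CohB1.ProjSpace.toSpec 1 k = C ↘ Spec (CommRingCat.of k))
    (e : f (genericPoint C) = genericPoint (CohB1.ProjSpace 1 k))
    (e' : f' (genericPoint C) = genericPoint (CohB1.ProjSpace 1 k))
    (h : ffMap f e (tP k) = ffMap f' e' (tP k)) : f = f' := by
  let P := CohB1.ProjSpace 1 k
  have := Curves2.ProjLine.isProper_toSpec k 1
  have hc : ∀ (g : C ⟶ P) (eg : g (genericPoint C) = genericPoint P),
      g ≫ CohB1.ProjSpace.toSpec 1 k = C ↘ Spec (CommRingCat.of k) →
      ∀ r : k, ffMap g eg (Curv2.stalkMap k P (genericPoint P) r) = algebraMap k C.functionField r := by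
    intro g eg hg r
    have h : CommRingCat.ofHom (Curv2.stalkMap k P (genericPoint P)) ≫ CommRingCat.ofHom (ffMap g eg) =
        CommRingCat.ofHom (algebraMap k C.functionField) := by
      apply Spec.map_injective
      rw [Spec.map_comp, VarGal.SpecMap_curvStalkMap, ← Category.assoc]
      refine (congrArg (· ≫ _) (fromSpecStalk_ffMap g eg)).trans ?_
      rw [Category.assoc, ffAlg_eq, Curves2.spec_constField]
      exact congrArg (_ ≫ ·) hg
    exact congr($h r)
  have : Nonempty (Var76.ProjCoord.U k 1 0) := ⟨⟨_, genericPoint_mem_U₀ k⟩⟩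
  have := functionField_isFractionRing_of_isAffineOpen P (Var76.ProjCoord.U k 1 0)
    (Var76.ProjCoord.isAffineOpen_U k 1 0)
  have hm : ffMap f e = ffMap f' e' := by
    refine IsLocalization.ringHom_ext (nonZeroDivisors Γ(P, Var76.ProjCoord.U k 1 0)) ?_
    have key : (((ffMap f e).comp (algebraMap Γ(P, Var76.ProjCoord.U k 1 0) P.functionField)).comp
        (Curves2.ProjLine.ψ₀ k)) = (((ffMap f' e').comp (algebraMap Γ(P, Var76.ProjCoord.U k 1 0) P.functionField)).comp
        (Curves2.ProjLine.ψ₀ k)) := by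
      refine Polynomial.ringHom_ext (fun r => ?_) h
      show ffMap f e (P.presheaf.germ _ _ (genericPoint_mem_U₀ k) (Curves2.ProjLine.ψ₀ k (Polynomial.C r))) =
        ffMap f' e' (P.presheaf.germ _ _ (genericPoint_mem_U₀ k) (Curves2.ProjLine.ψ₀ k (Polynomial.C r)))
      rw [Curves2.ProjLine.ψ₀_C, Curves2.ProjLine.stalkMap_eq_germ_const, hc f e hf, hc f' e' hf']
    refine RingHom.ext fun b => ?_
    obtain ⟨p, rfl⟩ := (Curves2.ProjLine.ψ₀_bijective k).2 b
    exact congr($key p)
  refine Curves2.hom_ext_generic (CohB1.ProjSpace.toSpec 1 k) (𝟙 C) f f' (hf.trans hf'.symm) fun l hl => ?_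
  rw [Category.comp_id] at hl
  rw [hl, ← fromSpecStalk_ffMap f e, ← fromSpecStalk_ffMap f' e', hm]

/-- The preimage of the standard chart is where the function is regular. -/
theorem preimage_chart (h : CrvPic30.Setup k C) (f : C ⟶ CohB1.ProjSpace 1 k)
    (hf : f ≫ CohB1.ProjSpace.toSpec 1 k = C ↘ Spec (CommRingCat.of k))
    (e : f (genericPoint C) = genericPoint (CohB1.ProjSpace 1 k)) :
    f ⁻¹ᵁ Var76.ProjCoord.U k 1 0 = regOpen (ffMap f e (tP k)) := by
  classical
  set z := ffMap f e (tP k) with hzdef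
  have := h.proper
  have := Curves2.ProjLine.isProper_toSpec k 1
  obtain ⟨htr, -⟩ := fieldRange_ffMap f hf e
  have hz0 : z ≠ 0 := by
    intro h0
    have := htr
    rw [← hzdef, h0] at this
    exact this isAlgebraic_zero
  let : Algebra k C.functionField := (Var76.VarDim.constField k C).toAlgebra
  let v : Fin 2 → C.functionField := ![1, z]
  have hh : ∀ i, v i ≠ 0 := fun i => by fin_cases i <;> simp [v, hz0]
  have hreg : ∀ x : C, ∃ j, ∀ i, Curves2.RegAt x (v i / v j) := by
    intro x
    obtain ⟨_, _⟩ := h.stalks x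
    rcases (ValuationRing.iff_isInteger_or_isInteger (C.presheaf.stalk x) C.functionField).1 inferInstance z
      with hi | hi
    · refine ⟨0, fun i => ?_⟩
      fin_cases i
      · simpa [v] using Curves2.regAt_one
      · simpa [v, Curves2.RegAt, IsLocalization.IsInteger] using hi
    · refine ⟨1, fun i => ?_⟩
      fin_cases i
      · simpa [v, Curves2.RegAt, IsLocalization.IsInteger] using hi
      · simpa [v, hz0] using Curves2.regAt_one
  obtain ⟨f', hf', hpt, hchart⟩ := Curves2.exists_hom_of_regAt k v hh hreg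
  -- `f` agrees with the morphism defined by `(1, z)`
  let ev := Curves2.ProjModel.evalAway k v _ (Curves2.ProjModel.aeval_X_ne_zero k v hh 0)
  let a := Proj.awayToSection (CohB1.polyGrading 1 k) (MvPolynomial.X 0 : MvPolynomial (Fin 2) k)
  let g := (CohB1.ProjSpace 1 k).presheaf.germ (Var76.ProjCoord.U k 1 0) _ (genericPoint_mem_U₀ k)
  have hev : a ≫ g ≫ CommRingCat.ofHom (ffMap f e) = CommRingCat.ofHom ev := by
    refine CommRingCat.hom_ext (RingHom.ext fun b => ?_)
    obtain ⟨c, rfl⟩ := HomogeneousLocalization.mk_surjective b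
    have : IsIso a := (Proj.basicOpenIsoAway _ _ (Var76.ProjCoord.X₁ k 1 0).2 one_pos).isIso_hom
    let i := (asIso a).commRingCatIsoToRingEquiv
    obtain ⟨p, hp⟩ := (Curves2.ProjLine.ψ₀_bijective k).2 (i (HomogeneousLocalization.mk c))
    have key : (((ffMap f e).comp g.hom).comp (Curves2.ProjLine.ψ₀ k)) =
        ((ev.comp i.symm.toRingHom).comp (Curves2.ProjLine.ψ₀ k)) := by
      refine Polynomial.ringHom_ext (fun r => ?_) ?_
      · have hc : Var76.BertiniScheme.const (k := k) (CohB1.ProjSpace 1 k) (Var76.ProjCoord.U k 1 0) r =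
            i (HomogeneousLocalization.fromZeroRingHom (CohB1.polyGrading 1 k) _
              (algebraMap k ((CohB1.polyGrading 1 k) 0) r)) :=
          congr($(Var76.ProjCoord.const_eq k 1 0) r)
        show ffMap f e (g (Curves2.ProjLine.ψ₀ k (Polynomial.C r))) =
          ev (i.symm (Curves2.ProjLine.ψ₀ k (Polynomial.C r)))
        rw [Curves2.ProjLine.ψ₀_C]
        conv_rhs => rw [hc, RingEquiv.symm_apply_apply]
        rw [Curves2.ProjLine.stalkMap_eq_germ_const]
        have hm : CommRingCat.ofHom (Curv2.stalkMap k (CohB1.ProjSpace 1 k) (genericPoint _)) ≫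
            CommRingCat.ofHom (ffMap f e) = CommRingCat.ofHom (Var76.VarDim.constField k C) := by
          apply Spec.map_injective
          rw [Spec.map_comp, VarGal.SpecMap_curvStalkMap, ← Category.assoc]
          refine (congrArg (· ≫ _) (fromSpecStalk_ffMap f e)).trans ?_
          rw [Category.assoc, Curves2.spec_constField]
          exact congrArg (_ ≫ ·) hf
        refine (congr($hm r)).trans ?_
        show _ = ev (HomogeneousLocalization.mk
          ⟨0, algebraMap k ((CohB1.polyGrading 1 k) 0) r, ⟨1, SetLike.GradedOne.one_mem⟩, one_mem _⟩)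
        rw [Curves2.ProjModel.evalAway_mk]
        simp [RingHom.algebraMap_toAlgebra]
      · show ffMap f e (tP k) = ev (i.symm (Curves2.ProjLine.ψ₀ k Polynomial.X))
        rw [show Curves2.ProjLine.ψ₀ k Polynomial.X = i (Var76.ProjCoord.frac k 1 0 (Var76.ProjCoord.X₁ k 1 1))
            from Polynomial.eval₂_X _ _, RingEquiv.symm_apply_apply, Var76.ProjCoord.frac,
          Curves2.ProjModel.evalAway_mk]
        simp [v, Var76.ProjCoord.X₁, hzdef]
    have h2 := congr($key p)
    exact (congrArg (fun s => ffMap f e (g s)) hp.symm).trans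
      (h2.trans (congrArg ev ((congrArg i.symm hp).trans (i.symm_apply_apply _))))
  have hff : f = f' := by
    refine Curves2.hom_ext_generic (CohB1.ProjSpace.toSpec 1 k) (𝟙 C) f f' (hf.trans hf'.symm) fun l hl => ?_
    rw [Category.comp_id] at hl
    rw [hl, hpt, Curves2.ProjModel.ptAt, ← fromSpecStalk_ffMap f e,
      ← (Var76.ProjCoord.isAffineOpen_U k 1 0).fromSpecStalk_eq_fromSpecStalk (genericPoint_mem_U₀ k),
      IsAffineOpen.fromSpecStalk, Curves2.ProjModel.fromSpec_U, ← Category.assoc, ← Category.assoc,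
      ← Spec.map_comp, ← Spec.map_comp]
    exact congrArg (fun t => Spec.map t ≫ _) hev
  refine Opens.ext (Set.ext fun x => ⟨fun hx => ?_, fun hx => ?_⟩)
  · -- the coordinate pulls back to a section
    refine ⟨C.presheaf.germ _ x hx ((f.app (Var76.ProjCoord.U k 1 0))
      (Curves2.ProjLine.ψ₀ k Polynomial.X)), ?_⟩
    rw [Curves2.algebraMap_germ]
    show _ = ffMap f e ((CohB1.ProjSpace 1 k).presheaf.germ _ _ (genericPoint_mem_U₀ k) _)
    rw [ffMap, CommRingCat.comp_apply, TopCat.Presheaf.germ_stalkSpecializes_apply,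
      Scheme.Hom.germ_stalkMap_apply]
  · show f x ∈ Var76.ProjCoord.U k 1 0
    rw [hff]
    refine hchart x 0 fun i => ?_
    fin_cases i
    · simpa [v] using Curves2.regAt_one
    · simp only [v, Matrix.cons_val_zero, Fin.mk_one, Matrix.cons_val_one, div_one]
      exact hx

variable (h : CrvPic30.Setup k C) {z : C.functionField} (hz : Module.finrank k⟮z⟯ C.functionField = 2)
include h hz

theorem regAt_of_mem_L {w : C.functionField} {n : ℕ} (hw : w ∈ L (n • (FF30.poleDiv z : Divisor k C.functionField)))
    {x : C} (hx : Curves2.RegAt x z) : Curves2.RegAt x w := by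
  refine (h.regAt_iff x w).2 fun hcl => ?_
  have h1 := (DL.mem_L_nsmul_iff h.ff n).1 hw (h.place ⟨x, hcl⟩)
  have h2 := (FF30.val_le_one_iff _).1 ((h.regAt_iff x z).1 hx hcl)
  rwa [max_eq_right (by omega), mul_zero, WithZero.exp_zero] at h1

/-- The chart of a double cover is a plane curve. -/
theorem exists_chart {y : C.functionField} (hy : y ∉ k⟮z⟯)
    (hyL : y ∈ L ((genus k C.functionField + 1) • (FF30.poleDiv z : Divisor k C.functionField)))
    {P Q : k[X]} (hPQ : y ^ 2 + Polynomial.aeval z Q * y = Polynomial.aeval z P) :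
    ∃ φ : MvPolynomial (Fin 2) k →+* Γ(C, regOpen z), Function.Surjective φ ∧
      RingHom.ker φ = Ideal.span {dblEq P Q} ∧ IsAffineOpen (regOpen z) ∧
      φ.comp MvPolynomial.C = Var76.BertiniScheme.const (k := k) C (regOpen z) := by
  classical
  have hg := genericPoint_mem_regOpen z
  obtain ⟨sz, hsz⟩ := Curves2.exists_section_of_regAt (regOpen z) hg z fun _ hx => hx
  obtain ⟨sy, hsy⟩ := Curves2.exists_section_of_regAt (regOpen z) hg y fun _ hx => regAt_of_mem_L h hz hyL hx
  let G := (C.presheaf.germ (regOpen z) (genericPoint C) hg).hom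
  have hG : Function.Injective G := germ_injective_of_isIntegral C (genericPoint C) hg
  have : Nonempty (regOpen z) := ⟨⟨_, hg⟩⟩
  let φ : MvPolynomial (Fin 2) k →+* Γ(C, regOpen z) :=
    MvPolynomial.eval₂Hom (Var76.BertiniScheme.const (k := k) C (regOpen z)) ![sz, sy]
  have hGφ : G.comp φ = (MvPolynomial.aeval (R := k) ![z, y]).toRingHom := by
    refine MvPolynomial.ringHom_ext (fun r => ?_) fun i => ?_
    · show G (φ (MvPolynomial.C r)) = _
      rw [MvPolynomial.eval₂Hom_C]
      refine (Var76.VarDim.germ_const (k := k) hg r).trans ?_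
      rw [← ffAlg_eq]
      simp
    · show G (φ (MvPolynomial.X i)) = _
      rw [MvPolynomial.eval₂Hom_X']
      fin_cases i <;> simp [G, hsz, hsy]
  have hred : ∀ a b : k[X], G (φ (Polynomial.aeval (MvPolynomial.X 0) a +
      Polynomial.aeval (MvPolynomial.X 0) b * MvPolynomial.X 1)) = Polynomial.aeval z a + Polynomial.aeval z b * y := by
    intro a b
    refine congr($hGφ _).trans ?_
    show MvPolynomial.aeval _ _ = _
    rw [map_add, map_mul, ← Polynomial.aeval_algHom_apply, ← Polynomial.aeval_algHom_apply,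
      MvPolynomial.aeval_X, MvPolynomial.aeval_X]
    rfl
  have hF : φ (dblEq P Q) = 0 := by
    refine hG ?_
    rw [map_zero]
    refine congr($hGφ _).trans ?_
    show MvPolynomial.aeval _ _ = _
    rw [dblEq, map_sub, map_add, map_mul, map_pow, ← Polynomial.aeval_algHom_apply,
      ← Polynomial.aeval_algHom_apply, MvPolynomial.aeval_X, MvPolynomial.aeval_X]
    exact sub_eq_zero.2 hPQ
  refine ⟨φ, fun s => ?_, le_antisymm (fun p hp => ?_) ?_, ?_, MvPolynomial.eval₂Hom_comp_C _ _⟩
  · -- surjectivity
    have hv : ∀ p : Place k C.functionField, p.1 z ≤ 1 → p.1 (G s) ≤ 1 := by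
      intro p hp
      obtain ⟨x, rfl⟩ := h.place.surjective p
      refine (h.mem_range_germ_iff (regOpen z) hg (G s)).1 ⟨s, rfl⟩ x.1 x.2 ?_
      exact (h.regAt_iff x.1 z).2 fun _ => hp
    obtain ⟨n, hn⟩ : ∃ n : ℕ, G s ∈ L (n • (FF30.poleDiv z : Divisor k C.functionField)) := by
      refine ⟨∑ p ∈ (FF30.poleDiv z : Divisor k C.functionField).support, (-p.ord (G s)).toNat, ?_⟩
      rw [DL.mem_L_nsmul_iff h.ff]
      intro p
      by_cases hp : p.1 z ≤ 1
      · exact (hv p hp).trans (by rw [← WithZero.exp_zero, WithZero.exp_le_exp]; exact mul_nonneg (by positivity) (le_max_right _ _))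
      · have hneg : p.ord z < 0 := (FF30.one_lt_val_iff p).1 (not_le.1 hp)
        by_cases hs0 : G s = 0
        · rw [hs0, map_zero]; exact zero_le
        rw [FF30.val_le_exp_iff p hs0, max_eq_left (by omega)]
        have hmem : p ∈ (FF30.poleDiv z : Divisor k C.functionField).support := by
          rw [Finsupp.mem_support_iff, h.ffield.poleDiv_apply]
          omega
        have h1 := Finset.single_le_sum (f := fun q : Place k C.functionField => (-q.ord (G s)).toNat)
          (fun _ _ => Nat.zero_le _) hmem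
        have h2 : ((-p.ord (G s)).toNat : ℤ) ≤ ((∑ q ∈ (FF30.poleDiv z : Divisor k C.functionField).support,
          (-q.ord (G s)).toNat : ℕ) : ℤ) := by exact_mod_cast h1
        have h3 : -p.ord (G s) ≤ ((-p.ord (G s)).toNat : ℤ) := Int.self_le_toNat _
        nlinarith
    obtain ⟨a, -, b, -, hab⟩ := DL.exists_repr h.ff hz hy hyL hn
    exact ⟨_, hG ((hred a b).trans hab.symm)⟩
  · obtain ⟨a, b, hab⟩ := exists_reduced P Q p
    obtain ⟨c, hc⟩ := Ideal.mem_span_singleton.1 hab
    have h1 : G (φ (Polynomial.aeval (MvPolynomial.X 0) a +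
        Polynomial.aeval (MvPolynomial.X 0) b * MvPolynomial.X 1)) = 0 := by
      have := congrArg φ hc
      rw [map_sub, map_mul, hF, zero_mul, sub_eq_zero] at this
      rw [← this, RingHom.mem_ker.1 hp, map_zero]
    rw [hred] at h1
    obtain ⟨ha, hb⟩ := DL.eq_of_add_mul_eq hz hy (DL.transcendental h.ff hz)
      (a' := 0) (b' := 0) (by rw [h1]; simp)
    rw [ha, hb] at hab
    simpa using hab
  · rw [Ideal.span_le, Set.singleton_subset_iff]
    exact hF
  · obtain ⟨f, e, hf, hfin, hfz⟩ := exists_hom_of_fun h (DL.transcendental h.ff hz)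
    rw [← hfz, ← preimage_chart h f hf e]
    exact (Var76.ProjCoord.isAffineOpen_U k 1 0).preimage f

end Groth.Agent.Crv77
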