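import Groth.Agent.Crv77.PointDeg
import Groth.Agent.Curves2.ProjLineField
import Groth.Agent.Curves2.OpenIso
import Groth.Agent.Curves2.HomToProj

/-! A proper curve with a rational function having a single simple pole at a rational point is the
projective line. -/

set_option autoImplicit false
set_option linter.style.haveILetI false
universe u

open CategoryTheory CategoryTheory.Limits AlgebraicGeometry TopologicalSpace Opposite IsLocalRing

namespace Groth.Agent.Crv77

open Curves2 (RegAt)

variable {S X Y : Scheme.{u}}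

theorem dense_opens_range [IsIntegral X] (U : X.Opens) [Nonempty U] : IsDominant U.ι := by
  refine ⟨?_⟩
  rw [DenseRange, Scheme.Opens.range_ι]
  exact U.isOpen.dense (Set.nonempty_coe_sort.mp ‹_›)

/-- Proper curves with valuation rings as local rings are determined by an open piece. -/
theorem exists_iso_of_open_iso (p : X ⟶ S) (q : Y ⟶ S) [IsProper p] [IsProper q] [IsIntegral X] [IsIntegral Y]
    [IsLocallyNoetherian X] [IsLocallyNoetherian Y]
    (hX : ∀ x : X, ∃ _ : IsDomain (X.presheaf.stalk x), ValuationRing (X.presheaf.stalk x))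
    (hY : ∀ y : Y, ∃ _ : IsDomain (Y.presheaf.stalk y), ValuationRing (Y.presheaf.stalk y))
    (U : X.Opens) (V : Y.Opens) [Nonempty U] (e : U.toScheme ≅ V.toScheme) (he : e.hom ≫ V.ι ≫ q = U.ι ≫ p) :
    ∃ g : X ≅ Y, g.hom ≫ q = p := by
  have : Nonempty V := Nonempty.map e.hom.base ‹Nonempty U›
  obtain ⟨g, hg, hgU⟩ := Curves2.exists_extension_of_valuationRing q p hX U (e.hom ≫ V.ι)
    (by rw [Category.assoc, he])
  obtain ⟨h, hh, hhV⟩ := Curves2.exists_extension_of_valuationRing p q hY V (e.inv ≫ U.ι)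
    (by rw [Category.assoc, ← he, Iso.inv_hom_id_assoc])
  have := dense_opens_range U
  have := dense_opens_range V
  refine ⟨⟨g, h, ?_, ?_⟩, hg⟩
  · refine ext_of_isDominant_of_isSeparated p (by rw [Category.assoc, hh, hg, Category.id_comp]) U.ι ?_
    rw [reassoc_of% hgU, hhV, Iso.hom_inv_id_assoc, Category.comp_id]
  · refine ext_of_isDominant_of_isSeparated q (by rw [Category.assoc, hg, hh, Category.id_comp]) V.ι ?_
    rw [reassoc_of% hhV, hgU, Iso.inv_hom_id_assoc, Category.comp_id]

/-- Proper curves with valuation rings as local rings are determined by their function fields. -/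
theorem exists_iso_of_functionField (p : X ⟶ S) (q : Y ⟶ S) [IsProper p] [IsProper q] [IsIntegral X] [IsIntegral Y]
    [IsLocallyNoetherian X] [IsLocallyNoetherian Y]
    (hX : ∀ x : X, ∃ _ : IsDomain (X.presheaf.stalk x), ValuationRing (X.presheaf.stalk x))
    (hY : ∀ y : Y, ∃ _ : IsDomain (Y.presheaf.stalk y), ValuationRing (Y.presheaf.stalk y))
    (σ : Y.functionField ≅ X.functionField)
    (h : Spec.map σ.hom ≫ Y.fromSpecStalk _ ≫ q = X.fromSpecStalk _ ≫ p) :
    ∃ g : X ≅ Y, g.hom ≫ q = p := by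
  obtain ⟨U, V, e, hU, he⟩ := Curves2.exists_open_iso_of_functionField p q σ h
  have : Nonempty U := ⟨⟨_, hU⟩⟩
  exact exists_iso_of_open_iso p q hX hY U V e he

section

variable (k : Type u) [Field k] [X.Over (Spec (CommRingCat.of k))] [IsIntegral X]

theorem algebraMap_stalkMap (x : X) (r : k) :
    algebraMap (X.presheaf.stalk x) X.functionField (Curv2.stalkMap k X x r) =
      Curv2.stalkMap k X (genericPoint X) r :=
  Curves2.algebraMap_germ x (show x ∈ (⊤ : X.Opens) from trivial) _

/-- Evaluation at a rational function. -/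
noncomputable def evalFun (z : X.functionField) : Polynomial k →+* X.functionField :=
  Polynomial.eval₂RingHom (Curv2.stalkMap k X (genericPoint X)) z

theorem evalFun_eq {x : X} {z : X.functionField} {a : X.presheaf.stalk x}
    (ha : algebraMap _ X.functionField a = z) (P : Polynomial k) :
    algebraMap _ X.functionField (P.eval₂ (Curv2.stalkMap k X x) a) = evalFun k z P := by
  rw [Polynomial.hom_eval₂, ha]
  exact congrArg (fun f => Polynomial.eval₂ f z P) (RingHom.ext (algebraMap_stalkMap k x))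

theorem regAt_evalFun {x : X} {z : X.functionField} (hz : RegAt x z) (P : Polynomial k) :
    RegAt x (evalFun k z P) :=
  let ⟨a, ha⟩ := hz
  ⟨_, evalFun_eq k ha P⟩

omit [IsIntegral X] in
/-- The residue field of a closed point is algebraic. -/
theorem resMap_isIntegral [LocallyOfFiniteType (X ↘ Spec (CommRingCat.of k))] {x : X}
    (hx : IsClosed ({x} : Set X)) : (Curv2.resMap k X x).IsIntegral := by
  have : IsFinite (X.fromSpecResidueField x ≫ X ↘ Spec (CommRingCat.of k)) := by
    rw [isClosed_singleton_iff_isClosedImmersion] at hx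
    rw [isFinite_iff_locallyOfFiniteType_of_jacobsonSpace]
    infer_instance
  have h : IsIntegralHom (Spec.map (CommRingCat.ofHom (Curv2.resMap k X x))) := by
    rw [VarGal.SpecMap_resMap]
    infer_instance
  exact IsIntegralHom.SpecMap_iff.1 h

theorem regAt_mul' {x : X} {a b : X.functionField} (ha : RegAt x a) (hb : RegAt x b) : RegAt x (a * b) := by
  obtain ⟨a, rfl⟩ := ha; obtain ⟨b, rfl⟩ := hb
  exact ⟨a * b, map_mul _ _ _⟩

variable [IsNoetherian X] (hdim : topologicalKrullDim X ≤ 1)
include hdim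

/-- A nonzero element divides a power of any non-unit. -/
theorem exists_dvd_pow (x : X) {b a : X.presheaf.stalk x} (hb : b ≠ 0)
    (ha : a ∈ maximalIdeal (X.presheaf.stalk x)) : ∃ N : ℕ, b ∣ a ^ N := by
  have : Ring.KrullDimLE 1 (X.presheaf.stalk x) :=
    Ring.krullDimLE_iff.mpr (by simpa using (stalk_dim_le x).trans hdim)
  have h : a ∈ (Ideal.span {b}).radical := by
    rw [Ideal.radical_eq_sInf, Ideal.mem_sInf]
    rintro P ⟨hP, hPp⟩
    have hne : P ≠ ⊥ := fun e => hb (by simpa [e, Ideal.span_le] using hP)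
    rw [IsLocalRing.eq_maximalIdeal (Ring.krullDimLE_one_iff_of_noZeroDivisors.mp inferInstance P hne hPp)]
    exact ha
  obtain ⟨N, hN⟩ := h
  exact ⟨N, Ideal.mem_span_singleton.1 hN⟩

/-- Poles can be cleared by polynomials in `z`. -/
theorem exists_clear [LocallyOfFiniteType (X ↘ Spec (CommRingCat.of k))] {z : X.functionField} {x₀ : X}
    (hz : ∀ x : X, x ≠ x₀ → RegAt x z) (v : X.functionField) :
    ∃ Q : Polynomial k, Q ≠ 0 ∧ ∀ x : X, x ≠ x₀ → RegAt x (evalFun k z Q * v) := by
  classical
  have hBfin : {x : X | ¬ RegAt x v}.Finite :=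
    finite_of_isClosed' hdim (Curves2.isOpen_regAt v).isClosed_compl
      fun h => h (Curves2.regAt_genericPoint v)
  have key : ∀ x : X, x ≠ x₀ → ¬ RegAt x v →
      ∃ Q : Polynomial k, Q ≠ 0 ∧ RegAt x (evalFun k z Q * v) := by
    intro x hx hv
    have hxη : x ≠ genericPoint X := fun e => hv (e ▸ Curves2.regAt_genericPoint v)
    obtain ⟨a, ha⟩ := hz x hx
    obtain ⟨P, hP, hP0⟩ := resMap_isIntegral k (isClosed_singleton hdim hxη) (X.residue x a)
    have hm : P.eval₂ (Curv2.stalkMap k X x) a ∈ maximalIdeal (X.presheaf.stalk x) := by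
      refine (IsLocalRing.residue_eq_zero_iff _).1 ?_
      refine (Polynomial.hom_eval₂ P (Curv2.stalkMap k X x) (IsLocalRing.residue _) a).trans ?_
      exact hP0
    obtain ⟨⟨b, c⟩, hbc⟩ := IsLocalization.surj (nonZeroDivisors (X.presheaf.stalk x)) v
    obtain ⟨N, d, hd⟩ := exists_dvd_pow hdim x (nonZeroDivisors.ne_zero c.2) hm
    refine ⟨P ^ N, pow_ne_zero N hP.ne_zero, d * b, ?_⟩
    rw [map_pow, ← evalFun_eq k ha P, ← map_pow, hd, map_mul, map_mul, ← hbc]
    ring
  choose! Q hQ0 hQ using key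
  let F := hBfin.toFinset.erase x₀
  refine ⟨∏ x ∈ F, Q x, Finset.prod_ne_zero_iff.2 fun x hx =>
    hQ0 x (Finset.ne_of_mem_erase hx) (hBfin.mem_toFinset.1 (Finset.mem_of_mem_erase hx)), fun x hx => ?_⟩
  by_cases hv : RegAt x v
  · exact regAt_mul' (regAt_evalFun k (hz x hx) _) hv
  · have hxF : x ∈ F := Finset.mem_erase.2 ⟨hx, hBfin.mem_toFinset.2 hv⟩
    rw [← Finset.mul_prod_erase F Q hxF, map_mul, mul_right_comm]
    exact regAt_mul' (hQ x hx hv) (regAt_evalFun k (hz x hx) _)

/-- **Main criterion.** -/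
theorem exists_iso_projLine_of_fun [IsProper (X ↘ Spec (CommRingCat.of k))] {x₀ : X}
    {a₀ : X.presheaf.stalk x₀} (hm : maximalIdeal (X.presheaf.stalk x₀) = Ideal.span {a₀})
    (hres : ∀ a : X.presheaf.stalk x₀, ∃ c : k,
      a - Curv2.stalkMap k X x₀ c ∈ maximalIdeal (X.presheaf.stalk x₀))
    {z : X.functionField} (hz : ∀ x : X, x ≠ x₀ → RegAt x z)
    (ha₀ : algebraMap _ X.functionField a₀ = z⁻¹) (hz0 : z ≠ 0) :
    ∃ e : X ≅ CohB1.ProjSpace 1 k, e.hom ≫ CohB1.ProjSpace.toSpec 1 k = X ↘ Spec (CommRingCat.of k) := by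
  let O := X.presheaf.stalk x₀
  let E := evalFun k z
  have ha0 : a₀ ≠ 0 := fun e => inv_ne_zero hz0 (by rw [← ha₀, e, map_zero])
  have hnotreg : ¬ RegAt x₀ z := by
    rintro ⟨b, hb⟩
    have h1 : a₀ * b = 1 := IsFractionRing.injective O X.functionField
      (by rw [map_mul, ha₀, hb, inv_mul_cancel₀ hz0, map_one])
    have : a₀ ∈ maximalIdeal O := hm ▸ Ideal.mem_span_singleton_self a₀
    exact (IsLocalRing.mem_maximalIdeal a₀).1 this (IsUnit.of_mul_eq_one b h1)
  have hprinc : (maximalIdeal O).IsPrincipal := ⟨⟨a₀, hm⟩⟩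
  have hval₀ : ValuationRing O :=
    ((tfae_of_isNoetherianRing_of_isLocalRing_of_isDomain O).out 4 1).mp hprinc
  -- `z` is transcendental
  have hinj : Function.Injective E := by
    refine (injective_iff_map_eq_zero E).2 fun P hP => by_contra fun hP0 => hnotreg ?_
    let : Algebra k O := (Curv2.stalkMap k X x₀).toAlgebra
    let : Algebra k X.functionField := (Curv2.stalkMap k X (genericPoint X)).toAlgebra
    have : IsScalarTower k O X.functionField :=
      IsScalarTower.of_algebraMap_eq fun r => (algebraMap_stalkMap k x₀ r).symm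
    have halg : IsIntegral k z := (isAlgebraic_iff_isIntegral).1 ⟨P, hP0, hP⟩
    exact IsIntegrallyClosed.isIntegral_iff.1 (halg.tower_top (A := O))
  -- functions regular away from `x₀` are polynomials in `z`
  have hpoly : ∀ (N : ℕ) (v : X.functionField), (∀ x, x ≠ x₀ → RegAt x v) →
      RegAt x₀ (v * z⁻¹ ^ N) → v ∈ E.range := by
    intro N
    induction N with
    | zero =>
      intro v hv hv0
      rw [pow_zero, mul_one] at hv0
      obtain ⟨b, hb⟩ := hv0
      obtain ⟨c, hc⟩ := hres b
      refine ⟨Polynomial.C c, (Polynomial.eval₂_C _ _).trans ?_⟩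
      obtain ⟨s, hs⟩ := Curves2.exists_section_of_regAt ⊤ trivial v fun y _ =>
        (eq_or_ne y x₀).elim (fun e => e ▸ ⟨b, hb⟩) (hv y)
      let cst : Γ(X, ⊤) := Coh.toGlobal (X ↘ Spec (CommRingCat.of k)) c
      let s' : Γ(X, ⊤) := s - cst
      have hg : X.presheaf.germ ⊤ x₀ trivial s' = b - Curv2.stalkMap k X x₀ c := by
        refine (map_sub _ _ _).trans (congrArg₂ (· - ·) ?_ rfl)
        exact IsFractionRing.injective O X.functionField
          (((Curves2.algebraMap_germ x₀ (show x₀ ∈ (⊤ : X.Opens) from trivial) s).trans hs).trans hb.symm)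
      have hs' : s' = 0 := by
        by_contra hne
        have hF := isField_of_universallyClosed (K := k) (X ↘ Spec (CommRingCat.of k))
        obtain ⟨t, ht⟩ := hF.mul_inv_cancel hne
        refine (IsLocalRing.mem_maximalIdeal _).1 hc ?_
        rw [← hg]
        exact (IsUnit.of_mul_eq_one t ht).map (X.presheaf.germ ⊤ x₀ trivial).hom
      have h2 : b = Curv2.stalkMap k X x₀ c := by rw [← sub_eq_zero, ← hg, hs', map_zero]
      rw [← hb, h2, algebraMap_stalkMap]
    | succ N ih =>
      intro v hv hv1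
      obtain ⟨b, hb⟩ := hv1
      obtain ⟨c, hc⟩ := hres b
      rw [hm, Ideal.mem_span_singleton] at hc
      obtain ⟨d, hd⟩ := hc
      let w := v - E (Polynomial.C c * Polynomial.X ^ (N + 1))
      have hE : E (Polynomial.C c * Polynomial.X ^ (N + 1)) =
          Curv2.stalkMap k X (genericPoint X) c * z ^ (N + 1) := by
        simp [E, evalFun]
      have hw : w ∈ E.range := by
        refine ih w (fun x hx => ?_) ⟨d, ?_⟩
        · obtain ⟨p, hp⟩ := hv x hx
          obtain ⟨q, hq⟩ := regAt_evalFun k (hz x hx) (Polynomial.C c * Polynomial.X ^ (N + 1))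
          exact ⟨p - q, by rw [map_sub, hp, hq]⟩
        · apply mul_left_cancel₀ (inv_ne_zero hz0)
          have := congrArg (algebraMap O X.functionField) hd
          rw [map_sub, map_mul, hb, algebraMap_stalkMap, ha₀] at this
          have h2 : z ^ (N + 1) * z⁻¹ ^ (N + 1) = 1 := by
            rw [← mul_pow, mul_inv_cancel₀ hz0, one_pow]
          rw [← this, show w = v - _ from rfl, hE]
          linear_combination (Curv2.stalkMap k X (genericPoint X) c) * h2
      obtain ⟨P, hP⟩ := hw
      exact ⟨P + Polynomial.C c * Polynomial.X ^ (N + 1), by rw [map_add, hP]; exact sub_add_cancel _ _⟩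
  -- the function field
  have hfrac : ∀ v : X.functionField, ∃ P Q : Polynomial k, Q ≠ 0 ∧ E Q * v = E P := by
    intro v
    obtain ⟨Q, hQ0, hQ⟩ := exists_clear k hdim hz v
    obtain ⟨⟨b, c⟩, hbc⟩ := IsLocalization.surj (nonZeroDivisors O) (E Q * v)
    obtain ⟨N, d, hd⟩ := exists_dvd_pow hdim x₀ (nonZeroDivisors.ne_zero c.2)
      (show a₀ ∈ maximalIdeal O from hm ▸ Ideal.mem_span_singleton_self a₀)
    have : RegAt x₀ (E Q * v * z⁻¹ ^ N) :=
      ⟨b * d, by rw [map_mul, ← hbc, ← ha₀, ← map_pow, hd, map_mul]; ring⟩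
    obtain ⟨P, hP⟩ := hpoly N _ hQ this
    exact ⟨P, Q, hQ0, hP.symm⟩
  have hval : ∀ x : X, ∃ _ : IsDomain (X.presheaf.stalk x), ValuationRing (X.presheaf.stalk x) := by
    intro x
    refine ⟨inferInstance, ?_⟩
    rcases eq_or_ne x x₀ with rfl | hx
    · exact hval₀
    obtain ⟨a, ha⟩ := hz x hx
    refine (ValuationRing.iff_isInteger_or_isInteger (X.presheaf.stalk x) X.functionField).2 fun v => ?_
    obtain ⟨P, Q, hQ0, hPQ⟩ := hfrac v
    obtain ⟨P', Q', G, hrel, hP, hQ⟩ := UniqueFactorizationMonoid.exists_reduced_factors' P Q hQ0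
    have hc : IsCoprime P' Q' := hrel.isCoprime
    have hg : E G ≠ 0 := fun h => hQ0 (by
      rw [← hQ, hinj (h.trans (map_zero E).symm), zero_mul])
    have hv : E Q' * v = E P' := by
      apply mul_left_cancel₀ hg
      rw [← mul_assoc, ← map_mul, ← map_mul, hP, hQ, hPQ]
    obtain ⟨p, q, hpq⟩ := hc
    let ev : Polynomial k →+* X.presheaf.stalk x := Polynomial.eval₂RingHom (Curv2.stalkMap k X x) a
    have hev : ∀ R, algebraMap _ X.functionField (ev R) = E R := evalFun_eq k ha
    have h1 : ev p * ev P' + ev q * ev Q' = 1 := by rw [← map_mul, ← map_mul, ← map_add, hpq, map_one]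
    rcases IsLocalRing.isUnit_or_isUnit_of_add_one h1 with hu | hu
    · -- `P'(z)` is a unit
      have hP' : IsUnit (ev P') := isUnit_of_mul_isUnit_right hu
      right
      refine ⟨ev Q' * ↑hP'.unit⁻¹, ?_⟩
      have hne : v ≠ 0 := by
        intro h
        rw [h, mul_zero] at hv
        exact hP'.ne_zero (IsFractionRing.injective _ X.functionField (((hev P').trans hv.symm).trans (map_zero _).symm))
      refine eq_inv_of_mul_eq_one_left ?_
      rw [map_mul, hev, mul_comm, ← mul_assoc, mul_comm v, hv, ← hev, ← map_mul, IsUnit.mul_val_inv, map_one]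
    · have hQ' : IsUnit (ev Q') := isUnit_of_mul_isUnit_right hu
      left
      refine ⟨ev P' * ↑hQ'.unit⁻¹, ?_⟩
      rw [map_mul, hev, ← hv, ← hev, mul_comm (algebraMap _ X.functionField (ev Q')) v, mul_assoc, ← map_mul,
        IsUnit.mul_val_inv, map_one, mul_one]
  -- identify with the line
  have := Curves2.ProjLine.isIntegral k 1
  have := Curves2.ProjLine.isProper_toSpec k 1
  have := Curves2.ProjLine.isLocallyNoetherian k 1
  obtain ⟨ρ, hρ⟩ := Curves2.ProjLine.exists_ratFunc_equiv k
  let θ : RatFunc k →+* X.functionField := RatFunc.liftRingHom E (nonZeroDivisors_le_comap_nonZeroDivisors_of_injective E hinj)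
  have hθ : Function.Bijective θ := by
    refine ⟨θ.injective, fun v => ?_⟩
    obtain ⟨P, Q, hQ0, hPQ⟩ := hfrac v
    refine ⟨algebraMap _ _ P / algebraMap _ _ Q, ?_⟩
    rw [RatFunc.liftRingHom_apply_div, div_eq_iff (fun h => hQ0 (hinj (h.trans (map_zero E).symm))), mul_comm, hPQ]
  let τ := ρ.symm.trans (RingEquiv.ofBijective θ hθ)
  refine exists_iso_of_functionField (X ↘ Spec (CommRingCat.of k)) (CohB1.ProjSpace.toSpec 1 k) hval
    (Curves2.ProjLine.valuationRing_stalk k) τ.toCommRingCatIso ?_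
  rw [← VarGal.SpecMap_curvStalkMap]
  change _ ≫ (CohB1.ProjSpace 1 k).fromSpecStalk _ ≫ (CohB1.ProjSpace 1 k ↘ Spec (CommRingCat.of k)) = _
  rw [← VarGal.SpecMap_curvStalkMap, ← Spec.map_comp]
  congr 1
  ext r
  change θ (ρ.symm (Curv2.stalkMap k (CohB1.ProjSpace 1 k) (genericPoint _) r)) = _
  rw [← hρ r, RingEquiv.symm_apply_apply, IsScalarTower.algebraMap_apply k (Polynomial k) (RatFunc k)]
  change RatFunc.liftRingHom E _ (algebraMap (Polynomial k) (RatFunc k) (Polynomial.C r)) = _
  rw [RatFunc.liftRingHom_algebraMap]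
  exact Polynomial.eval₂_C _ _

end

end Groth.Agent.Crv77
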