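import Groth.Agent.Crv77.PlaneChart
import Groth.Agent.Crv77.DoubleCurve
import Groth.Agent.Crv77.P1Iso
import Groth.Agent.FF30.GenusOne
import Groth.Agent.SchBasics.Local

/-! A curve of genus one with a rational point is a plane cubic in Weierstrass form. -/

set_option autoImplicit false
set_option linter.style.haveILetI false
set_option backward.isDefEq.respectTransparency false
universe u

open CategoryTheory CategoryTheory.Limits AlgebraicGeometry TopologicalSpace Opposite IntermediateField FunFld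
open scoped Polynomial

noncomputable section

namespace Groth.Agent.Crv77

open An92.Lef (piece pcoord pconst pform overOf)

/-- A Noetherian local ring with principal non-nilpotent maximal ideal is a discrete valuation ring. -/
theorem valuationRing_of_principal {O : Type u} [CommRing O] [IsLocalRing O] [IsNoetherianRing O] (α : O)
    (hm : IsLocalRing.maximalIdeal O = Ideal.span {α}) (hα : ∀ n : ℕ, α ^ n ≠ 0) :
    ∃ _ : IsDomain O, ValuationRing O := by
  classical
  have hne : IsLocalRing.maximalIdeal O ≠ ⊤ := (IsLocalRing.maximalIdeal.isMaximal O).ne_top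
  have key : ∀ x : O, x ≠ 0 → ∃ (n : ℕ) (v : O), IsUnit v ∧ x = α ^ n * v := by
    intro x hx
    have h1 : ∃ n, x ∉ IsLocalRing.maximalIdeal O ^ n := by
      by_contra hc
      push Not at hc
      have := Ideal.iInf_pow_eq_bot_of_isLocalRing (IsLocalRing.maximalIdeal O) hne
      exact hx ((Submodule.mem_bot O).1 (this ▸ (Submodule.mem_iInf _).2 hc))
    let N := Nat.find h1
    have hN : x ∉ IsLocalRing.maximalIdeal O ^ N := Nat.find_spec h1
    obtain ⟨n, hn⟩ : ∃ n, N = n + 1 := by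
      refine ⟨N - 1, (Nat.succ_pred ?_).symm⟩
      intro h0
      rw [h0, pow_zero, Ideal.one_eq_top] at hN
      exact hN trivial
    have hn' : x ∈ IsLocalRing.maximalIdeal O ^ n := by
      by_contra hc
      have := Nat.find_min' h1 hc
      omega
    rw [hm, Ideal.span_singleton_pow, Ideal.mem_span_singleton] at hn'
    obtain ⟨v, hv⟩ := hn'
    refine ⟨n, v, ?_, hv⟩
    by_contra hu
    apply hN
    have hv' : v ∈ Ideal.span {α} := hm ▸ (IsLocalRing.mem_maximalIdeal v).2 hu
    obtain ⟨w, hw⟩ := Ideal.mem_span_singleton.1 hv'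
    rw [hn, hm, Ideal.span_singleton_pow, Ideal.mem_span_singleton]
    exact ⟨w, by rw [hv, hw]; ring⟩
  have : NoZeroDivisors O := ⟨fun {x y} hxy => by
    by_contra hc
    push Not at hc
    obtain ⟨n, v, hv, rfl⟩ := key x hc.1
    obtain ⟨n', v', hv', rfl⟩ := key y hc.2
    refine hα (n + n') ((hv.mul hv').mul_left_eq_zero.1 ?_)
    rw [← hxy, pow_add]; ring⟩
  have : IsDomain O := NoZeroDivisors.to_isDomain O
  refine ⟨this, ValuationRing.iff_dvd_total.2 ⟨fun x y => ?_⟩⟩
  rcases eq_or_ne x 0 with rfl | hx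
  · exact Or.inr (dvd_zero y)
  rcases eq_or_ne y 0 with rfl | hy
  · exact Or.inl (dvd_zero x)
  obtain ⟨n, v, hv, rfl⟩ := key x hx
  obtain ⟨n', v', hv', rfl⟩ := key y hy
  rcases le_total n n' with h | h
  · exact Or.inl ((hv.mul_right_dvd).2 ((pow_dvd_pow α h).trans (dvd_mul_right _ _)))
  · exact Or.inr ((hv'.mul_right_dvd).2 ((pow_dvd_pow α h).trans (dvd_mul_right _ _)))

theorem sub_C_mem_span {k : Type u} [Field k] (p : MvPolynomial (Fin 2) k) :
    p - MvPolynomial.C (MvPolynomial.constantCoeff p) ∈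
      Ideal.span {MvPolynomial.X 0, MvPolynomial.X 1} := by
  induction p using MvPolynomial.induction_on with
  | C r => simp
  | add p q hp hq =>
    convert add_mem hp hq using 1
    simp only [map_add]
    ring
  | mul_X p i hp =>
    rw [map_mul, MvPolynomial.constantCoeff_X, mul_zero, map_zero, sub_zero]
    refine Ideal.mul_mem_left _ _ (Ideal.subset_span ?_)
    fin_cases i <;> simp

variable {k : Type u} [Field k] {C : Scheme.{u}} [C.Over (Spec (CommRingCat.of k))] [IsIntegral C]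

attribute [local instance] CrvPic30.ffAlg

theorem exists_iso_cubic [IsIntegral (CohB1.ProjSpace 1 k)] (h : CrvPic30.Setup k C) {z y : C.functionField}
    (hz : Module.finrank k⟮z⟯ C.functionField = 2) (hy : y ∉ k⟮z⟯)
    (hyL : y ∈ L ((genus k C.functionField + 1) • (FF30.poleDiv z : Divisor k C.functionField)))
    (a₁ a₂ a₃ a₄ a₆ : k)
    (hPQ : y ^ 2 + Polynomial.aeval z (Polynomial.C a₁ * Polynomial.X + Polynomial.C a₃) * y =
      Polynomial.aeval z (Polynomial.X ^ 3 + Polynomial.C a₂ * Polynomial.X ^ 2 + Polynomial.C a₄ * Polynomial.X +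
        Polynomial.C a₆))
    (W : LefPen.Form 2 k 3)
    (hW : (W : MvPolynomial (Fin (2 + 1)) k) = MvPolynomial.X 1 ^ 2 * MvPolynomial.X 2 + MvPolynomial.C a₁ * MvPolynomial.X 0 * MvPolynomial.X 1 * MvPolynomial.X 2 + MvPolynomial.C a₃ * MvPolynomial.X 1 * MvPolynomial.X 2 ^ 2 - MvPolynomial.X 0 ^ 3 - MvPolynomial.C a₂ * MvPolynomial.X 0 ^ 2 * MvPolynomial.X 2 - MvPolynomial.C a₄ * MvPolynomial.X 0 * MvPolynomial.X 2 ^ 2 - MvPolynomial.C a₆ * MvPolynomial.X 2 ^ 3) :
    ∃ e : C ≅ (LefPen.hypIdeal W).subscheme,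
      e.hom ≫ (LefPen.hypIdeal W).subschemeι ≫ CohB1.ProjSpace.toSpec 2 k = C ↘ (Spec (CommRingCat.of k)) := by
  classical
  set P : k[X] := Polynomial.X ^ 3 + Polynomial.C a₂ * Polynomial.X ^ 2 + Polynomial.C a₄ * Polynomial.X +
    Polynomial.C a₆ with hP
  set Q : k[X] := Polynomial.C a₁ * Polynomial.X + Polynomial.C a₃ with hQ
  let Y := (LefPen.hypIdeal W).subscheme
  let ι : Y ⟶ CohB1.ProjSpace 2 k := (LefPen.hypIdeal W).subschemeι
  let _ : Y.Over (Spec (CommRingCat.of k)) := overOf ι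
  have := h.proper
  have := Curves2.ProjLine.isProper_toSpec k 2
  have : IsProper (Y ↘ Spec (CommRingCat.of k)) :=
    inferInstanceAs (IsProper (ι ≫ CohB1.ProjSpace.toSpec 2 k))
  have : IsLocallyNoetherian Y := LocallyOfFiniteType.isLocallyNoetherian (Y ↘ Spec (CommRingCat.of k))
  have : IsLocallyNoetherian C := LocallyOfFiniteType.isLocallyNoetherian (C ↘ Spec (CommRingCat.of k))
  -- the two pieces
  let b₂ : Fin 3 → MvPolynomial (Fin 2) k := ![MvPolynomial.X 0, MvPolynomial.X 1, 1]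
  let b₁ : Fin 3 → MvPolynomial (Fin 2) k := ![MvPolynomial.X 0, 1, MvPolynomial.X 1]
  obtain ⟨φ₂, hsur₂, hker₂, hφ₂⟩ := exists_pieceHom (m := 2) W 2 ![0, 1] b₂ rfl
    (fun i => by fin_cases i <;> rfl) (fun t => by fin_cases t <;> simp)
  obtain ⟨φ₁, hsur₁, hker₁, hφ₁⟩ := exists_pieceHom (m := 2) W 1 ![0, 2] b₁ rfl
    (fun i => by fin_cases i <;> rfl) (fun t => by fin_cases t <;> simp)
  have he₂ : MvPolynomial.aeval b₂ W.1 = dblEq P Q := by
    rw [hW]; simp [b₂, dblEq, hP, hQ]; ring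
  set g : MvPolynomial (Fin 2) k := MvPolynomial.aeval b₁ W.1 with hg
  have hgval : g = MvPolynomial.X 1 * (1 + MvPolynomial.C a₁ * MvPolynomial.X 0 +
      MvPolynomial.C a₃ * MvPolynomial.X 1 - MvPolynomial.C a₂ * MvPolynomial.X 0 ^ 2 -
      MvPolynomial.C a₄ * MvPolynomial.X 0 * MvPolynomial.X 1 - MvPolynomial.C a₆ * MvPolynomial.X 1 ^ 2) -
        MvPolynomial.X 0 ^ 3 := by
    rw [hg, hW]; simp [b₁]; ring
  set P₁ : Y.Opens := piece ι 1 with hP₁
  set P₂ : Y.Opens := piece ι 2 with hP₂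
  have hA₁ : IsAffineOpen P₁ := An92.Lef.isAffineOpen_piece ι 1
  have hA₂ : IsAffineOpen P₂ := An92.Lef.isAffineOpen_piece ι 2
  -- the chart of the curve
  obtain ⟨ψ, hsur, hker, hV, hC⟩ := exists_chart h hz hy hyL hPQ
  rw [he₂] at hker₂
  let c : Γ(Y, P₂) ≃+* Γ(C, regOpen z) :=
    (RingHom.quotientKerEquivOfSurjective (f := φ₂.toRingHom) hsur₂).symm.trans
      ((Ideal.quotEquivOfEq (hker₂.trans hker.symm)).trans (RingHom.quotientKerEquivOfSurjective hsur))
  have hc : ∀ p, c (φ₂ p) = ψ p := by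
    intro p
    have : (RingHom.quotientKerEquivOfSurjective (f := φ₂.toRingHom) hsur₂).symm (φ₂ p) =
        Ideal.Quotient.mk _ p := by
      rw [RingEquiv.symm_apply_eq, RingHom.quotientKerEquivOfSurjective_apply_mk]; rfl
    show RingHom.quotientKerEquivOfSurjective hsur (Ideal.quotEquivOfEq (hker₂.trans hker.symm) ((RingHom.quotientKerEquivOfSurjective
      (f := φ₂.toRingHom) hsur₂).symm (φ₂ p))) = ψ p
    rw [this, Ideal.quotEquivOfEq_mk, RingHom.quotientKerEquivOfSurjective_apply_mk]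
  let e : (regOpen z).toScheme ≅ P₂.toScheme :=
    hV.isoSpec ≪≫ Scheme.Spec.mapIso c.toCommRingCatIso.op ≪≫ hA₂.isoSpec.symm
  have he : e.hom ≫ P₂.ι ≫ (Y ↘ Spec (CommRingCat.of k)) = (regOpen z).ι ≫ (C ↘ Spec (CommRingCat.of k)) := by
    show (hV.isoSpec.hom ≫ Spec.map c.toCommRingCatIso.hom ≫ hA₂.isoSpec.inv) ≫ _ = _
    simp only [Category.assoc, IsAffineOpen.isoSpec_inv_ι_assoc]
    rw [← Var76.BertiniScheme.SpecMap_const hA₂, ← Spec.map_comp]
    have h1 : CommRingCat.ofHom (Var76.BertiniScheme.const (k := k) Y P₂) ≫ c.toCommRingCatIso.hom =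
        CommRingCat.ofHom (Var76.BertiniScheme.const (k := k) C (regOpen z)) := by
      refine CommRingCat.hom_ext (RingHom.ext fun r => ?_)
      show c (Var76.BertiniScheme.const (k := k) Y P₂ r) = _
      rw [show Var76.BertiniScheme.const (k := k) Y P₂ r = φ₂ (MvPolynomial.C r) from
        (φ₂.commutes r).symm, hc]
      exact congr($hC r)
    rw [h1, Var76.BertiniScheme.SpecMap_const hV, IsAffineOpen.isoSpec_hom_fromSpec_assoc]
  have : Nonempty (regOpen z) := ⟨⟨_, genericPoint_mem_regOpen z⟩⟩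
  have : Nonempty P₂ := Nonempty.map e.hom.base ‹Nonempty (regOpen z)›
  -- points over the line at infinity
  let a : Γ(Y, P₁) := φ₁ (MvPolynomial.X 0)
  let cc : Γ(Y, P₁) := φ₁ (MvPolynomial.X 1)
  have hcc : Y.basicOpen cc = P₁ ⊓ P₂ := by
    rw [show cc = pcoord ι 1 2 from hφ₁ 2, An92.Lef.basicOpen_pcoord]
  have hg0 : φ₁ g = 0 := by
    show φ₁.toRingHom g = 0
    rw [← RingHom.mem_ker, hker₁]
    exact Ideal.mem_span_singleton_self _
  have hgc : MvPolynomial.constantCoeff g = 0 := by rw [hgval]; simp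
  have hcov : ∀ w : Y, w ∈ P₁ ∨ w ∈ P₂ := by
    intro w
    by_contra hc'
    push Not at hc'
    obtain ⟨j, hj⟩ := Var76.ProjCoord.exists_mem_U k 2 (ι w)
    obtain rfl : j = 0 := by
      fin_cases j
      · rfl
      · exact absurd hj hc'.1
      · exact absurd hj hc'.2
    obtain ⟨φ₀, hsur₀, hker₀, hφ₀⟩ := exists_pieceHom (m := 2) W 0 ![1, 2]
      ![1, MvPolynomial.X 0, MvPolynomial.X 1] rfl
      (fun i => by fin_cases i <;> rfl) (fun t => by fin_cases t <;> simp)
    set g₀ : MvPolynomial (Fin 2) k := MvPolynomial.aeval ![1, MvPolynomial.X 0, MvPolynomial.X 1] W.1 with hg₀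
    have hA₀ : IsAffineOpen (piece ι 0) := An92.Lef.isAffineOpen_piece ι 0
    let G := (Y.presheaf.germ (piece ι 0) w hj).hom
    have hnu : ∀ i : Fin 2, G (φ₀ (MvPolynomial.X i)) ∈ IsLocalRing.maximalIdeal (Y.presheaf.stalk w) := by
      intro i
      rw [IsLocalRing.mem_maximalIdeal]
      intro hu
      have hb : w ∈ Y.basicOpen (φ₀ (MvPolynomial.X i)) := (Y.mem_basicOpen (φ₀ (MvPolynomial.X i)) w hj).2 hu
      fin_cases i
      · change w ∈ Y.basicOpen (φ₀ (MvPolynomial.X 0)) at hb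
        rw [show φ₀ (MvPolynomial.X 0) = pcoord ι 0 1 from hφ₀ 1, An92.Lef.basicOpen_pcoord] at hb
        exact hc'.1 hb.2
      · change w ∈ Y.basicOpen (φ₀ (MvPolynomial.X 1)) at hb
        rw [show φ₀ (MvPolynomial.X 1) = pcoord ι 0 2 from hφ₀ 2, An92.Lef.basicOpen_pcoord] at hb
        exact hc'.2 hb.2
    have hmem : ∀ p : MvPolynomial (Fin 2) k, p ∈ Ideal.span {MvPolynomial.X 0, MvPolynomial.X 1} →
        G (φ₀ p) ∈ IsLocalRing.maximalIdeal (Y.presheaf.stalk w) := by
      intro p hp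
      obtain ⟨u, v, rfl⟩ := Ideal.mem_span_pair.1 hp
      simp only [map_add, map_mul]
      exact add_mem (Ideal.mul_mem_left _ _ (hnu 0)) (Ideal.mul_mem_left _ _ (hnu 1))
    have h0 : φ₀ g₀ = 0 := by
      show φ₀.toRingHom g₀ = 0
      rw [← RingHom.mem_ker, hker₀]
      exact Ideal.mem_span_singleton_self _
    have h1 : MvPolynomial.constantCoeff g₀ = -1 := by rw [hg₀, hW]; simp
    have h2 := hmem _ (sub_C_mem_span g₀)
    rw [h1, map_neg, map_one, sub_neg_eq_add, map_add, h0, map_one, map_add, map_zero, map_one, zero_add] at h2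
    exact (IsLocalRing.maximalIdeal.isMaximal _).ne_top ((Ideal.eq_top_iff_one _).2 h2)
  have hprime : ∀ (w : Y) (hw : w ∈ P₁), w ∉ P₂ →
      (hA₁.primeIdealOf ⟨w, hw⟩).asIdeal = Ideal.span {a, cc} := by
    intro w hw hw2
    set q := (hA₁.primeIdealOf ⟨w, hw⟩).asIdeal with hq
    let _ : Algebra Γ(Y, P₁) (Y.presheaf.stalk w) := (Y.presheaf.germ P₁ w hw).hom.toAlgebra
    have : IsLocalization.AtPrime (Y.presheaf.stalk w) q := hA₁.isLocalization_stalk ⟨w, hw⟩
    have hcq : cc ∈ q := by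
      by_contra hn
      refine hw2 (hcc.le ((Y.mem_basicOpen cc w hw).2 ?_)).2
      exact IsLocalization.map_units (M := q.primeCompl) (Y.presheaf.stalk w) ⟨cc, hn⟩
    have haq : a ∈ q := by
      refine Ideal.IsPrime.mem_of_pow_mem (I := q) inferInstance 3 ?_
      have : φ₁ (MvPolynomial.X 0 ^ 3) = cc * φ₁ (1 + MvPolynomial.C a₁ * MvPolynomial.X 0 +
          MvPolynomial.C a₃ * MvPolynomial.X 1 - MvPolynomial.C a₂ * MvPolynomial.X 0 ^ 2 -
          MvPolynomial.C a₄ * MvPolynomial.X 0 * MvPolynomial.X 1 - MvPolynomial.C a₆ * MvPolynomial.X 1 ^ 2) := by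
        rw [← sub_eq_zero, ← neg_eq_zero, neg_sub, ← map_mul, ← map_sub, ← hgval]
        exact hg0
      rw [← map_pow, this]
      exact Ideal.mul_mem_right _ _ hcq
    refine le_antisymm (fun x hx => ?_) (Ideal.span_le.2 (Set.insert_subset haq (Set.singleton_subset_iff.2 hcq)))
    obtain ⟨p, rfl⟩ := hsur₁ x
    have h1 : φ₁ (p - MvPolynomial.C (MvPolynomial.constantCoeff p)) ∈ Ideal.span {a, cc} := by
      have := Ideal.mem_map_of_mem φ₁.toRingHom (sub_C_mem_span p)
      rwa [Ideal.map_span, Set.image_pair] at this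
    have h2 : φ₁ (MvPolynomial.C (MvPolynomial.constantCoeff p)) ∈ q := by
      have h3 : Ideal.span {a, cc} ≤ q :=
        Ideal.span_le.2 (Set.insert_subset haq (Set.singleton_subset_iff.2 hcq))
      have := q.sub_mem hx (h3 h1)
      rwa [map_sub, sub_sub_cancel] at this
    by_cases hr : MvPolynomial.constantCoeff p = 0
    · rw [hr, map_zero, sub_zero] at h1; exact h1
    · exact absurd (q.eq_top_of_isUnit_mem h2
        (((isUnit_iff_ne_zero.2 hr).map MvPolynomial.C).map φ₁)) Ideal.IsPrime.ne_top'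
  have huniq : ∀ w w' : Y, w ∈ P₁ → w' ∈ P₁ → w ∉ P₂ → w' ∉ P₂ → w = w' := by
    intro w w' hw hw' hw2 hw2'
    exact (hA₁.fromSpec_primeIdealOf ⟨w, hw⟩).symm.trans
      ((congrArg hA₁.fromSpec (PrimeSpectrum.ext ((hprime w hw hw2).trans (hprime w' hw' hw2').symm))).trans
        (hA₁.fromSpec_primeIdealOf ⟨w', hw'⟩))
  have hbad : ∀ (w : Y) (_ : w ∈ P₁), w ∉ P₂ →
      (∃ _ : IsDomain (Y.presheaf.stalk w), ValuationRing (Y.presheaf.stalk w)) ∧
        IsLocalRing.maximalIdeal (Y.presheaf.stalk w) ≠ ⊥ := by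
    intro w hw hw2
    set q := (hA₁.primeIdealOf ⟨w, hw⟩).asIdeal with hq
    let _ : Algebra Γ(Y, P₁) (Y.presheaf.stalk w) := (Y.presheaf.germ P₁ w hw).hom.toAlgebra
    have : IsLocalization.AtPrime (Y.presheaf.stalk w) q := hA₁.isLocalization_stalk ⟨w, hw⟩
    let A := algebraMap Γ(Y, P₁) (Y.presheaf.stalk w)
    have hqe : q = Ideal.span {a, cc} := hprime w hw hw2
    have hunit : ∀ p : MvPolynomial (Fin 2) k, MvPolynomial.constantCoeff p ≠ 0 → φ₁ p ∉ q := by
      intro p hp hpq
      have h1 : φ₁ (p - MvPolynomial.C (MvPolynomial.constantCoeff p)) ∈ q := by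
        have := Ideal.mem_map_of_mem φ₁.toRingHom (sub_C_mem_span p)
        rw [Ideal.map_span, Set.image_pair] at this
        exact hqe.ge this
      have h2 := q.sub_mem hpq h1
      rw [map_sub, sub_sub_cancel] at h2
      exact Ideal.IsPrime.ne_top' (q.eq_top_of_isUnit_mem h2 (((isUnit_iff_ne_zero.2 hp).map MvPolynomial.C).map φ₁))
    have hmax : IsLocalRing.maximalIdeal (Y.presheaf.stalk w) = Ideal.span {A a} := by
      rw [← IsLocalization.AtPrime.map_eq_maximalIdeal q (Y.presheaf.stalk w), hqe, Ideal.map_span, Set.image_pair]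
      refine le_antisymm (Ideal.span_le.2 (Set.insert_subset (Ideal.mem_span_singleton_self _) ?_))
        (Ideal.span_mono (by simp [A]))
      rw [Set.singleton_subset_iff, SetLike.mem_coe, Ideal.mem_span_singleton]
      have hu : IsUnit (A (φ₁ (1 + MvPolynomial.C a₁ * MvPolynomial.X 0 +
          MvPolynomial.C a₃ * MvPolynomial.X 1 - MvPolynomial.C a₂ * MvPolynomial.X 0 ^ 2 -
          MvPolynomial.C a₄ * MvPolynomial.X 0 * MvPolynomial.X 1 - MvPolynomial.C a₆ * MvPolynomial.X 1 ^ 2))) :=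
        IsLocalization.map_units (M := q.primeCompl) (Y.presheaf.stalk w) ⟨_, hunit _ (by simp)⟩
      have h1 : A (φ₁ g) = 0 := by rw [hg0, map_zero]
      rw [hgval, map_sub, map_mul, map_pow, map_sub A, map_mul A, map_pow A, sub_eq_zero] at h1
      exact (hu.dvd_mul_right).1 (h1 ▸ dvd_pow_self (A a) (by norm_num))
    have hnil : ∀ n : ℕ, A a ^ n ≠ 0 := by
      intro n hn
      rw [← map_pow, IsLocalization.map_eq_zero_iff q.primeCompl] at hn
      obtain ⟨⟨s, hs⟩, hsn⟩ := hn
      obtain ⟨p, rfl⟩ := hsur₁ s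
      have hp : MvPolynomial.constantCoeff p ≠ 0 := by
        intro hp0
        have h1 := Ideal.mem_map_of_mem φ₁.toRingHom (sub_C_mem_span p)
        rw [hp0, map_zero, sub_zero, Ideal.map_span, Set.image_pair] at h1
        exact hs (hqe.ge h1)
      have h1 : p * MvPolynomial.X 0 ^ n ∈ RingHom.ker φ₁.toRingHom := by
        rw [RingHom.mem_ker]
        show φ₁ _ = 0
        rw [map_mul, map_pow]
        exact hsn
      rw [hker₁, Ideal.mem_span_singleton] at h1
      obtain ⟨h', hh'⟩ := h1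
      have hX : Prime (MvPolynomial.X 0 : MvPolynomial (Fin 2) k) := MvPolynomial.X_prime
      have hng : ¬ (MvPolynomial.X 0 : MvPolynomial (Fin 2) k) ∣ g := by
        rintro ⟨t, ht⟩
        have h2 := congrArg (fun f => (MvPolynomial.aeval (R := k) ![(0 : k[X]), Polynomial.X] f).coeff 1) ht
        rw [hgval] at h2
        simp [Polynomial.coeff_X_pow, sub_eq_add_neg, mul_add, Polynomial.coeff_C] at h2
      obtain ⟨h'', rfl⟩ : MvPolynomial.X 0 ^ n ∣ h' :=
        hX.pow_dvd_of_dvd_mul_left n hng ⟨p, by rw [← hh']; ring⟩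
      have h3 : p = g * h'' := by
        refine mul_right_cancel₀ (pow_ne_zero n (MvPolynomial.X_ne_zero (0 : Fin 2))) ?_
        rw [hh']; ring
      exact hp (by rw [h3, map_mul, hgc, zero_mul])
    refine ⟨valuationRing_of_principal (A a) hmax hnil, fun h0 => ?_⟩
    rw [hmax, Ideal.span_singleton_eq_bot] at h0
    exact hnil 1 (by rw [h0, pow_one])
  have hY : ∀ w : Y, ∃ _ : IsDomain (Y.presheaf.stalk w), ValuationRing (Y.presheaf.stalk w) := by
    intro w
    by_cases hw : w ∈ P₂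
    · let r : (regOpen z).toScheme := e.inv ⟨w, hw⟩
      let i : Y.presheaf.stalk w ≅ C.presheaf.stalk r.1 :=
        (P₂.stalkIso ⟨w, hw⟩).symm ≪≫ (asIso (e.inv.stalkMap ⟨w, hw⟩)).symm ≪≫ (regOpen z).stalkIso r
      obtain ⟨_, _⟩ := h.stalks r.1
      have : IsDomain (Y.presheaf.stalk w) := i.commRingCatIsoToRingEquiv.injective.isDomain
      exact ⟨this, Function.Surjective.valuationRing i.inv.hom i.symm.commRingCatIsoToRingEquiv.surjective⟩
    · exact (hbad w ((hcov w).resolve_right hw) hw).1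
  have hdense : closure (P₂ : Set Y) = Set.univ := by
    rw [Set.eq_univ_iff_forall]
    intro w
    by_cases hw : w ∈ P₂
    · exact subset_closure hw
    have hw1 : w ∈ P₁ := (hcov w).resolve_right hw
    obtain ⟨_, -⟩ := hY w
    let bot : Spec (Y.presheaf.stalk w) := (⟨⊥, Ideal.isPrime_bot⟩ : PrimeSpectrum (Y.presheaf.stalk w))
    set η := Y.fromSpecStalk w bot
    have hη : η ⤳ w := by
      have : η ∈ Set.range (Y.fromSpecStalk w) := ⟨_, rfl⟩
      rwa [Scheme.range_fromSpecStalk] at this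
    have hne : η ≠ w := by
      intro hew
      have h1 : bot = IsLocalRing.closedPoint (Y.presheaf.stalk w) :=
        (Y.fromSpecStalk w).isEmbedding.injective (hew.trans Scheme.fromSpecStalk_closedPoint.symm)
      exact (hbad w hw1 hw).2 (congrArg PrimeSpectrum.asIdeal h1).symm
    have hη2 : η ∈ P₂ := by
      by_contra hn
      exact hne (huniq η w (hη.mem_open P₁.2 hw1) hw1 hn hw)
    exact hη.mem_closed isClosed_closure (subset_closure hη2)
  have : IsIntegral (regOpen z).toScheme := inferInstance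
  have : IsIntegral P₂.toScheme := by
    have : Nonempty P₂.toScheme := ‹Nonempty P₂›
    exact isIntegral_of_isOpenImmersion e.inv
  have : IrreducibleSpace Y := by
    have h1 : IsIrreducible (Set.range P₂.ι) := by
      rw [← Set.image_univ]
      exact (IrreducibleSpace.isIrreducible_univ _).image _ P₂.ι.continuous.continuousOn
    rw [Scheme.Opens.range_ι] at h1
    have h2 := h1.closure
    rw [hdense] at h2
    exact (irreducibleSpace_def _).2 h2
  have : ∀ w : Y, _root_.IsReduced (Y.presheaf.stalk w) := fun w => by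
    obtain ⟨_, -⟩ := hY w
    infer_instance
  have : IsReduced Y := isReduced_of_isReduced_stalk Y
  have : IsIntegral Y := isIntegral_of_irreducibleSpace_of_isReduced Y
  exact exists_iso_of_open_iso (C ↘ Spec (CommRingCat.of k)) (Y ↘ Spec (CommRingCat.of k)) h.stalks hY
    (regOpen z) P₂ e he

end Groth.Agent.Crv77
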