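import Groth.Agent.Crv77.FunMap
import Groth.Agent.Cyc90.FlatFinFibre
import Groth.Agent.Curves2.CurveMaps
import Groth.Agent.SchBasics.Birational

/-! The rank of a finite flat morphism of integral curves is the degree of the function field
extension. -/

set_option autoImplicit false
set_option linter.style.haveILetI false
universe u

open CategoryTheory CategoryTheory.Limits AlgebraicGeometry TopologicalSpace Opposite IsLocalRing

namespace Groth.Agent.Crv77

variable {X Y : Scheme.{u}}

/-- A dominant morphism to an integral scheme with valuation rings as local rings is flat. -/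
theorem flat_of_valuationRing [IsIntegral X] [IsIntegral Y] [IsLocallyNoetherian Y]
    (hY : ∀ y : Y, ∃ _ : IsDomain (Y.presheaf.stalk y), ValuationRing (Y.presheaf.stalk y))
    (f : X ⟶ Y) (h : f (genericPoint X) = genericPoint Y) : Flat f := by
  refine Flat.of_stalkMap f fun x => ?_
  obtain ⟨_, _⟩ := hY (f x)
  let := (f.stalkMap x).hom.toAlgebra
  have : Module.IsTorsionFree (Y.presheaf.stalk (f x)) (X.presheaf.stalk x) :=
    Module.isTorsionFree_iff_algebraMap_injective.mpr (SchBasics.stalkMap_injective f h x)
  have : IsPrincipalIdealRing (Y.presheaf.stalk (f x)) :=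
    ((tfae_of_isNoetherianRing_of_isLocalRing_of_isDomain (Y.presheaf.stalk (f x))).out 1 0 rfl rfl).mp ‹_›
  exact (inferInstance : Module.Flat (Y.presheaf.stalk (f x)) (X.presheaf.stalk x))

/-- Only the generic point lies over the generic point. -/
theorem preimage_genericPoint [IsIntegral X] [IsIntegral Y] (f : X ⟶ Y) [IsFinite f]
    (e : f (genericPoint X) = genericPoint Y) : f ⁻¹' {genericPoint Y} = {genericPoint X} := by
  refine Set.Subset.antisymm (fun x hx => ?_) (by rintro _ rfl; exact e)
  have hd := (f.isDiscrete_preimage_singleton (genericPoint Y)).to_subtype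
  have h : (⟨genericPoint X, e⟩ : ↥(f ⁻¹' {genericPoint Y})) ⤳ ⟨x, hx⟩ :=
    (subtype_specializes_iff _ _).2 (genericPoint_specializes x)
  exact (congrArg Subtype.val (specializes_iff_eq.1 h)).symm

/-- The rank over the generic point. -/
theorem finrank_genericPoint [IsIntegral X] [IsIntegral Y] [IsLocallyNoetherian Y] (f : X ⟶ Y) [IsFinite f]
    [Flat f] (e : f (genericPoint X) = genericPoint Y) :
    Scheme.Hom.finrank f (genericPoint Y) = f.residueDegree (genericPoint X) := by
  obtain ⟨-, -, h⟩ := Cyc90.finite_flat_fibre f (genericPoint Y)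
  rw [preimage_genericPoint f e, finsum_mem_singleton] at h
  have hF : IsField (Y.presheaf.stalk (f (genericPoint X))) := e.symm ▸ Field.toIsField Y.functionField
  rw [← h, IsLocalRing.isField_iff_maximalIdeal_eq.1 hF, Ideal.map_bot]
  have : Module.length (X.presheaf.stalk (genericPoint X))
      (X.presheaf.stalk (genericPoint X) ⧸ (⊥ : Ideal (X.presheaf.stalk (genericPoint X)))) = 1 := by
    rw [(Submodule.quotEquivOfEqBot ⊥ rfl).length_eq]
    exact Module.length_eq_one X.functionField X.functionField
  rw [this]
  simp

/-- The rank is the degree of the function field extension. -/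
theorem finrank_eq_residueDegree [IsIntegral X] [IsIntegral Y] [IsLocallyNoetherian Y] (f : X ⟶ Y) [IsFinite f]
    [Flat f] (e : f (genericPoint X) = genericPoint Y) (y : Y) :
    Scheme.Hom.finrank f y = f.residueDegree (genericPoint X) := by
  rw [← finrank_genericPoint f e]
  exact ((Scheme.Hom.isLocallyConstant_finrank f).apply_eq_of_isPreconnected
    (s := Set.univ) isPreconnected_univ trivial trivial)

section Line

variable {k : Type u} [Field k] {C : Scheme.{u}} [C.Over (Spec (CommRingCat.of k))] [IsIntegral C]

attribute [local instance] CrvPic30.ffAlg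

open IntermediateField

/-- A transcendental rational function gives a finite flat morphism to the line of the same degree. -/
theorem exists_cover_of_fun (h : CrvPic30.Setup k C) {z : C.functionField} (hz : Transcendental k z) :
    ∃ f : C ⟶ CohB1.ProjSpace 1 k, f ≫ CohB1.ProjSpace.toSpec 1 k = C ↘ Spec (CommRingCat.of k) ∧
      IsFinite f ∧ Flat f ∧ f.residueDegree (genericPoint C) = Module.finrank k⟮z⟯ C.functionField ∧
      (∀ y, Scheme.Hom.finrank f y = Module.finrank k⟮z⟯ C.functionField) ∧
      ((letI := (f.residueFieldMap (genericPoint C)).hom.toAlgebra;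
        Algebra.IsSeparable ((CohB1.ProjSpace 1 k).residueField (f (genericPoint C)))
          (C.residueField (genericPoint C))) ↔ Algebra.IsSeparable k⟮z⟯ C.functionField) := by
  have := Curves2.ProjLine.isIntegral k 1
  have := Curves2.ProjLine.isLocallyNoetherian k 1
  obtain ⟨f, e, hf, hfin, hz'⟩ := exists_hom_of_fun h hz
  have := flat_of_valuationRing (Curves2.ProjLine.valuationRing_stalk k) f e
  obtain ⟨z₂, -, rfl, hdeg, hsep⟩ := exists_fun_of_hom f hf e
  subst hz'
  exact ⟨f, hf, hfin, this, hdeg, fun y => (finrank_eq_residueDegree f e y).trans hdeg, hsep⟩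

end Line

end Groth.Agent.Crv77
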