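import Groth.Agent.Crv77.Birat2
import Groth.Agent.Crv77.FunDeg
import Groth.Agent.VarMods75.Additive
import Groth.Agent.FGA29.SheafFunPush
import Groth.Agent.LC16.ProjLocFree
import Groth.Agent.Amp73.PullTensor
import Groth.Prelude.Def_FrameBundle

/-! Degrees under finite morphisms of integral curves. -/

set_option autoImplicit false
set_option linter.style.haveILetI false
set_option backward.isDefEq.respectTransparency false
universe u

open CategoryTheory CategoryTheory.Limits AlgebraicGeometry TopologicalSpace

namespace Groth.Agent.Crv77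

variable {X Y : Scheme.{u}}

theorem isFinLocFreeOfRank_pullback (φ : X ⟶ Y) {n : ℕ} {M : Y.Modules}
    (h : FlatMod.IsFinLocFreeOfRank n M) :
    FlatMod.IsFinLocFreeOfRank n ((Scheme.Modules.pullback φ).obj M) := fun y => by
  obtain ⟨V, hyV, ⟨i⟩⟩ := h (φ y)
  exact ⟨φ ⁻¹ᵁ V, hyV, ⟨((Amp73.pullRestrictIso φ V).app M).symm ≪≫
      (Scheme.Modules.pullback (φ ∣_ V)).mapIso
        (((Scheme.Modules.restrictFunctorIsoPullback V.ι).app M).symm ≪≫ i) ≪≫
      FrB.pullbackFreeIso (φ ∣_ V) n⟩⟩

theorem length_stalk_structureModule (X : Scheme.{u}) [IsIntegral X] :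
    Module.length (X.presheaf.stalk (genericPoint X))
      ((Coh.structureModule X).presheaf.stalk (genericPoint X)) = 1 := by
  refine (QC70.unitStalkEquiv (genericPoint X)).symm.length_eq.trans ?_
  exact Module.length_eq_one (R := X.functionField) (M := X.functionField)

/-- The length of `f_* O` at the generic point is the degree. -/
theorem len_push_generic [IsIntegral X] [IsIntegral Y] [IsLocallyNoetherian Y] (f : X ⟶ Y) [IsFinite f]
    (e : f (genericPoint X) = genericPoint Y) :
    Snapper75.len ((Coh.push f).obj (Coh.structureModule X)) (genericPoint Y) =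
      (f.residueDegree (genericPoint X) : ℚ) := by
  obtain ⟨_, ⟨V, hV, rfl⟩, hyV, -⟩ :=
    Y.isBasis_affineOpens.exists_subset_of_mem_open (Set.mem_univ (genericPoint Y)) isOpen_univ
  have hfib := preimage_genericPoint f e
  have := LocallyOfFiniteType.isLocallyNoetherian f
  obtain ⟨-, _, hlen⟩ := FGA29.length_stalk_push_finite f (genericPoint Y) V hV hyV (hV.preimage f)
    (IsFinite.finite_app f V hV) (Coh.structureModule X) isCoh_structureModule
    (fun z _ hz => hz.antisymm (genericPoint_specializes _) |>.eq)
  have h1 : Module.length (X.presheaf.stalk (genericPoint X))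
      ((Coh.structureModule X).presheaf.stalk (genericPoint X)) = 1 :=
    length_stalk_structureModule X
  unfold Snapper75.len
  rw [hlen, Fintype.sum_eq_single (⟨genericPoint X, e⟩ : ↥(f ⁻¹' {genericPoint Y}))
    fun x hx => absurd (Subtype.ext ((hfib.subset x.2).trans rfl)) hx, h1, mul_one, ENat.toNat_coe]

variable (k : Type u) [Field k] [X.Over (Spec (CommRingCat.of k))] [Y.Over (Spec (CommRingCat.of k))]

/-- `deg f^* E = deg f * deg E`. -/
theorem deg_pullback_finite [IsProper (X ↘ Spec (CommRingCat.of k))] [IsProper (Y ↘ Spec (CommRingCat.of k))]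
    [IsIntegral X] [IsIntegral Y] (hY : topologicalKrullDim Y = 1) (f : X ⟶ Y) [IsFinite f]
    (hf : f ≫ (Y ↘ Spec (CommRingCat.of k)) = X ↘ Spec (CommRingCat.of k))
    (e : f (genericPoint X) = genericPoint Y) {n : ℕ} {E : Y.Modules}
    (hE : FlatMod.IsFinLocFreeOfRank n E) :
    Curv2.deg k X ((Scheme.Modules.pullback f).obj E) n =
      (f.residueDegree (genericPoint X) : ℤ) * Curv2.deg k Y E n := by
  classical
  have := isNoetherian_of_proper k X
  have := isNoetherian_of_proper k Y
  obtain ⟨T, c, hT, hform⟩ := VarMods75.exists_euler_tensor_formula k hY.le hE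
  have hTg : T = {genericPoint Y} := by
    ext η
    rw [hT η, Finset.mem_singleton]
    constructor
    · intro hη
      by_contra hne
      have hc := isClosed_singleton (hY.le) hne
      have : Subsingleton (closure ({η} : Set Y)) := by rw [hc.closure_eq]; infer_instance
      exact not_le.2 zero_lt_one (hη.ge.trans (topologicalKrullDim_zero_of_discreteTopology _))
    · rintro rfl
      rw [genericPoint_closure]
      exact (IsHomeomorph.topologicalKrullDim_eq _ (Homeomorph.Set.univ Y).isHomeomorph).trans hY
  have hpull : FlatMod.IsFinLocFreeOfRank n ((Scheme.Modules.pullback f).obj E) :=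
    isFinLocFreeOfRank_pullback f hE
  have hpc : Coh.IsCoh ((Scheme.Modules.pullback f).obj E) := VarMods75.isCoh hpull
  have hpO : Coh.IsCoh ((Coh.push f).obj (Coh.structureModule X)) :=
    (finrank_hh_push k f hf 0).1
  have hpush : ∀ (M : X.Modules), Coh.IsCoh M →
      Curv2.euler k Y ((Coh.push f).obj M) = Curv2.euler k X M := fun M hM => by
    have := hM.1
    have hc : Coh.IsCoh ((Coh.push f).obj M) := QC70.isCoh_pushforward_of_isFinite f _ hM
    refine finsum_congr fun i => ?_
    obtain ⟨ei⟩ := Var76.nonempty_hhLin_push (A := k) f hf M hc.1 i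
    rw [ei.finrank_eq]
  have hproj : CohB1.tensorMod ((Coh.push f).obj (Coh.structureModule X)) E ≅
      (Coh.push f).obj ((Scheme.Modules.pullback f).obj E) :=
    @asIso _ _ _ _ (ValVan29.projHom f (Coh.structureModule X) E) (LC16.ProjLocFree.isIso_projHom f _ (VarMods75.isFinLocFree hE)) ≪≫
      (Scheme.Modules.pushforward f).mapIso (EGA73.tensUnitLeft _)
  have h1 := hform _ hpO
  have h2 := hform _ (isCoh_structureModule (X := Y))
  rw [hTg, Finset.sum_singleton, len_push_generic f e] at h1
  rw [hTg, Finset.sum_singleton, euler_congr (EGA73.tensUnitLeft E)] at h2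
  rw [euler_congr hproj, hpush _ hpc, hpush _ isCoh_structureModule] at h1
  have h3 : Snapper75.len (Coh.structureModule Y) (genericPoint Y) = 1 := by
    simp [Snapper75.len, length_stalk_structureModule Y]
  rw [h3, one_mul] at h2
  rw [← h2] at h1
  have h4 : ((Curv2.deg k X ((Scheme.Modules.pullback f).obj E) n : ℤ) : ℚ) =
      (((f.residueDegree (genericPoint X) : ℤ) * Curv2.deg k Y E n : ℤ) : ℚ) := by
    simp only [Curv2.deg]
    push_cast
    linarith
  exact_mod_cast h4

/-- A dominant morphism of proper integral curves is finite. -/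
theorem isFinite_of_dominant [IsProper (X ↘ Spec (CommRingCat.of k))] [IsProper (Y ↘ Spec (CommRingCat.of k))]
    [IsIntegral X] [IsIntegral Y] (hX : topologicalKrullDim X = 1) (hY : topologicalKrullDim Y = 1) (f : X ⟶ Y)
    (hf : f ≫ (Y ↘ Spec (CommRingCat.of k)) = X ↘ Spec (CommRingCat.of k))
    (e : f (genericPoint X) = genericPoint Y) : IsFinite f := by
  have := isNoetherian_of_proper k X
  have : IsProper (f ≫ (Y ↘ Spec (CommRingCat.of k))) := hf ▸ inferInstance
  have : IsProper f := IsProper.of_comp f (Y ↘ Spec (CommRingCat.of k))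
  have : LocallyQuasiFinite f := by
    refine LocallyQuasiFinite.of_finite_preimage_singleton f fun y => ?_
    by_cases hy : y = genericPoint Y
    · refine (Set.finite_singleton (genericPoint X)).subset fun x hx => ?_
      by_contra hne
      have hcl := f.isClosedMap _ (isClosed_singleton hX.le hne)
      rw [Set.image_singleton, show f x = y from hx, hy] at hcl
      obtain ⟨z, hz⟩ := exists_ne_genericPoint hY
      exact hz ((genericPoint_specializes z).mem_closed hcl (Set.mem_singleton _))
    · refine finite_of_isClosed' hX.le ((isClosed_singleton hY.le hy).preimage f.continuous) fun hg => hy ?_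
      exact ((show f (genericPoint X) = y from hg).symm.trans e)
  exact IsFinite.of_isProper_of_locallyQuasiFinite f

end Groth.Agent.Crv77
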