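import Groth.Agent.Crv77.PointTwist
import Mathlib.AlgebraicGeometry.AlgClosed.Basic

/-! The degree of a closed point. -/

set_option autoImplicit false
set_option linter.style.haveILetI false
universe u

open CategoryTheory CategoryTheory.Limits AlgebraicGeometry TopologicalSpace Opposite

attribute [local instance] Curv2.resAlgebra

namespace Groth.Agent.Crv77

variable {X : Scheme.{u}}

theorem mem_ptIdeal_iff {x : X} (hx : IsClosed ({x} : Set X)) (U : X.affineOpens) (a : Γ(X, U.1)) :
    a ∈ (ptIdeal hx).ideal U ↔ x ∉ X.basicOpen a := by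
  by_cases hxU : x ∈ U.1
  · exact mem_vanishingIdeal_singleton_iff hx U.2 hxU a
  · refine iff_of_true ?_ fun h => hxU (X.basicOpen_le a h)
    rw [Scheme.IdealSheafData.vanishingIdeal_ideal, PrimeSpectrum.mem_vanishingIdeal]
    intro p (hp : U.2.fromSpec p = x)
    exact absurd (hp ▸ U.2.range_fromSpec.le (Set.mem_range_self p)) hxU

theorem ker_fromSpecResidueField_eq {x : X} (hx : IsClosed ({x} : Set X)) :
    (X.fromSpecResidueField x).ker = ptIdeal hx := by
  have := isClosed_singleton_iff_isClosedImmersion.1 hx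
  refine Scheme.IdealSheafData.ext (funext fun U => Ideal.ext fun a => ?_)
  rw [mem_ptIdeal_iff hx, Scheme.Hom.ker_apply, RingHom.mem_ker]
  constructor
  · intro h hxa
    have h1 : (IsLocalRing.closedPoint (X.residueField x) : Spec (X.residueField x)) ∈
        (X.fromSpecResidueField x) ⁻¹ᵁ X.basicOpen a := by
      show X.fromSpecResidueField x _ ∈ X.basicOpen a
      exact (congrArg (· ∈ X.basicOpen a) (Scheme.fromSpecResidueField_apply x _)).mpr hxa
    rw [Scheme.preimage_basicOpen, h, Scheme.basicOpen_zero] at h1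
    exact h1
  · intro hxa
    rw [← AlgebraicGeometry.basicOpen_eq_bot_iff (X := Spec (X.residueField x)),
      ← Scheme.preimage_basicOpen]
    ext z
    refine iff_of_false (fun hz => hxa ?_) (fun hz => hz)
    have h2 : X.fromSpecResidueField x z ∈ X.basicOpen a := hz
    exact (congrArg (· ∈ X.basicOpen a) (Scheme.fromSpecResidueField_apply x z)).mp h2

theorem evaluation_surjective {x : X} (hx : IsClosed ({x} : Set X)) {U : X.Opens} (hU : IsAffineOpen U)
    (hxU : x ∈ U) : Function.Surjective (X.evaluation U x hxU).hom := by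
  let := TopCat.Presheaf.algebra_section_stalk X.presheaf ⟨x, hxU⟩
  have := hU.isLocalization_stalk ⟨x, hxU⟩
  let p := hU.primeIdealOf ⟨x, hxU⟩
  have hmax : p.asIdeal.IsMaximal := by
    refine (PrimeSpectrum.isClosed_singleton_iff_isMaximal p).1 ?_
    have h1 : ({p} : Set (PrimeSpectrum Γ(X, U))) = hU.fromSpec ⁻¹' {x} := by
      ext q
      refine ⟨fun hq => ?_, fun hq => ?_⟩
      · rw [Set.mem_singleton_iff] at hq
        subst hq
        exact hU.fromSpec_primeIdealOf ⟨x, hxU⟩
      · exact hU.fromSpec.isOpenEmbedding.injective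
          (Eq.trans hq (hU.fromSpec_primeIdealOf ⟨x, hxU⟩).symm)
    rw [h1]
    exact hx.preimage hU.fromSpec.continuous
  intro z
  obtain ⟨w, rfl⟩ := X.residue_surjective x z
  obtain ⟨⟨a, s⟩, hws⟩ := IsLocalization.surj (M := p.asIdeal.primeCompl) (S := X.presheaf.stalk x) w
  obtain ⟨t, i, hi, hti⟩ := hmax.exists_inv s.2
  refine ⟨a * t, ?_⟩
  have hi0 : (X.evaluation U x hxU).hom i = 0 := by
    rw [show (X.evaluation U x hxU).hom i = X.residue x (algebraMap Γ(X, U) (X.presheaf.stalk x) i) from rfl]
    refine (IsLocalRing.residue_eq_zero_iff _).2 ?_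
    exact ((IsLocalization.AtPrime.to_map_mem_maximal_iff (X.presheaf.stalk x) p.asIdeal i).2 hi)
  have hst : (X.evaluation U x hxU).hom t * (X.evaluation U x hxU).hom s.1 = 1 := by
    have := congrArg (X.evaluation U x hxU).hom hti
    rwa [map_add, map_mul, map_one, hi0, add_zero] at this
  have h2 : (X.residue x).hom w * (X.evaluation U x hxU).hom s.1 = (X.evaluation U x hxU).hom a :=
    (map_mul (X.residue x).hom _ _).symm.trans (congrArg (X.residue x).hom hws)
  rw [map_mul, ← h2, mul_assoc, mul_comm ((X.evaluation U x hxU).hom s.1), hst, mul_one]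

variable (k : Type u) [Field k] [X.Over (Spec (CommRingCat.of k))]

/-- `h⁰(O/I_x) = [κ(x) : k]`. -/
theorem finrank_quot_point {x : X} (hx : IsClosed ({x} : Set X)) :
    Module.finrank k (Coh.HH X (ClSub.quotMod (ptIdeal hx)) 0) = Module.finrank k (X.residueField x) := by
  obtain ⟨U, hU, hxU, -⟩ := exists_isAffineOpen_mem_and_subset (x := x) (U := (⊤ : X.Opens)) trivial
  let Q := ClSub.quotMod (ptIdeal hx)
  let c0 : k →+* Γ(X, U) := (X.presheaf.map (homOfLE (le_top : U ≤ ⊤)).op).hom.comp
    (Coh.toGlobal (X ↘ Spec (CommRingCat.of k)))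
  letI : Algebra k Γ(X, U) := c0.toAlgebra
  have hSfin : ((ptIdeal hx).support : Set X).Finite := (ptIdeal_support hx) ▸ Set.finite_singleton x
  have hScl : ∀ y ∈ ((ptIdeal hx).support : Set X), IsClosed ({y} : Set X) := fun y hy => by
    rw [ptIdeal_support hx, Set.mem_singleton_iff] at hy; exact hy ▸ hx
  let r : Γ(Q, ⊤) →+ Γ(Q, U) := (Q.presheaf.map (homOfLE (le_top : U ≤ ⊤)).op).hom
  have hr : Function.Bijective r := by
    constructor
    · refine (injective_iff_map_eq_zero r).2 fun m hm => ?_
      refine QC70.section_ext Q m 0 fun y hy => ?_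
      by_cases hyU : y ∈ U
      · exact ⟨U, le_top, hyU, hm.trans (map_zero _).symm⟩
      · let W : X.Opens := ⟨{x}ᶜ, hx.isOpen_compl⟩
        refine ⟨W, le_top, fun e => hyU (Set.mem_singleton_iff.1 e ▸ hxU), ?_⟩
        have hz : ∀ m' : Γ(Q, W), m' = 0 := (suppIn_quotMod (ptIdeal hx)).section_eq_zero (V := W)
          (fun z hz hzS => hz ((ptIdeal_support hx).le hzS))
        exact (hz _).trans (map_zero _).symm
    · exact fun s => (suppIn_quotMod (ptIdeal hx)).surjective_res hSfin hScl le_top s
  let e := AddEquiv.ofBijective r hr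
  let π : Γ(X, U) → Γ(Q, U) := fun a =>
    (ClSub.toSubscheme (ptIdeal hx)).app U (a : Γ(Coh.structureModule X, U))
  let ψ : Γ(X, U) →ₗ[k] Coh.HH X Q 0 :=
    { toFun := fun a => (sec Q).symm (e.symm (π a))
      map_add' := fun a b => by
        rw [show π (a + b) = π a + π b from map_add _ _ _, map_add, map_add]
      map_smul' := fun c a => by
        apply (sec Q).injective
        rw [RingHom.id_apply, sec_smul, AddEquiv.apply_symm_apply, AddEquiv.apply_symm_apply]
        apply e.injective
        rw [AddEquiv.apply_symm_apply]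
        refine (Scheme.Modules.Hom.app_smul (ClSub.toSubscheme (ptIdeal hx)) (c0 c)
          (a : Γ(Coh.structureModule X, U))).trans ?_
        refine Eq.trans ?_ (Scheme.Modules.map_smul Q (homOfLE (le_top : U ≤ ⊤)) _ _).symm
        exact congrArg (fun m => c0 c • m) (e.apply_symm_apply (π a)).symm }
  have hψ : Function.Surjective ψ := fun v => by
    obtain ⟨a, ha⟩ := (ptIdeal hx).subschemeι.app_surjective U hU (e (sec Q v))
    refine ⟨a, ?_⟩
    show (sec Q).symm (e.symm (π a)) = v
    rw [show π a = e (sec Q v) from ha, AddEquiv.symm_apply_apply, AddEquiv.symm_apply_apply]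
  let φ : Γ(X, U) →ₗ[k] X.residueField x :=
    { toFun := fun a => (X.evaluation U x hxU).hom a
      map_add' := map_add _
      map_smul' := fun c a => by
        rw [Algebra.smul_def, map_mul, RingHom.id_apply, Algebra.smul_def]
        refine congrArg (fun b => b * _) ?_
        exact congrArg (X.residue x).hom (TopCat.Presheaf.germ_res_apply X.presheaf _ x hxU _) }
  have hφ : Function.Surjective φ := evaluation_surjective hx hU hxU
  have hker : LinearMap.ker ψ = LinearMap.ker φ := by
    ext a
    rw [LinearMap.mem_ker, LinearMap.mem_ker]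
    refine Iff.trans ?_ (((toSubscheme_eq_zero_iff (ptIdeal hx) hU a).trans
      (mem_ptIdeal_iff hx ⟨U, hU⟩ a)).trans (X.evaluation_eq_zero_iff_notMem_basicOpen x hxU a).symm)
    show (sec Q).symm (e.symm (π a)) = 0 ↔ π a = 0
    rw [map_eq_zero_iff _ (sec Q).symm.injective, map_eq_zero_iff _ e.symm.injective]
  exact (ψ.quotKerEquivOfSurjective hψ).finrank_eq.symm.trans
    ((Submodule.quotEquivOfEq _ _ hker).finrank_eq.trans (φ.quotKerEquivOfSurjective hφ).finrank_eq)

omit [X.Over (Spec (CommRingCat.of k))] in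
theorem fromSpecResidueField_appTop (x : X) :
    (X.fromSpecResidueField x).appTop ≫ (Scheme.ΓSpecIso (X.residueField x)).hom =
      X.evaluation ⊤ x trivial := by
  delta Scheme.fromSpecResidueField
  rw [Scheme.Hom.comp_appTop, Category.assoc, Scheme.ΓSpecIso_naturality, ← Category.assoc,
    Scheme.fromSpecStalk_appTop, Category.assoc, Category.assoc]
  have e1 : ((Spec (X.presheaf.stalk x)).presheaf.map
      (homOfLE (le_top : (X.fromSpecStalk x) ⁻¹ᵁ (⊤ : X.Opens) ≤ ⊤)).op) = 𝟙 _ :=
    (Spec (X.presheaf.stalk x)).presheaf.map_id _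
  show X.presheaf.germ ⊤ x trivial ≫ _ = X.presheaf.germ ⊤ x trivial ≫ X.residue x
  refine congrArg (X.presheaf.germ ⊤ x trivial ≫ ·) ?_
  refine (congrArg (fun m => (Scheme.ΓSpecIso (X.presheaf.stalk x)).inv ≫ m) ?_).trans
    (Iso.inv_hom_id_assoc (Scheme.ΓSpecIso (X.presheaf.stalk x)) (X.residue x))
  refine (congrArg (fun m => m ≫ ((Scheme.ΓSpecIso (X.presheaf.stalk x)).hom ≫ X.residue x)) e1).trans
    (Category.id_comp _)

theorem resMap_bijective [IsAlgClosed k] [LocallyOfFiniteType (X ↘ Spec (CommRingCat.of k))] {x : X}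
    (hx : IsClosed ({x} : Set X)) : Function.Bijective (Curv2.resMap k X x) := by
  have hb := ConcreteCategory.bijective_of_isIso (residueFieldIsoBase (X ↘ Spec (CommRingCat.of k)) x hx).inv
  convert hb using 1
  have h := SpecMap_residueFieldIsoBase_inv (X ↘ Spec (CommRingCat.of k)) x hx
  have h2 := congrArg (fun f => (Scheme.ΓSpecIso (CommRingCat.of k)).inv ≫ Scheme.Hom.appTop f ≫
    (Scheme.ΓSpecIso (X.residueField x)).hom) h
  simp only [Scheme.ΓSpecIso_naturality, Iso.inv_hom_id_assoc] at h2
  rw [h2, Scheme.Hom.comp_appTop, Category.assoc, fromSpecResidueField_appTop]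
  rfl

theorem finrank_residueField_eq_one [IsAlgClosed k] [LocallyOfFiniteType (X ↘ Spec (CommRingCat.of k))]
    {x : X} (hx : IsClosed ({x} : Set X)) : Module.finrank k (X.residueField x) = 1 := by
  rw [← Module.finrank_self k]
  exact (LinearEquiv.ofBijective (Algebra.linearMap k (X.residueField x)) (resMap_bijective k hx)).finrank_eq.symm

end Groth.Agent.Crv77
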