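import Groth.Agent.Crv77.DeltaStalk
import Groth.Agent.Crv77.PointDeg
import Groth.Agent.VarMods75.ZeroDim

/-! The Euler characteristic of the normalization. -/

set_option autoImplicit false
set_option backward.isDefEq.respectTransparency false
universe u

open CategoryTheory CategoryTheory.Limits AlgebraicGeometry TopologicalSpace

attribute [local instance] Curv2.resAlgebra

namespace Groth.Agent.Crv77

variable (k : Type u) [Field k] {X : Scheme.{u}} [X.Over (Spec (CommRingCat.of k))]

theorem euler_ptMod [IsProper (X ↘ (Spec (CommRingCat.of k)))] (hdim : topologicalKrullDim X ≤ 1) {x : X}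
    (hx : IsClosed ({x} : Set X)) :
    Curv2.euler k X (Snapper75.ptMod x) = (Module.finrank k (X.residueField x) : ℤ) := by
  have : IsLocallyNoetherian X := LocallyOfFiniteType.isLocallyNoetherian (X ↘ (Spec (CommRingCat.of k)))
  have e : Snapper75.ptMod x = ClSub.quotMod (ptIdeal hx) := by
    have hC : (⟨closure ({x} : Set X), isClosed_closure⟩ : Closeds X) = ⟨{x}, hx⟩ := Closeds.ext hx.closure_eq
    show ClSub.quotMod _ = ClSub.quotMod _
    rw [hC]
  rw [e, (curveCoh_of_proper k X hdim).euler_eq_of_suppIn (isCoh_quotMod _) (suppIn_quotMod _)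
    ((ptIdeal_support hx) ▸ Set.finite_singleton x)
    (fun y hy => by rw [ptIdeal_support hx, Set.mem_singleton_iff] at hy; exact hy ▸ hx)]
  exact congrArg Nat.cast (finrank_quot_point k hx)

variable {X' : Scheme.{u}} [X'.Over (Spec (CommRingCat.of k))]

open scoped Classical in
theorem euler_eq_add_delta [IsProper (X ↘ (Spec (CommRingCat.of k)))] [IsReduced X]
    (hdim : topologicalKrullDim X ≤ 1) (π : X' ⟶ X) [IsFinite π]
    (hπ : π ≫ (X ↘ (Spec (CommRingCat.of k))) = X' ↘ (Spec (CommRingCat.of k))) (hX' : Pi1.IsNormalScheme X')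
    (U : X.Opens) (hU : Dense (U : Set X)) (hU' : Dense ((π ⁻¹ᵁ U : X'.Opens) : Set X'))
    (hfU : IsIso (π ∣_ U)) :
    Curv2.euler k X' (Coh.structureModule X') = Curv2.euler k X (Coh.structureModule X) +
      ∑ᶠ x : X, (if IsClosed ({x} : Set X) then
        ((Module.finrank k (X.residueField x) : ℤ) * ((Curv2.deltaInv (X.presheaf.stalk x)).toNat : ℤ)) else 0) := by
  have : IsLocallyNoetherian X := LocallyOfFiniteType.isLocallyNoetherian (X ↘ (Spec (CommRingCat.of k)))
  have : CompactSpace X := QuasiCompact.compactSpace_of_compactSpace (X ↘ (Spec (CommRingCat.of k)))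
  have : IsNoetherian X := ⟨⟩
  have hX := curveCoh_of_proper k X hdim
  let φ := ClSub.unitToPush π
  let P := (Coh.push π).obj (Coh.structureModule X')
  have hP : Coh.IsCoh P := (finrank_hh_push k π hπ 0).1
  have : Mono φ := QC70.mono_of_app_injective φ fun W => injective_app_of_dense π U hU hfU W
  let S : ShortComplex X.Modules := ShortComplex.mk φ (cokernel.π φ) (cokernel.condition _)
  have hS : S.ShortExact := { exact := ShortComplex.exact_of_g_is_cokernel _ (cokernelIsCokernel _) }
  have hC : Coh.IsCoh (cokernel φ) := isCoh_cokernel φ isCoh_structureModule hP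
  have hP' : Curv2.euler k X' (Coh.structureModule X') = Curv2.euler k X P :=
    finsum_congr fun i => by rw [(finrank_hh_push k π hπ i).2]
  have hsum := hX.euler_add hS (isCoh_structureModule (X := X)) hP
  simp only [S] at hsum
  refine hP'.trans (hsum.trans ?_)
  congr 1
  obtain ⟨hfin, hcl⟩ := finite_compl_dense hdim U.2 hU
  have hsupp : SuppIn (cokernel φ) ((U : Set X)ᶜ) := suppIn_cokernel φ fun x hx =>
    surjective_stalkMapM_unitToPush π U inferInstance x (not_not.1 hx)
  have hlen := length_cokernel_eq_deltaInv π U hX' hU hU' hfU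
  have hzero : ∀ x, x ∉ hfin.toFinset → (Curv2.deltaInv (X.presheaf.stalk x)).toNat = 0 := fun x hx => by
    have := hsupp x (fun h => hx (hfin.mem_toFinset.2 h))
    rw [← hlen x, Module.length_eq_zero]; rfl
  rw [finsum_eq_finset_sum_of_support_subset _ (s := hfin.toFinset) (fun x hx => by
    by_contra h
    rw [Function.mem_support, hzero x h] at hx
    simp at hx)]
  refine Int.cast_injective (α := ℚ) ?_
  have hd0 : topologicalKrullDim ((U : Set X)ᶜ : Set X) ≤ (0 : WithBot ℕ∞) := by
    have := hfin.to_subtype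
    have : T1Space ((U : Set X)ᶜ : Set X) := ⟨fun y => by
      rw [show ({y} : Set ((U : Set X)ᶜ : Set X)) = Subtype.val ⁻¹' {y.1} by ext; simp [Subtype.ext_iff]]
      exact (hcl y.1 y.2).preimage continuous_subtype_val⟩
    refine Ega11.PointDim.dim_le_iff (fun _ => le_rfl) fun n a ha hn => ?_
    obtain ⟨h1, h2⟩ := ha 0 hn
    exact absurd h1.eq h2.symm
  rw [VarMods75.euler_eq_sum_len k U.2.isClosed_compl hd0 (T := hfin.toFinset) (fun η => ?_) hC
    (fun x hx => by_contra fun h => hx (hsupp x h))]
  · push_cast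
    refine Finset.sum_congr rfl fun x hx => ?_
    have hxc := hcl x (hfin.mem_toFinset.1 hx)
    rw [if_pos hxc, euler_ptMod k hdim hxc, Snapper75.len, hlen x]
    push_cast
    ring
  · rw [hfin.mem_toFinset]
    refine ⟨fun h => ⟨h, ?_⟩, fun h => h.1⟩
    rw [(hcl η h).closure_eq]
    refine le_antisymm ?_ Ega11.PointDim.zero_le_dim
    refine Ega11.PointDim.dim_le_iff (fun _ => le_rfl) fun n a ha hn => ?_
    exact absurd (Subtype.ext ((a (0+1)).2.trans (a 0).2.symm)) (ha 0 hn).2.symm

end Groth.Agent.Crv77
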