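import Groth.Agent.Crv77.NormalModel
import Groth.Prelude.Def_Curv2
import Mathlib.RingTheory.Localization.LocalizationLocalization
import Mathlib.RingTheory.Localization.Integral
import Mathlib.RingTheory.Localization.Module
import Mathlib.Algebra.Module.LocalizedModule.IsLocalization

/-! The delta invariant of a localization, from a birational normal finite algebra. -/

set_option autoImplicit false
universe u

namespace Groth.Agent.Crv77

open nonZeroDivisors

theorem length_quot_eq_deltaInv {R S : Type u} [CommRing R] [CommRing S] [Algebra R S]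
    [Algebra.IsIntegral R S] (p : Ideal R) [p.IsPrime]
    (A : Type u) [CommRing A] [Algebra R A] [IsLocalization.AtPrime A p]
    (g : R) (hgR : g ∈ R⁰) (hgS : algebraMap R S g ∈ S⁰) (hinj : Function.Injective (algebraMap R S))
    (hpow : ∀ s : S, ∃ (n : ℕ) (r : R), algebraMap R S g ^ n * s = algebraMap R S r)
    (hS : ∀ (q : Ideal S) [q.IsPrime],
      IsDomain (Localization.AtPrime q) ∧ IsIntegrallyClosed (Localization.AtPrime q))
    (M N : Type u) [AddCommGroup M] [AddCommGroup N] [Module R M] [Module R N] [Module A M] [Module A N]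
    [IsScalarTower R A M] [IsScalarTower R A N]
    (gM : S →ₗ[R] M) [IsLocalizedModule p.primeCompl gM]
    (gN : R →ₗ[R] N) [IsLocalizedModule p.primeCompl gN]
    (l : N →ₗ[A] M) (hl : ∀ r, l (gN r) = gM (algebraMap R S r)) :
    Module.length A (M ⧸ LinearMap.range l) = Curv2.deltaInv A := by
  let T := Algebra.algebraMapSubmonoid S p.primeCompl
  let B := Localization T
  letI : Algebra A B := localizationAlgebra p.primeCompl S
  have : IsScalarTower R A B := isScalarTower_localizationAlgebra p.primeCompl S
  have hint : Algebra.IsIntegral A B := ⟨fun b => by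
    have := isIntegral_localization (R := R) (S := S) (M := p.primeCompl) (Rₘ := A) (Sₘ := B)
    exact this b⟩
  have hcomm : ∀ r : R, algebraMap A B (algebraMap R A r) = algebraMap S B (algebraMap R S r) := fun r =>
    (IsScalarTower.algebraMap_apply R A B r).symm.trans (IsScalarTower.algebraMap_apply R S B r)
  have hinjB : Function.Injective (algebraMap A B) := by
    refine (injective_iff_map_eq_zero _).2 fun a ha => ?_
    obtain ⟨⟨r, t⟩, hrt⟩ := IsLocalization.surj p.primeCompl a
    have h0 : algebraMap S B (algebraMap R S r) = 0 := by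
      rw [← hcomm, ← hrt, map_mul, ha, zero_mul]
    obtain ⟨⟨_, c, hc, rfl⟩, hc0⟩ := (IsLocalization.map_eq_zero_iff T B _).1 h0
    have hr : algebraMap R A r = 0 := (IsLocalization.map_eq_zero_iff p.primeCompl A r).2
      ⟨⟨c, hc⟩, hinj (by rw [map_mul, map_zero]; exact hc0)⟩
    rw [hr] at hrt
    exact (IsLocalization.map_units A t).mul_left_eq_zero.1 hrt
  have hgA : algebraMap R A g ∈ A⁰ := mem_nonZeroDivisors_iff_right.2 fun a ha => by
    obtain ⟨⟨r, t⟩, hrt⟩ := IsLocalization.surj p.primeCompl a
    have h0 : algebraMap R A (r * g) = 0 := by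
      rw [map_mul, ← hrt, mul_right_comm, ha, zero_mul]
    obtain ⟨c, hc0⟩ := (IsLocalization.map_eq_zero_iff p.primeCompl A _).1 h0
    have hr : algebraMap R A r = 0 := (IsLocalization.map_eq_zero_iff p.primeCompl A r).2
      ⟨c, (mem_nonZeroDivisors_iff_right.1 hgR) _ (by rw [mul_assoc]; exact hc0)⟩
    rw [hr] at hrt
    exact (IsLocalization.map_units A t).mul_left_eq_zero.1 hrt
  have hgB : algebraMap A B (algebraMap R A g) ∈ B⁰ := mem_nonZeroDivisors_iff_right.2 fun b hb => by
    obtain ⟨⟨s, t⟩, hst⟩ := IsLocalization.surj T b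
    rw [hcomm] at hb
    have h0 : algebraMap S B (s * algebraMap R S g) = 0 := by
      rw [map_mul, ← hst, mul_right_comm, hb, zero_mul]
    obtain ⟨c, hc0⟩ := (IsLocalization.map_eq_zero_iff T B _).1 h0
    have hs : algebraMap S B s = 0 := (IsLocalization.map_eq_zero_iff T B s).2
      ⟨c, (mem_nonZeroDivisors_iff_right.1 hgS) _ (by rw [mul_assoc]; exact hc0)⟩
    rw [hs] at hst
    exact (IsLocalization.map_units B t).mul_left_eq_zero.1 hst
  have hpowB : ∀ b : B, ∃ (n : ℕ) (a : A),
      algebraMap A B (algebraMap R A g) ^ n * b = algebraMap A B a := fun b => by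
    obtain ⟨⟨s, ⟨_, t, ht, rfl⟩⟩, hst⟩ := IsLocalization.surj T b
    obtain ⟨n, r, hr⟩ := hpow s
    refine ⟨n, IsLocalization.mk' A r (⟨t, ht⟩ : p.primeCompl), ?_⟩
    refine (IsLocalization.map_units B (⟨algebraMap R S t, t, ht, rfl⟩ : T)).mul_left_inj.1 ?_
    rw [mul_assoc, hst, ← hcomm t, ← map_mul (algebraMap A B), IsLocalization.mk'_spec, hcomm, hcomm, ← hr,
      map_mul, map_pow]
  have hB : ∀ (m : Ideal B) [m.IsMaximal],
      IsDomain (Localization.AtPrime m) ∧ IsIntegrallyClosed (Localization.AtPrime m) := by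
    intro m _
    obtain ⟨h1, h2⟩ := hS (m.comap (algebraMap S B))
    let e : Localization.AtPrime (m.comap (algebraMap S B)) ≃ₐ[S] Localization.AtPrime m :=
      IsLocalization.localizationLocalizationAtPrimeIsoLocalization T m
    exact ⟨e.symm.toRingEquiv.toMulEquiv.isDomain _, IsIntegrallyClosed.of_equiv e.toRingEquiv⟩
  let algR : R →ₗ[R] A := Algebra.linearMap R A
  have : IsLocalizedModule p.primeCompl algR :=
    (isLocalizedModule_iff_isLocalization' p.primeCompl A).2 inferInstance
  let algS : S →ₗ[R] B := (IsScalarTower.toAlgHom R S B).toLinearMap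
  have : IsLocalizedModule p.primeCompl algS := isLocalizedModule_iff_isLocalization.2 inferInstance
  let eM : M ≃ₗ[A] B := (IsLocalizedModule.linearEquiv p.primeCompl gM algS).extendScalarsOfIsLocalization
    p.primeCompl A
  let eN : N ≃ₗ[A] A := (IsLocalizedModule.linearEquiv p.primeCompl gN algR).extendScalarsOfIsLocalization
    p.primeCompl A
  have hel : (eM : M →ₗ[A] B) ∘ₗ l = Algebra.linearMap A B ∘ₗ (eN : N →ₗ[A] A) := by
    have key : ((eM : M →ₗ[A] B) ∘ₗ l).restrictScalars R =
        (Algebra.linearMap A B ∘ₗ (eN : N →ₗ[A] A)).restrictScalars R := by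
      refine IsLocalizedModule.linearMap_ext p.primeCompl gN algS (LinearMap.ext fun r => ?_)
      show IsLocalizedModule.linearEquiv p.primeCompl gM algS (l (gN r)) =
        algebraMap A B (IsLocalizedModule.linearEquiv p.primeCompl gN algR (gN r))
      rw [hl, IsLocalizedModule.linearEquiv_apply, IsLocalizedModule.linearEquiv_apply]
      exact (hcomm r).symm
    exact LinearMap.ext fun y => LinearMap.congr_fun key y
  have e1 : (M ⧸ LinearMap.range l) ≃ₗ[A] B ⧸ LinearMap.range (Algebra.linearMap A B) := by
    refine Submodule.Quotient.equiv _ _ eM ?_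
    rw [← LinearMap.range_comp, hel, LinearMap.range_comp_of_range_eq_top _ (LinearEquiv.range eN)]
  obtain ⟨e2⟩ := nonempty_quot_equiv_deltaQuot hint hinjB (algebraMap R A g) hgB hgA hpowB hB
  exact (e1.trans e2).length_eq

end Groth.Agent.Crv77
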