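import Groth.Agent.Crv77.DeltaLoc
import Groth.Agent.Crv77.Birat3
import Groth.Agent.Div89.Stalk
import Groth.Agent.VarDim1.TotalRing
import Groth.Prelude.Def_Pi1

/-! The cokernel of the structure sheaf in a normal finite birational cover has the delta invariants as lengths. -/

set_option autoImplicit false
set_option backward.isDefEq.respectTransparency false
universe u

open CategoryTheory CategoryTheory.Limits AlgebraicGeometry TopologicalSpace
open scoped nonZeroDivisors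

namespace Groth.Agent.Crv77

theorem exists_dense_basicOpen_le {R : Type u} [CommRing R] [IsNoetherianRing R] [_root_.IsReduced R]
    (W : Set (PrimeSpectrum R)) (hW : IsOpen W) (hd : Dense W) :
    ∃ g : R, g ∈ R⁰ ∧ (PrimeSpectrum.basicOpen g : Set (PrimeSpectrum R)) ⊆ W ∧
      Dense (PrimeSpectrum.basicOpen g : Set (PrimeSpectrum R)) := by
  classical
  obtain ⟨I, hI⟩ := (PrimeSpectrum.isClosed_iff_zeroLocus_ideal _).1 hW.isClosed_compl
  let F := (minimalPrimes.finite_of_isNoetherianRing R).toFinset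
  have hnot : ∀ P ∈ minimalPrimes R, ¬ I ≤ P := by
    intro P hP hle
    have hPp : P.IsPrime := Ideal.minimalPrimes_isPrime hP
    obtain ⟨ζ, hζW, hζ⟩ := exists_generic_in_dense hW hd (⟨P, hPp⟩ : PrimeSpectrum R)
    have hle' : ζ.asIdeal ≤ P := (PrimeSpectrum.le_iff_specializes ζ ⟨P, hPp⟩).2 hζ
    have : P ≤ ζ.asIdeal := hP.2 ⟨ζ.2, bot_le⟩ hle'
    have hmem : ζ ∈ PrimeSpectrum.zeroLocus (I : Set R) := fun a ha => this (hle ha)
    rw [← hI] at hmem
    exact hmem hζW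
  have hsub : ¬ ((I : Set R) ⊆ ⋃ P ∈ (F : Set (Ideal R)), (P : Set R)) := by
    rw [Ideal.subset_union_prime ⊥ ⊥ fun P hP _ _ => Ideal.minimalPrimes_isPrime ((Set.Finite.mem_toFinset _).1 hP)]
    rintro ⟨P, hP, hle⟩
    exact hnot P ((Set.Finite.mem_toFinset _).1 hP) hle
  obtain ⟨g, hgI, hg⟩ := Set.not_subset.1 hsub
  have hgmin : ∀ P ∈ minimalPrimes R, g ∉ P := fun P hP h =>
    hg (Set.mem_biUnion (Finset.mem_coe.2 ((Set.Finite.mem_toFinset _).2 hP)) h)
  refine ⟨g, VarDim1.mem_nonZeroDivisors_of_forall_notMem hgmin, fun q hq => ?_, ?_⟩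
  · by_contra hqW
    have : q ∈ PrimeSpectrum.zeroLocus (I : Set R) := hI ▸ hqW
    exact hq (this hgI)
  · rw [dense_iff_inter_open]
    rintro O hO ⟨q, hq⟩
    obtain ⟨P, hP, hle⟩ := Ideal.exists_minimalPrimes_le (I := ⊥) (J := q.asIdeal) bot_le
    have hPp : P.IsPrime := Ideal.minimalPrimes_isPrime hP
    exact ⟨⟨P, hPp⟩, ((PrimeSpectrum.le_iff_specializes (⟨P, hPp⟩ : PrimeSpectrum R) q).1 hle).mem_open hO hq, hgmin P hP⟩

/-- A function vanishing on a dense open of a reduced scheme vanishes. -/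
theorem eq_zero_of_res {Z : Scheme.{u}} [IsReduced Z] {V D : Z.Opens} (h : D ≤ V)
    (hD : ∀ O : Z.Opens, O ≤ V → (O : Set Z).Nonempty → ((O : Set Z) ∩ D).Nonempty)
    (s : Γ(Z, V)) (hs : (Z.presheaf.map (homOfLE h).op).hom s = 0) : s = 0 := by
  rw [← basicOpen_eq_bot_iff]
  by_contra hne
  obtain ⟨x, hxs, hxD⟩ := hD _ (Z.basicOpen_le s)
    (Set.nonempty_iff_ne_empty.2 fun e => hne (SetLike.ext' (e.trans Opens.coe_bot.symm)))
  have hmem : x ∈ Z.basicOpen ((Z.presheaf.map (homOfLE h).op).hom s) := by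
    rw [Scheme.basicOpen_res]; exact ⟨hxD, hxs⟩
  rw [hs, Scheme.basicOpen_zero] at hmem
  exact hmem

variable {X X' : Scheme.{u}} (π : X' ⟶ X) (U : X.Opens)

theorem bijective_app_of_isIso_restrict (hfU : IsIso (π ∣_ U)) {W : X.Opens} (hW : W ≤ U) :
    Function.Bijective (π.app W).hom := by
  have h2 : U.ι ''ᵁ (U.ι ⁻¹ᵁ W) = W := by
    rw [Scheme.Hom.image_preimage_eq_opensRange_inf, Scheme.Opens.opensRange_ι]
    exact inf_eq_right.2 hW
  suffices h : Function.Bijective (π.app (U.ι ''ᵁ (U.ι ⁻¹ᵁ W))).hom from h2 ▸ h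
  have hb := ConcreteCategory.bijective_of_isIso ((π ∣_ U).app (U.ι ⁻¹ᵁ W))
  rw [morphismRestrict_app] at hb
  have hm := ConcreteCategory.bijective_of_isIso
    (X'.presheaf.map (eqToHom (image_morphismRestrict_preimage π U (U.ι ⁻¹ᵁ W))).op)
  exact (Function.Bijective.of_comp_iff' hm _).1 hb

theorem exists_inter_preimage (hfU : IsIso (π ∣_ U)) (hU' : Dense ((π ⁻¹ᵁ U : X'.Opens) : Set X'))
    {V D : X.Opens} (hD : ∀ O : X.Opens, O ≤ V → (O : Set X).Nonempty → ((O : Set X) ∩ D).Nonempty)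
    (O : X'.Opens) (hO : O ≤ π ⁻¹ᵁ V) (hne : (O : Set X').Nonempty) :
    ((O : Set X') ∩ (π ⁻¹ᵁ D : X'.Opens)).Nonempty := by
  obtain ⟨y, hyO, hyU⟩ := hU'.inter_open_nonempty O O.2 hne
  let ρ := (π ∣_ U) ≫ U.ι
  have hρ : ∀ r : (π ⁻¹ᵁ U : X'.Opens), ρ r = π r.1 := fun r => by
    show ((π ∣_ U) ≫ U.ι) r = _
    rw [morphismRestrict_ι]; rfl
  let W : X.Opens := ρ ''ᵁ ((π ⁻¹ᵁ U).ι ⁻¹ᵁ O)
  have hWV : W ≤ V := by
    rintro _ ⟨r, hr, rfl⟩
    show ρ r ∈ V
    rw [hρ r]
    exact hO hr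
  obtain ⟨_, ⟨r, hr, rfl⟩, hxD⟩ := hD W hWV ⟨ρ ⟨y, hyU⟩, ⟨y, hyU⟩, hyO, rfl⟩
  refine ⟨r.1, hr, ?_⟩
  show π r.1 ∈ D
  rw [← hρ r]
  exact hxD

theorem length_cokernel_eq_deltaInv [IsLocallyNoetherian X] [IsReduced X] [IsFinite π]
    (hX' : Pi1.IsNormalScheme X') (hU : Dense (U : Set X)) (hU' : Dense ((π ⁻¹ᵁ U : X'.Opens) : Set X'))
    (hfU : IsIso (π ∣_ U)) (x : X) :
    Module.length (X.presheaf.stalk x) ((cokernel (ClSub.unitToPush π)).presheaf.stalk x) =
      Curv2.deltaInv (X.presheaf.stalk x) := by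
  obtain ⟨_, ⟨V, hV, rfl⟩, hxV, -⟩ :=
    X.isBasis_affineOpens.exists_subset_of_mem_open (Set.mem_univ x) isOpen_univ
  have hVn : IsNoetherianRing Γ(X, V) := IsLocallyNoetherian.component_noetherian ⟨V, hV⟩
  have hS' : IsAffineOpen (π ⁻¹ᵁ V) := IsAffineOpen.preimage hV π
  have hredX' : IsReduced X' := by
    have : ∀ z : X', _root_.IsReduced (X'.presheaf.stalk z) := fun z => by
      have := (hX' z).1; infer_instance
    exact isReduced_of_isReduced_stalk X'
  letI : Algebra Γ(X, V) Γ(X', π ⁻¹ᵁ V) := (π.app V).hom.toAlgebra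
  have hfin : Module.Finite Γ(X, V) Γ(X', π ⁻¹ᵁ V) := IsFinite.finite_app (f := π) V hV
  have : Algebra.IsIntegral Γ(X, V) Γ(X', π ⁻¹ᵁ V) := inferInstance
  obtain ⟨g, hgR, hgU, hgd⟩ := exists_dense_basicOpen_le (hV.fromSpec ⁻¹' (U : Set X))
    (U.2.preimage hV.fromSpec.continuous) (hU.preimage hV.fromSpec.isOpenEmbedding.isOpenMap)
  let D := X.basicOpen g
  have hDU : D ≤ U := by
    intro z hz
    have hzV : z ∈ V := X.basicOpen_le g hz
    obtain ⟨q, rfl⟩ : z ∈ Set.range hV.fromSpec := by rw [hV.range_fromSpec]; exact hzV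
    refine hgU ?_
    show q ∈ PrimeSpectrum.basicOpen g
    rw [← hV.fromSpec_preimage_basicOpen g]
    exact hz
  have hD : ∀ O : X.Opens, O ≤ V → (O : Set X).Nonempty → ((O : Set X) ∩ D).Nonempty := by
    rintro O hO ⟨z, hz⟩
    obtain ⟨q, hq⟩ : z ∈ Set.range hV.fromSpec := by rw [hV.range_fromSpec]; exact hO hz
    obtain ⟨q', hq'O, hq'g⟩ := hgd.inter_open_nonempty _ (O.2.preimage hV.fromSpec.continuous)
      ⟨q, show hV.fromSpec q ∈ O from hq.symm ▸ hz⟩
    refine ⟨hV.fromSpec q', hq'O, ?_⟩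
    show q' ∈ hV.fromSpec ⁻¹ᵁ X.basicOpen g
    rw [hV.fromSpec_preimage_basicOpen g]
    exact hq'g
  have hnat : ∀ r : Γ(X, V), (X'.presheaf.map (homOfLE (π.preimage_mono (X.basicOpen_le g))).op).hom ((π.app V).hom r) =
      (π.app D).hom ((X.presheaf.map (homOfLE (X.basicOpen_le g)).op).hom r) := fun r =>
    (congr($(π.naturality (homOfLE (X.basicOpen_le g)).op) r)).symm
  have hinj : Function.Injective (algebraMap Γ(X, V) Γ(X', π ⁻¹ᵁ V)) :=
    injective_app_of_dense π U hU hfU V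
  have hzero := fun (s : Γ(X', π ⁻¹ᵁ V)) =>
    eq_zero_of_res (π.preimage_mono (X.basicOpen_le g))
      (fun O hO hne => exists_inter_preimage π U hfU hU' hD O hO hne) s
  have hgu : IsUnit ((X'.presheaf.map (homOfLE (π.preimage_mono (X.basicOpen_le g))).op).hom ((π.app V).hom g)) := by
    rw [hnat]
    exact (RingedSpace.isUnit_res_basicOpen X.toRingedSpace g).map _
  have hgS : algebraMap Γ(X, V) Γ(X', π ⁻¹ᵁ V) g ∈ (Γ(X', π ⁻¹ᵁ V))⁰ := by
    refine mem_nonZeroDivisors_iff_right.2 fun s hs => hzero s ?_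
    have := congrArg (X'.presheaf.map (homOfLE (π.preimage_mono (X.basicOpen_le g))).op).hom hs
    rw [map_mul, map_zero] at this
    exact hgu.mul_left_eq_zero.1 this
  have hpow : ∀ s : Γ(X', π ⁻¹ᵁ V), ∃ (n : ℕ) (r : Γ(X, V)),
      algebraMap Γ(X, V) Γ(X', π ⁻¹ᵁ V) g ^ n * s = algebraMap Γ(X, V) Γ(X', π ⁻¹ᵁ V) r := by
    intro s
    obtain ⟨a, ha⟩ := (bijective_app_of_isIso_restrict π U hfU hDU).2
      ((X'.presheaf.map (homOfLE (π.preimage_mono (X.basicOpen_le g))).op).hom s)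
    have := hV.isLocalization_basicOpen g
    obtain ⟨n, r, hr⟩ := IsLocalization.Away.surj g a
    refine ⟨n, r, sub_eq_zero.1 (hzero _ ?_)⟩
    rw [map_sub, map_mul, map_pow, ← ha, show algebraMap Γ(X, V) Γ(X', π ⁻¹ᵁ V) g = (π.app V).hom g from rfl,
      show algebraMap Γ(X, V) Γ(X', π ⁻¹ᵁ V) r = (π.app V).hom r from rfl, hnat, hnat, ← map_pow, ← map_mul,
      sub_eq_zero]
    exact congrArg _ ((mul_comm _ _).trans hr)
  have hnorm : ∀ (q : Ideal Γ(X', π ⁻¹ᵁ V)) [q.IsPrime],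
      IsDomain (Localization.AtPrime q) ∧ IsIntegrallyClosed (Localization.AtPrime q) := by
    intro q hq
    let y : PrimeSpectrum Γ(X', π ⁻¹ᵁ V) := ⟨q, hq⟩
    have hy : hS'.fromSpec y ∈ π ⁻¹ᵁ V := hS'.range_fromSpec.le (Set.mem_range_self y)
    obtain ⟨h1, h2⟩ := hX' (hS'.fromSpec y)
    letI := TopCat.Presheaf.algebra_section_stalk X'.presheaf ⟨hS'.fromSpec y, hy⟩
    have := hS'.isLocalization_stalk' y hy
    let e : X'.presheaf.stalk (hS'.fromSpec y) ≃ₐ[Γ(X', π ⁻¹ᵁ V)] Localization.AtPrime q :=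
      IsLocalization.algEquiv q.primeCompl _ _
    exact ⟨e.symm.toRingEquiv.toMulEquiv.isDomain _, IsIntegrallyClosed.of_equiv e.toRingEquiv⟩
  let P := (Coh.push π).obj (Coh.structureModule X')
  have hP : Coh.IsCoh P := QC70.isCoh_pushforward_of_isFinite π _ isCoh_structureModule
  let φ := ClSub.unitToPush π
  let p := Div89.primeAt ⟨V, hV⟩ x hxV
  have hp : p.IsPrime := Div89.primeAt_isPrime ⟨V, hV⟩ x hxV
  letI := Div89.stalkAlg V x hxV
  have hloc : IsLocalization.AtPrime (X.presheaf.stalk x) p := Div89.isLocalization_stalk ⟨V, hV⟩ x hxV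
  letI := Div89.stalkModule P V x hxV
  letI := Div89.stalkModule (Coh.structureModule X) V x hxV
  have hM := Div89.isScalarTower_stalk P V x hxV
  have hN := Div89.isScalarTower_stalk (Coh.structureModule X) V x hxV
  let gM : Γ(X', π ⁻¹ᵁ V) →ₗ[Γ(X, V)] P.presheaf.stalk x :=
    { toFun := fun s => Div89.germLin P V x hxV (s : Γ(P, V))
      map_add' := fun a b => map_add (Div89.germLin P V x hxV) (a : Γ(P, V)) b
      map_smul' := fun r s => LinearMap.map_smul (Div89.germLin P V x hxV) r (s : Γ(P, V)) }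
  let gN : Γ(X, V) →ₗ[Γ(X, V)] (Coh.structureModule X).presheaf.stalk x :=
    { toFun := fun s => Div89.germLin (Coh.structureModule X) V x hxV (s : Γ(Coh.structureModule X, V))
      map_add' := fun a b => map_add (Div89.germLin (Coh.structureModule X) V x hxV) (a : Γ(Coh.structureModule X, V)) b
      map_smul' := fun r s => LinearMap.map_smul (Div89.germLin (Coh.structureModule X) V x hxV) r
        (s : Γ(Coh.structureModule X, V)) }
  have : IsLocalizedModule p.primeCompl gM := by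
    have h := Div89.isLocalizedModule_germLin P hP.1 ⟨V, hV⟩ x hxV
    exact ⟨h.map_units, h.surj, h.exists_of_eq⟩
  have : IsLocalizedModule p.primeCompl gN := by
    have h := Div89.isLocalizedModule_germLin (Coh.structureModule X) (isCoh_structureModule (X := X)).1 ⟨V, hV⟩ x hxV
    exact ⟨h.map_units, h.surj, h.exists_of_eq⟩
  have key := length_quot_eq_deltaInv p (X.presheaf.stalk x) g hgR hgS hinj hpow hnorm
    (P.presheaf.stalk x) ((Coh.structureModule X).presheaf.stalk x) gM gN (QC70.stalkLinear φ x)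
    (fun r => QC70.stalkMapM_germ φ hxV r)
  have : Mono φ := QC70.mono_of_app_injective φ fun W => injective_app_of_dense π U hU hfU W
  let π' := QC70.stalkLinear (cokernel.π φ) x
  have hπ : Function.Surjective π' := QC70.surjective_stalkMapM_of_epi _ x
  let S : ShortComplex X.Modules := ShortComplex.mk φ (cokernel.π φ) (cokernel.condition φ)
  have hS : S.Exact := ShortComplex.exact_of_g_is_cokernel S (cokernelIsCokernel φ)
  have : Mono S.f := this
  have hker : LinearMap.ker π' = LinearMap.range (QC70.stalkLinear φ x) := by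
    ext m
    constructor
    · intro hm
      obtain ⟨d, hd⟩ := QC70.stalkMapM_exact S hS x m hm
      exact ⟨d, hd⟩
    · rintro ⟨d, rfl⟩
      obtain ⟨W, hxW, s, rfl⟩ := QC70.germM_exist d
      show QC70.stalkMapM (cokernel.π φ) x (QC70.stalkMapM φ x _) = 0
      rw [QC70.stalkMapM_germ, QC70.stalkMapM_germ, ← ConcreteCategory.comp_apply, ← Scheme.Modules.Hom.comp_app,
        cokernel.condition, Scheme.Modules.Hom.zero_app]
      exact QC70.germM_zero hxW
  exact ((π'.quotKerEquivOfSurjective hπ).symm.trans (Submodule.quotEquivOfEq _ _ hker)).length_eq.trans key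

end Groth.Agent.Crv77
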