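import Groth.Agent.Crv77.Hopf

/-! A linear series of maximal dimension forces genus zero. -/

set_option autoImplicit false
set_option linter.style.haveILetI false
universe u

open CategoryTheory CategoryTheory.Limits AlgebraicGeometry TopologicalSpace Opposite

namespace Groth.Agent.Crv77

open Groth.Agent.Var76.LineBundle Groth.Agent.Var76.ZeroScheme
open Groth.Agent.Amp73 (tm tmLeft)

variable {X : Scheme.{u}} {L M Q : X.Modules}

/-- A section near `x`, extended by zero away from `x`. -/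
theorem SuppIn.exists_point_part {S : Set X} (hQ : SuppIn Q S) {x : X} (hx : IsClosed ({x} : Set X))
    {U : X.Opens} (hxU : x ∈ U) (hUS : ∀ y ∈ U, y ∈ S → y = x) (q : Γ(Q, U)) :
    ∃ p : Γ(Q, ⊤), QC70.res Q (le_top : U ≤ ⊤) p = q ∧
      ∀ (W : X.Opens), x ∉ W → QC70.res Q (le_top : W ≤ ⊤) p = 0 := by
  let O : X.Opens := ⟨{x}ᶜ, hx.isOpen_compl⟩
  let Ui : ULift.{u} Bool → X.Opens := fun b => if b.down then U else O
  have hcov : (⊤ : X.Opens) ≤ ⨆ b, Ui b := by
    intro y _
    rw [Opens.mem_iSup]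
    by_cases hy : y = x
    · exact ⟨⟨true⟩, show y ∈ U from hy ▸ hxU⟩
    · exact ⟨⟨false⟩, hy⟩
  let si : ∀ b, Γ(Q, Ui b) := fun b => match b with
    | ⟨true⟩ => q
    | ⟨false⟩ => 0
  obtain ⟨p, hp⟩ := QC70.exists_glue Q Ui (fun _ => le_top) hcov si (by
    rintro ⟨i⟩ ⟨j⟩
    cases i <;> cases j
    · rfl
    · exact @Subsingleton.elim _ (subsingleton_of_forall_eq (α := Γ(Q, Ui ⟨false⟩ ⊓ Ui ⟨true⟩)) 0
        fun m => hQ.section_eq_zero (V := O ⊓ U) (fun y hy hyS => hy.1 (hUS y hy.2 hyS)) m) _ _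
    · exact @Subsingleton.elim _ (subsingleton_of_forall_eq (α := Γ(Q, Ui ⟨true⟩ ⊓ Ui ⟨false⟩)) 0
        fun m => hQ.section_eq_zero (V := U ⊓ O) (fun y hy hyS => hy.2 (hUS y hy.1 hyS)) m) _ _
    · rfl)
  refine ⟨p, hp ⟨true⟩, fun W hW => ?_⟩
  have hle : W ≤ O := fun y hy (e : y = x) => hW (e ▸ hy)
  refine (QC70.res_res (le_top : O ≤ ⊤) hle p).symm.trans ?_
  exact (congrArg (QC70.res Q hle) (hp ⟨false⟩)).trans (map_zero _)

/-- Sections of a punctual module twisted by a generated invertible module come from products. -/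
theorem mem_span_tm {S : Set X} (hQ : SuppIn Q S) (hS : S.Finite) (hcl : ∀ x ∈ S, IsClosed ({x} : Set X))
    (hgen : ∀ x ∈ S, ∃ t : Γ(M, ⊤), x ∈ gl M t)
    (hsupp : SuppIn (CohB1.tensorMod Q M) S) (z : Γ(CohB1.tensorMod Q M, ⊤)) :
    z ∈ AddSubgroup.closure {w | ∃ (q : Γ(Q, ⊤)) (t : Γ(M, ⊤)), w = tm Q M q t} := by
  classical
  have key : ∀ x ∈ S, ∃ (q : Γ(Q, ⊤)) (t : Γ(M, ⊤)) (U : X.Opens), x ∈ U ∧
      res _ (le_top : U ≤ ⊤) (tm Q M q t) = res _ (le_top : U ≤ ⊤) z ∧
      ∀ (W : X.Opens), x ∉ W → res _ (le_top : W ≤ ⊤) (tm Q M q t) = 0 := by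
    intro x hx
    obtain ⟨t, ht⟩ := hgen x hx
    let W₀ := complOpen (hS.subset (Set.sdiff_subset (s := S) (t := {x}))) fun y hy => hcl y hy.1
    let U := gl M t ⊓ W₀
    have hxU : x ∈ U := ⟨ht, fun h => h.2 rfl⟩
    have hframe : IsFrame M U (res M le_top t) := by
      have := (Amp73.isFrame_iff_le_genLocus (Var76.Frames.ofSection M t) U).2 inf_le_left
      rwa [Var76.Frames.val_ofSection] at this
    obtain ⟨q', hq'⟩ := Amp73.exists_eq_tm_frame (L := Q) hframe le_rfl (res _ le_top z)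
    rw [Amp73.res_self] at hq'
    obtain ⟨q, hq, hq0⟩ := hQ.exists_point_part (hcl x hx) hxU
      (fun y hy hyS => by_contra fun hne => hy.2 ⟨hyS, hne⟩) q'
    refine ⟨q, t, U, hxU, ?_, fun W hW => ?_⟩
    · rw [Amp73.res_tm, show res Q (le_top : U ≤ ⊤) q = q' from hq, hq']
    · rw [Amp73.res_tm, show res Q (le_top : W ≤ ⊤) q = 0 from hq0 W hW, Amp73.tm_zero_left]
  choose! q t U hxU hU hW using key
  suffices z = ∑ x ∈ hS.toFinset, tm Q M (q x) (t x) by
    rw [this]
    exact AddSubgroup.sum_mem _ fun x _ => AddSubgroup.subset_closure ⟨q x, t x, rfl⟩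
  refine eq_of_locally _ _ _ fun y _ => ?_
  let V₀ := complOpen (hS.subset (Set.sdiff_subset (s := S) (t := {y}))) fun z hz => hcl z hz.1
  have hout : ∀ (V : X.Opens), V ≤ V₀ → ∀ x ∈ S, x ≠ y → x ∉ V := fun V hV x hx hne h =>
    hV h ⟨hx, hne⟩
  by_cases hy : y ∈ S
  · refine ⟨U y ⊓ V₀, le_top, ⟨hxU y hy, fun h => h.2 rfl⟩, ?_⟩
    refine Eq.symm ((map_sum ((CohB1.tensorMod Q M).presheaf.map _).hom _ _).trans ?_)
    rw [Finset.sum_eq_single y]
    · have := congrArg (res _ (inf_le_left : U y ⊓ V₀ ≤ U y)) (hU y hy)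
      rw [res_res, res_res] at this
      exact this
    · intro x hx hne
      exact hW x (hS.mem_toFinset.1 hx) _ (hout _ inf_le_right x (hS.mem_toFinset.1 hx) hne)
    · exact fun h => absurd (hS.mem_toFinset.2 hy) h
  · refine ⟨complOpen hS hcl, le_top, hy, ?_⟩
    refine (hsupp.section_eq_zero (fun w hw => hw) _).trans ?_
    exact (hsupp.section_eq_zero (fun w hw => hw) _).symm

variable {k : Type u} [Field k] [X.Over (Spec (CommRingCat.of k))]

omit [X.Over (Spec (CommRingCat.of k))] in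
theorem mem_gl_one (x : X) : x ∈ gl (Coh.structureModule X) (1 : Γ(X, ⊤)) := by
  let one : Γ(Coh.structureModule X, ⊤) := (1 : Γ(X, ⊤))
  have h : IsFrame (Coh.structureModule X) ⊤
      (val (Coh.structureModule X) (Var76.Frames.ofSection (Coh.structureModule X) one) ⊤) :=
    (congrArg (IsFrame _ ⊤) ((Var76.Frames.val_ofSection _ one ⊤).trans (Amp73.res_self _ one))).mpr
      (Amp73.isFrame_one ⊤)
  exact (Amp73.isFrame_iff_le_genLocus _ _).1 h (Opens.mem_top x)

namespace CurveCoh

variable (hX : CurveCoh k X)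
include hX

omit hX in
theorem deg_structureModule : Curv2.deg k X (Coh.structureModule X) 1 = 0 := by
  simp [Curv2.deg]

theorem deg_tensorPow [IsIntegral X] [IsNoetherian X] (hdim : topologicalKrullDim X ≤ 1)
    (hL : PicF.IsInvertible L) :
    ∀ n : ℕ, Curv2.deg k X (CohB1.tensorPow L n) 1 = n * Curv2.deg k X L 1
  | 0 => by
    show Curv2.deg k X (Coh.structureModule X) 1 = _
    rw [deg_structureModule]
    simp
  | n + 1 => by
    show Curv2.deg k X (CohB1.tensorMod (CohB1.tensorPow L n) L) 1 = _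
    rw [hX.deg_tensorMod hdim (EGA73.isInvertible_tensorPow hL n) hL, deg_tensorPow hdim hL n]
    push_cast
    ring

/-- `h⁰(L) = deg L + 1` with positive degree forces genus zero. -/
theorem genus_eq_zero_of_h0_eq [IsIntegral X] [IsNoetherian X] (hdim : topologicalKrullDim X = 1)
    (h0 : Module.finrank k (Coh.HH X (Coh.structureModule X) 0) = 1)
    (hL : PicF.IsInvertible L) (heq : h (k := k) 0 L = Curv2.deg k X L 1 + 1)
    (hpos : 0 < Curv2.deg k X L 1) : Curv2.genus k X = 0 := by
  have hLc := isCoh_of_isInvertible hL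
  have hs : Nontrivial (Coh.HH X L 0) := Module.nontrivial_of_finrank_pos (R := k) (by
    simp only [h] at heq; omega)
  obtain ⟨s, S, hm, hS, hcl, hsupp, hQc, hdeg, -⟩ := hX.exists_section_seq hdim.le hL hs
  have := hX.finite _ hLc 0
  have := hX.finite _ hQc 0
  let T := ShortComplex.mk s (cokernel.π s) (cokernel.condition _)
  have hT : T.ShortExact :=
    { exact := ShortComplex.exact_of_g_is_cokernel _ (cokernelIsCokernel _)
      mono_f := hm
      epi_g := inferInstanceAs (Epi (cokernel.π _)) }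
  have := hX.finite _ (isCoh_structureModule (X := X)) 0
  -- sections of `L` map onto the sections of the cokernel
  have hsur : Function.Surjective (hmap k (cokernel.π s) 0) := by
    have e := finrank_range_add_of_exact (exact_f_g (S := T) k hT 0)
    have a := LinearMap.finrank_range_of_inj (injective_f_zero (S := T) k hT)
    rw [← LinearMap.range_eq_top]
    refine Submodule.eq_top_of_finrank_eq (le_antisymm (Submodule.finrank_le _) ?_)
    simp only [h] at heq hdeg
    change Module.finrank k (LinearMap.range (hmap k s 0)) + Module.finrank k (LinearMap.range (hmap k (cokernel.π s) 0)) = Module.finrank k (Coh.HH X L 0) at e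
    change Module.finrank k (LinearMap.range (hmap k s 0)) = Module.finrank k (Coh.HH X (Coh.structureModule X) 0) at a
    omega
  -- base point free
  have hgen : ∀ x : X, IsClosed ({x} : Set X) → ∃ t : Γ(L, ⊤), x ∈ gl L t := by
    intro x hx
    by_contra hcon
    push Not at hcon
    have hv : ∀ t : Γ(L, ⊤), (valueAt (ptIdeal hx) L).app ⊤ t = 0 := fun t =>
      (valueAt_eq_zero_iff hx hL t).2 (hcon t)
    have hcomp : s ≫ valueAt (ptIdeal hx) L = 0 := by
      refine Scheme.Modules.hom_ext _ _ fun W => ?_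
      ext a
      refine (Amp73.app_eq_smul_val (s ≫ valueAt (ptIdeal hx) L) W a).trans ?_
      have h1 : val _ (s ≫ valueAt (ptIdeal hx) L) W = 0 := by
        rw [← res_val _ _ (le_top : W ≤ ⊤)]
        refine (congrArg (res _ (le_top : W ≤ ⊤)) (hv (s.app ⊤ (1 : Γ(X, ⊤))))).trans (map_zero _)
      refine (congrArg (fun m => (show Γ(X, W) from a) • m) h1).trans ?_
      exact smul_zero (show Γ(X, W) from a)
    let ψ := cokernel.desc s (valueAt (ptIdeal hx) L) hcomp
    have hψ : ψ = 0 := by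
      refine Scheme.Modules.hom_ext _ _ fun W => ?_
      ext q
      obtain ⟨q', rfl⟩ := hsupp.surjective_res hS hcl (le_top : W ≤ ⊤) q
      obtain ⟨v, hv'⟩ := hsur ((sec _).symm q')
      have h1 : (cokernel.π s).app ⊤ (sec L v) = q' := by
        rw [← sec_hmap k, hv', AddEquiv.apply_symm_apply]
      refine (QC70.app_res ψ (le_top : W ≤ ⊤) q').trans ?_
      refine (congrArg (QC70.res _ (le_top : W ≤ ⊤)) ?_).trans (map_zero _)
      rw [← h1]
      exact (ConcreteCategory.congr_hom (congrArg (fun φ => Scheme.Modules.Hom.app φ ⊤)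
        (cokernel.π_desc s (valueAt (ptIdeal hx) L) hcomp)) _).trans (hv _)
    refine valueAt_ne_zero hx hL ?_
    rw [← cokernel.π_desc s (valueAt (ptIdeal hx) L) hcomp]
    exact (congrArg (cokernel.π s ≫ ·) hψ).trans comp_zero
  have hgenpow : ∀ n : ℕ, ∀ x : X, IsClosed ({x} : Set X) → ∃ t : Γ(CohB1.tensorPow L n, ⊤), x ∈ gl _ t := by
    intro n
    induction n with
    | zero => exact fun x _ => ⟨(1 : Γ(X, ⊤)), mem_gl_one x⟩
    | succ n ih =>
      intro x hx
      obtain ⟨t, ht⟩ := ih x hx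
      obtain ⟨t', ht'⟩ := hgen x hx
      exact ⟨_, gl_inf_le_gl_tm t t' ⟨ht, ht'⟩⟩
  have hstep : ∀ n : ℕ, h (k := k) 0 (CohB1.tensorPow L (n + 1)) =
      h (k := k) 0 (CohB1.tensorPow L n) + Curv2.deg k X L 1 := by
    intro n
    let M := CohB1.tensorPow L n
    have hM : PicF.IsInvertible M := EGA73.isInvertible_tensorPow hL n
    obtain ⟨hz, hTw⟩ := exists_tR_shortExact (O := X.sheaf) M
      (locally_flat_of_rank_one (Mero90.isFinLocFreeOfRank_of_isInvertible hM)) hT
    let f' : CohB1.tensorMod (Coh.structureModule X) M ⟶ CohB1.tensorMod L M := twistMap s M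
    let g' : CohB1.tensorMod L M ⟶ CohB1.tensorMod (cokernel s) M := twistMap (cokernel.π s) M
    let Tw : ShortComplex X.Modules := ShortComplex.mk f' g' hz
    have hTw' : Tw.ShortExact := hTw
    have hMc := isCoh_of_isInvertible hM
    obtain ⟨e⟩ := hsupp.nonempty_iso_tensorMod (L := M) hS hcl hM
    have hsupp' : SuppIn (CohB1.tensorMod (cokernel s) M) S := fun y hy => by
      have := hsupp y hy
      exact (QC70.injective_stalkMapM_of_mono e.inv y).subsingleton
    have hsurg : Function.Surjective (hmap k g' 0) := by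
      intro z
      have hz' := mem_span_tm hsupp hS hcl (fun x hx => hgenpow n x (hcl x hx)) hsupp' (sec _ z)
      suffices ∃ w, g'.app ⊤ w = sec _ z by
        obtain ⟨w, hw⟩ := this
        refine ⟨(sec _).symm w, (sec _).injective ?_⟩
        rw [sec_hmap k, AddEquiv.apply_symm_apply, hw]
      refine AddSubgroup.closure_induction (p := fun w _ => ∃ a, g'.app ⊤ a = w) ?_ ?_ ?_ ?_ hz'
      · rintro _ ⟨q, t, rfl⟩
        obtain ⟨v, hv⟩ := hsur ((sec _).symm q)
        refine ⟨tm L M (sec L v) t, (twist_map_tm (cokernel.π s) M ⊤ _ t).trans ?_⟩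
        rw [← sec_hmap k, hv, AddEquiv.apply_symm_apply]
      · exact ⟨0, map_zero _⟩
      · rintro a b - - ⟨a', rfl⟩ ⟨b', rfl⟩
        exact ⟨a' + b', map_add _ _ _⟩
      · rintro a - ⟨a', rfl⟩
        exact ⟨-a', map_neg _ _⟩
    have hfinM := hX.finite _ (isCoh_tensorMod hLc hMc) 0
    have e1 := finrank_range_add_of_exact (exact_f_g (S := Tw) k hTw' 0)
    have e2 := LinearMap.finrank_range_of_inj (injective_f_zero (S := Tw) k hTw')
    have e3 : Module.finrank k (LinearMap.range (hmap k g' 0)) =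
        Module.finrank k (Coh.HH X (CohB1.tensorMod (cokernel s) M) 0) := by
      rw [LinearMap.range_eq_top.2 hsurg, finrank_top]
    have e4 := (hEquiv k (EGA73.tensUnitLeft (X := X) M) 0).finrank_eq
    have e5 := (hEquiv k e 0).finrank_eq
    have e6 := (hEquiv k (EGA73.tensComm M L) 0).finrank_eq
    simp only [h] at hdeg ⊢
    change (Module.finrank k (Coh.HH X (CohB1.tensorMod M L) 0) : ℤ) = _
    simp only [M, Tw, f', g'] at e1 e2 e3 e4 e5 e6 ⊢
    omega
  have hall : ∀ n : ℕ, h (k := k) 0 (CohB1.tensorPow L n) = n * Curv2.deg k X L 1 + 1 := by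
    intro n
    induction n with
    | zero =>
      show (Module.finrank k (Coh.HH X (Coh.structureModule X) 0) : ℤ) = _
      rw [h0]; simp
    | succ n ih => rw [hstep, ih]; push_cast; ring
  set m := 2 * Curv2.genus k X
  have hP := EGA73.isInvertible_tensorPow hL m
  have hdm := hX.deg_tensorPow hdim.le hL m
  have hge : (m : ℤ) ≤ m * Curv2.deg k X L 1 := le_mul_of_one_le_right (by positivity) (by omega)
  have h1 := hX.h1_eq_zero_of_deg_gt hdim h0 hP (by omega)
  have e := hX.riemann h0 (isCoh_of_isInvertible hP)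
  have z1 : Module.finrank k (Coh.HH X (CohB1.tensorPow L m) 1) = 0 := Module.finrank_zero_of_subsingleton
  have hm' := hall m
  simp only [h, z1] at e hm'
  omega

end CurveCoh

end Groth.Agent.Crv77
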