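import Groth.Agent.Crv77.InvMod
import Groth.Agent.Crv77.MaxSeries
import Groth.Agent.Mero90.Sections
import Groth.Agent.TopDim50.Basic
import Groth.Agent.Mero90.MulDiv

/-! Global sections of `O(D)` under adding an effective divisor, on any proper curve. -/

set_option autoImplicit false
set_option linter.style.haveILetI false
universe u

open CategoryTheory CategoryTheory.Limits AlgebraicGeometry TopologicalSpace Opposite

namespace Groth.Agent.Crv77

open Groth.Agent.Var76.LineBundle Groth.Agent.Var76.ZeroScheme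

variable {X : Scheme.{u}}

theorem dim_le_one_of_components
    (h : ∀ Z ∈ irreducibleComponents (X : Type u), topologicalKrullDim Z = 1) :
    topologicalKrullDim X ≤ 1 := by
  rw [TopDim50.dim_eq_iSup_irreducibleComponents]
  exact iSup₂_le fun Z hZ => (h Z hZ).le

/-- On a Noetherian ring with only nilpotent non-units, regular elements are units. -/
theorem isUnit_of_mem_nonZeroDivisors_of_dim_zero {R : Type u} [CommRing R] [IsLocalRing R]
    [Ring.KrullDimLE 0 R] {r : R} (hr : r ∈ nonZeroDivisors R) : IsUnit r := by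
  by_contra hu
  obtain ⟨n, hn⟩ := Ring.KrullDimLE.isNilpotent_iff_mem_nonunits.2 hu
  exact one_ne_zero (α := R) ((pow_mem hr n) |> fun h => (mem_nonZeroDivisors_iff_right.1 h) 1 (by rw [one_mul, hn]))

theorem exists_effective_section [IsLocallyNoetherian X] [NoetherianSpace X]
    (hdim : topologicalKrullDim X ≤ 1) (E : Mero.Divisor X) (hE : Mero.IsEffective E) :
    ∃ (s : Coh.structureModule X ⟶ Mero.divMod E) (S : Set X), Mono s ∧ S.Finite ∧
      (∀ x ∈ S, IsClosed ({x} : Set X)) ∧ SuppIn (cokernel s) S := by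
  have h1 : ∀ x : X, Mero.DivCond E x 1 := by
    intro x g hg
    obtain ⟨a, ha⟩ := hE x
    exact ((Mero90.mk_regUnit_mul_cls E 1 _ ha).mpr ⟨a.1, (one_mul _).symm⟩) g hg
  let one : Γ(Mero.divMod E, ⊤) := ⟨fun _ => 1, Mero.kLoc_one X ⊤, fun x => h1 x.1⟩
  let s := Var76.Frames.ofSection (Mero.divMod E) one
  have loc : ∀ x : X, ∃ (U : X.Opens) (_ : x ∈ U) (e : Γ(Mero.divMod E, U)) (c : Γ(X, U)),
      IsFrame (Mero.divMod E) U e ∧ c • e = val (Mero.divMod E) s U ∧ c ∈ Mero.regSub X U := by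
    intro x
    obtain ⟨U, hxU, f, hf⟩ := E.2 x
    obtain ⟨c, hc⟩ := Mero90.exists_toK_eq f.1 fun y => by
      have h := (Mero90.germOf_eq_iff E f y.2 (hf y) 1).mp (h1 y.1)
      rwa [one_mul] at h
    refine ⟨U, hxU, Mero90.frameSec E f hf, c, Mero90.isFrame_frameSec E f hf, ?_, fun y => ?_⟩
    · rw [Var76.Frames.val_ofSection]
      refine Subtype.ext (funext fun y => ?_)
      change X.presheaf.germ U y.1 y.2 c • (f⁻¹).1.1 y = 1
      rw [Algebra.smul_def, ← Mero90.toK_val, hc, ← Mero.kmod_mul_apply, Units.mul_inv, Mero.kmod_one_apply]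
    · refine Mero90.nzd_of_isUnit_mk' (b := 1) ?_
      rw [IsLocalization.mk'_one, ← Mero90.toK_val, hc]
      exact Mero90.eval_isUnit f y
  choose U hxU e c he hce hc using loc
  have hinj : ∀ V : X.Opens, Function.Injective (s.app V) := by
    intro V a a' haa
    refine TopCat.Presheaf.section_ext X.sheaf _ _ _ fun x hx => ?_
    let W := V ⊓ U x
    have hres : ∀ b : Γ(X, V), res (Mero.divMod E) (inf_le_left : W ≤ V) (s.app V b) =
        (fres (inf_le_left : W ≤ V) b * fres (inf_le_right : W ≤ U x) (c x)) •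
          res (Mero.divMod E) (inf_le_right : W ≤ U x) (e x) := by
      intro b
      rw [Amp73.app_eq_smul_val, res_smul, res_val, ← res_val _ s (inf_le_right : W ≤ U x), ← hce x,
        res_smul, smul_smul]
    have h2 := congrArg (res (Mero.divMod E) (inf_le_left : W ≤ V)) haa
    replace h2 := ((hres a).symm.trans h2).trans (hres a')
    have hxW : x ∈ W := ⟨hx, hxU x⟩
    have g : ∀ {V' : X.Opens} (hWV : W ≤ V') (b : Γ(X, V')),
        X.presheaf.germ W x hxW (fres hWV b) = X.presheaf.germ V' x (hWV hxW) b := fun hWV b =>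
      TopCat.Presheaf.germ_res_apply X.presheaf (homOfLE hWV) x hxW b
    have h3 := congrArg (X.presheaf.germ W x hxW) ((he x W inf_le_right).1 h2)
    rw [map_mul, map_mul, g inf_le_right (c x)] at h3
    exact (g (inf_le_left : W ≤ V) a).symm.trans
      (((mul_cancel_right_mem_nonZeroDivisors (hc x ⟨x, hxU x⟩)).1 h3).trans (g (inf_le_left : W ≤ V) a'))
  have hm : Mono s := QC70.mono_of_app_injective s hinj
  let G := CohB1.genLocus (Mero.divMod E) s
  have hgen : ∀ z ∈ (G : Set X)ᶜ, ∃ ζ, ζ ⤳ z ∧ z ≠ ζ := by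
    intro z hz
    by_contra hcon
    push Not at hcon
    have h0 : Order.coheight z = 0 := by
      rw [Order.coheight_eq_zero]
      intro w hw
      exact (hcon w hw).symm.le
    have : Ring.KrullDimLE 0 (X.presheaf.stalk z) :=
      Ring.krullDimLE_iff.mpr (by rw [ringKrullDim_stalk_eq_coheight, h0]; rfl)
    have hu := isUnit_of_mem_nonZeroDivisors_of_dim_zero (hc z ⟨z, hxU z⟩)
    have hzb : z ∈ X.basicOpen (c z) := (X.mem_basicOpen (c z) z (hxU z)).2 hu
    rw [← Amp73.genLocus_inf_eq_basicOpen s (he z) (hce z)] at hzb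
    exact hz hzb.1
  refine ⟨s, (G : Set X)ᶜ, hm, finite_of_isClosed hdim G.2.isClosed_compl hgen, fun z hz => ?_, ?_⟩
  · obtain ⟨ζ, hζ, hne⟩ := hgen z hz
    exact isClosed_singleton_of_generalization hdim hζ hne
  · refine suppIn_cokernel s fun x hx => ?_
    have hxG : x ∈ G := not_not.1 hx
    intro d
    obtain ⟨W, hW, m, rfl⟩ := QC70.germM_exist d
    obtain ⟨a, ha⟩ := ((Amp73.isFrame_iff_le_genLocus s (W ⊓ G)).2 inf_le_right (W ⊓ G) le_rfl).2
      (res _ (inf_le_left : W ⊓ G ≤ W) m)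
    refine ⟨QC70.germM (Coh.structureModule X) (W ⊓ G) x ⟨hW, hxG⟩ a, (QC70.stalkMapM_germ s _ _).trans ?_⟩
    rw [← QC70.germM_res (inf_le_left : W ⊓ G ≤ W) ⟨hW, hxG⟩ m]
    refine congrArg _ ((Amp73.app_eq_smul_val s _ a).trans ?_)
    rw [Amp73.res_self] at ha
    exact ha

variable (k : Type u) [Field k] [X.Over (Spec (CommRingCat.of k))]

theorem h0_le_of_divLE [IsLocallyNoetherian X] [NoetherianSpace X] (hX : CurveCoh k X)
    (hdim : topologicalKrullDim X ≤ 1) (D D' : Mero.Divisor X) (hle : Mero.DivLE D' D) :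
    Module.finrank k (Coh.HH X (Mero.divMod D') 0) ≤ Module.finrank k (Coh.HH X (Mero.divMod D) 0) ∧
      (Module.finrank k (Coh.HH X (Mero.divMod D) 0) : ℤ) ≤
        (Module.finrank k (Coh.HH X (Mero.divMod D') 0) : ℤ) + Curv2.deg k X (Mero.divMod (D * D'⁻¹)) 1 := by
  obtain ⟨s, S, hm, hS, hcl, hsupp⟩ := exists_effective_section hdim (D * D'⁻¹) hle
  have hE := Mero90.isInvertible_divMod (D * D'⁻¹)
  have hD' := Mero90.isInvertible_divMod D'
  let S1 := ShortComplex.mk s (cokernel.π s) (cokernel.condition s)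
  have : Mono S1.f := hm
  have : Epi S1.g := coequalizer.π_epi
  have h1 : S1.ShortExact := ShortComplex.ShortExact.mk (S1.exact_of_g_is_cokernel (cokernelIsCokernel s))
  have hQ : Coh.IsCoh (cokernel s) := isCoh_cokernel s isCoh_structureModule (isCoh_of_isInvertible hE)
  obtain ⟨T, hT, e1, e2, e3⟩ := shortExact_twist (Mero90.isFinLocFreeOfRank_of_isInvertible hD') h1
  have : IsIso (unitTm (Mero.divMod D')) := isIso_unitTm hD'
  obtain ⟨μ, -, hμ⟩ := Mero90.exists_mulHom (D * D'⁻¹) D'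
  obtain ⟨i3⟩ := hsupp.nonempty_iso_tensorMod hS hcl hD'
  let a1 : Mero.divMod D' ≅ T.X₁ := asIso (unitTm (Mero.divMod D')) ≪≫ eqToIso e1.symm
  let a2 : T.X₂ ≅ Mero.divMod D := eqToIso e2 ≪≫ asIso μ ≪≫
    eqToIso (congrArg Mero.divMod (inv_mul_cancel_right D D'))
  let a3 : T.X₃ ≅ cokernel s := eqToIso e3 ≪≫ i3.symm
  have := hX.finite _ (isCoh_of_isInvertible (Mero90.isInvertible_divMod D)) 0
  have := hX.finite _ (isCoh_of_isInvertible hD') 0
  have := hX.finite _ hQ 0
  let q1 := hEquiv (A := k) a1 0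
  let q2 := hEquiv (A := k) a2 0
  let q3 := hEquiv (A := k) a3 0
  have : Module.Finite k (Coh.HH X T.X₁ 0) := Module.Finite.equiv q1
  have : Module.Finite k (Coh.HH X T.X₂ 0) := Module.Finite.equiv q2.symm
  have : Module.Finite k (Coh.HH X T.X₃ 0) := Module.Finite.equiv q3.symm
  have hr := finrank_range_add_of_exact (exact_f_g k hT 0)
  have hi := LinearMap.finrank_range_of_inj (injective_f_zero k hT)
  have hb := Submodule.finrank_le (LinearMap.range (hmap k T.g 0))
  have hd : Curv2.deg k X (Mero.divMod (D * D'⁻¹)) 1 = (Module.finrank k (Coh.HH X (cokernel s) 0) : ℤ) := by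
    have e := hX.euler_add h1 isCoh_structureModule (isCoh_of_isInvertible hE)
    have f := hX.euler_eq_of_suppIn hQ hsupp hS hcl
    change Curv2.euler k X (Mero.divMod (D * D'⁻¹)) - (1 : ℕ) * Curv2.euler k X (Coh.structureModule X) = _
    rw [show Curv2.euler k X (Mero.divMod (D * D'⁻¹)) = _ from e, show Curv2.euler k X S1.X₃ = _ from f]
    simp [S1]
  rw [hd, q1.finrank_eq, ← q2.finrank_eq, ← q3.finrank_eq]
  omega

end Groth.Agent.Crv77
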