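import Groth.Agent.Crv77.DoubleCurve
import Mathlib.Algebra.Polynomial.Reverse
import Mathlib.FieldTheory.IsAlgClosed.AlgebraicClosure

/-! A degree two map from a smooth curve of positive genus to the line is separable. -/

set_option autoImplicit false
set_option linter.style.haveILetI false
universe u

open CategoryTheory CategoryTheory.Limits AlgebraicGeometry TopologicalSpace Opposite IntermediateField FunFld
open scoped Polynomial

namespace Groth.Agent.Crv77

variable {k : Type u} [Field k]

/-- Smoothness of `X₁² = P(X₀)` in characteristic two forces `P' ` to be a nonzero constant. -/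
theorem derivative_const_of_smooth (h2 : (2 : k) = 0) (P : k[X])
    (hs : Algebra.Smooth k (MvPolynomial (Fin 2) k ⧸ Ideal.span {dblEq P 0})) :
    P.coeff 1 ≠ 0 ∧ ∀ i : ℕ, 2 ≤ i → (i : k) ≠ 0 → P.coeff i = 0 := by
  classical
  have hF0 : dblEq P 0 ≠ 0 := by
    intro h
    have := congrArg (MvPolynomial.aeval (R := k) ![(0 : k[X]), Polynomial.X]) h
    rw [dblEq, map_zero (Polynomial.aeval _), zero_mul, add_zero, map_sub, map_pow,
      ← Polynomial.aeval_algHom_apply, MvPolynomial.aeval_X, MvPolynomial.aeval_X, map_zero] at this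
    have h2 := congrArg (fun f : k[X] => f.coeff 2) this
    simp [Polynomial.aeval_def, Polynomial.eval₂_at_zero] at h2
  obtain ⟨γ, α, hγ⟩ := (Curves2.smooth_quot_singleton_iff (dblEq P 0) hF0).1 hs
  -- the derivative has no zero over the algebraic closure
  let K' := AlgebraicClosure k
  have hno : ∀ x : K', Polynomial.aeval x P.derivative ≠ 0 := by
    intro x hx
    obtain ⟨w, hw⟩ := IsAlgClosed.exists_pow_nat_eq (Polynomial.aeval x P) (n := 2) two_pos
    have h1 := congrArg (MvPolynomial.aeval (R := k) ![x, w]) hγ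
    rw [Fin.sum_univ_two, dblEq, map_zero (Polynomial.aeval _), zero_mul, add_zero] at h1
    simp only [map_add, map_mul, map_one, map_sub, Derivation.leibniz_pow, map_pow,
      MvPolynomial.pderiv_X, Derivation.map_aeval, MvPolynomial.aeval_X, ← Polynomial.aeval_algHom_apply,
      smul_eq_mul, map_nsmul] at h1
    have h2' : (2 : K') = 0 := by
      rw [← map_ofNat (algebraMap k K') 2, h2, map_zero]
    simp [hw, hx, h2'] at h1
  have hd : P.derivative.natDegree = 0 := by
    by_contra hne
    have hdeg : (P.derivative.map (algebraMap k K')).degree ≠ 0 := by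
      rw [Polynomial.degree_map]
      intro h
      exact hne (Polynomial.natDegree_eq_of_degree_eq_some h)
    obtain ⟨x, hx⟩ := IsAlgClosed.exists_root _ hdeg
    exact hno x (by rwa [Polynomial.IsRoot, Polynomial.eval_map_algebraMap] at hx)
  have hne : P.derivative ≠ 0 := fun h => hno 0 (by rw [h, map_zero])
  refine ⟨fun h1 => hne ?_, fun i hi hik => ?_⟩
  · rw [Polynomial.eq_C_of_natDegree_eq_zero hd, Polynomial.coeff_derivative]
    simp [h1]
  · have := Polynomial.coeff_eq_zero_of_natDegree_lt (p := P.derivative) (n := i - 1) (by omega)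
    rw [Polynomial.coeff_derivative, show i - 1 + 1 = i by omega] at this
    have h3 : ((i - 1 : ℕ) : k) + 1 = (i : k) := by
      obtain ⟨j, rfl⟩ : ∃ j, i = j + 1 := ⟨i - 1, by omega⟩
      simp
    rw [h3] at this
    exact (mul_eq_zero.1 this).resolve_right hik

variable {C : Scheme.{u}} [C.Over (Spec (CommRingCat.of k))] [IsIntegral C]

attribute [local instance] CrvPic30.ffAlg

section Chart

variable [IsIntegral (CohB1.ProjSpace 1 k)] [Smooth (C ↘ Spec (CommRingCat.of k))]
  (h : CrvPic30.Setup k C) {z : C.functionField} (hz : Module.finrank k⟮z⟯ C.functionField = 2)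
include h hz

/-- The chart algebra of a double cover by a smooth curve is smooth. -/
theorem smooth_chart {y : C.functionField} (hy : y ∉ k⟮z⟯)
    (hyL : y ∈ L ((genus k C.functionField + 1) • (FF30.poleDiv z : Divisor k C.functionField)))
    {P Q : k[X]} (hPQ : y ^ 2 + Polynomial.aeval z Q * y = Polynomial.aeval z P) :
    Algebra.Smooth k (MvPolynomial (Fin 2) k ⧸ Ideal.span {dblEq P Q}) := by
  obtain ⟨φ, hsur, hker, hV, hC⟩ := exists_chart h hz hy hyL hPQ
  let c := Var76.BertiniScheme.const (k := k) C (regOpen z)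
  have hs : Smooth (Spec.map (CommRingCat.ofHom c)) := by
    rw [Var76.BertiniScheme.SpecMap_const hV]
    infer_instance
  have hc : c.Smooth := (HasRingHomProperty.Spec_iff (P := @Smooth)).1 hs
  let : Algebra k Γ(C, regOpen z) := c.toAlgebra
  have : Algebra.Smooth k Γ(C, regOpen z) := hc
  let φ' : MvPolynomial (Fin 2) k →ₐ[k] Γ(C, regOpen z) := ⟨φ, fun r => congr($hC r)⟩
  let e := (Ideal.quotientEquivAlgOfEq k (show Ideal.span {dblEq P Q} = RingHom.ker φ' from hker.symm)).trans
    (Ideal.quotientKerAlgEquivOfSurjective (f := φ') hsur)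
  exact Algebra.Smooth.of_equiv e.symm

end Chart

/-- A degree two extension of a rational field is inseparable only for an equation `y² = P` in
characteristic two. -/
theorem eq_zero_of_not_separable {K : Type u} [Field K] [Algebra k K] {z : K}
    (hz : Module.finrank k⟮z⟯ K = 2) (hsep : ¬ Algebra.IsSeparable k⟮z⟯ K) {y : K} (hy : y ∉ k⟮z⟯)
    {P Q : k[X]} (hPQ : y ^ 2 + Polynomial.aeval z Q * y = Polynomial.aeval z P) (htr : Transcendental k z) :
    (2 : k) = 0 ∧ Q = 0 := by
  let F := k⟮z⟯
  have := DL.finiteDimensional_two hz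
  let q : F := ⟨Polynomial.aeval z Q, algebra_adjoin_le_adjoin k {z} (Polynomial.aeval_mem_adjoin_singleton k z)⟩
  let p : F := ⟨Polynomial.aeval z P, algebra_adjoin_le_adjoin k {z} (Polynomial.aeval_mem_adjoin_singleton k z)⟩
  let m : F[X] := Polynomial.X ^ 2 + Polynomial.C q * Polynomial.X - Polynomial.C p
  have hy0 : Polynomial.aeval y m = 0 := by
    simp only [m, map_sub, map_add, map_mul, map_pow, Polynomial.aeval_X, Polynomial.aeval_C,
      IntermediateField.algebraMap_apply]
    exact sub_eq_zero.2 hPQ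
  have htop : F⟮y⟯ = ⊤ := by
    have hd := Module.finrank_mul_finrank F F⟮y⟯ K
    rw [show Module.finrank F K = 2 from hz] at hd
    have h1 : Module.finrank F F⟮y⟯ = 2 := by
      rcases (Nat.dvd_prime Nat.prime_two).1 ⟨_, hd.symm⟩ with h1 | h1
      · exfalso
        obtain ⟨c, hc⟩ := IntermediateField.mem_bot.1
          ((IntermediateField.finrank_eq_one_iff.1 h1) ▸ IntermediateField.mem_adjoin_simple_self F y)
        exact hy (hc ▸ c.2)
      · exact h1
    refine IntermediateField.finrank_eq_one_iff_eq_top.1 ?_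
    rw [h1] at hd
    omega
  have hint : IsIntegral F y := Algebra.IsIntegral.isIntegral y
  have hdeg : (minpoly F y).natDegree = 2 := by
    rw [← IntermediateField.adjoin.finrank hint, htop, IntermediateField.finrank_top']
    exact hz
  have hmin : minpoly F y = m := by
    refine (Polynomial.eq_of_monic_of_dvd_of_natDegree_le (minpoly.monic hint) ?_ (minpoly.dvd F y hy0) ?_).symm
    · show Polynomial.Monic _
      simp only [m]
      monicity!
    · rw [hdeg]
      simp only [m]
      compute_degree!
  have hns : ¬ (minpoly F y).Separable := by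
    intro hs
    have : Algebra.IsSeparable F F⟮y⟯ := (IntermediateField.isSeparable_adjoin_simple_iff_isSeparable F K).2 hs
    refine hsep ?_
    rw [htop] at this
    exact Algebra.IsSeparable.of_algHom F (⊤ : IntermediateField F K) IntermediateField.topEquiv.symm.toAlgHom
  rw [Polynomial.separable_iff_derivative_ne_zero (minpoly.irreducible hint), not_not, hmin] at hns
  simp only [m, Polynomial.derivative_sub, Polynomial.derivative_add, Polynomial.derivative_X_sq,
    Polynomial.derivative_C_mul_X, Polynomial.derivative_C, sub_zero] at hns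
  have h0 := congrArg (fun f : F[X] => f.coeff 0) hns
  have h1 := congrArg (fun f : F[X] => f.coeff 1) hns
  simp only [Polynomial.coeff_add, Polynomial.coeff_C_mul, Polynomial.coeff_X_zero, Polynomial.coeff_X_one,
    Polynomial.coeff_C_zero, Polynomial.coeff_C_succ, Polynomial.coeff_zero, mul_zero, zero_add,
    mul_one, add_zero] at h0 h1
  refine ⟨(algebraMap k F).injective (by rw [map_ofNat, map_zero]; exact h1), ?_⟩
  exact (transcendental_iff.1 htr) Q (congrArg Subtype.val h0)

/-- **Separability of double covers of the line.** -/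
theorem isSeparable_double [Smooth (C ↘ Spec (CommRingCat.of k))] (h : CrvPic30.Setup k C)
    (hg : 1 ≤ genus k C.functionField) {z : C.functionField} (hz : Module.finrank k⟮z⟯ C.functionField = 2) :
    Algebra.IsSeparable k⟮z⟯ C.functionField := by
  by_contra hsep
  have := Curves2.ProjLine.isIntegral k 1
  set g := genus k C.functionField
  have htr := DL.transcendental h.ff hz
  obtain ⟨y, hy, hyL⟩ := DL.exists_gen h.ff hz
  obtain ⟨P, Q, hPQ, hPd, -⟩ := DL.exists_equation h.ff hz hy hyL
  obtain ⟨h2, rfl⟩ := eq_zero_of_not_separable hz hsep hy hPQ htr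
  obtain ⟨hc1, -⟩ := derivative_const_of_smooth h2 P (smooth_chart h hz hy hyL hPQ)
  -- the other chart
  have hz0 : z ≠ 0 := fun h0 => htr (h0 ▸ isAlgebraic_zero)
  have hadj : k⟮z⁻¹⟯ = k⟮z⟯ := by
    refine le_antisymm (adjoin_simple_le_iff.mpr (inv_mem (mem_adjoin_simple_self k z))) ?_
    refine adjoin_simple_le_iff.mpr ?_
    simpa using inv_mem (mem_adjoin_simple_self k z⁻¹)
  have hu : Module.finrank k⟮z⁻¹⟯ C.functionField = 2 := by rw [hadj]; exact hz
  let y₁ := y * z⁻¹ ^ (g + 1)
  have hy₁ : y₁ ∉ k⟮z⁻¹⟯ := by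
    rw [hadj]
    intro hmem
    refine hy ?_
    have := mul_mem hmem (pow_mem (mem_adjoin_simple_self k z) (g + 1))
    rwa [mul_assoc, ← mul_pow, inv_mul_cancel₀ hz0, one_pow, mul_one] at this
  have hy₁L : y₁ ∈ L ((g + 1) • (FF30.poleDiv z⁻¹ : Divisor k C.functionField)) := by
    rw [DL.mem_L_nsmul_iff h.ff] at hyL ⊢
    intro p
    by_cases hy0 : y = 0
    · simp [y₁, hy0]
    have h1 := hyL p
    rw [FF30.val_le_exp_iff p hy0] at h1
    rw [FF30.val_le_exp_iff p (mul_ne_zero hy0 (pow_ne_zero _ (inv_ne_zero hz0))),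
      FF30.ord_mul p hy0 (pow_ne_zero _ (inv_ne_zero hz0)), FF30.ord_pow, FF30.ord_inv, neg_neg]
    rcases le_total (p.ord z) 0 with h0 | h0
    · rw [max_eq_left (by omega)] at h1
      rw [max_eq_right h0]
      push_cast at h1 ⊢
      linarith
    · rw [max_eq_right (by omega)] at h1
      rw [max_eq_left h0]
      push_cast at h1 ⊢
      linarith
  have heq : y₁ ^ 2 + Polynomial.aeval z⁻¹ (0 : k[X]) * y₁ =
      Polynomial.aeval z⁻¹ (P.reflect (2 * g + 2)) := by
    let := invertibleOfNonzero hz0
    have h3 := Polynomial.eval₂_reflect_mul_pow (algebraMap k C.functionField) z (2 * g + 2) P hPd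
    rw [invOf_eq_inv] at h3
    rw [map_zero, zero_mul, add_zero] at hPQ ⊢
    have h4 : Polynomial.aeval z⁻¹ (P.reflect (2 * g + 2)) * z ^ (2 * g + 2) = y ^ 2 := by
      rw [hPQ]; exact h3
    apply mul_right_cancel₀ (pow_ne_zero (2 * g + 2) hz0)
    rw [h4, mul_pow, ← pow_mul, show (g + 1) * 2 = 2 * g + 2 by ring, mul_assoc, ← mul_pow,
      inv_mul_cancel₀ hz0, one_pow, mul_one]
  obtain ⟨-, hodd⟩ := derivative_const_of_smooth h2 _ (smooth_chart h hu hy₁ hy₁L heq)
  have h5 := hodd (2 * g + 1) (by omega) (by
    rw [Nat.cast_add, Nat.cast_mul, Nat.cast_ofNat, h2, zero_mul, zero_add, Nat.cast_one]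
    exact one_ne_zero)
  rw [Polynomial.coeff_reflect, Polynomial.revAt_le (by omega),
    show 2 * g + 2 - (2 * g + 1) = 1 by omega] at h5
  exact hc1 h5

end Groth.Agent.Crv77
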