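import Groth.Agent.Crv77.Hyper

/-! A function field of genus at least two is quadratic over at most one field of genus zero. -/

set_option autoImplicit false
set_option linter.style.haveILetI false
set_option maxHeartbeats 1000000
set_option synthInstance.maxHeartbeats 200000
universe u

open IntermediateField FunFld

namespace Groth.Agent.Crv77

variable {k K : Type u} [Field k] [Field K] [Algebra k K]

/-- A subfield of finite index of a function field is a function field. -/
theorem isFunctionField_of_finite (hK : IsFunctionField k K) (F : IntermediateField k K) [FiniteDimensional F K] :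
    IsFunctionField k F := by
  have hF := FF30.FF.of_isFunctionField hK
  obtain ⟨x, hx⟩ : ∃ x : F, Transcendental k x := by
    by_contra hne
    simp only [Transcendental, not_exists, not_not] at hne
    have : Algebra.IsAlgebraic k F := ⟨hne⟩
    have : Algebra.IsAlgebraic k K := Algebra.IsAlgebraic.trans k F K
    obtain ⟨⟨x, hx, -⟩, -⟩ := hK
    exact hx (Algebra.IsAlgebraic.isAlgebraic x)
  obtain ⟨hFF, -⟩ := hF.intermediateField F x.2 (fun h => hx ((isAlgebraic_algHom_iff F.val F.val.injective).1 h))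
  exact ⟨hFF, fun a ha => by
    obtain ⟨c, hc⟩ := hK.2 (a : K) (ha.algHom F.val)
    exact ⟨c, Subtype.ext hc⟩⟩

variable {F : Type u} [Field F] [Algebra k F]

theorem ell_of_genus_zero (hF : IsFunctionField k F) (hg : genus k F = 0) {D : Divisor k F} (hD : -1 ≤ D.deg) :
    (ell D : ℤ) = D.deg + 1 := by
  rw [FF30.ell_eq_of_deg_gt hF (D := D) (by rw [hg]; push_cast; omega), hg]
  simp

theorem exists_conic_divisor (hF : IsFunctionField k F) (hg : genus k F = 0) :
    ∃ E : Divisor k F, 0 ≤ E ∧ E.deg = 2 := by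
  obtain ⟨W, hW⟩ := FF30.exists_isCanonical hF
  have hd : (-W : Divisor k F).deg = 2 := by
    rw [FF30.deg_neg, FF30.deg_canonical hF hW, hg]; norm_num
  have hl := ell_of_genus_zero hF hg (D := (-W : Divisor k F)) (by omega)
  obtain ⟨w, hw, hw0⟩ := FF30.exists_ne_zero_of_ell_pos (D := (-W : Divisor k F)) (by omega)
  have h := FF30.FF.of_isFunctionField hF
  refine ⟨-W + div k w, fun P => ?_, by rw [FF30.deg_add, h.deg_div, hd, add_zero]⟩
  have := (FF30.mem_L_iff_ord hw0).1 hw P
  rw [Finsupp.add_apply, h.div_apply, Finsupp.zero_apply]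
  linarith

/-- The functions bounded by a conic divisor generate the field. -/
theorem exists_not_mem (hF : IsFunctionField k F) (hg : genus k F = 0) {E : Divisor k F} (hE : 0 ≤ E)
    (hEd : E.deg = 2) (G : IntermediateField k F) (hG : G ≠ ⊤) : ∃ x ∈ L E, x ∉ G := by
  classical
  by_contra hne
  push Not at hne
  have h := FF30.FF.of_isFunctionField hF
  have hl := ell_of_genus_zero hF hg (D := E) (by omega)
  rw [hEd] at hl
  obtain ⟨x, hxL, hx⟩ : ∃ x ∈ L E, x ∉ Set.range (algebraMap k F) := by
    by_contra hc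
    push Not at hc
    have hle : L E ≤ (1 : Submodule k F) := fun x hx => FF30.mem_one_iff.2 (hc x hx)
    have h1 : Module.finrank k (1 : Submodule k F) = 1 := by rw [← FF30.L_zero' hF]; exact FF30.ell_zero hF
    have : Module.Finite k (1 : Submodule k F) := by rw [← FF30.L_zero' hF]; exact h.finite_L 0
    have h2 := Submodule.finrank_mono hle
    unfold ell at hl
    omega
  have hxG := hne x hxL
  have htr := FF30.transcendental_of_not_mem_range hF hx
  obtain ⟨hGG, hfd⟩ := h.intermediateField G hxG htr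
  have : FiniteDimensional G F := hfd
  have := h.finiteDimensional_adjoin htr
  have hle := poleDiv_le_of_mem_L hF hE hxL
  have hd1 := FF30.deg_mono hle
  rw [h.deg_poleDiv htr, hEd] at hd1
  have hn2 : 2 ≤ Module.finrank G F := by
    have h1 : 0 < Module.finrank G F := Module.finrank_pos
    have h2 : Module.finrank G F ≠ 1 := fun h1 => hG (IntermediateField.finrank_eq_one_iff_eq_top.1 h1)
    omega
  have heq : k⟮x⟯ = G := IntermediateField.eq_of_le_of_finrank_le' (adjoin_simple_le_iff.2 hxG) (by omega)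
  have hn : Module.finrank G F = 2 := by rw [← heq] at hn2 ⊢; omega
  have hpd : (FF30.poleDiv x : Divisor k F) = E :=
    h.eq_of_le_of_deg_le hle (by rw [h.deg_poleDiv htr, hEd, heq, hn]; rfl)
  have hGfun := isFunctionField_of_finite hF G
  have hG' := FF30.FF.of_isFunctionField hGfun
  let xG : G := ⟨x, hxG⟩
  have htop : IntermediateField.adjoin k ({xG} : Set G) = ⊤ :=
    IntermediateField.map_injective G.val (by
      rw [← AlgHom.fieldRange_eq_map, IntermediateField.adjoin_map, Set.image_singleton, G.fieldRange_val]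
      exact heq)
  have hgG := ((FF30.genus_zero_and_exists_deg_one_iff' hGfun).2 ⟨xG, htop⟩).1
  set P := (FF30.poleDiv xG : Divisor k G) with hP
  have hPd : P.deg = 1 := by
    rw [hP, hG'.deg_poleDiv (FF30.transcendental_of_adjoin_eq_top hGfun htop),
      FF30.finrank_eq_one_iff_adjoin_top.2 htop]
    rfl
  have hlP := ell_of_genus_zero hGfun hgG (D := P) (by omega)
  rw [hPd] at hlP
  let φ : L E →ₗ[k] L P :=
    { toFun := fun w => ⟨⟨(w : F), hne _ w.2⟩, fun S₀ => by
        obtain ⟨S, e, he⟩ := hG'.exists_over (K' := F) S₀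
        have hw : S₀.1 (⟨(w : F), hne _ w.2⟩ : G) ^ e ≤ WithZero.exp ((e : ℤ) * P S₀) := by
          rw [← he, show (algebraMap G F ⟨(w : F), hne _ w.2⟩) = (w : F) from rfl]
          refine (w.2 S).trans (le_of_eq ?_)
          rw [← hpd, h.poleDiv_apply, hP, hG'.poleDiv_apply,
            show S.ord x = (e : ℤ) * S₀.ord xG from FF30.isOverWith_ord he xG]
          rw [mul_max_of_nonneg _ _ (Int.natCast_nonneg e), mul_zero, mul_neg]
        have hexp : WithZero.exp ((e : ℤ) * P S₀) = WithZero.exp (P S₀) ^ e := by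
          rw [← WithZero.exp_nsmul, nsmul_eq_mul]
        rw [hexp] at hw
        exact le_of_pow_le_pow_left₀ (FF30.isOverWith_pos he).ne' zero_le hw⟩
      map_add' := fun _ _ => rfl
      map_smul' := fun _ _ => rfl }
  have hφ : Function.Injective φ := fun a b hab => by
    exact Subtype.ext (congrArg (fun w : L P => ((w : G) : F)) hab)
  have := hG'.finite_L P
  have hfin := LinearMap.finrank_le_finrank_of_injective hφ
  unfold ell at hl hlP
  omega

/-- Two quadratic subfields of genus zero coincide when the genus is at least two. -/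
theorem eq_of_genus_zero_double (hK : IsFunctionField k K) (hg : 2 ≤ genus k K) (F₁ F₂ : IntermediateField k K)
    (h₁ : Module.finrank F₁ K = 2) (h₂ : Module.finrank F₂ K = 2) (hg₁ : genus k F₁ = 0) (hg₂ : genus k F₂ = 0) :
    F₁ = F₂ := by
  classical
  by_contra hne
  have : FiniteDimensional F₁ K := Module.finite_of_finrank_eq_succ h₁
  have : FiniteDimensional F₂ K := Module.finite_of_finrank_eq_succ h₂
  have hF₁ := isFunctionField_of_finite hK F₁
  have hF₂ := isFunctionField_of_finite hK F₂
  have h := FF30.FF.of_isFunctionField hK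
  have hf₁ := FF30.FF.of_isFunctionField hF₁
  have hf₂ := FF30.FF.of_isFunctionField hF₂
  obtain ⟨E, hE0, hEd⟩ := exists_conic_divisor hF₁ hg₁
  obtain ⟨E₂, hE₂0, hE₂d⟩ := exists_conic_divisor hF₂ hg₂
  set D : Divisor k F₂ := (genus k K) • E₂
  have hDd : D.deg = 2 * (genus k K : ℤ) := by
    rw [FF30.deg_nsmul, hE₂d]; ring
  have hlE := ell_of_genus_zero hF₁ hg₁ (D := E) (by omega)
  have hlD := ell_of_genus_zero hF₂ hg₂ (D := D) (by omega)
  rw [hEd] at hlE
  rw [hDd] at hlD
  have hG : F₂.comap F₁.val ≠ ⊤ := fun htop => hne (IntermediateField.eq_of_le_of_finrank_le' (fun z hz =>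
    (htop.symm ▸ IntermediateField.mem_top : (⟨z, hz⟩ : F₁) ∈ F₂.comap F₁.val)) (by omega))
  obtain ⟨x, hxL, hx⟩ := exists_not_mem hF₁ hg₁ hE0 hEd _ hG
  change (x : K) ∉ F₂ at hx
  have h1E : (1 : F₁) ∈ L E := fun R => by
    rw [map_one, ← WithZero.exp_zero, WithZero.exp_le_exp]; exact hE0 R
  obtain ⟨y, hyL, hy⟩ : ∃ y ∈ L E, y ∉ Submodule.span k (Set.range ![(1 : F₁), x]) := by
    by_contra hc
    push Not at hc
    have hle : L E ≤ Submodule.span k (Set.range ![(1 : F₁), x]) := hc
    have hf := FiniteDimensional.span_of_finite k (Set.finite_range ![(1 : F₁), x])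
    have h3 := Submodule.finrank_mono hle
    have h4 : Module.finrank k (Submodule.span k (Set.range ![(1 : F₁), x])) ≤ 2 :=
      (finrank_range_le_card ![(1 : F₁), x]).trans (Fintype.card_fin 2).le
    unfold ell at hlE
    omega
  have hli : LinearIndependent F₂ ![(1 : K), (x : K)] := by
    rw [LinearIndependent.pair_iff' one_ne_zero]
    intro c hc
    exact hx (hc ▸ by rw [IntermediateField.smul_def, smul_eq_mul, mul_one]; exact c.2)
  have hspan : Submodule.span F₂ (Set.range ![(1 : K), (x : K)]) = ⊤ :=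
    hli.span_eq_top_of_card_eq_finrank' (by rw [h₂, Fintype.card_fin])
  obtain ⟨f, hf⟩ := (Submodule.mem_span_range_iff_exists_fun F₂).1 (hspan.symm ▸ Submodule.mem_top : (y : K) ∈ _)
  simp only [Fin.sum_univ_two, Matrix.cons_val_zero, Matrix.cons_val_one, IntermediateField.smul_def,
    smul_eq_mul, mul_one] at hf
  set α : F₂ := f 0
  set β : F₂ := f 1
  -- the kernel
  set P : Divisor k F₂ := FF30.poleDiv α ⊔ FF30.poleDiv β with hP
  have hPα : ∀ R, max (-R.ord α) 0 ≤ P R := fun R => by
    rw [hP, Finsupp.sup_apply, ← hf₂.poleDiv_apply]; exact le_sup_left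
  have hPβ : ∀ R, max (-R.ord β) 0 ≤ P R := fun R => by
    rw [hP, Finsupp.sup_apply, ← hf₂.poleDiv_apply]; exact le_sup_right
  have hP0 : 0 ≤ P := fun R => (le_max_right _ _).trans (hPα R)
  have hαP : α ∈ L P := by
    by_cases h0 : α = 0
    · rw [h0]; exact zero_mem _
    · exact (FF30.mem_L_iff_ord h0).2 fun R => by have := hPα R; omega
  have hβP : β ∈ L P := by
    by_cases h0 : β = 0
    · rw [h0]; exact zero_mem _
    · exact (FF30.mem_L_iff_ord h0).2 fun R => by have := hPβ R; omega
  have hy' : ∀ a b : k, y ≠ algebraMap k F₁ a + algebraMap k F₁ b * x := fun a b he => hy (by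
    refine (Submodule.mem_span_range_iff_exists_fun k).2 ⟨![a, b], ?_⟩
    simp only [Fin.sum_univ_two, Matrix.cons_val_zero, Matrix.cons_val_one, Algebra.smul_def, mul_one]
    exact he.symm)
  have hPd : 2 ≤ P.deg := by
    by_contra hlt
    have hlP := ell_of_genus_zero hF₂ hg₂ (D := P) (by
      have := FF30.deg_mono hP0; rw [FF30.deg_zero] at this; omega)
    have hPnn := FF30.deg_mono hP0
    rw [FF30.deg_zero] at hPnn
    have := hf₂.finite_L P
    by_cases hP1 : P.deg = 0
    · have hP' : P = 0 := (hf₂.eq_of_le_of_deg_le hP0 (by rw [hP1, FF30.deg_zero])).symm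
      rw [hP', FF30.L_zero' hF₂, FF30.mem_one_iff] at hαP hβP
      obtain ⟨a, ha⟩ := hαP
      obtain ⟨b, hb⟩ := hβP
      refine hy' a b (Subtype.ext ?_)
      rw [← ha, ← hb] at hf
      exact hf.symm
    obtain ⟨T, -, hT⟩ := hf₂.eq_single_of_deg_one hP0 (show P.deg = 1 by omega)
    obtain ⟨t, htL, ht⟩ : ∃ t ∈ L P, t ∉ Set.range (algebraMap k F₂) := by
      by_contra hc
      push Not at hc
      have hle : L P ≤ (1 : Submodule k F₂) := fun z hz => FF30.mem_one_iff.2 (hc z hz)
      have h1 : Module.finrank k (1 : Submodule k F₂) = 1 := by rw [← FF30.L_zero' hF₂]; exact FF30.ell_zero hF₂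
      have : Module.Finite k (1 : Submodule k F₂) := by rw [← FF30.L_zero' hF₂]; exact hf₂.finite_L 0
      have h2 := Submodule.finrank_mono hle
      unfold ell at hlP
      omega
    have httr := FF30.transcendental_of_not_mem_range hF₂ ht
    have htd := FF30.deg_mono (poleDiv_le_of_mem_L hF₂ hP0 htL)
    rw [hf₂.deg_poleDiv httr, show P.deg = 1 by omega] at htd
    have := hf₂.finiteDimensional_adjoin httr
    have htpos : 0 < Module.finrank k⟮t⟯ F₂ := Module.finrank_pos
    have httop : k⟮t⟯ = ⊤ := FF30.finrank_eq_one_iff_adjoin_top.1 (by omega)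
    have h1P : (1 : F₂) ∈ L P := fun R => by
      rw [map_one, ← WithZero.exp_zero, WithZero.exp_le_exp]; exact hP0 R
    have hlit : LinearIndependent k ![(1 : F₂), t] := by
      rw [LinearIndependent.pair_iff' one_ne_zero]
      intro c hc
      exact ht ⟨c, by rw [← hc, Algebra.smul_def, mul_one]⟩
    have hS : Submodule.span k (Set.range ![(1 : F₂), t]) = L P := by
      refine Submodule.eq_of_le_of_finrank_le (Submodule.span_le.2 ?_) ?_
      · rintro _ ⟨i, rfl⟩
        fin_cases i
        · exact h1P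
        · exact htL
      · rw [finrank_span_eq_card hlit, Fintype.card_fin]
        unfold ell at hlP
        omega
    obtain ⟨a, ha⟩ := (Submodule.mem_span_range_iff_exists_fun k).1 (hS.symm ▸ hαP)
    obtain ⟨b, hb⟩ := (Submodule.mem_span_range_iff_exists_fun k).1 (hS.symm ▸ hβP)
    simp only [Fin.sum_univ_two, Matrix.cons_val_zero, Matrix.cons_val_one, Algebra.smul_def, mul_one] at ha hb
    let c : F₁ := y - algebraMap k F₁ (a 0) - algebraMap k F₁ (b 0) * x
    let d : F₁ := algebraMap k F₁ (a 1) + algebraMap k F₁ (b 1) * x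
    have hcd : (c : K) = (t : K) * (d : K) := by
      show (y : K) - algebraMap k K (a 0) - algebraMap k K (b 0) * (x : K) =
        (t : K) * (algebraMap k K (a 1) + algebraMap k K (b 1) * (x : K))
      rw [← hf, ← ha, ← hb]
      show algebraMap k K (a 0) + algebraMap k K (a 1) * (t : K) +
          (algebraMap k K (b 0) + algebraMap k K (b 1) * (t : K)) * (x : K) - algebraMap k K (a 0) -
          algebraMap k K (b 0) * (x : K) = _
      ring
    have hd0 : (d : K) ≠ 0 := by
      intro h0
      rw [h0, mul_zero] at hcd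
      refine hy' (a 0) (b 0) (Subtype.ext ?_)
      have : (c : K) = (y : K) - algebraMap k K (a 0) - algebraMap k K (b 0) * (x : K) := rfl
      show (y : K) = algebraMap k K (a 0) + algebraMap k K (b 0) * (x : K)
      linear_combination hcd - this
    have htF : (t : K) ∈ F₁ := by
      rw [(eq_div_iff hd0).2 hcd.symm]
      exact div_mem c.2 d.2
    have hle : F₂ ≤ F₁ := by
      intro z hz
      have : (⟨z, hz⟩ : F₂) ∈ F₁.comap F₂.val :=
        adjoin_simple_le_iff.2 (show t ∈ F₁.comap F₂.val from htF) (httop ▸ IntermediateField.mem_top)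
      exact this
    exact hne (IntermediateField.eq_of_le_of_finrank_le' hle (by omega)).symm
  -- the multiplication map
  let C : Divisor k K := conorm K D + conorm K E
  let Φ : (L D × L D × L D) →ₗ[k] K :=
    { toFun := fun q => ((q.1 : F₂) : K) + ((q.2.1 : F₂) : K) * (x : K) + ((q.2.2 : F₂) : K) * (y : K)
      map_add' := fun q r => by
        simp only [Prod.fst_add, Prod.snd_add, Submodule.coe_add, IntermediateField.coe_add]
        ring
      map_smul' := fun r q => by
        simp only [Prod.smul_fst, Prod.smul_snd, SetLike.val_smul, RingHom.id_apply]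
        show r • ((q.1 : F₂) : K) + r • ((q.2.1 : F₂) : K) * (x : K) + r • ((q.2.2 : F₂) : K) * (y : K) =
          r • (((q.1 : F₂) : K) + ((q.2.1 : F₂) : K) * (x : K) + ((q.2.2 : F₂) : K) * (y : K))
        rw [smul_add, smul_add, smul_mul_assoc, smul_mul_assoc] }
  have hmul : ∀ (a : F₂) (w : F₁), a ∈ L D → w ∈ L E → (a : K) * (w : K) ∈ L C := by
    intro a w ha hw R
    obtain ⟨R₁, e₁, -, hR₁⟩ := hf₁.exists_isOverWith R
    obtain ⟨R₂, e₂, -, hR₂⟩ := hf₂.exists_isOverWith R
    rw [map_mul, show R.1 (a : K) = R₂.1 a ^ e₂ from hR₂ a, show R.1 (w : K) = R₁.1 w ^ e₁ from hR₁ w,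
      show C R = (e₂ : ℤ) * D R₂ + (e₁ : ℤ) * E R₁ by
        rw [Finsupp.add_apply, hf₂.conorm_apply _ hR₂, hf₁.conorm_apply _ hR₁],
      WithZero.exp_add]
    refine mul_le_mul' ((pow_le_pow_left₀ zero_le (ha R₂) e₂).trans_eq ?_)
      ((pow_le_pow_left₀ zero_le (hw R₁) e₁).trans_eq ?_)
    · rw [← WithZero.exp_nsmul, nsmul_eq_mul]
    · rw [← WithZero.exp_nsmul, nsmul_eq_mul]
  have hΦ : LinearMap.range Φ ≤ L C := by
    rintro _ ⟨⟨a, b, c⟩, rfl⟩
    refine add_mem (add_mem ?_ (hmul _ x b.2 hxL)) (hmul _ y c.2 hyL)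
    have := hmul _ 1 a.2 h1E
    rwa [IntermediateField.coe_one, mul_one] at this
  let π : LinearMap.ker Φ →ₗ[k] F₂ :=
    (L D).subtype ∘ₗ (LinearMap.snd k (L D) (L D)) ∘ₗ (LinearMap.snd k (L D) (L D × L D)) ∘ₗ
      (LinearMap.ker Φ).subtype
  have hker : ∀ q : LinearMap.ker Φ, (q.1.1 : F₂) = -((q.1.2.2 : F₂) * α) ∧ (q.1.2.1 : F₂) = -((q.1.2.2 : F₂) * β) := by
    rintro ⟨⟨a, b, c⟩, hq⟩
    have hq' : ((a : F₂) : K) + ((b : F₂) : K) * (x : K) + ((c : F₂) : K) * (y : K) = 0 := hq
    have hsum : ∑ i, (![(a : F₂) + c * α, (b : F₂) + c * β] i) • (![(1 : K), (x : K)] i) = 0 := by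
      simp only [Fin.sum_univ_two, Matrix.cons_val_zero, Matrix.cons_val_one, IntermediateField.smul_def,
        smul_eq_mul, mul_one, IntermediateField.coe_add, IntermediateField.coe_mul]
      rw [← hf] at hq'
      linear_combination hq'
    have h0 := Fintype.linearIndependent_iff.1 hli _ hsum 0
    have h1 := Fintype.linearIndependent_iff.1 hli _ hsum 1
    simp only [Matrix.cons_val_zero, Matrix.cons_val_one] at h0 h1
    exact ⟨by linear_combination h0, by linear_combination h1⟩
  have hπ : Function.Injective π := by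
    intro q r hqr
    have hc : (q.1.2.2 : F₂) = (r.1.2.2 : F₂) := hqr
    refine Subtype.ext (Prod.ext (Subtype.ext ?_) (Prod.ext (Subtype.ext ?_) (Subtype.ext hc)))
    · rw [(hker q).1, (hker r).1, hc]
    · rw [(hker q).2, (hker r).2, hc]
  have hπL : ∀ q, π q ∈ L (D - P) := by
    intro q
    obtain ⟨ha, hb⟩ := hker q
    have hcD : (q.1.2.2 : F₂) ∈ L D := q.1.2.2.2
    have haD : (q.1.1 : F₂) ∈ L D := q.1.1.2
    have hbD : (q.1.2.1 : F₂) ∈ L D := q.1.2.1.2
    show (q.1.2.2 : F₂) ∈ L (D - P)
    generalize (q.1.2.2 : F₂) = c at ha hb hcD ⊢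
    generalize (q.1.1 : F₂) = a at ha haD
    generalize (q.1.2.1 : F₂) = b at hb hbD
    subst ha hb
    by_cases hc0 : c = 0
    · rw [hc0]; exact zero_mem _
    refine (FF30.mem_L_iff_ord hc0).2 fun R => ?_
    rw [Finsupp.sub_apply, hP, Finsupp.sup_apply, hf₂.poleDiv_apply, hf₂.poleDiv_apply]
    have hc1 := (FF30.mem_L_iff_ord hc0).1 hcD R
    have key : ∀ s : F₂, -(c * s) ∈ L D → -(R.ord c) + max (-R.ord s) 0 ≤ D R := by
      intro s hs
      by_cases hs0 : s = 0
      · rw [hs0, FF30.ord_zero, neg_zero, max_self]; omega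
      · have := (FF30.mem_L_iff_ord (neg_ne_zero.2 (mul_ne_zero hc0 hs0))).1 hs R
        rw [FF30.ord_neg, FF30.ord_mul R hc0 hs0] at this
        omega
    have k1 := key α haD
    have k2 := key β hbD
    omega
  have := hf₂.finite_L D
  have := hf₂.finite_L (D - P)
  have := h.finite_L C
  have hk1 : Module.finrank k (LinearMap.ker Φ) ≤ ell (D - P) :=
    (LinearMap.finrank_le_finrank_of_injective (f := π.codRestrict _ hπL)
      (fun q r e => hπ (show π q = π r from congrArg (fun z : L (D - P) => (z : F₂)) e)))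
  have hk2 := Φ.finrank_range_add_finrank_ker
  rw [Module.finrank_prod, Module.finrank_prod] at hk2
  have hk3 : Module.finrank k (LinearMap.range Φ) ≤ ell C := Submodule.finrank_mono hΦ
  have hCd : C.deg = 4 * (genus k K : ℤ) + 4 := by
    rw [FF30.deg_add, hf₂.deg_conorm, hf₁.deg_conorm, h₁, h₂, hDd, hEd]
    push_cast; ring
  have hlC := FF30.ell_eq_of_deg_gt hK (D := C) (by rw [hCd]; omega)
  rw [hCd] at hlC
  have hDP : (ell (D - P) : ℤ) ≤ 2 * (genus k K : ℤ) - 1 := by
    by_cases hneg : (D - P).deg < -1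
    · rw [ell, hf₂.L_eq_bot_of_deg_neg (by omega), finrank_bot]; omega
    · rw [ell_of_genus_zero hF₂ hg₂ (by omega), FF30.deg_sub, hDd]; omega
  unfold ell at hlD hlC hDP hk1 hk3
  omega

end Groth.Agent.Crv77
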