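import Groth.Agent.Crv77.EllipticInv

/-! Double covers of the line by a curve of genus one, up to automorphisms. -/

set_option autoImplicit false
set_option linter.style.haveILetI false
set_option maxHeartbeats 1000000
set_option synthInstance.maxHeartbeats 200000
universe u

open IntermediateField FunFld

namespace Groth.Agent.Crv77

variable {k K : Type u} [Field k] [IsAlgClosed k] [Field K] [Algebra k K]

/-- The subfield of a double cover of the line is generated by a function with a double pole at a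
ramified place. -/
theorem exists_ramified_gen (h2 : (2 : k) ≠ 0) (hK : IsFunctionField k K) (hg : genus k K = 1) {z : K}
    (hz : Module.finrank k⟮z⟯ K = 2) :
    ∃ (A : Place k K) (y : K), k⟮y⟯ = k⟮z⟯ ∧ Transcendental k y ∧
      ∀ R : Place k K, R.1 y ≤ WithZero.exp ((Finsupp.single A (2 : ℤ) : Divisor k K) R) := by
  classical
  have hF := FF30.FF.of_isFunctionField hK
  have htr := DL.transcendental hK hz
  let F := k⟮z⟯
  obtain ⟨hFF, hfd⟩ := hF.intermediateField F (mem_adjoin_simple_self k z) htr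
  have : FiniteDimensional F K := hfd
  have hFfun : IsFunctionField k F := ⟨hFF, fun a ha => by
    obtain ⟨c, hc⟩ := hK.2 (a : K) (ha.algHom F.val)
    exact ⟨c, Subtype.ext hc⟩⟩
  let zF : F := ⟨z, mem_adjoin_simple_self k z⟩
  have htop : IntermediateField.adjoin k ({zF} : Set F) = ⊤ :=
    IntermediateField.map_injective F.val (by
      rw [← AlgHom.fieldRange_eq_map, IntermediateField.adjoin_map, Set.image_singleton, F.fieldRange_val]; rfl)
  have hgF := ((FF30.genus_zero_and_exists_deg_one_iff' hFfun).2 ⟨zF, htop⟩).1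
  have h2F : (2 : F) ≠ 0 := by rw [← map_ofNat (algebraMap k F) 2]; exact (map_ne_zero _).2 h2
  have : Module.Free F K := inferInstance
  have : Algebra.IsQuadraticExtension F K := ⟨hz⟩
  have : Algebra.IsSeparable F K := by
    obtain ⟨y, f, hy, hyf⟩ := Quad.exists_sqrt (k := k) h2 hz
    exact Quad.isSeparable_of_sqrt h2F hz hy hyf
  have hcard := IsGalois.card_aut_eq_finrank F K
  rw [hz] at hcard
  obtain ⟨σ, hσ1, hσu⟩ := (Nat.card_eq_two_iff' (1 : K ≃ₐ[F] K)).1 hcard
  have hσ : ∀ τ : K ≃ₐ[F] K, τ = 1 ∨ τ = σ := fun τ => (em (τ = 1)).imp id (hσu τ)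
  obtain ⟨hfin, hn⟩ := Quad.ncard_fixed h2 hFfun hK hz σ hσ1
  rw [hg, hgF] at hn
  obtain ⟨A, hA⟩ : {Q : Place k K | FF30.placeComap Q σ = Q}.Nonempty :=
    Set.nonempty_of_ncard_ne_zero (by omega)
  obtain ⟨A₀, eA, -, hA₀⟩ := hFF.exists_isOverWith A
  have hD : (Finsupp.single A (2 : ℤ) : Divisor k K) = conorm K (Finsupp.single A₀ (1 : ℤ) : Divisor k F) := by
    have h1 := single_add_conj_eq_conorm hFF hz hσ (⟨eA, hA₀⟩ : IsOver A A₀)
    rw [show FF30.placeComap A σ = A from hA, ← Finsupp.single_add] at h1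
    exact h1
  have hE1 : Divisor.deg (Finsupp.single A₀ (1 : ℤ) : Divisor k F) = 1 := hFF.deg_single' _ _
  have hl := FF30.ell_eq_of_deg_gt hFfun (D := (Finsupp.single A₀ (1 : ℤ) : Divisor k F)) (by rw [hE1, hgF]; norm_num)
  rw [hE1, hgF] at hl
  obtain ⟨y₀, hy₀, hy₀c⟩ : ∃ y₀ ∈ L (Finsupp.single A₀ (1 : ℤ) : Divisor k F), y₀ ∉ Set.range (algebraMap k F) := by
    by_contra hne
    push Not at hne
    have hle : L (Finsupp.single A₀ (1 : ℤ) : Divisor k F) ≤ (1 : Submodule k F) := fun x hx => FF30.mem_one_iff.2 (hne x hx)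
    have h1 : Module.finrank k (1 : Submodule k F) = 1 := by
      rw [← FF30.L_zero' hFfun]; exact FF30.ell_zero hFfun
    have : Module.Finite k (1 : Submodule k F) := by rw [← FF30.L_zero' hFfun]; exact hFF.finite_L 0
    have h2 := Submodule.finrank_mono hle
    unfold ell at hl
    omega
  have hy₀t := FF30.transcendental_of_not_mem_range hFfun hy₀c
  have hyt : Transcendental k (y₀ : K) := fun h =>
    hy₀t ((isAlgebraic_algHom_iff F.val F.val.injective).1 h)
  have hbound : ∀ R : Place k K, R.1 (y₀ : K) ≤ WithZero.exp ((Finsupp.single A (2 : ℤ) : Divisor k K) R) := by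
    intro R
    obtain ⟨R₀, e, -, hR⟩ := hFF.exists_isOverWith R
    rw [hD, hFF.conorm_apply _ hR, show R.1 (y₀ : K) = R₀.1 y₀ ^ e from hR y₀]
    refine (pow_le_pow_left₀ zero_le (hy₀ R₀) e).trans_eq ?_
    rw [← WithZero.exp_nsmul, nsmul_eq_mul]
  refine ⟨A, y₀, ?_, hyt, hbound⟩
  have hle : k⟮(y₀ : K)⟯ ≤ F := adjoin_simple_le_iff.2 y₀.2
  have hfy := hF.finiteDimensional_adjoin hyt
  refine IntermediateField.eq_of_le_of_finrank_le' hle ?_
  rw [show Module.finrank F K = 2 from hz]
  have h1 := hF.deg_poleDiv hyt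
  have h2 := FF30.deg_mono (poleDiv_le_of_mem_L hK (E := (Finsupp.single A (2 : ℤ) : Divisor k K)) (fun R => by
    rw [Finsupp.single_apply]; split_ifs <;> simp) hbound)
  rw [h1, hF.deg_single'] at h2
  omega

/-- Functions with at most a double pole at one place generate one subfield. -/
theorem mem_adjoin_of_double_pole (hK : IsFunctionField k K) (hg : genus k K = 1) {A : Place k K} {y w : K}
    (hy : Transcendental k y) (hyA : ∀ R : Place k K, R.1 y ≤ WithZero.exp ((Finsupp.single A (2 : ℤ) : Divisor k K) R))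
    (hwA : ∀ R : Place k K, R.1 w ≤ WithZero.exp ((Finsupp.single A (2 : ℤ) : Divisor k K) R)) :
    w ∈ k⟮y⟯ := by
  classical
  have hF := FF30.FF.of_isFunctionField hK
  set D : Divisor k K := Finsupp.single A (2 : ℤ)
  have hl := FF30.ell_eq_of_deg_gt hK (D := D) (by rw [hF.deg_single', hg]; norm_num)
  rw [hF.deg_single', hg] at hl
  have := hF.finite_L D
  have hD0 : (0 : Divisor k K) ≤ D := fun R => by
    rw [Finsupp.single_apply]; split_ifs <;> simp
  have h1 : (1 : K) ∈ L D := fun R => by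
    rw [map_one, ← WithZero.exp_zero, WithZero.exp_le_exp]
    exact hD0 R
  let S : Submodule k K := Submodule.span k (Set.range ![(1 : K), y])
  have hli : LinearIndependent k ![(1 : K), y] := by
    rw [LinearIndependent.pair_iff' one_ne_zero]
    intro c hc
    exact hy (hc ▸ by rw [Algebra.smul_def, mul_one]; exact isAlgebraic_algebraMap c)
  have hS : S ≤ L D := Submodule.span_le.2 (by
    rintro _ ⟨i, rfl⟩
    fin_cases i
    · exact h1
    · exact hyA)
  have hSd : Module.finrank k S = 2 := (finrank_span_eq_card hli).trans (Fintype.card_fin 2)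
  have heq : S = L D := Submodule.eq_of_le_of_finrank_le hS (by rw [hSd]; unfold ell at hl; omega)
  have hw : w ∈ S := heq ▸ hwA
  refine Submodule.span_le (p := (k⟮y⟯).toSubalgebra.toSubmodule).2 ?_ hw
  rintro _ ⟨i, rfl⟩
  fin_cases i
  · exact one_mem k⟮y⟯
  · exact mem_adjoin_simple_self k y

end Groth.Agent.Crv77
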