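import Groth.Agent.Crv77.Involution
import Groth.Agent.CrvPic30.Points
import Groth.Agent.CrvPic30.Linear
import Groth.Agent.FF30.Count

/-! Involutions of an elliptic curve exchanging two points. -/

set_option autoImplicit false
set_option linter.style.haveILetI false
set_option maxHeartbeats 1000000
set_option synthInstance.maxHeartbeats 200000
universe u

open CategoryTheory CategoryTheory.Limits AlgebraicGeometry IntermediateField FunFld

namespace Groth.Agent.Crv77

section Conorm

variable {k F K : Type*} [Field k] [IsAlgClosed k] [Field F] [Field K] [Algebra k F] [Algebra F K]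
  [Algebra k K] [IsScalarTower k F K] [FiniteDimensional F K] [IsGalois F K]

/-- In a quadratic extension a place and its conjugate make up a fibre. -/
theorem single_add_conj_eq_conorm (hF : FF30.FF k F) (hdeg : Module.finrank F K = 2) {σ : K ≃ₐ[F] K}
    (hσ : ∀ τ : K ≃ₐ[F] K, τ = 1 ∨ τ = σ) {R : Place k K} {R₀ : Place k F} (hR : IsOver R R₀) :
    (Finsupp.single R (1 : ℤ) + Finsupp.single (FF30.placeComap R σ) 1 : Divisor k K) =
      conorm K (Finsupp.single R₀ (1 : ℤ) : Divisor k F) := by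
  classical
  have hK : FF30.FF k K := hF.extension K
  have hR' : IsOver (FF30.placeComap R σ) R₀ := by
    obtain ⟨e, he⟩ := hR
    exact ⟨e, FF30.isOverWith_placeComap he σ⟩
  have hge : ∀ S : Place k K, IsOver S R₀ → 1 ≤ conorm K (Finsupp.single R₀ (1 : ℤ) : Divisor k F) S := by
    intro S hS
    obtain ⟨e, he⟩ := hS
    rw [hF.conorm_apply _ he, Finsupp.single_eq_same, mul_one]
    exact_mod_cast FF30.isOverWith_pos he
  have hd : (conorm K (Finsupp.single R₀ (1 : ℤ) : Divisor k F)).deg = 2 := by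
    rw [hF.deg_conorm, hdeg, hF.deg_single', mul_one]; rfl
  have hnn : ∀ S, 0 ≤ conorm K (Finsupp.single R₀ (1 : ℤ) : Divisor k F) S := fun S => by
    obtain ⟨S₀, e, -, he⟩ := hF.exists_isOverWith S
    rw [hF.conorm_apply _ he, Finsupp.single_apply]
    split_ifs <;> simp
  by_cases hfix : FF30.placeComap R σ = R
  · rw [hfix, ← Finsupp.single_add]
    have hsupp : ∀ S : Place k K, S ≠ R → conorm K (Finsupp.single R₀ (1 : ℤ) : Divisor k F) S = 0 := by
      intro S hS
      obtain ⟨S₀, e, -, he⟩ := hF.exists_isOverWith S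
      rw [hF.conorm_apply _ he, Finsupp.single_apply]
      split_ifs with hS₀
      · exfalso
        subst hS₀
        obtain ⟨τ, hτ⟩ := hF.exists_placeComap_eq hR (⟨e, he⟩ : IsOver S R₀)
        rcases hσ τ with h | h
        · exact hS (by rw [← hτ, h, FF30.placeComap_one])
        · exact hS (by rw [← hτ, h, hfix])
      · simp
    have heq : conorm K (Finsupp.single R₀ (1 : ℤ) : Divisor k F) =
        Finsupp.single R (conorm K (Finsupp.single R₀ (1 : ℤ) : Divisor k F) R) := by
      ext S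
      by_cases hS : S = R
      · subst hS; rw [Finsupp.single_eq_same]
      · rw [Finsupp.single_eq_of_ne hS, hsupp S hS]
    rw [heq, hK.deg_single'] at hd
    rw [heq, hd]
    rfl
  · refine hK.eq_of_le_of_deg_le (fun S => ?_) ?_
    · rw [Finsupp.add_apply, Finsupp.single_apply, Finsupp.single_apply]
      split_ifs with h1 h2 h2
      · exact absurd (h2.trans h1.symm) hfix
      · subst h1; simpa using hge _ hR
      · subst h2; simpa using hge _ hR'
      · simpa using hnn S
    · rw [hd, FF30.deg_add, hK.deg_single', hK.deg_single']; rfl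

end Conorm

section Swap

variable {k K : Type u} [Field k] [IsAlgClosed k] [Field K] [Algebra k K]

/-- In genus one there is an involution `R ↦ R'` with `R + R' ∼ P + Q`. -/
theorem exists_swap (h2 : (2 : k) ≠ 0) (hK : IsFunctionField k K) (hg : genus k K = 1) (P Q : Place k K) :
    ∃ (z : K) (σ : K ≃ₐ[k⟮z⟯] K), σ * σ = 1 ∧ FF30.placeComap P σ = Q ∧
      ∀ R : Place k K, (Finsupp.single R (1 : ℤ) + Finsupp.single (FF30.placeComap R σ) 1 -
        (Finsupp.single P (1 : ℤ) + Finsupp.single Q 1) : Divisor k K) ∈ prinDivs k K := by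
  classical
  have hF := FF30.FF.of_isFunctionField hK
  set D : Divisor k K := Finsupp.single P (1 : ℤ) + Finsupp.single Q 1
  have hD0 : 0 ≤ D := fun S => by
    rw [Finsupp.add_apply, Finsupp.single_apply, Finsupp.single_apply]
    split_ifs <;> simp
  have hDd : D.deg = 2 := by rw [FF30.deg_add, hF.deg_single', hF.deg_single']; rfl
  have hl := FF30.ell_eq_of_deg_gt hK (D := D) (by rw [hDd, hg]; norm_num)
  rw [hDd, hg] at hl
  obtain ⟨z, hzL, hz⟩ : ∃ z ∈ L D, z ∉ Set.range (algebraMap k K) := by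
    by_contra hne
    push Not at hne
    have hle : L D ≤ (1 : Submodule k K) := fun x hx => FF30.mem_one_iff.2 (hne x hx)
    have h1 : Module.finrank k (1 : Submodule k K) = 1 := by rw [← FF30.L_zero' hK]; exact FF30.ell_zero hK
    have : Module.Finite k (1 : Submodule k K) := by rw [← FF30.L_zero' hK]; exact hF.finite_L 0
    have h2 := Submodule.finrank_mono hle
    unfold ell at hl
    omega
  have htr := FF30.transcendental_of_not_mem_range hK hz
  have hfd := hF.finiteDimensional_adjoin htr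
  have hle := poleDiv_le_of_mem_L hK hD0 hzL
  have h1 := FF30.deg_mono hle
  rw [hF.deg_poleDiv htr, hDd] at h1
  have hpos : 0 < Module.finrank k⟮z⟯ K := Module.finrank_pos
  have hdz : Module.finrank k⟮z⟯ K = 2 := by
    rcases (show Module.finrank k⟮z⟯ K = 1 ∨ Module.finrank k⟮z⟯ K = 2 by omega) with h3 | h3
    · have := FF30.genus_eq_zero_of_deg_poleDiv_eq_one hK (x := z) htr (by rw [hF.deg_poleDiv htr, h3]; rfl)
      omega
    · exact h3
  have hpd : (FF30.poleDiv z : Divisor k K) = D :=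
    hF.eq_of_le_of_deg_le hle (by rw [hF.deg_poleDiv htr, hdz, hDd]; rfl)
  let F := k⟮z⟯
  obtain ⟨hFF, -⟩ := hF.intermediateField F (mem_adjoin_simple_self k z) htr
  have hFfun : IsFunctionField k F := ⟨hFF, fun a ha => by
    obtain ⟨c, hc⟩ := hK.2 (a : K) (ha.algHom F.val)
    exact ⟨c, Subtype.ext hc⟩⟩
  let zF : F := ⟨z, mem_adjoin_simple_self k z⟩
  have htop : IntermediateField.adjoin k ({zF} : Set F) = ⊤ :=
    IntermediateField.map_injective F.val (by
      rw [← AlgHom.fieldRange_eq_map, IntermediateField.adjoin_map, Set.image_singleton, F.fieldRange_val]; rfl)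
  have hgF := ((FF30.genus_zero_and_exists_deg_one_iff' hFfun).2 ⟨zF, htop⟩).1
  have h2F : (2 : F) ≠ 0 := by rw [← map_ofNat (algebraMap k F) 2]; exact (map_ne_zero _).2 h2
  have : Module.Free F K := inferInstance
  have : Algebra.IsQuadraticExtension F K := ⟨hdz⟩
  have : Algebra.IsSeparable F K := by
    obtain ⟨y, f, hy, hyf⟩ := Quad.exists_sqrt (k := k) h2 hdz
    exact Quad.isSeparable_of_sqrt h2F hdz hy hyf
  have hcard := IsGalois.card_aut_eq_finrank F K
  rw [hdz] at hcard
  obtain ⟨σ, hσ1, hσu⟩ := (Nat.card_eq_two_iff' (1 : K ≃ₐ[F] K)).1 hcard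
  have hσ : ∀ τ : K ≃ₐ[F] K, τ = 1 ∨ τ = σ := fun τ => (em (τ = 1)).imp id (hσu τ)
  have hσσ : σ * σ = 1 := by
    rw [← pow_two, ← hcard]
    exact pow_card_eq_one'
  -- the place at infinity
  obtain ⟨P₀, eP, -, hP₀⟩ := hFF.exists_isOverWith P
  have hinf : ∀ (S : Place k K) (S₀ : Place k F), IsOver S S₀ → 0 < D S → S₀ = P₀ := by
    have hone : ∀ (S : Place k K) (S₀ : Place k F), IsOver S S₀ → 0 < D S → S₀.ord zF < 0 := by
      intro S S₀ hS hDS
      rw [← hpd, hF.poleDiv_apply] at hDS
      obtain ⟨e, he⟩ := hS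
      have h4 : S.ord z = (e : ℤ) * S₀.ord zF := FF30.isOverWith_ord he zF
      have h5 : (0 : ℤ) ≤ e := Int.natCast_nonneg e
      by_contra hc
      have h6 := mul_nonneg h5 (not_lt.1 hc)
      omega
    have hdF : (FF30.poleDiv zF : Divisor k F).deg = 1 := by
      rw [(FF30.FF.of_isFunctionField hFfun).deg_poleDiv (FF30.transcendental_of_adjoin_eq_top hFfun htop),
        FF30.finrank_eq_one_iff_adjoin_top.2 htop]
      rfl
    obtain ⟨P', -, hP'⟩ := hFF.eq_single_of_deg_one (D := (FF30.poleDiv zF : Divisor k F)) (le_sup_right) hdF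
    have huniq : ∀ S₀ : Place k F, S₀.ord zF < 0 → S₀ = P' := by
      intro S₀ hS₀
      by_contra hne
      have h7 : (FF30.poleDiv zF : Divisor k F) S₀ = (Finsupp.single P' (1 : ℤ) : Divisor k F) S₀ :=
        congrArg (fun E : Divisor k F => E S₀) hP'
      rw [hFF.poleDiv_apply, Finsupp.single_eq_of_ne hne] at h7
      omega
    intro S S₀ hS hDS
    have hDP : 0 < D P := by
      rw [Finsupp.add_apply, Finsupp.single_eq_same, Finsupp.single_apply]; split_ifs <;> omega
    rw [huniq S₀ (hone S S₀ hS hDS), huniq P₀ (hone P P₀ ⟨eP, hP₀⟩ hDP)]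
  have hDQ : 0 < D Q := by
    rw [Finsupp.add_apply, Finsupp.single_eq_same, Finsupp.single_apply]; split_ifs <;> omega
  have hQ₀ : IsOver Q P₀ := by
    obtain ⟨Q₀, eQ, -, hQ⟩ := hFF.exists_isOverWith Q
    exact hinf Q Q₀ ⟨eQ, hQ⟩ hDQ ▸ ⟨eQ, hQ⟩
  have hσP : FF30.placeComap P σ = Q := by
    by_cases hPQ : P = Q
    · subst hPQ
      have hD2 : (Finsupp.single P (1 : ℤ) + Finsupp.single (FF30.placeComap P σ) 1 : Divisor k K) =
          conorm K (Finsupp.single P₀ (1 : ℤ) : Divisor k F) :=
        single_add_conj_eq_conorm hFF hdz hσ ⟨eP, hP₀⟩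
      by_contra hne
      set S := FF30.placeComap P σ
      have hS₀ : IsOver S P₀ := ⟨eP, FF30.isOverWith_placeComap hP₀ σ⟩
      have h6 : S.ord z = (eP : ℤ) * P₀.ord zF := FF30.isOverWith_ord (FF30.isOverWith_placeComap hP₀ σ) zF
      have h7 : P.ord z = (eP : ℤ) * P₀.ord zF := FF30.isOverWith_ord hP₀ zF
      have h8 := congrArg (fun E : Divisor k K => E P) hpd
      have h9 := congrArg (fun E : Divisor k K => E S) hpd
      simp only [hF.poleDiv_apply, D, Finsupp.add_apply, Finsupp.single_eq_same, Finsupp.single_eq_of_ne hne] at h8 h9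
      omega
    · obtain ⟨τ, hτ⟩ := hFF.exists_placeComap_eq ⟨eP, hP₀⟩ hQ₀
      rcases hσ τ with h | h
      · rw [h, FF30.placeComap_one] at hτ; exact absurd hτ hPQ
      · rw [← h, hτ]
  refine ⟨z, σ, hσσ, hσP, fun R => ?_⟩
  obtain ⟨R₀, eR, -, hR⟩ := hFF.exists_isOverWith R
  have hDeq : D = conorm K (Finsupp.single P₀ (1 : ℤ) : Divisor k F) := by
    rw [← single_add_conj_eq_conorm hFF hdz hσ ⟨eP, hP₀⟩, hσP]
  rw [single_add_conj_eq_conorm hFF hdz hσ ⟨eR, hR⟩, hDeq]
  set E : Divisor k F := Finsupp.single R₀ (1 : ℤ) - Finsupp.single P₀ 1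
  have hE : E ∈ prinDivs k F := by
    have hEd : E.deg = 0 := by rw [FF30.deg_sub, hFF.deg_single', hFF.deg_single']; rfl
    refine CrvPic30.mem_prinDivs_of_deg_zero hFfun hEd ?_
    have := FF30.ell_eq_of_deg_gt hFfun (D := E) (by rw [hEd, hgF]; norm_num)
    rw [hEd, hgF] at this
    omega
  obtain ⟨x, hx, hEx⟩ := (FF30.mem_prinDivs_iff hFF).1 hE
  have hsum : conorm K (Finsupp.single R₀ (1 : ℤ) : Divisor k F) =
      conorm K E + conorm K (Finsupp.single P₀ (1 : ℤ) : Divisor k F) := by
    rw [← hFF.conorm_add, sub_add_cancel]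
  rw [hsum, add_sub_cancel_right, hEx, ← hFF.conorm_div]
  exact (FF30.mem_prinDivs_iff hF).2 ⟨_, (map_ne_zero _).2 hx, rfl⟩

end Swap

variable {k : Type u} [Field k] {C : Scheme.{u}} [C.Over (Spec (CommRingCat.of k))] [IsIntegral C]

attribute [local instance] CrvPic30.ffAlg

theorem placeComap_place (h : CrvPic30.Setup k C) {g : C ⟶ C} (e : g (genericPoint C) = genericPoint C)
    (h2 : g ≫ g = 𝟙 C) {F : Type u} [Field F] [Algebra k F] [Algebra F C.functionField]
    [IsScalarTower k F C.functionField] (σ : C.functionField ≃ₐ[F] C.functionField)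
    (hσ : ∀ z, σ z = ffMap g e z) (x : {x : C // IsClosed ({x} : Set C)}) :
    FF30.placeComap (h.place x) σ = h.place ⟨g x.1, isClosed_image_involution h2 x.2⟩ := by
  refine FF30.place_ext_O (SetLike.ext fun z => ?_)
  rw [Valuation.mem_valuationSubring_iff, Valuation.mem_valuationSubring_iff]
  rw [FF30.placeComap_apply, hσ, h.place_le_one_iff, h.place_le_one_iff]
  refine ⟨fun hz => ?_, regAt_ffMap e⟩
  have h3 : Curves2.RegAt (g (g x.1)) (ffMap g e z) := by rw [involution_apply h2]; exact hz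
  simpa [ffMap_ffMap e h2] using regAt_ffMap e h3

end Groth.Agent.Crv77
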