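import Groth.Agent.CrvPic30.Toolkit
import Groth.Agent.Crv77.RatPoint
import Groth.Agent.Alb96.GeomInt
import Groth.Agent.AlgGrp79.ProdDense

/-! Curves with constants `k` as function fields; degrees of invertible modules. -/

set_option autoImplicit false
set_option linter.style.haveILetI false
universe u

open CategoryTheory CategoryTheory.Limits AlgebraicGeometry TopologicalSpace Opposite IsLocalRing FunFld

namespace Groth.Agent.Crv77

variable {k : Type u} [Field k] {X : Scheme.{u}} [X.Over (Spec (CommRingCat.of k))]

/-- Bézout for a finite family. -/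
theorem exists_gcd_comb {ι : Type*} (s : Finset ι) (f : ι → ℕ) :
    ∃ a : ι → ℤ, ((s.gcd f : ℕ) : ℤ) = ∑ x ∈ s, a x * (f x : ℤ) := by
  classical
  induction s using Finset.induction_on with
  | empty => exact ⟨0, by simp⟩
  | insert x s hx ih =>
    obtain ⟨a, ha⟩ := ih
    refine ⟨fun y => if y = x then Nat.gcdA (f x) (s.gcd f) else Nat.gcdB (f x) (s.gcd f) * a y, ?_⟩
    refine ((congrArg (fun n : ℕ => (n : ℤ)) (Finset.gcd_insert (s := s) (f := f) (b := x))).trans
      (Nat.gcd_eq_gcd_ab (f x) (s.gcd f))).trans ?_
    rw [Finset.sum_insert hx]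
    beta_reduce
    rw [if_pos rfl, ha, Finset.sum_mul]
    refine congrArg₂ (· + ·) (mul_comm _ _) (Finset.sum_congr rfl fun y hy => ?_)
    rw [if_neg (fun e : y = x => hx (e ▸ hy))]
    ring

variable (k X) in
/-- A proper geometrically integral scheme has only constant functions, in cohomological form. -/
theorem finrank_h0_of_geometricallyIntegral [IsProper (X ↘ Spec (CommRingCat.of k))]
    [GeometricallyIntegral (X ↘ Spec (CommRingCat.of k))] :
    Module.finrank k (Coh.HH X (Coh.structureModule X) 0) = 1 := by
  let one : Γ(Coh.structureModule X, ⊤) := (1 : Γ(X, ⊤))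
  let v := (sec (Coh.structureModule X)).symm one
  have : IsProper (Over.mk (X ↘ Spec (CommRingCat.of k))).hom := ‹IsProper (X ↘ Spec (CommRingCat.of k))›
  have : GeometricallyIntegral (Over.mk (X ↘ Spec (CommRingCat.of k))).hom :=
    ‹GeometricallyIntegral (X ↘ Spec (CommRingCat.of k))›
  have hb : Function.Bijective (fun r : k => Coh.toGlobal (X ↘ Spec (CommRingCat.of k)) r) :=
    Alb96.antiAffine_of_geometricallyIntegral (Over.mk (X ↘ Spec (CommRingCat.of k)))
  have hsec : ∀ r : k, sec (Coh.structureModule X) (r • v) =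
      (show Γ(Coh.structureModule X, ⊤) from Coh.toGlobal (X ↘ Spec (CommRingCat.of k)) r) := by
    intro r
    rw [sec_smul k, AddEquiv.apply_symm_apply]
    exact mul_one (show Γ(X, ⊤) from Coh.toGlobal (X ↘ Spec (CommRingCat.of k)) r)
  have hbij : Function.Bijective (LinearMap.toSpanSingleton k _ v) := by
    constructor
    · intro a b h
      refine hb.1 ?_
      have h2 := congrArg (sec (Coh.structureModule X)) h
      rw [LinearMap.toSpanSingleton_apply, LinearMap.toSpanSingleton_apply, hsec, hsec] at h2
      exact h2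
    · intro w
      obtain ⟨r, hr⟩ := hb.2 (sec (Coh.structureModule X) w)
      exact ⟨r, (sec (Coh.structureModule X)).injective ((hsec r).trans hr)⟩
  exact (LinearEquiv.ofBijective _ hbij).finrank_eq.symm.trans (Module.finrank_self k)

variable (k X) in
/-- A smooth proper geometrically irreducible curve has only constant functions. -/
theorem finrank_h0_of_smooth [IsProper (X ↘ Spec (CommRingCat.of k))]
    [Smooth (X ↘ Spec (CommRingCat.of k))] [GeometricallyIrreducible (X ↘ Spec (CommRingCat.of k))] :
    Module.finrank k (Coh.HH X (Coh.structureModule X) 0) = 1 :=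
  have := AlgGrp79.geometricallyReduced_of_smooth (X ↘ Spec (CommRingCat.of k))
  have := GeometricallyIntegral.of_geometricallyReduced_of_geometricallyIrreducible
    (X ↘ Spec (CommRingCat.of k))
  finrank_h0_of_geometricallyIntegral k X

variable [IsIntegral X]

attribute [local instance] CrvPic30.ffAlg

/-- A proper normal curve with constant functions `k` has a function field with constants `k`. -/
theorem setup_of_h0 [IsProper (X ↘ Spec (CommRingCat.of k))] (hdim : topologicalKrullDim X = 1)
    (hst : ∀ y : X, ∃ _ : IsDomain (X.presheaf.stalk y), ValuationRing (X.presheaf.stalk y))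
    (h0 : Module.finrank k (Coh.HH X (Coh.structureModule X) 0) = 1) : CrvPic30.Setup k X := by
  refine ⟨inferInstance, hdim, hst, Cyc90.ff_functionField (X ↘ Spec (CommRingCat.of k)) hdim, fun a ha => ?_⟩
  have hreg : ∀ y : X, Curves2.RegAt y a := by
    intro y
    obtain ⟨_, _⟩ := hst y
    let : Algebra k (X.presheaf.stalk y) := (Cyc90.kStalk (X ↘ Spec (CommRingCat.of k)) y).toAlgebra
    have : IsScalarTower k (X.presheaf.stalk y) X.functionField := IsScalarTower.of_algebraMap_eq fun r =>
      (RingHom.congr_fun (Cyc90.kStalk_specializes (X ↘ Spec (CommRingCat.of k))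
        ((genericPoint_spec X).specializes (y := y) trivial)) r).symm
    exact IsIntegrallyClosed.isIntegral_iff.1 (ha.isIntegral.tower_top (A := X.presheaf.stalk y))
  obtain ⟨s, hs⟩ := Curves2.exists_section_of_regAt ⊤ trivial a fun y _ => hreg y
  let one : Γ(Coh.structureModule X, ⊤) := (1 : Γ(X, ⊤))
  let v := (sec (Coh.structureModule X)).symm one
  have hv : v ≠ 0 := fun h => by
    have h2 := congrArg (sec (Coh.structureModule X)) h
    rw [AddEquiv.apply_symm_apply, map_zero] at h2
    exact one_ne_zero (α := Γ(X, ⊤)) h2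
  obtain ⟨r, hr⟩ := (finrank_eq_one_iff_of_nonzero' v hv).1 h0
    ((sec (Coh.structureModule X)).symm (s : Γ(Coh.structureModule X, ⊤)))
  have h2 := congrArg (sec (Coh.structureModule X)) hr
  rw [sec_smul k, AddEquiv.apply_symm_apply] at h2
  let cst : Γ(X, ⊤) := Coh.toGlobal (X ↘ Spec (CommRingCat.of k)) r
  have h3 : cst = s :=
    (mul_one _).symm.trans (h2.trans ((sec (Coh.structureModule X)).apply_symm_apply _))
  refine ⟨r, ?_⟩
  show Cyc90.kStalk (X ↘ Spec (CommRingCat.of k)) (genericPoint X) r = a
  rw [CrvPic30.kStalk_eq_stalkMap, ← hs, ← h3]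
  rfl

/-- Valuation stalks of a smooth curve. -/
theorem valuationRing_stalks_of_smooth [Smooth (X ↘ Spec (CommRingCat.of k))]
    (hdim : topologicalKrullDim X = 1) (y : X) :
    ∃ _ : IsDomain (X.presheaf.stalk y), ValuationRing (X.presheaf.stalk y) :=
  CrvFF30.stalks_valuationRing (X ↘ Spec (CommRingCat.of k)) hdim y

section DegSet

variable (k X) in
/-- The degrees of invertible modules form a group. -/
def degGroup [IsProper (X ↘ Spec (CommRingCat.of k))] (hdim : topologicalKrullDim X = 1) :
    AddSubgroup ℤ where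
  carrier := {d | ∃ L : X.Modules, PicF.IsInvertible L ∧ Curv2.deg k X L 1 = d}
  zero_mem' := ⟨Coh.structureModule X, EGA73.isInvertible_structureModule, CurveCoh.deg_structureModule⟩
  add_mem' := by
    rintro a b ⟨L, hL, rfl⟩ ⟨M, hM, rfl⟩
    have := isNoetherian_of_proper k X
    exact ⟨CohB1.tensorMod L M, EGA73.isInvertible_tensorMod hL hM,
      (curveCoh_of_proper k X hdim.le).deg_tensorMod hdim.le hL hM⟩
  neg_mem' := by
    rintro a ⟨L, hL, rfl⟩
    have := isNoetherian_of_proper k X
    obtain ⟨M, hM, ⟨e⟩⟩ := exists_inverse hL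
    refine ⟨M, hM, ?_⟩
    have h := (curveCoh_of_proper k X hdim.le).deg_tensorMod hdim.le hL hM
    rw [CrvPic30.Setup.deg_congr e, CurveCoh.deg_structureModule] at h
    linarith

/-- The residue degree of a normal closed point is a degree of an invertible module. -/
theorem finrank_mem_degGroup [IsProper (X ↘ Spec (CommRingCat.of k))] (hdim : topologicalKrullDim X = 1)
    {c : X} (hc : IsClosed ({c} : Set X)) [IsIntegrallyClosed (X.presheaf.stalk c)] :
    letI := Curv2.resAlgebra k X c
    (Module.finrank k (X.residueField c) : ℤ) ∈ degGroup k X hdim := by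
  have := isNoetherian_of_proper k X
  have hX := curveCoh_of_proper k X hdim.le
  obtain ⟨L, hL, ⟨e⟩⟩ := exists_inverse (isInvertible_idealMod_point hdim hc)
  refine ⟨L, hL, ?_⟩
  have hLc := isCoh_of_isInvertible hL
  have h := hX.euler_idealMod_tensor (ptIdeal hc) ((ptIdeal_support hc) ▸ Set.finite_singleton c)
    (fun y hy => by rw [ptIdeal_support hc, Set.mem_singleton_iff] at hy; exact hy ▸ hc) hL hLc
  rw [euler_congr (k := k) e] at h
  simp only [Crv77.h] at h
  rw [finrank_quot_point k hc] at h
  simp only [Curv2.deg, Nat.cast_one, one_mul]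
  omega

/-- With vanishing `H¹` and a degree one, the curve is the line. -/
theorem exists_iso_projLine_of_one_mem [IsProper (X ↘ Spec (CommRingCat.of k))]
    (hdim : topologicalKrullDim X = 1) (h1 : Subsingleton (Coh.HH X (Coh.structureModule X) 1))
    (h : (1 : ℤ) ∈ degGroup k X hdim) :
    ∃ e : X ≅ CohB1.ProjSpace 1 k, e.hom ≫ CohB1.ProjSpace.toSpec 1 k = X ↘ Spec (CommRingCat.of k) := by
  obtain ⟨L, hL, hdeg⟩ := h
  have := isNoetherian_of_proper k X
  have hX := curveCoh_of_proper k X hdim.le
  refine exists_iso_projLine_of_deg_one hdim hL hdeg ?_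
  have hLc := isCoh_of_isInvertible hL
  have e := hX.euler_eq hLc
  have f := hX.euler_eq (isCoh_structureModule (X := X))
  have hO : 0 < Module.finrank k (Coh.HH X (Coh.structureModule X) 0) :=
    have := hX.finite _ (isCoh_structureModule (X := X)) 0
    have : Nontrivial (Coh.HH X (Coh.structureModule X) 0) :=
      (sec (Coh.structureModule X)).toEquiv.nontrivial_congr.2 (inferInstanceAs (Nontrivial Γ(X, ⊤)))
    Module.finrank_pos
  simp only [Crv77.h, Module.finrank_zero_of_subsingleton (M := Coh.HH X (Coh.structureModule X) 1)] at e f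
  simp only [Curv2.deg, Nat.cast_one, one_mul] at hdeg
  omega

end DegSet

end Groth.Agent.Crv77
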