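import Groth.Agent.Div89.Fitting
import Groth.Agent.Fit14.Props
import Groth.Agent.Var76.RegPow
import Groth.Agent.Amp73.Gen
import Groth.Agent.Amp73.Tensor
import Groth.Agent.Curves2.IdealFrame
import Groth.Agent.Mero90.Frames
import Groth.Agent.Kvb46.Local

/-! The Fitting ideal of the cokernel of an injection of invertible modules. -/

set_option autoImplicit false
set_option linter.style.haveILetI false
set_option backward.isDefEq.respectTransparency false
universe u

open CategoryTheory CategoryTheory.Limits AlgebraicGeometry TopologicalSpace Opposite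
open Groth.Agent.Var76.LineBundle

noncomputable section

namespace Groth.Agent.Crv77

variable {X : Scheme.{u}}

/-- The `0`-th Fitting ideal of a cyclic module is its annihilator. -/
theorem fitting_zero_cyclic {R M : Type u} [CommRing R] [AddCommGroup M] [Module R M] {x : M}
    (hx : Submodule.span R ({x} : Set M) = ⊤) {a : R} (ha : ∀ r : R, r • x = 0 ↔ r ∈ Ideal.span {a}) :
    Fitt.ideal R M 0 = Ideal.span {a} := by
  refine le_antisymm ?_ ?_
  · have : Module.Finite R M := ⟨⟨{x}, by simpa using hx⟩⟩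
    refine Fit14.ideal_zero_le_annihilator.trans fun r hr => (ha r).1 (Module.mem_annihilator.1 hr x)
  · rw [Ideal.span_singleton_le_iff_mem]
    refine Ideal.subset_span ⟨1, fun _ => x, fun _ _ => a, by simpa using hx, fun i _ => ?_, ?_⟩
    · simpa using (ha a).2 (Ideal.mem_span_singleton_self a)
    · exact (Matrix.det_fin_one (fun _ _ => a)).symm

/-- If `0 → M → N → Q → 0` with `M`, `N` invertible on an integral scheme then `Fitt₀(Q) ⊗ N ≅ M`. -/
theorem nonempty_iso_fitting [IsIntegral X] (S : ShortComplex X.Modules) (hS : S.ShortExact)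
    (h1 : PicF.IsInvertible S.X₁) (h2 : PicF.IsInvertible S.X₂) (hq1 : Coh.IsQCoh S.X₁) (hq2 : Coh.IsQCoh S.X₂)
    (hq : Coh.IsQCoh S.X₃) (hft : CohB1.IsFT S.X₃) :
    Nonempty (CohB1.tensorMod (ClSub.idealMod (Fitt.sheafIdeal S.X₃ 0)) S.X₂ ≅ S.X₁) := by
  have := hS.mono_f
  have := hS.epi_g
  haveI : S.X₂.IsQuasicoherent := hq2
  haveI : S.X₃.IsQuasicoherent := hq
  let I := Fitt.sheafIdeal S.X₃ 0
  let β := Var76.Reg.idealInc I S.X₂
  -- charts
  have key : ∀ x : X, ∃ (U : X.affineOpens) (m : Γ(S.X₁, U.1)) (n : Γ(S.X₂, U.1)) (w : Γ(ClSub.idealMod I, U.1)),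
      x ∈ U.1 ∧ IsFrame S.X₁ U.1 m ∧ IsFrame S.X₂ U.1 n ∧ IsFrame (ClSub.idealMod I) U.1 w ∧
      β.app U.1 (Amp73.tm _ S.X₂ w n) = S.f.app U.1 m := by
    intro x
    obtain ⟨U₁, hx1, m₁, hm₁⟩ := Mero90.exists_frame' h1 x
    obtain ⟨U₂, hx2, n₂, hn₂⟩ := Mero90.exists_frame' h2 x
    obtain ⟨U, hU, hxU, hle⟩ := exists_isAffineOpen_mem_and_subset (x := x) (U := U₁ ⊓ U₂) ⟨hx1, hx2⟩
    let m := res S.X₁ (hle.trans inf_le_left) m₁
    let n := res S.X₂ (hle.trans inf_le_right) n₂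
    have hm : IsFrame S.X₁ U m := hm₁.res _
    have hn : IsFrame S.X₂ U n := hn₂.res _
    have hsec : ∀ {L : X.Modules} {e : Γ(L, U)}, IsFrame L U e → Function.Bijective (fun a : Γ(X, U) => a • e) :=
      fun he => by
        have := he U le_rfl
        simpa [Var76.LineBundle.res] using this
    obtain ⟨a, ha⟩ := (hsec hn).2 (S.f.app U m)
    have : Nonempty U := ⟨⟨x, hxU⟩⟩
    have ha0 : a ≠ 0 := fun h0 => by
      have h3 : S.f.app U m = 0 := ha.symm.trans (by rw [h0]; exact zero_smul _ n)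
      have h4 : m = 0 := QC70.app_injective_of_mono S.f U (h3.trans (map_zero _).symm)
      have h5 := (hsec hm).1 (a₁ := 1) (a₂ := 0) (by simp [h4])
      exact one_ne_zero h5
    have hspan : Submodule.span Γ(X, U) ({S.g.app U n} : Set Γ(S.X₃, U)) = ⊤ := by
      refine Submodule.eq_top_iff'.2 fun z => ?_
      obtain ⟨y, rfl⟩ := Kvb46.app_surjective_of_epi S.g hU z
      obtain ⟨r, rfl⟩ := (hsec hn).2 y
      rw [Scheme.Modules.Hom.app_smul]
      exact Submodule.smul_mem _ r (Submodule.mem_span_singleton_self _)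
    have hann : ∀ r : Γ(X, U), r • S.g.app U n = 0 ↔ r ∈ Ideal.span {a} := by
      intro r
      rw [Ideal.mem_span_singleton', ← Scheme.Modules.Hom.app_smul]
      constructor
      · intro hr
        obtain ⟨y, hy⟩ := QC70.exists_app_eq_of_exact S hS.exact U (r • n) hr
        obtain ⟨b, rfl⟩ := (hsec hm).2 y
        refine ⟨b, (hsec hn).1 ?_⟩
        show (b * a) • n = r • n
        rw [← hy, Scheme.Modules.Hom.app_smul, ← ha]
        exact mul_smul b a n
      · rintro ⟨b, rfl⟩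
        rw [mul_smul, show a • n = S.f.app U m from ha, Scheme.Modules.Hom.app_smul, QC70.app_f_g, smul_zero]
    have hI : I.ideal ⟨U, hU⟩ = Ideal.span {a} :=
      (Div89.fitting_ideal_eq S.X₃ hq hft 0 ⟨U, hU⟩).trans (fitting_zero_cyclic hspan hann)
    obtain ⟨w, hw⟩ := Curves2.exists_idealSect_of_mem I ⟨U, hU⟩ (hI.ge (Ideal.mem_span_singleton_self a))
    refine ⟨⟨U, hU⟩, m, n, w, hxU, hm, hn,
      Curves2.isFrame_of_span I ⟨U, hU⟩ (mem_nonZeroDivisors_of_ne_zero ha0) hI w hw, ?_⟩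
    rw [Var76.Reg.idealInc_tm, hw]
    exact ha
  -- factor through the kernel
  have hβ : β ≫ S.g = 0 := by
    refine Scheme.Modules.hom_ext _ _ fun W => ?_
    ext z
    refine QC70.section_ext _ _ _ fun x hx => ?_
    obtain ⟨U, m, n, w, hxU, hm, hn, hw, he⟩ := key x
    refine ⟨W ⊓ U.1, inf_le_left, ⟨hx, hxU⟩, ?_⟩
    refine (QC70.app_res (β ≫ S.g) inf_le_left z).symm.trans ?_
    refine Eq.trans ?_ (map_zero _).symm
    obtain ⟨c, hc⟩ := ((Amp73.isFrame_tm hw hn) (W ⊓ U.1) inf_le_right).2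
      (res (CohB1.tensorMod (ClSub.idealMod I) S.X₂) inf_le_left z)
    have h0 : (β ≫ S.g).app U.1 (Amp73.tm _ S.X₂ w n) = 0 :=
      (congrArg (S.g.app U.1) he).trans (QC70.app_f_g S U.1 m)
    refine (congrArg _ hc.symm).trans ((Scheme.Modules.Hom.app_smul _ _ _).trans ?_)
    erw [QC70.app_res (β ≫ S.g), h0]
    exact (congrArg (c • ·) (map_zero _)).trans (smul_zero c)
  let γ : CohB1.tensorMod (ClSub.idealMod I) S.X₂ ⟶ S.X₁ := hS.exact.lift β hβ
  have : IsIso γ := by
    refine Amp73.isIso_of_frames γ fun x => ?_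
    obtain ⟨U, m, n, w, hxU, hm, hn, hw, he⟩ := key x
    refine ⟨U.1, Amp73.tm _ S.X₂ w n, hxU, Amp73.isFrame_tm hw hn, ?_⟩
    have hγ : γ.app U.1 (Amp73.tm _ S.X₂ w n) = m := by
      refine QC70.app_injective_of_mono S.f U.1 ?_
      rw [← he]
      exact congr((Scheme.Modules.Hom.app $(hS.exact.lift_f β hβ) U.1) (Amp73.tm _ S.X₂ w n))
    rw [hγ]
    exact hm
  exact ⟨asIso γ⟩

end Groth.Agent.Crv77
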