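import Groth.Agent.Crv77.FunMap
import Groth.Agent.Curves2.OpenIso
import Groth.Agent.Curves2.ProjLineProper

/-! Morphisms from a curve with valuation stalks to a proper scheme from maps of function fields. -/

set_option autoImplicit false
set_option linter.style.haveILetI false
set_option backward.isDefEq.respectTransparency false
universe u

open CategoryTheory CategoryTheory.Limits AlgebraicGeometry TopologicalSpace

namespace Groth.Agent.Crv77

variable {S X Y : Scheme.{u}} [IsIntegral X] [IsIntegral Y] (sX : X ⟶ S) (sY : Y ⟶ S)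

/-- A map of function fields over the base extends to a morphism. -/
theorem exists_hom_of_ffHom [IsProper sY] [IsLocallyNoetherian X]
    (hval : ∀ x : X, ∃ _ : IsDomain (X.presheaf.stalk x), ValuationRing (X.presheaf.stalk x))
    (φ : Y.functionField ⟶ X.functionField)
    (h : Spec.map φ ≫ Y.fromSpecStalk _ ≫ sY = X.fromSpecStalk _ ≫ sX) :
    ∃ (g : X ⟶ Y) (e : g (genericPoint X) = genericPoint Y),
      g ≫ sY = sX ∧ CommRingCat.ofHom (ffMap g e) = φ := by
  obtain ⟨U, hU, g, h1, h2, h3⟩ := Curves2.exists_spread sX sY φ h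
  have : Nonempty U := ⟨⟨_, hU⟩⟩
  obtain ⟨g', hg', hg''⟩ := Curves2.exists_extension_of_valuationRing sY sX hval U g h2
  have e : g' (genericPoint X) = genericPoint Y :=
    (congr($hg'' ⟨genericPoint X, hU⟩) : g' (genericPoint X) = g ⟨genericPoint X, hU⟩).trans h3
  refine ⟨g', e, hg', Spec.map_injective ?_⟩
  rw [← cancel_mono (Y.fromSpecStalk (genericPoint Y)), fromSpecStalk_ffMap, h1, ← hg'', ← Category.assoc,
    Scheme.Opens.fromSpecStalkOfMem_ι]

/-- An isomorphism of function fields over the base is induced by an isomorphism. -/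
theorem exists_iso_of_ffIso' [IsProper sX] [IsProper sY] [IsLocallyNoetherian X] [IsLocallyNoetherian Y]
    (hX : ∀ x : X, ∃ _ : IsDomain (X.presheaf.stalk x), ValuationRing (X.presheaf.stalk x))
    (hY : ∀ y : Y, ∃ _ : IsDomain (Y.presheaf.stalk y), ValuationRing (Y.presheaf.stalk y))
    (φ : Y.functionField ≅ X.functionField)
    (h : Spec.map φ.hom ≫ Y.fromSpecStalk _ ≫ sY = X.fromSpecStalk _ ≫ sX) :
    ∃ (i : X ≅ Y) (e : i.hom (genericPoint X) = genericPoint Y),
      i.hom ≫ sY = sX ∧ CommRingCat.ofHom (ffMap i.hom e) = φ.hom := by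
  obtain ⟨g, e, hg, hgφ⟩ := exists_hom_of_ffHom sX sY hX φ.hom h
  obtain ⟨g', e', hg', hgφ'⟩ := exists_hom_of_ffHom sY sX hY φ.inv
    (by rw [← h, ← Spec.map_comp_assoc, φ.hom_inv_id, Spec.map_id, Category.id_comp])
  refine ⟨⟨g, g', ?_, ?_⟩, e, hg, hgφ⟩
  · refine Curves2.hom_ext_generic sX (𝟙 X) _ _ (by rw [Category.assoc, hg', hg, Category.id_comp]) fun j hj => ?_
    rw [Category.comp_id] at hj
    rw [hj, ← Category.assoc, ← fromSpecStalk_ffMap g e, Category.assoc, ← fromSpecStalk_ffMap g' e', hgφ, hgφ',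
      ← Category.assoc, ← Spec.map_comp, φ.inv_hom_id, Category.comp_id]
    exact (congrArg (· ≫ _) (Spec.map_id _)).trans (Category.id_comp _)
  · refine Curves2.hom_ext_generic sY (𝟙 Y) _ _ (by rw [Category.assoc, hg, hg', Category.id_comp]) fun j hj => ?_
    rw [Category.comp_id] at hj
    rw [hj, ← Category.assoc, ← fromSpecStalk_ffMap g' e', Category.assoc, ← fromSpecStalk_ffMap g e, hgφ, hgφ',
      ← Category.assoc, ← Spec.map_comp, φ.hom_inv_id, Category.comp_id]
    exact (congrArg (· ≫ _) (Spec.map_id _)).trans (Category.id_comp _)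

/-- An isomorphism of function fields over the base extends to an isomorphism. -/
theorem exists_iso_of_ffIso [IsProper sX] [IsProper sY] [IsLocallyNoetherian X] [IsLocallyNoetherian Y]
    (hX : ∀ x : X, ∃ _ : IsDomain (X.presheaf.stalk x), ValuationRing (X.presheaf.stalk x))
    (hY : ∀ y : Y, ∃ _ : IsDomain (Y.presheaf.stalk y), ValuationRing (Y.presheaf.stalk y))
    (φ : Y.functionField ≅ X.functionField)
    (h : Spec.map φ.hom ≫ Y.fromSpecStalk _ ≫ sY = X.fromSpecStalk _ ≫ sX) :
    ∃ i : X ≅ Y, i.hom ≫ sY = sX :=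
  let ⟨i, _, hi, _⟩ := exists_iso_of_ffIso' sX sY hX hY φ h
  ⟨i, hi⟩

end Groth.Agent.Crv77
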