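import Groth.Agent.Crv77.SepGen
import Mathlib.FieldTheory.PurelyInseparable.Basic
import Mathlib.FieldTheory.KummerPolynomial

/-! Subfields below which a separably generated field of transcendence degree one is purely inseparable. -/

set_option autoImplicit false
universe u v

open IntermediateField

namespace Groth.Agent.Crv77.Chain

variable {k : Type u} {K : Type v} [Field k] [Field K] [Algebra k K] (p : ℕ) [hp : Fact p.Prime] [CharP K p]

variable (k K) in
/-- `k(K^(p^r))`. -/
noncomputable def M (r : ℕ) : IntermediateField k K :=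
  IntermediateField.adjoin k (Set.range fun z : K => z ^ p ^ r)

/-- The preimage of an intermediate field under `z ↦ z ^ (p ^ i)`. -/
def pre (F : IntermediateField k K) (i : ℕ) : IntermediateField k K :=
  have : ExpChar K p := ExpChar.prime hp.out
  { F.toSubfield.comap (iterateFrobenius K p i) with
    algebraMap_mem' := fun c => by
      show iterateFrobenius K p i (algebraMap k K c) ∈ F
      rw [iterateFrobenius_def, ← map_pow]
      exact F.algebraMap_mem _ }

theorem mem_pre {F : IntermediateField k K} {i : ℕ} {z : K} : z ∈ pre p F i ↔ z ^ p ^ i ∈ F := by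
  have : ExpChar K p := ExpChar.prime hp.out
  show iterateFrobenius K p i z ∈ F ↔ _
  rw [iterateFrobenius_def]

theorem pow_mem_M (r : ℕ) (z : K) : z ^ p ^ r ∈ M k K p r := subset_adjoin _ _ ⟨z, rfl⟩

theorem M_zero : M k K p 0 = ⊤ :=
  eq_top_iff.2 fun z _ => by simpa using pow_mem_M (k := k) p 0 z

theorem M_succ_le (r : ℕ) : M k K p (r + 1) ≤ M k K p r := by
  refine adjoin_le_iff.2 ?_
  rintro _ ⟨z, rfl⟩
  show z ^ p ^ (r + 1) ∈ M k K p r
  rw [pow_succ', pow_mul]
  exact pow_mem_M p r _

variable {t : K} [Algebra.IsSeparable k⟮t⟯ K]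

/-- One more generator at each stage. -/
theorem pow_mem_gen (r : ℕ) (z : K) :
    z ^ p ^ r ∈ IntermediateField.adjoin k (insert (t ^ p ^ r) (Set.range fun w : K => w ^ p ^ (r + 1))) := by
  have hexp : ExpChar K p := ExpChar.prime hp.out
  let F := IntermediateField.adjoin k (insert t (Set.range fun w : K => w ^ p))
  have hle : k⟮t⟯ ≤ F := adjoin.mono k _ _ (by simp)
  let _ : Algebra k⟮t⟯ F := (IntermediateField.inclusion hle).toRingHom.toAlgebra
  have : IsScalarTower k⟮t⟯ F K := IsScalarTower.of_algebraMap_eq fun _ => rfl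
  have : Algebra.IsSeparable F K := Algebra.isSeparable_tower_top_of_isSeparable k⟮t⟯ F K
  have : ExpChar F p := (algebraMap F K).expChar (algebraMap F K).injective p
  have : IsPurelyInseparable F K := by
    rw [isPurelyInseparable_iff_pow_mem F p]
    exact fun w => ⟨1, ⟨w ^ p, subset_adjoin _ _ (Set.mem_insert_of_mem _ ⟨w, rfl⟩)⟩, by rw [pow_one]; rfl⟩
  obtain ⟨c, hc⟩ := IsPurelyInseparable.inseparable F z (Algebra.IsSeparable.isSeparable F z)
  refine (mem_pre p).1 (?_ : z ∈ pre p _ r)
  have hFle : F ≤ pre p (IntermediateField.adjoin k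
      (insert (t ^ p ^ r) (Set.range fun w : K => w ^ p ^ (r + 1)))) r := by
    refine adjoin_le_iff.2 ?_
    rintro w (rfl | ⟨w, rfl⟩)
    · exact (mem_pre p).2 (subset_adjoin _ _ (Set.mem_insert _ _))
    · refine (mem_pre p).2 (subset_adjoin _ _ (Set.mem_insert_of_mem _ ⟨w, ?_⟩))
      show w ^ p ^ (r + 1) = (w ^ p) ^ p ^ r
      rw [← pow_mul, pow_succ']
  exact hFle (hc ▸ c.2)

variable (t) in
include t in
/-- A subfield over which `K` is purely inseparable is one of the `k(K^(p^r))`. -/
theorem exists_eq_M (L : IntermediateField k K) [FiniteDimensional L K] [IsPurelyInseparable L K] :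
    ∃ r, L = M k K p r := by
  classical
  have hexp : ExpChar K p := ExpChar.prime hp.out
  have : ExpChar L p := (algebraMap L K).expChar (algebraMap L K).injective p
  -- a bound for the exponent
  obtain ⟨n, hn⟩ : ∃ n, ∀ z : K, z ^ p ^ n ∈ L := by
    refine ⟨Module.finrank L K, fun z => ?_⟩
    obtain ⟨m, a, hz⟩ := IsPurelyInseparable.minpoly_eq_X_pow_sub_C L p z
    have h1 : (minpoly L z).natDegree ≤ Module.finrank L K := minpoly.natDegree_le z
    rw [hz, Polynomial.natDegree_X_pow_sub_C] at h1
    have h2 : z ^ p ^ m = (a : K) := by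
      have := minpoly.aeval L z
      rw [hz] at this
      simpa [sub_eq_zero] using this
    have hm : m ≤ Module.finrank L K := (Nat.lt_pow_self hp.out.one_lt).le.trans h1
    rw [← Nat.add_sub_cancel' hm, pow_add, pow_mul, h2]
    exact pow_mem a.2 _
  have hMn : M k K p n ≤ L := adjoin_le_iff.2 (by rintro _ ⟨z, rfl⟩; exact hn z)
  let r := Nat.find (p := fun r => M k K p r ≤ L) ⟨n, hMn⟩
  have hr : M k K p r ≤ L := Nat.find_spec (p := fun r => M k K p r ≤ L) ⟨n, hMn⟩
  refine ⟨r, le_antisymm ?_ hr⟩
  -- climb down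
  suffices H : ∀ j ≤ r, L ≤ M k K p j from H r le_rfl
  intro j
  induction j with
  | zero => exact fun _ => by rw [M_zero]; exact le_top
  | succ j ih =>
    intro hj z hz
    have hLj := ih (by omega)
    by_contra hzA
    have hnot : ¬ M k K p j ≤ L :=
      Nat.find_min (p := fun r => M k K p r ≤ L) ⟨n, hMn⟩ (show j < r by omega)
    set A := M k K p (j + 1)
    set u := t ^ p ^ j
    have hup : u ^ p ∈ A := by
      show (t ^ p ^ j) ^ p ∈ A
      rw [← pow_mul, ← pow_succ]
      exact pow_mem_M p (j + 1) t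
    have hzp : z ^ p ∈ A := by
      have : M k K p j ≤ pre p A 1 := adjoin_le_iff.2 (by
        rintro _ ⟨w, rfl⟩
        refine (mem_pre p).2 ?_
        rw [pow_one, ← pow_mul, ← pow_succ]
        exact pow_mem_M p (j + 1) w)
      simpa [mem_pre] using this (hLj hz)
    have hiu : IsIntegral A u :=
      ⟨Polynomial.X ^ p - Polynomial.C (⟨u ^ p, hup⟩ : A), Polynomial.monic_X_pow_sub_C _ hp.out.ne_zero, by simp⟩
    have hiz : IsIntegral A z :=
      ⟨Polynomial.X ^ p - Polynomial.C (⟨z ^ p, hzp⟩ : A), Polynomial.monic_X_pow_sub_C _ hp.out.ne_zero, by simp⟩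
    have hdz : Module.finrank A A⟮z⟯ = p := by
      have hirr : Irreducible (Polynomial.X ^ p - Polynomial.C (⟨z ^ p, hzp⟩ : A)) := by
        refine X_pow_sub_C_irreducible_of_prime hp.out fun b hb => hzA ?_
        have hb' : frobenius K p (b : K) = frobenius K p z := congrArg Subtype.val hb
        exact frobenius_inj K p hb' ▸ b.2
      rw [IntermediateField.adjoin.finrank hiz, ← minpoly.eq_of_irreducible_of_monic hirr (by simp)
        (Polynomial.monic_X_pow_sub_C _ hp.out.ne_zero), Polynomial.natDegree_X_pow_sub_C]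
    have hdu : Module.finrank A A⟮u⟯ ≤ p := by
      rw [IntermediateField.adjoin.finrank hiu]
      refine (Polynomial.natDegree_le_of_dvd (minpoly.dvd A u (p := Polynomial.X ^ p - Polynomial.C (⟨u ^ p, hup⟩ : A))
        (by simp)) (Polynomial.X_pow_sub_C_ne_zero hp.out.pos _)).trans ?_
      rw [Polynomial.natDegree_X_pow_sub_C]
    have hzu : A⟮z⟯ ≤ A⟮u⟯ := by
      refine adjoin_simple_le_iff.2 ?_
      have hle : IntermediateField.adjoin k (insert u (Set.range fun w : K => w ^ p ^ (j + 1))) ≤
          A⟮u⟯.restrictScalars k := by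
        refine adjoin_le_iff.2 ?_
        rintro w (rfl | ⟨w, rfl⟩)
        · exact mem_adjoin_simple_self A u
        · exact A⟮u⟯.algebraMap_mem ⟨_, pow_mem_M p (j + 1) w⟩
      have hMj : M k K p j ≤ A⟮u⟯.restrictScalars k := adjoin_le_iff.2 (by
        rintro _ ⟨w, rfl⟩
        exact hle (pow_mem_gen p j w))
      exact hMj (hLj hz)
    have := IntermediateField.adjoin.finiteDimensional hiu
    have heq : A⟮z⟯ = A⟮u⟯ := IntermediateField.eq_of_le_of_finrank_le hzu (hdu.trans hdz.ge)
    have hu : u ∈ L ⊔ A := by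
      have h1 : A⟮z⟯ ≤ IntermediateField.extendScalars (show A ≤ L ⊔ A from le_sup_right) :=
        adjoin_simple_le_iff.2 ((le_sup_left : L ≤ L ⊔ A) hz)
      exact h1 (heq ▸ mem_adjoin_simple_self A u)
    -- propagate
    have hstep : ∀ i, M k K p (j + i) ≤ L ⊔ M k K p (j + i + 1) := by
      intro i
      refine adjoin_le_iff.2 ?_
      rintro _ ⟨w, rfl⟩
      have h1 : w ^ p ^ j ∈ L ⊔ A := by
        have hle : IntermediateField.adjoin k (insert u (Set.range fun w : K => w ^ p ^ (j + 1))) ≤ L ⊔ A := by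
          refine adjoin_le_iff.2 ?_
          rintro v (rfl | ⟨v, rfl⟩)
          · exact hu
          · exact (le_sup_right : A ≤ L ⊔ A) (pow_mem_M p (j + 1) v)
        exact hle (pow_mem_gen p j w)
      have h2 : L ⊔ A ≤ pre p (L ⊔ M k K p (j + i + 1)) i := by
        refine sup_le (fun v hv => (mem_pre p).2 ((le_sup_left : L ≤ _) (pow_mem hv _))) (adjoin_le_iff.2 ?_)
        rintro _ ⟨v, rfl⟩
        refine (mem_pre p).2 ((le_sup_right : M k K p (j + i + 1) ≤ _) ?_)
        rw [← pow_mul, ← pow_add, show j + 1 + i = j + i + 1 by omega]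
        exact pow_mem_M p _ v
      show w ^ p ^ (j + i) ∈ L ⊔ M k K p (j + i + 1)
      rw [pow_add, pow_mul]
      exact (mem_pre p).1 (h2 h1)
    have hall : ∀ i, M k K p j ≤ L ⊔ M k K p (j + i) := by
      intro i
      induction i with
      | zero => exact le_sup_right
      | succ i ihi => exact ihi.trans (sup_le le_sup_left (hstep i))
    refine hnot ((hall n).trans (sup_le le_rfl ?_))
    refine adjoin_le_iff.2 ?_
    rintro _ ⟨w, rfl⟩
    show w ^ p ^ (j + n) ∈ L
    rw [pow_add, pow_mul]
    exact hn _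

end Groth.Agent.Crv77.Chain
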