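import Groth.Agent.Crv77.GenusMono
import Groth.Agent.Crv77.HomOfFF
import Groth.Agent.Crv77.InsepChain
import Groth.Agent.Perf96.UHom
import Groth.Agent.WC97.Reduced
import Groth.Agent.Curves2.SmoothNormal

/-! Frobenius twists of curves and purely inseparable covers. -/

set_option autoImplicit false
set_option linter.style.haveILetI false
set_option backward.isDefEq.respectTransparency false
set_option maxHeartbeats 1000000
universe u

open CategoryTheory CategoryTheory.Limits AlgebraicGeometry

namespace Groth.Agent.Crv77

variable {k : Type u} [Field k]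

theorem isUnivHomeo_iterateFrobenius (p r : ℕ) [hp : Fact p.Prime] [ExpChar k p] :
    FlatMor.IsUnivHomeo (Spec.map (CommRingCat.ofHom (iterateFrobenius k p r))) := by
  have : CharP k p := by
    rcases ‹ExpChar k p› with _ | ⟨hp'⟩
    · exact absurd rfl hp.out.ne_one
    · assumption
  refine Perf96.isUnivHomeo_SpecMap (p := p) _ (CharP.cast_eq_zero k p) ⟨fun x hx => ?_, fun s => ⟨r, s, ?_⟩⟩
  · have hx' : iterateFrobenius k p r x = 0 := hx
    rw [(map_eq_zero _).1 hx']
    exact zero_mem _
  · exact iterateFrobenius_def ..

variable {X : Scheme.{u}} [X.Over (Spec (CommRingCat.of k))] [IsIntegral X]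

attribute [local instance] CrvPic30.ffAlg

/-- The function field of a smooth curve is separably generated. -/
theorem exists_separating_functionField [Smooth (X ↘ Spec (CommRingCat.of k))]
    (hK : FF30.FF k X.functionField) :
    ∃ t : X.functionField, Transcendental k t ∧
      Algebra.IsSeparable (IntermediateField.adjoin k ({t} : Set X.functionField)) X.functionField := by
  obtain ⟨U, hU, hgU, -⟩ :=
    exists_isAffineOpen_mem_and_subset (U := ⊤) (show genericPoint X ∈ (⊤ : X.Opens) from trivial)
  have h : Smooth (Spec.map (Spec.preimage (hU.fromSpec ≫ (X ↘ Spec (CommRingCat.of k))))) := by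
    rw [Spec.map_preimage]; infer_instance
  let φ : k →+* Γ(X, U) := (Spec.preimage (hU.fromSpec ≫ (X ↘ Spec (CommRingCat.of k)))).hom
  have hφ : φ.Smooth := (HasRingHomProperty.Spec_iff (P := @Smooth)).1 h
  let : Algebra k Γ(X, U) := φ.toAlgebra
  have : Algebra.Smooth k Γ(X, U) := hφ
  have : Nonempty U := ⟨⟨_, hgU⟩⟩
  have := functionField_isFractionRing_of_isAffineOpen X U hU
  have hc : CommRingCat.ofHom φ ≫ X.presheaf.germ U (genericPoint X) hgU =
      CommRingCat.ofHom (algebraMap k X.functionField) := by
    apply Spec.map_injective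
    rw [Spec.map_comp, spec_ffAlg, ← hU.fromSpecStalk_eq_fromSpecStalk hgU, IsAffineOpen.fromSpecStalk,
      Category.assoc]
    exact congrArg (_ ≫ ·) (Spec.map_preimage _)
  have : IsScalarTower k Γ(X, U) X.functionField :=
    IsScalarTower.of_algebraMap_eq fun c => (congr($hc c)).symm
  exact exists_separating_of_smooth k Γ(X, U) X.functionField hK

/-- A smooth curve twisted by a power of Frobenius is an integral curve. -/
theorem twist_integral (p r : ℕ) [Fact p.Prime] [ExpChar k p] [Smooth (X ↘ Spec (CommRingCat.of k))] :
    let X' := pullback (X ↘ Spec (CommRingCat.of k)) (Spec.map (CommRingCat.ofHom (iterateFrobenius k p r)))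
    IsIntegral X' ∧
      IsHomeomorph (pullback.fst (X ↘ Spec (CommRingCat.of k)) (Spec.map (CommRingCat.ofHom (iterateFrobenius k p r)))) := by
  intro X'
  have : MorphismProperty.IsStableUnderBaseChange FlatMor.IsUnivHomeo.{u} :=
    MorphismProperty.universally_isStableUnderBaseChange _
  have hh := Perf96.isHomeomorph_of_isUnivHomeo
    (MorphismProperty.pullback_fst (X ↘ Spec (CommRingCat.of k)) _ (isUnivHomeo_iterateFrobenius (k := k) p r))
  have : IrreducibleSpace X' := (hh.homeomorph).irreducibleSpace_iff.2 inferInstance
  have : IsReduced X' := WC97.isReduced_of_smooth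
    (pullback.snd (X ↘ Spec (CommRingCat.of k)) (Spec.map (CommRingCat.ofHom (iterateFrobenius k p r))))
  exact ⟨isIntegral_of_irreducibleSpace_of_isReduced _, hh⟩

end Groth.Agent.Crv77
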