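import Groth.Agent.Crv77.FrobTwist

/-! A curve purely inseparably covered by a smooth one is a Frobenius twist of it. -/

set_option autoImplicit false
set_option linter.style.haveILetI false
set_option backward.isDefEq.respectTransparency false
set_option maxHeartbeats 1000000
universe u

open CategoryTheory CategoryTheory.Limits AlgebraicGeometry

namespace Groth.Agent.Crv77

/-- Purely inseparable covers by smooth curves. -/
theorem exists_iso_twist (k : Type u) [Field k] (p : ℕ) [Fact p.Prime] [ExpChar k p]
    (X Y : Scheme.{u}) [X.Over (Spec (CommRingCat.of k))] [Y.Over (Spec (CommRingCat.of k))]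
    [IsIntegral X] [IsIntegral Y] [IsProper (X ↘ Spec (CommRingCat.of k))] [IsProper (Y ↘ Spec (CommRingCat.of k))]
    (hdX : topologicalKrullDim X = 1) (hdY : topologicalKrullDim Y = 1)
    (hvalY : ∀ y : Y, ∃ _ : IsDomain (Y.presheaf.stalk y), ValuationRing (Y.presheaf.stalk y))
    [Smooth (X ↘ (Spec (CommRingCat.of k)))]
    (f : X ⟶ Y) (hf : f ≫ (Y ↘ (Spec (CommRingCat.of k))) = X ↘ (Spec (CommRingCat.of k)))
    (e : f (genericPoint X) = genericPoint Y)
    (hpi : letI := (ffMap f e).toAlgebra
      IsPurelyInseparable Y.functionField X.functionField) :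
    ∃ (r : ℕ) (i : Y ≅ pullback (X ↘ (Spec (CommRingCat.of k))) (Spec.map (CommRingCat.ofHom (iterateFrobenius k p r)))),
      i.hom ≫ pullback.snd (X ↘ (Spec (CommRingCat.of k))) (Spec.map (CommRingCat.ofHom (iterateFrobenius k p r))) =
        Y ↘ (Spec (CommRingCat.of k)) := by
  let _ := CrvPic30.ffAlg k X
  let _ := CrvPic30.ffAlg k Y
  have : IsLocallyNoetherian X := LocallyOfFiniteType.isLocallyNoetherian (X ↘ Spec (CommRingCat.of k))
  have : IsLocallyNoetherian Y := LocallyOfFiniteType.isLocallyNoetherian (Y ↘ Spec (CommRingCat.of k))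
  let m := Crv77.ffMap f e
  let A : Y.functionField →ₐ[k] X.functionField := { m with commutes' := Crv77.ffMap_algebraMap f hf e }
  have hFX : FF30.FF k X.functionField := Cyc90.ff_functionField (X ↘ Spec (CommRingCat.of k)) hdX
  have hFY : FF30.FF k Y.functionField := Cyc90.ff_functionField (Y ↘ Spec (CommRingCat.of k)) hdY
  obtain ⟨s, hs, -⟩ := id hFY
  have : FiniteDimensional A.fieldRange X.functionField :=
    (hFX.intermediateField A.fieldRange (x := A s) ⟨s, rfl⟩
      (fun h => hs ((isAlgebraic_algHom_iff A A.toRingHom.injective).1 h))).2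
  have hp : p.Prime := Fact.out
  have : CharP k p := by
    rcases ‹ExpChar k p› with _ | ⟨hp'⟩
    · exact absurd rfl hp.ne_one
    · assumption
  have : CharP X.functionField p := charP_of_injective_algebraMap (algebraMap k X.functionField).injective p
  have : ExpChar X.functionField p := ExpChar.prime hp
  have : ExpChar A.fieldRange p := expChar_of_injective_algebraMap (algebraMap k A.fieldRange).injective p
  let _ : Algebra Y.functionField X.functionField := m.toAlgebra
  have hpi' : IsPurelyInseparable Y.functionField X.functionField := hpi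
  have : ExpChar Y.functionField p := expChar_of_injective_algebraMap (algebraMap k Y.functionField).injective p
  have : IsPurelyInseparable A.fieldRange X.functionField := by
    rw [isPurelyInseparable_iff_pow_mem A.fieldRange p]
    intro z
    obtain ⟨n, a, ha⟩ := IsPurelyInseparable.pow_mem Y.functionField p z
    exact ⟨n, ⟨⟨m a, a, rfl⟩, ha⟩⟩
  obtain ⟨t, -, hsep⟩ := Crv77.exists_separating_functionField hFX
  obtain ⟨r, hr⟩ := Crv77.Chain.exists_eq_M p t A.fieldRange
  choose w hw using fun z : X.functionField =>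
    (hr ▸ Crv77.Chain.pow_mem_M p r z : z ^ p ^ r ∈ A.fieldRange)
  have hw' : ∀ z, m (w z) = iterateFrobenius X.functionField p r z := fun z =>
    (hw z).trans (iterateFrobenius_def ..).symm
  let φ₀ : X.functionField →+* Y.functionField :=
    { toFun := w
      map_one' := m.injective (by rw [hw', map_one, map_one])
      map_mul' := fun a b => m.injective (by rw [hw', map_mul, map_mul, hw', hw'])
      map_zero' := m.injective (by rw [hw', map_zero, map_zero])
      map_add' := fun a b => m.injective (by rw [hw', map_add, map_add, hw', hw']) }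
  let F := Spec.map (CommRingCat.ofHom (iterateFrobenius k p r))
  obtain ⟨g, eg, hg, hgφ⟩ := Crv77.exists_hom_of_ffHom ((Y ↘ Spec (CommRingCat.of k)) ≫ F)
    (X ↘ Spec (CommRingCat.of k)) hvalY (CommRingCat.ofHom φ₀) (by
      rw [← Category.assoc (Y.fromSpecStalk _), ← Crv77.spec_ffAlg, ← Crv77.spec_ffAlg, ← Spec.map_comp,
        ← Spec.map_comp]
      refine congrArg Spec.map (CommRingCat.hom_ext (RingHom.ext fun c => m.injective ?_))
      show m (w (algebraMap k X.functionField c)) = m (algebraMap k Y.functionField (iterateFrobenius k p r c))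
      rw [hw', iterateFrobenius_def, ← map_pow]
      exact ((congrArg m (congrArg _ (iterateFrobenius_def ..))).trans (Crv77.ffMap_algebraMap f hf e _)).symm)
  let X' := pullback (X ↘ Spec (CommRingCat.of k)) F
  let π : X' ⟶ X := pullback.fst _ _
  letI : X'.Over (Spec (CommRingCat.of k)) := ⟨pullback.snd _ _⟩
  obtain ⟨hint, hhomeo⟩ := Crv77.twist_integral (X := X) (k := k) p r
  have : IsIntegral X' := hint
  have : IsProper (X' ↘ Spec (CommRingCat.of k)) :=
    inferInstanceAs (IsProper (pullback.snd (X ↘ Spec (CommRingCat.of k)) F))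
  have : Smooth (X' ↘ Spec (CommRingCat.of k)) :=
    inferInstanceAs (Smooth (pullback.snd (X ↘ Spec (CommRingCat.of k)) F))
  have : IsLocallyNoetherian X' := LocallyOfFiniteType.isLocallyNoetherian (X' ↘ Spec (CommRingCat.of k))
  have hdX' : topologicalKrullDim X' = 1 := (IsHomeomorph.topologicalKrullDim_eq _ hhomeo).trans hdX
  have eπ : π (genericPoint X') = genericPoint X := by
    obtain ⟨x, hx⟩ := hhomeo.surjective (genericPoint X)
    have h1 := (genericPoint_specializes x).map π.continuous
    exact Curves2.eq_genericPoint_of_specializes (hx ▸ h1)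
  let h : Y ⟶ X' := pullback.lift g (Y ↘ Spec (CommRingCat.of k)) hg
  have hh : h ≫ π = g := pullback.lift_fst _ _ _
  have hh' : h ≫ (X' ↘ Spec (CommRingCat.of k)) = Y ↘ Spec (CommRingCat.of k) := pullback.lift_snd _ _ _
  have eh : h (genericPoint Y) = genericPoint X' := by
    refine hhomeo.injective ((congr($hh (genericPoint Y)) : π (h (genericPoint Y)) = g (genericPoint Y)).trans ?_)
    rw [eg]
    exact eπ.symm
  let _ := CrvPic30.ffAlg k X'
  let B : X'.functionField →ₐ[k] Y.functionField :=
    { Crv77.ffMap h eh with commutes' := Crv77.ffMap_algebraMap h hh' eh }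
  have hBπ : ∀ z, B (Crv77.ffMap π eπ z) = φ₀ z := by
    have : CommRingCat.ofHom (Crv77.ffMap π eπ) ≫ CommRingCat.ofHom (Crv77.ffMap h eh) =
        CommRingCat.ofHom φ₀ := by
      rw [← hgφ]
      apply Spec.map_injective
      rw [← cancel_mono (X.fromSpecStalk (genericPoint X)), Spec.map_comp, Category.assoc,
        Crv77.fromSpecStalk_ffMap, Crv77.fromSpecStalk_ffMap, ← Category.assoc, Crv77.fromSpecStalk_ffMap,
        Category.assoc, hh]
    exact fun z => congr($this z)
  have hB : Function.Bijective B := by
    refine ⟨B.toRingHom.injective, fun y => ?_⟩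
    have hle : A.fieldRange ≤ (A.comp B).fieldRange := by
      rw [hr]
      refine IntermediateField.adjoin_le_iff.2 ?_
      rintro _ ⟨z, rfl⟩
      refine ⟨Crv77.ffMap π eπ z, ?_⟩
      show m (B (Crv77.ffMap π eπ z)) = z ^ p ^ r
      rw [hBπ]
      exact hw z
    obtain ⟨x, hx⟩ := hle (⟨y, rfl⟩ : A y ∈ A.fieldRange)
    exact ⟨x, m.injective hx⟩
  let φ : X'.functionField ≅ Y.functionField := (RingEquiv.ofBijective B.toRingHom hB).toCommRingCatIso
  obtain ⟨i, hi⟩ := Crv77.exists_iso_of_ffIso (Y ↘ Spec (CommRingCat.of k)) (X' ↘ Spec (CommRingCat.of k)) hvalY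
    (CrvFF30.stalks_valuationRing (X' ↘ Spec (CommRingCat.of k)) hdX') φ (by
      rw [← Category.assoc, show Spec.map φ.hom = Spec.map (CommRingCat.ofHom (Crv77.ffMap h eh)) from rfl,
        Crv77.fromSpecStalk_ffMap, Category.assoc, hh'])
  exact ⟨r, i, hi⟩

end Groth.Agent.Crv77
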