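import Groth.Agent.CrvPic30.Setup
import Groth.Agent.CrvPic30.Classify
import Groth.Agent.Crv77.P1Iso
import Groth.Agent.Curves2.ProjectiveCurve
import Groth.Agent.S10829

/-! Rational functions on a curve as morphisms to the projective line: degree and separability. -/

set_option autoImplicit false
set_option linter.style.haveILetI false
set_option backward.isDefEq.respectTransparency false
universe u

open CategoryTheory CategoryTheory.Limits AlgebraicGeometry TopologicalSpace Opposite IntermediateField

namespace Groth.Agent.Crv77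

section General

variable {X Y : Scheme.{u}}

/-- A finite morphism from a positive dimensional integral scheme does not contract it. -/
theorem not_isClosed_image_genericPoint [IsIntegral X] (f : X ⟶ Y) [IsFinite f]
    (hdim : ¬ topologicalKrullDim X ≤ 0) : ¬ IsClosed ({f (genericPoint X)} : Set Y) := by
  intro hc
  have huniv : f ⁻¹' {f (genericPoint X)} = Set.univ := by
    refine Set.eq_univ_of_univ_subset ?_
    rw [← (genericPoint_spec X).def]
    exact closure_minimal (by simp) (hc.preimage f.continuous)
  have hd : _root_.IsDiscrete (Set.univ : Set X) := huniv ▸ f.isDiscrete_preimage_singleton _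
  have : DiscreteTopology X := (Homeomorph.Set.univ X).discreteTopology_iff.mp hd.to_subtype
  exact hdim (topologicalKrullDim_zero_of_discreteTopology X)

variable [IsIntegral X] [IsIntegral Y] (f : X ⟶ Y) (e : f (genericPoint X) = genericPoint Y)

/-- The map of function fields of a dominant morphism. -/
noncomputable def ffMap : Y.functionField →+* X.functionField :=
  (Y.presheaf.stalkSpecializes (specializes_of_eq e) ≫ f.stalkMap (genericPoint X)).hom

theorem residue_bijective {Z : Scheme.{u}} [IsIntegral Z] {z : Z} (hz : z = genericPoint Z) :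
    Function.Bijective (Z.residue z).hom := by
  subst hz
  refine ⟨(Z.residue _).hom.injective, ?_⟩
  exact Ideal.Quotient.mk_surjective

/-- The residue extension at the generic point is the extension of function fields. -/
theorem ffMap_spec :
    (letI := (ffMap f e).toAlgebra; Module.finrank Y.functionField X.functionField) =
        f.residueDegree (genericPoint X) ∧
    ((letI := (f.residueFieldMap (genericPoint X)).hom.toAlgebra;
      Algebra.IsSeparable (Y.residueField (f (genericPoint X))) (X.residueField (genericPoint X))) ↔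
      (letI := (ffMap f e).toAlgebra;
        Algebra.IsSeparable Y.functionField X.functionField)) := by
  have : IsIso (Y.presheaf.stalkSpecializes (specializes_of_eq e)) :=
    ⟨Y.presheaf.stalkSpecializes (specializes_of_eq e.symm), by
      rw [Y.presheaf.stalkSpecializes_comp, TopCat.Presheaf.stalkSpecializes_refl], by
      rw [Y.presheaf.stalkSpecializes_comp, TopCat.Presheaf.stalkSpecializes_refl]⟩
  let e₁ : Y.functionField ≃+* Y.residueField (f (genericPoint X)) :=
    (asIso (Y.presheaf.stalkSpecializes (specializes_of_eq e))).commRingCatIsoToRingEquiv.trans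
      (RingEquiv.ofBijective _ (residue_bijective e))
  let e₂ : X.functionField ≃+* X.residueField (genericPoint X) :=
    RingEquiv.ofBijective _ (residue_bijective rfl)
  let := (ffMap f e).toAlgebra
  let := (f.residueFieldMap (genericPoint X)).hom.toAlgebra
  have he : RingHom.comp (algebraMap (Y.residueField (f (genericPoint X))) (X.residueField (genericPoint X))) e₁ =
      RingHom.comp e₂ (algebraMap Y.functionField X.functionField) := by
    refine RingHom.ext fun a => ?_
    exact congr($(AlgebraicGeometry.Scheme.residue_residueFieldMap f (genericPoint X))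
      ((Y.presheaf.stalkSpecializes (specializes_of_eq e)) a))
  refine ⟨Algebra.finrank_eq_of_equiv_equiv e₁ e₂ he, ⟨fun h => ?_, fun h => ?_⟩⟩
  · refine Algebra.IsSeparable.of_equiv_equiv e₁.symm e₂.symm ?_
    refine RingHom.ext fun a => e₂.injective ?_
    obtain ⟨b, rfl⟩ := e₁.surjective a
    simpa using congr($he b).symm
  · exact Algebra.IsSeparable.of_equiv_equiv e₁ e₂ he

theorem fromSpecStalk_ffMap :
    Spec.map (CommRingCat.ofHom (ffMap f e)) ≫ Y.fromSpecStalk (genericPoint Y) =
      X.fromSpecStalk (genericPoint X) ≫ f := by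
  rw [← Scheme.SpecMap_stalkMap_fromSpecStalk, ← Scheme.SpecMap_stalkSpecializes_fromSpecStalk (specializes_of_eq e),
    ← Category.assoc, ← Spec.map_comp]
  rfl

end General

section Line

variable {k : Type u} [Field k] {C : Scheme.{u}} [C.Over (Spec (CommRingCat.of k))] [IsIntegral C]

attribute [local instance] CrvPic30.ffAlg

open Var76.ProjCoord HomogeneousLocalization

theorem ffAlg_eq : algebraMap k C.functionField = Var76.VarDim.constField k C := by
  refine RingHom.ext fun r => ?_
  show Cyc90.kStalk (C ↘ Spec (CommRingCat.of k)) (genericPoint C) r = _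
  rw [CrvPic30.kStalk_eq_stalkMap]
  exact (Curves2.ProjLine.stalkMap_eq_germ_const k (W := (⊤ : C.Opens)) trivial r).symm.trans
    (Var76.VarDim.germ_const (k := k) (W := (⊤ : C.Opens)) trivial r)

variable (k) in
theorem genericPoint_mem_U₀ [IsIntegral (CohB1.ProjSpace 1 k)] :
    genericPoint (CohB1.ProjSpace 1 k) ∈ U k 1 0 :=
  (genericPoint_spec (CohB1.ProjSpace 1 k)).mem_open_set_iff (U k 1 0).2 |>.2
    ⟨_, Set.mem_univ _, (Proj.opensRange_awayι (CohB1.polyGrading 1 k) (MvPolynomial.X 0) (X₁ k 1 0).2 one_pos).le
      ⟨(Spec.map (CommRingCat.ofHom (Curves2.ProjModel.evalAway k ![(1 : k), 1] _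
        (Curves2.ProjModel.aeval_X_ne_zero k ![(1 : k), 1] (fun i => by fin_cases i <;> simp) 0))))
        (IsLocalRing.closedPoint k), rfl⟩⟩

variable (k) in
/-- The coordinate function of the line. -/
noncomputable def tP [IsIntegral (CohB1.ProjSpace 1 k)] : (CohB1.ProjSpace 1 k).functionField :=
  (CohB1.ProjSpace 1 k).presheaf.germ (U k 1 0) _ (genericPoint_mem_U₀ k) (Curves2.ProjLine.ψ₀ k Polynomial.X)

variable [IsIntegral (CohB1.ProjSpace 1 k)]

/-- The rational function of a dominant morphism to the line generates the image of the function field. -/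
theorem fieldRange_ffMap (f : C ⟶ CohB1.ProjSpace 1 k)
    (hf : f ≫ CohB1.ProjSpace.toSpec 1 k = C ↘ Spec (CommRingCat.of k))
    (e : f (genericPoint C) = genericPoint (CohB1.ProjSpace 1 k)) :
    Transcendental k (ffMap f e (tP k)) ∧
      (ffMap f e).fieldRange = (k⟮ffMap f e (tP k)⟯).toSubfield := by
  let P := CohB1.ProjSpace 1 k
  let m := ffMap f e
  let z := m (tP k)
  let g : Γ(P, U k 1 0) →+* P.functionField := (P.presheaf.germ (U k 1 0) _ (genericPoint_mem_U₀ k)).hom
  let ev : Polynomial k →+* C.functionField := (m.comp g).comp (Curves2.ProjLine.ψ₀ k)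
  have hm : ∀ r : k, m (Curv2.stalkMap k P (genericPoint P) r) = algebraMap k C.functionField r := by
    intro r
    have h : CommRingCat.ofHom (Curv2.stalkMap k P (genericPoint P)) ≫ CommRingCat.ofHom m =
        CommRingCat.ofHom (algebraMap k C.functionField) := by
      apply Spec.map_injective
      rw [Spec.map_comp, VarGal.SpecMap_curvStalkMap, ← Category.assoc]
      refine (congrArg (· ≫ _) (fromSpecStalk_ffMap f e)).trans ?_
      rw [Category.assoc, ffAlg_eq, Curves2.spec_constField]
      exact congrArg (_ ≫ ·) hf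
    exact congr($h r)
  have hev : ∀ p, ev p = Polynomial.aeval z p := by
    intro p
    have : ev = (Polynomial.aeval z).toRingHom := by
      refine Polynomial.ringHom_ext (fun r => ?_) ?_
      · show m (g (Curves2.ProjLine.ψ₀ k (Polynomial.C r))) = _
        rw [Curves2.ProjLine.ψ₀_C]
        simp only [g]
        rw [Curves2.ProjLine.stalkMap_eq_germ_const, hm]
        simp
      · show m (tP k) = _
        simp [z]
    exact congr($this p)
  have hev_inj : Function.Injective ev :=
    (m.injective.comp (germ_injective_of_isIntegral P (genericPoint P) (genericPoint_mem_U₀ k))).comp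
      (Curves2.ProjLine.ψ₀_bijective k).1
  refine ⟨(transcendental_iff.2 fun p hp => hev_inj (by rw [hev, hp, map_zero])), ?_⟩
  have : Nonempty (U k 1 0) := ⟨⟨_, genericPoint_mem_U₀ k⟩⟩
  have := functionField_isFractionRing_of_isAffineOpen P (U k 1 0) (isAffineOpen_U k 1 0)
  refine le_antisymm ?_ ?_
  · rintro _ ⟨a, rfl⟩
    obtain ⟨⟨b, c⟩, hbc⟩ := IsLocalization.surj (nonZeroDivisors Γ(P, U k 1 0)) a
    obtain ⟨p, hp⟩ := (Curves2.ProjLine.ψ₀_bijective k).2 b
    obtain ⟨q, hq⟩ := (Curves2.ProjLine.ψ₀_bijective k).2 c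
    have hq0 : q ≠ 0 := fun h => nonZeroDivisors.ne_zero c.2 (by rw [← hq, h, map_zero])
    have h1 := congrArg m hbc
    rw [map_mul] at h1
    have hc : m (algebraMap Γ(P, U k 1 0) P.functionField c) = Polynomial.aeval z q := by
      rw [← hev q, ← hq]; rfl
    have hb : m (algebraMap Γ(P, U k 1 0) P.functionField b) = Polynomial.aeval z p := by
      rw [← hev p, ← hp]; rfl
    rw [hc, hb] at h1
    have hne : Polynomial.aeval z q ≠ 0 := by
      rw [← hev]; exact (map_ne_zero_iff ev hev_inj).2 hq0
    show m a ∈ k⟮z⟯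
    rw [(eq_div_iff hne).2 h1]
    exact div_mem (algebra_adjoin_le_adjoin k {z} (Polynomial.aeval_mem_adjoin_singleton k z))
      (algebra_adjoin_le_adjoin k {z} (Polynomial.aeval_mem_adjoin_singleton k z))
  · show (adjoin k {z}).toSubfield ≤ m.fieldRange
    rw [IntermediateField.adjoin_toSubfield, Subfield.closure_le]
    rintro x (⟨r, rfl⟩ | rfl)
    · exact ⟨_, hm r⟩
    · exact ⟨_, rfl⟩

/-- A dominant morphism to the line: its degree and separability through a rational function. -/
theorem exists_fun_of_hom (f : C ⟶ CohB1.ProjSpace 1 k)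
    (hf : f ≫ CohB1.ProjSpace.toSpec 1 k = C ↘ Spec (CommRingCat.of k))
    (e : f (genericPoint C) = genericPoint (CohB1.ProjSpace 1 k)) :
    ∃ z : C.functionField, Transcendental k z ∧ z = ffMap f e (tP k) ∧
      f.residueDegree (genericPoint C) = Module.finrank k⟮z⟯ C.functionField ∧
      ((letI := (f.residueFieldMap (genericPoint C)).hom.toAlgebra;
        Algebra.IsSeparable ((CohB1.ProjSpace 1 k).residueField (f (genericPoint C)))
          (C.residueField (genericPoint C))) ↔ Algebra.IsSeparable k⟮z⟯ C.functionField) := by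
  obtain ⟨htr, hr⟩ := fieldRange_ffMap f hf e
  refine ⟨_, htr, rfl, ?_⟩
  let L := k⟮ffMap f e (tP k)⟯
  let := (ffMap f e).toAlgebra
  let e₁ : (CohB1.ProjSpace 1 k).functionField ≃+* L :=
    RingEquiv.ofBijective ((ffMap f e).codRestrict L fun a =>
      (hr ▸ ⟨a, rfl⟩ : ffMap f e a ∈ L.toSubfield))
      ⟨fun a b h => (ffMap f e).injective (congrArg Subtype.val h), fun b => by
        obtain ⟨a, ha⟩ : (b : C.functionField) ∈ (ffMap f e).fieldRange := hr.symm ▸ b.2
        exact ⟨a, Subtype.ext ha⟩⟩
  have he : RingHom.comp (algebraMap L C.functionField) (e₁ : (CohB1.ProjSpace 1 k).functionField →+* L) =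
      RingHom.comp (RingEquiv.refl C.functionField : C.functionField →+* C.functionField)
        (algebraMap (CohB1.ProjSpace 1 k).functionField C.functionField) := RingHom.ext fun _ => rfl
  obtain ⟨h1, h2⟩ := ffMap_spec f e
  refine ⟨h1.symm.trans (Algebra.finrank_eq_of_equiv_equiv e₁ (RingEquiv.refl _) he),
    h2.trans ⟨fun h => Algebra.IsSeparable.of_equiv_equiv e₁ (RingEquiv.refl _) he,
      fun h => Algebra.IsSeparable.of_equiv_equiv e₁.symm (RingEquiv.refl C.functionField) ?_⟩⟩
  refine RingHom.ext fun a => ?_
  exact congrArg Subtype.val (e₁.apply_symm_apply a)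

omit [IsIntegral (CohB1.ProjSpace 1 k)] in
theorem finite_hom_generic [IsIntegral (CohB1.ProjSpace 1 k)] (hdim : topologicalKrullDim C = 1)
    (f : C ⟶ CohB1.ProjSpace 1 k) [IsFinite f] : f (genericPoint C) = genericPoint (CohB1.ProjSpace 1 k) := by
  by_contra hne
  refine not_isClosed_image_genericPoint f (by rw [hdim]; exact not_le.2 zero_lt_one) ?_
  have := Curves2.ProjLine.isLocallyNoetherian k 1
  have := Curves2.ProjLine.isProper_toSpec k 1
  have : CompactSpace (CohB1.ProjSpace 1 k) :=
    QuasiCompact.compactSpace_of_compactSpace (CohB1.ProjSpace.toSpec 1 k)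
  have : IsNoetherian (CohB1.ProjSpace 1 k) := ⟨⟩
  exact isClosed_singleton (by rw [S10829.result k 1]; exact le_of_eq Nat.cast_one) hne

/-- A dominant morphism from a proper curve to the line is finite. -/
theorem isFinite_of_generic (h : CrvPic30.Setup k C) (f : C ⟶ CohB1.ProjSpace 1 k)
    (hf : f ≫ CohB1.ProjSpace.toSpec 1 k = C ↘ Spec (CommRingCat.of k))
    (e : f (genericPoint C) = genericPoint (CohB1.ProjSpace 1 k)) : IsFinite f := by
  have := h.proper
  have := Curves2.ProjLine.isProper_toSpec k 1
  have : IsProper (f ≫ CohB1.ProjSpace.toSpec 1 k) := hf ▸ h.proper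
  have : IsProper f := IsProper.of_comp f (CohB1.ProjSpace.toSpec 1 k)
  have := h.isNoetherian
  have : LocallyQuasiFinite f := by
    refine LocallyQuasiFinite.of_finite_preimage_singleton f fun y => ?_
    by_cases hy : y = genericPoint (CohB1.ProjSpace 1 k)
    · refine (Set.finite_singleton (genericPoint C)).subset fun x hx => ?_
      by_contra hne
      have hcl := f.isClosedMap _ ((h.isClosed_or_generic x).resolve_right hne)
      rw [Set.image_singleton, show f x = y from hx, hy] at hcl
      have huniv := (genericPoint_spec (CohB1.ProjSpace 1 k)).def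
      rw [hcl.closure_eq] at huniv
      have hdim0 : topologicalKrullDim (CohB1.ProjSpace 1 k) ≤ 0 := by
        have : Subsingleton (CohB1.ProjSpace 1 k) := ⟨fun a b => by
          have ha : a ∈ ({genericPoint (CohB1.ProjSpace 1 k)} : Set _) := huniv.symm ▸ Set.mem_univ a
          have hb : b ∈ ({genericPoint (CohB1.ProjSpace 1 k)} : Set _) := huniv.symm ▸ Set.mem_univ b
          exact ha.trans hb.symm⟩
        exact topologicalKrullDim_zero_of_discreteTopology _
      rw [S10829.result k 1, Nat.cast_one] at hdim0
      exact not_le.2 zero_lt_one hdim0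
    · refine Set.Finite.subset (s := f ⁻¹' closure {y}) ?_ (Set.preimage_mono subset_closure)
      refine finite_of_isClosed' h.dim.le (isClosed_closure.preimage f.continuous) fun hg => hy ?_
      have : genericPoint (CohB1.ProjSpace 1 k) ∈ closure ({y} : Set _) := e ▸ hg
      exact ((genericPoint_specializes y).antisymm (specializes_iff_mem_closure.2 this)).eq.symm
  exact IsFinite.of_isProper_of_locallyQuasiFinite f

/-- A transcendental function is the coordinate of a finite morphism to the line. -/
theorem exists_hom_of_fun (h : CrvPic30.Setup k C) {z : C.functionField} (hz : Transcendental k z) :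
    ∃ (f : C ⟶ CohB1.ProjSpace 1 k) (e : f (genericPoint C) = genericPoint (CohB1.ProjSpace 1 k)),
      f ≫ CohB1.ProjSpace.toSpec 1 k = C ↘ Spec (CommRingCat.of k) ∧ IsFinite f ∧ ffMap f e (tP k) = z := by
  have := h.proper
  have hz0 : z ≠ 0 := fun h0 => hz (h0 ▸ isAlgebraic_zero)
  let P := CohB1.ProjSpace 1 k
  let v : Fin 2 → C.functionField := ![1, z]
  have hh : ∀ i, v i ≠ 0 := fun i => by fin_cases i <;> simp [v, hz0]
  have hreg : ∀ x : C, ∃ j, ∀ i, Curves2.RegAt x (v i / v j) := by
    intro x
    obtain ⟨_, _⟩ := h.stalks x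
    rcases (ValuationRing.iff_isInteger_or_isInteger (C.presheaf.stalk x) C.functionField).1 inferInstance z
      with hi | hi
    · refine ⟨0, fun i => ?_⟩
      fin_cases i
      · simpa [v] using Curves2.regAt_one
      · simpa [v, Curves2.RegAt, IsLocalization.IsInteger] using hi
    · refine ⟨1, fun i => ?_⟩
      fin_cases i
      · simpa [v, Curves2.RegAt, IsLocalization.IsInteger] using hi
      · simpa [v, hz0] using Curves2.regAt_one
  obtain ⟨f, hf, hpt, -⟩ := Curves2.exists_hom_of_regAt k v hh hreg
  rw [show (Var76.VarDim.constField k C).toAlgebra = CrvPic30.ffAlg k C from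
    Algebra.algebra_ext _ _ fun r => (RingHom.congr_fun ffAlg_eq r).symm] at hpt
  let ev := Curves2.ProjModel.evalAway k v _ (Curves2.ProjModel.aeval_X_ne_zero k v hh 0)
  let a := Proj.awayToSection (CohB1.polyGrading 1 k) (MvPolynomial.X 0 : MvPolynomial (Fin 2) k)
  let g := P.presheaf.germ (U k 1 0) _ (genericPoint_mem_U₀ k)
  have : IsIso a := (Proj.basicOpenIsoAway _ _ (X₁ k 1 0).2 one_pos).isIso_hom
  have : Nonempty (U k 1 0) := ⟨⟨_, genericPoint_mem_U₀ k⟩⟩
  let aw := Proj.awayι (CohB1.polyGrading 1 k) (MvPolynomial.X 0 : MvPolynomial (Fin 2) k) (X₁ k 1 0).2 one_pos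
  have hevinj : Function.Injective ev := by
    let i := (asIso a).commRingCatIsoToRingEquiv
    have key : (ev.comp i.symm.toRingHom).comp (Curves2.ProjLine.ψ₀ k) = (Polynomial.aeval z).toRingHom := by
      refine Polynomial.ringHom_ext (fun r => ?_) ?_
      · have hc : Var76.BertiniScheme.const (k := k) P (U k 1 0) r =
            i (fromZeroRingHom (CohB1.polyGrading 1 k) _ (algebraMap k ((CohB1.polyGrading 1 k) 0) r)) :=
          congr($(const_eq k 1 0) r)
        show ev (i.symm (Curves2.ProjLine.ψ₀ k (Polynomial.C r))) = Polynomial.aeval z (Polynomial.C r)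
        rw [Curves2.ProjLine.ψ₀_C, hc, RingEquiv.symm_apply_apply, Polynomial.aeval_C]
        show ev (HomogeneousLocalization.mk
          ⟨0, algebraMap k ((CohB1.polyGrading 1 k) 0) r, ⟨1, SetLike.GradedOne.one_mem⟩, one_mem _⟩) = _
        rw [Curves2.ProjModel.evalAway_mk]
        simp
      · show ev (i.symm (Curves2.ProjLine.ψ₀ k Polynomial.X)) = Polynomial.aeval z Polynomial.X
        rw [show Curves2.ProjLine.ψ₀ k Polynomial.X = i (frac k 1 0 (X₁ k 1 1)) from Polynomial.eval₂_X _ _,
          RingEquiv.symm_apply_apply, frac, Curves2.ProjModel.evalAway_mk]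
        simp [v, X₁]
    intro b c hbc
    obtain ⟨p, hp⟩ := (Curves2.ProjLine.ψ₀_bijective k).2 (i b)
    obtain ⟨q, hq⟩ := (Curves2.ProjLine.ψ₀_bijective k).2 (i c)
    have hp' : ev b = Polynomial.aeval z p := by
      rw [show b = i.symm (Curves2.ProjLine.ψ₀ k p) by rw [hp, RingEquiv.symm_apply_apply]]
      exact congr($key p)
    have hq' : ev c = Polynomial.aeval z q := by
      rw [show c = i.symm (Curves2.ProjLine.ψ₀ k q) by rw [hq, RingEquiv.symm_apply_apply]]
      exact congr($key q)
    rw [hp', hq'] at hbc
    have hpq : p = q := (transcendental_iff_injective.1 hz) hbc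
    exact i.injective (by rw [← hp, ← hq, hpq])
  have : IsDomain (HomogeneousLocalization.Away (CohB1.polyGrading 1 k) (MvPolynomial.X 0 : MvPolynomial (Fin 2) k)) :=
    have : IsDomain Γ(Proj (CohB1.polyGrading 1 k),
        Proj.basicOpen (CohB1.polyGrading 1 k) (MvPolynomial.X 0 : MvPolynomial (Fin 2) k)) :=
      Curves2.ProjLine.isDomain_chart k 1 0
    Function.Injective.isDomain (asIso a).commRingCatIsoToRingEquiv.toRingHom
      (asIso a).commRingCatIsoToRingEquiv.injective
  have : IrreducibleSpace ↥(Proj (CohB1.polyGrading 1 k)) := Curves2.ProjLine.irreducibleSpace k 1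
  have e : f (genericPoint C) = genericPoint P := by
    have h1 : f (genericPoint C) =
        aw ((Spec.map (CommRingCat.ofHom ev)) (IsLocalRing.closedPoint C.functionField)) := by
      have h2 := congr($hpt (IsLocalRing.closedPoint C.functionField))
      rw [Scheme.Hom.comp_apply, Scheme.fromSpecStalk_closedPoint] at h2
      exact h2
    refine h1.trans (Eq.trans ?_ (genericPoint_eq_of_isOpenImmersion aw))
    refine congrArg aw (Eq.trans ?_ (genericPoint_eq_bot_of_affine (CommRingCat.of _)).symm)
    refine PrimeSpectrum.ext ?_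
    show (IsLocalRing.maximalIdeal C.functionField).comap ev = ⊥
    rw [IsLocalRing.maximalIdeal_eq_bot]
    exact (RingHom.injective_iff_ker_eq_bot ev).1 hevinj
  refine ⟨f, e, hf, isFinite_of_generic h f hf e, ?_⟩
  have hP : P.fromSpecStalk (genericPoint P) = Spec.map g ≫ Spec.map a ≫ aw := by
    rw [← (isAffineOpen_U k 1 0).fromSpecStalk_eq_fromSpecStalk (genericPoint_mem_U₀ k),
      IsAffineOpen.fromSpecStalk, Curves2.ProjModel.fromSpec_U]
  have heq : a ≫ g ≫ CommRingCat.ofHom (ffMap f e) = CommRingCat.ofHom ev := by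
    apply Spec.map_injective
    rw [← cancel_mono aw, Spec.map_comp, Spec.map_comp, Category.assoc, Category.assoc, ← hP,
      fromSpecStalk_ffMap f e, hpt]
    rfl
  have h3 := congr($heq (frac k 1 0 (X₁ k 1 1)))
  have h4 : ev (frac k 1 0 (X₁ k 1 1)) = z := by
    rw [frac, Curves2.ProjModel.evalAway_mk]; simp [v, X₁]
  refine Eq.trans ?_ (h3.trans h4)
  show ffMap f e (g (Curves2.ProjLine.ψ₀ k Polynomial.X)) = _
  rw [show Curves2.ProjLine.ψ₀ k Polynomial.X = a (frac k 1 0 (X₁ k 1 1)) from Polynomial.eval₂_X _ _]
  rfl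

end Line

end Groth.Agent.Crv77
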