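import Groth.Agent.Crv77.FunMap
import Mathlib.RingTheory.Etale.Field
import Mathlib.RingTheory.Etale.Locus
import Mathlib.AlgebraicGeometry.Morphisms.Etale

/-! A finite morphism with separable function field extension is etale on a nonempty open. -/

set_option autoImplicit false
set_option linter.style.haveILetI false
universe u

open CategoryTheory CategoryTheory.Limits AlgebraicGeometry TopologicalSpace Opposite

namespace Groth.Agent.Crv77

variable {X Y : Scheme.{u}} [IsIntegral X] [IsIntegral Y]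

/-- Generic etaleness. -/
theorem exists_etale_open [IsLocallyNoetherian Y] (f : X ⟶ Y) [IsFinite f]
    (e : f (genericPoint X) = genericPoint Y)
    (hsep : letI := (ffMap f e).toAlgebra; Algebra.IsSeparable Y.functionField X.functionField) :
    ∃ V : X.Opens, (V : Set X).Nonempty ∧ Etale (V.ι ≫ f) := by
  obtain ⟨U, hU, hgU, -⟩ := exists_isAffineOpen_mem_and_subset (U := (⊤ : Y.Opens)) (x := genericPoint Y) trivial
  have hV : IsAffineOpen (f ⁻¹ᵁ U) := hU.preimage f
  have hgV : genericPoint X ∈ f ⁻¹ᵁ U := show f (genericPoint X) ∈ U from e.symm ▸ hgU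
  have : Nonempty U := ⟨⟨_, hgU⟩⟩
  have : Nonempty (f ⁻¹ᵁ U : X.Opens) := ⟨⟨_, hgV⟩⟩
  have := functionField_isFractionRing_of_isAffineOpen Y U hU
  have := functionField_isFractionRing_of_isAffineOpen X (f ⁻¹ᵁ U) hV
  have : IsNoetherianRing Γ(Y, U) := IsLocallyNoetherian.component_noetherian ⟨U, hU⟩
  let φ := (f.app U).hom
  let : Algebra Γ(Y, U) Γ(X, f ⁻¹ᵁ U) := φ.toAlgebra
  let : Algebra Y.functionField X.functionField := (ffMap f e).toAlgebra
  let : Algebra Γ(Y, U) X.functionField :=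
    ((algebraMap Γ(X, f ⁻¹ᵁ U) X.functionField).comp φ).toAlgebra
  have : IsScalarTower Γ(Y, U) Γ(X, f ⁻¹ᵁ U) X.functionField := IsScalarTower.of_algebraMap_eq fun _ => rfl
  have : IsScalarTower Γ(Y, U) Y.functionField X.functionField := IsScalarTower.of_algebraMap_eq fun r => by
    show X.presheaf.germ (f ⁻¹ᵁ U) (genericPoint X) hgV (f.app U r) =
      (ffMap f e) (Y.presheaf.germ U (genericPoint Y) hgU r)
    rw [ffMap, CommRingCat.comp_apply, TopCat.Presheaf.germ_stalkSpecializes_apply,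
      Scheme.Hom.germ_stalkMap_apply]
  have : Module.Finite Γ(Y, U) Γ(X, f ⁻¹ᵁ U) := f.finite_app U hU
  have : Algebra.FinitePresentation Γ(Y, U) Γ(X, f ⁻¹ᵁ U) :=
    Algebra.FinitePresentation.of_finiteType.1 inferInstance
  have : Algebra.IsSeparable Y.functionField X.functionField := hsep
  have h1 : Algebra.FormallyEtale Γ(Y, U) Y.functionField :=
    Algebra.FormallyEtale.of_isLocalization (nonZeroDivisors Γ(Y, U))
  have h2 : Algebra.FormallyEtale Y.functionField X.functionField := Algebra.FormallyEtale.of_isSeparable _ _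
  have h3 : Algebra.FormallyEtale Γ(Y, U) X.functionField := Algebra.FormallyEtale.comp _ Y.functionField _
  let p₀ : PrimeSpectrum Γ(X, f ⁻¹ᵁ U) := ⟨⊥, Ideal.isPrime_bot⟩
  have hp₀ : p₀ ∈ Algebra.etaleLocus Γ(Y, U) Γ(X, f ⁻¹ᵁ U) := by
    have : (⊥ : Ideal Γ(X, f ⁻¹ᵁ U)).IsPrime := Ideal.isPrime_bot
    have hM : (⊥ : Ideal Γ(X, f ⁻¹ᵁ U)).primeCompl = nonZeroDivisors Γ(X, f ⁻¹ᵁ U) := by
      ext x
      simp [Ideal.primeCompl]
    have hloc : IsLocalization.AtPrime X.functionField (⊥ : Ideal Γ(X, f ⁻¹ᵁ U)) := by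
      show IsLocalization _ _
      rw [hM]
      infer_instance
    let eL := (IsLocalization.algEquiv (⊥ : Ideal Γ(X, f ⁻¹ᵁ U)).primeCompl X.functionField
      (Localization.AtPrime (⊥ : Ideal Γ(X, f ⁻¹ᵁ U)))).restrictScalars Γ(Y, U)
    exact Algebra.FormallyEtale.of_equiv eL
  obtain ⟨_, ⟨s, rfl⟩, hs, hle⟩ := PrimeSpectrum.isTopologicalBasis_basic_opens.exists_subset_of_mem_open
    hp₀ Algebra.isOpen_etaleLocus
  have het : Algebra.Etale Γ(Y, U) (Localization.Away s) := Algebra.basicOpen_subset_etaleLocus_iff_etale.1 hle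
  let ι₀ : CommRingCat.of Γ(X, f ⁻¹ᵁ U) ⟶ CommRingCat.of (Localization.Away s) :=
    CommRingCat.ofHom (algebraMap _ _)
  let j : Spec (CommRingCat.of (Localization.Away s)) ⟶ X := Spec.map ι₀ ≫ hV.fromSpec
  have : IsOpenImmersion (Spec.map ι₀) :=
    IsOpenImmersion.of_isLocalization (S := Localization.Away s) s
  have hj : IsOpenImmersion j := inferInstanceAs (IsOpenImmersion (Spec.map ι₀ ≫ hV.fromSpec))
  have hje : Etale (j ≫ f) := by
    have h4 : j ≫ f = Spec.map (CommRingCat.ofHom (algebraMap Γ(Y, U) (Localization.Away s))) ≫ hU.fromSpec := by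
      show (Spec.map ι₀ ≫ hV.fromSpec) ≫ f = _
      rw [Category.assoc, ← IsAffineOpen.SpecMap_appLE_fromSpec f hU hV le_rfl, ← Category.assoc,
        ← Spec.map_comp, ← Scheme.Hom.app_eq_appLE]
      congr 1
    rw [h4]
    have : Etale (Spec.map (CommRingCat.ofHom (algebraMap Γ(Y, U) (Localization.Away s)))) :=
      (HasRingHomProperty.Spec_iff (P := @Etale)).2 (RingHom.etale_algebraMap.2 het)
    infer_instance
  refine ⟨j.opensRange, ?_, ?_⟩
  · have hs0 : s ≠ 0 := fun h0 => hs (show s ∈ (⊥ : Ideal Γ(X, f ⁻¹ᵁ U)) from h0 ▸ rfl)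
    have : Nontrivial (Localization.Away s) :=
      (IsLocalization.injective (M := Submonoid.powers s) (Localization.Away s)
        (powers_le_nonZeroDivisors_of_noZeroDivisors hs0)).nontrivial
    obtain ⟨q⟩ : Nonempty (PrimeSpectrum (Localization.Away s)) := inferInstance
    exact ⟨j q, ⟨q, rfl⟩⟩
  · have h5 : j.opensRange.ι ≫ f = j.isoOpensRange.inv ≫ j ≫ f := by
      rw [← Category.assoc, Scheme.Hom.isoOpensRange_inv_comp]
    rw [h5]
    infer_instance

end Groth.Agent.Crv77
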