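import Groth.Agent.Crv77.GenEtale
import Groth.Agent.Crv77.FunDeg
import Groth.Agent.AlgGrp79.ProdDense

/-! The generic fibre of a separable finite morphism of integral schemes is geometrically reduced. -/

set_option autoImplicit false
set_option linter.style.haveILetI false
set_option backward.isDefEq.respectTransparency false
universe u

open CategoryTheory CategoryTheory.Limits AlgebraicGeometry TopologicalSpace

namespace Groth.Agent.Crv77

variable {X Y : Scheme.{u}} [IsIntegral X] [IsIntegral Y]

theorem geometricallyReduced_fibre_of_sep [IsLocallyNoetherian Y] (f : X ⟶ Y) [IsFinite f]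
    (e : f (genericPoint X) = genericPoint Y)
    (hsep : letI := (ffMap f e).toAlgebra; Algebra.IsSeparable Y.functionField X.functionField) :
    GeometricallyReduced (f.fiberToSpecResidueField (genericPoint Y)) := by
  obtain ⟨V, hV, het⟩ := exists_etale_open f e hsep
  have hξ : genericPoint X ∈ V :=
    ((genericPoint_spec X).mem_open_set_iff V.2).2 (by simpa using hV)
  let b := Y.fromSpecResidueField (genericPoint Y)
  let g : pullback V.ι (pullback.fst f b) ⟶ pullback f b := pullback.snd V.ι (pullback.fst f b)
  have hfst : ∀ z, pullback.fst f b z = genericPoint X := fun z => by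
    have h1 : f (pullback.fst f b z) = genericPoint Y := by
      rw [← Scheme.Hom.comp_apply, pullback.condition, Scheme.Hom.comp_apply]
      exact Y.fromSpecResidueField_apply (genericPoint Y) (pullback.snd f b z)
    exact (preimage_genericPoint f e).subset h1
  have : IsIso g := isIso_of_isOpenImmersion_of_opensRange_eq_top g (TopologicalSpace.Opens.ext
    (Set.eq_univ_of_forall fun z => by
      show z ∈ Set.range g
      rw [IsOpenImmersion.range_pullbackSnd]
      show pullback.fst f b z ∈ V.ι.opensRange
      rw [Scheme.Opens.opensRange_ι, hfst z]
      exact hξ))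
  have hq : Etale (g ≫ pullback.snd f b) := by
    rw [← pullbackRightPullbackFstIso_hom_snd f b V.ι]
    have : Etale (pullback.snd (V.ι ≫ f) b) := MorphismProperty.pullback_snd _ _ het
    infer_instance
  have : Smooth (pullback.snd f b) := by
    have : Smooth (g ≫ pullback.snd f b) := inferInstance
    exact (MorphismProperty.cancel_left_of_respectsIso @Smooth g _).1 this
  exact AlgGrp79.geometricallyReduced_of_smooth (pullback.snd f b)

end Groth.Agent.Crv77
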