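import Groth.Agent.Crv77.FFBridge
import Groth.Agent.VB30.Setup
import Groth.Agent.SGA3a.SmoothWeil

/-! Smooth proper geometrically connected curves. -/

set_option autoImplicit false
set_option linter.style.haveILetI false
universe u

open CategoryTheory CategoryTheory.Limits AlgebraicGeometry TopologicalSpace

namespace Groth.Agent.Crv77

variable (k : Type u) [Field k] (X : Scheme.{u}) [X.Over (Spec (CommRingCat.of k))]
  [IsProper (X ↘ Spec (CommRingCat.of k))] [Smooth (X ↘ Spec (CommRingCat.of k))]
  [GeometricallyConnected (X ↘ Spec (CommRingCat.of k))]

theorem geometricallyIrreducible_of_connected :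
    GeometricallyIrreducible (X ↘ Spec (CommRingCat.of k)) := by
  refine SGA3a.geometricallyIrreducible_of_geomFibres _ fun s => ?_
  exact GeometricallyConnected.connectedSpace_of_subsingleton
    (f := pullback.snd (X ↘ Spec (CommRingCat.of k)) (Red.geomPt s))

theorem finrank_h0_of_connected : Module.finrank k (Coh.HH X (Coh.structureModule X) 0) = 1 :=
  have := geometricallyIrreducible_of_connected k X
  finrank_h0_of_smooth k X

theorem setup_of_connected [IsIntegral X] (hdim : topologicalKrullDim X = 1) : CrvPic30.Setup k X :=
  setup_of_h0 hdim (valuationRing_stalks_of_smooth (k := k) hdim) (finrank_h0_of_connected k X)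

end Groth.Agent.Crv77
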