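import Groth.Agent.FF30.Quadratic
import Groth.Agent.FF30.Galois
import Groth.Agent.FF30.AlgClosed
import Groth.Agent.FF30.RR
import Groth.Agent.FF30.Rational
import Groth.Agent.FF30.SubField
import Mathlib.FieldTheory.Galois.Basic

/-! Fixed places of the involution of a quadratic extension of function fields, characteristic not two,
algebraically closed constants. -/

set_option autoImplicit false

open FunFld WithZero
open scoped Multiplicative

namespace Groth.Agent.Crv77.Quad

open FF30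

variable {k F K : Type*} [Field k] [Field F] [Field K] [Algebra k F] [Algebra F K] [Algebra k K]
  [IsScalarTower k F K]

theorem val_le_sub_iff {P : Place k F} (h2 : (2 : k) ≠ 0) {u v f : F} (hf : f ≠ 0) (A : ℤ) :
    (P.1 (2 * u - 0 * v) ≤ exp A ∧ P.1 (u ^ 2 - 0 * u * v - v ^ 2 * f) ≤ exp A * exp A ∧
      (v = 0 → P.1 u ≤ exp A)) ↔ P.1 u ≤ exp A ∧ P.1 v ≤ exp (A + P.ord f / 2) := by
  have htwo : P.1 (2 * u) = P.1 u := by
    rw [map_mul, ← map_ofNat (algebraMap k F) 2, val_algebraMap P h2, one_mul]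
  simp only [zero_mul, sub_zero, htwo]
  have hiff : P.1 (v ^ 2 * f) ≤ exp A * exp A ↔ P.1 v ≤ exp (A + P.ord f / 2) := by
    rcases eq_or_ne v 0 with rfl | hv
    · simp [zero_pow two_ne_zero]
    rw [val_eq P (mul_ne_zero (pow_ne_zero 2 hv) hf), val_eq P hv, ← exp_add, exp_le_exp, exp_le_exp,
      ord_mul P (pow_ne_zero 2 hv) hf, ord_pow]
    push_cast
    omega
  constructor
  · rintro ⟨hu, hN, -⟩
    refine ⟨hu, hiff.mp ?_⟩
    have : v ^ 2 * f = u ^ 2 - (u ^ 2 - v ^ 2 * f) := by ring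
    rw [this]
    refine (P.1.map_sub _ _).trans (max_le ?_ hN)
    rw [sq, map_mul]
    exact mul_le_mul' hu hu
  · rintro ⟨hu, hv⟩
    refine ⟨hu, (P.1.map_sub _ _).trans (max_le ?_ (hiff.mpr hv)), fun _ => hu⟩
    rw [sq, map_mul]
    exact mul_le_mul' hu hu

theorem exists_sqrt (h2 : (2 : k) ≠ 0) (hdeg : Module.finrank F K = 2) :
    ∃ (y : K) (f : F), y ∉ Set.range (algebraMap F K) ∧ y ^ 2 = algebraMap F K f := by
  have h2K : (2 : K) ≠ 0 := by
    rw [← map_ofNat (algebraMap k K) 2]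
    exact (map_ne_zero _).2 h2
  have h2F : (2 : F) ≠ 0 := by
    rw [← map_ofNat (algebraMap k F) 2]
    exact (map_ne_zero _).2 h2
  obtain ⟨w, hw⟩ : ∃ w : K, w ∉ Set.range (algebraMap F K) := by
    by_contra hc
    push Not at hc
    have h1 : Module.finrank F K ≤ 1 := finrank_le_one (1 : K) fun z => by
      obtain ⟨c, rfl⟩ := hc z
      exact ⟨c, by rw [Algebra.smul_def, mul_one]⟩
    omega
  obtain ⟨a, b, hab⟩ := exists_repr_quadratic hdeg hw (w ^ 2)
  refine ⟨w - algebraMap F K (b / 2), a + (b / 2) ^ 2, ?_, ?_⟩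
  · rintro ⟨c, hc⟩
    exact hw ⟨c + b / 2, by rw [map_add, hc, sub_add_cancel]⟩
  · simp only [sub_sq, hab, map_add, map_pow, map_div₀, map_ofNat]
    field_simp
    ring

theorem isSeparable_of_sqrt {F K : Type*} [Field F] [Field K] [Algebra F K] (h2 : (2 : F) ≠ 0)
    (hdeg : Module.finrank F K = 2) {y : K} {f : F} (hy : y ∉ Set.range (algebraMap F K))
    (hyf : y ^ 2 = algebraMap F K f) : Algebra.IsSeparable F K := by
  have hf0 : f ≠ 0 := by
    rintro rfl
    exact hy ⟨0, by rw [map_zero]; exact (pow_eq_zero_iff two_ne_zero).1 (hyf.trans (map_zero _)) |>.symm⟩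
  refine ⟨fun z => ?_⟩
  obtain ⟨u, v, rfl⟩ := exists_repr_quadratic hdeg hy z
  have hsy : IsSeparable F y := by
    refine (Polynomial.separable_X_pow_sub_C f (n := 2) (by exact_mod_cast h2) hf0).of_dvd (minpoly.dvd F y ?_)
    simp [hyf]
  exact Field.isSeparable_add (isSeparable_algebraMap u) (Field.isSeparable_mul (isSeparable_algebraMap v) hsy)

variable [IsAlgClosed k]

/-- An element of odd order at `P` whose square root generates: the places over `P` are fixed. -/
theorem fixed_iff_odd (h2 : (2 : k) ≠ 0) (hF : FF k F) [FiniteDimensional F K] [IsGalois F K]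
    (hdeg : Module.finrank F K = 2) (σ : K ≃ₐ[F] K) (hσ : σ ≠ 1) {y : K} {f : F}
    (hy : y ∉ Set.range (algebraMap F K)) (hyf : y ^ 2 = algebraMap F K f) {Q : Place k K} {P : Place k F}
    {e : ℕ} (he : IsOverWith Q P e) : placeComap Q σ = Q ↔ ¬ (2 : ℤ) ∣ P.ord f := by
  have hy0 : y ≠ 0 := fun h => hy ⟨0, by rw [h, map_zero]⟩
  have hf0 : f ≠ 0 := fun h => hy0 (by simpa [h] using hyf)
  have hσy : σ y = -y := by
    have h1 : (σ y) ^ 2 = y ^ 2 := by rw [← map_pow, hyf, σ.commutes]
    rcases sq_eq_sq_iff_eq_or_eq_neg.1 h1 with h | h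
    · refine absurd (AlgEquiv.ext fun z => ?_) hσ
      obtain ⟨u, v, rfl⟩ := exists_repr_quadratic hdeg hy z
      show σ (algebraMap F K u + algebraMap F K v * y) = _
      rw [map_add, map_mul, σ.commutes, σ.commutes, h]
      rfl
    · exact h
  constructor
  · intro hfix hev
    obtain ⟨m, hm⟩ := hev
    obtain ⟨t, ht0, ht⟩ := exists_ord_eq P m
    have hK : FF k K := hF.extension K
    set y' : K := y / algebraMap F K t with hy'
    have hord : Q.ord y' = 0 := by
      have h1 : 2 * Q.ord y = (e : ℤ) * P.ord f := by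
        rw [← isOverWith_ord he, ← hyf, ord_pow]; norm_num
      rw [hy', ord_div Q hy0 ((map_ne_zero _).2 ht0), isOverWith_ord he, ht]
      rw [hm] at h1
      linarith
    have hy'0 : y' ≠ 0 := div_ne_zero hy0 ((map_ne_zero _).2 ht0)
    have hv1 : Q.1 y' = 1 := (val_eq_one_iff Q hy'0).2 hord
    obtain ⟨c, hc⟩ : ∃ c : k, Q.1 (y' - algebraMap k K c) < 1 := by
      exact hK.exists_sub_lt Q hv1.le
    have hσy' : σ y' = -y' := by rw [hy', map_div₀, hσy, σ.commutes, neg_div]
    have hc' : Q.1 (-y' - algebraMap k K c) < 1 := by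
      rw [← hσy', show algebraMap k K c = σ (algebraMap k K c) by
        rw [IsScalarTower.algebraMap_apply k F K, σ.commutes], ← map_sub, ← placeComap_apply, hfix]
      exact hc
    have h2' : Q.1 (2 * y') < 1 := by
      have : 2 * y' = (y' - algebraMap k K c) - (-y' - algebraMap k K c) := by ring
      rw [this]
      exact lt_of_le_of_lt (Q.1.map_sub _ _) (max_lt hc hc')
    rw [map_mul, hv1, mul_one, ← map_ofNat (algebraMap k K) 2, val_algebraMap Q h2] at h2'
    exact lt_irrefl _ h2'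
  · intro hodd
    by_contra hne
    have hD : Q.O.decompositionSubgroup F = ⊥ := by
      rw [Subgroup.eq_bot_iff_forall]
      intro τ hτ
      by_contra hτ1
      have hcard : Fintype.card (K ≃ₐ[F] K) = 2 := by
        rw [Fintype.card_eq_nat_card, IsGalois.card_aut_eq_finrank, hdeg]
      have : τ = σ := by
        have h3 : ∀ a b : K ≃ₐ[F] K, a ≠ 1 → b ≠ 1 → a = b := by
          classical
          intro a b ha hb
          by_contra hab
          have : ({1, a, b} : Finset (K ≃ₐ[F] K)).card = 3 := by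
            rw [Finset.card_insert_of_notMem (by simp [Ne.symm ha, Ne.symm hb]), Finset.card_pair hab]
          have := Finset.card_le_univ ({1, a, b} : Finset (K ≃ₐ[F] K))
          omega
        exact h3 τ σ hτ1 hσ
      exact hne ((placeComap_eq_self_iff Q σ).2 (this ▸ hτ))
    have h1 := hF.card_decomposition_mul_deg' he
    rw [hD, Subgroup.card_bot, one_mul, hF.deg_eq_one P, (hF.extension K).deg_eq_one Q, mul_one] at h1
    have h4 : 2 * Q.ord y = (e : ℤ) * P.ord f := by rw [← isOverWith_ord he, ← hyf, ord_pow]; norm_num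
    rw [← h1, Nat.cast_one, one_mul] at h4
    exact hodd ⟨_, h4.symm⟩

/-- Hurwitz for the involution of a quadratic extension. -/
theorem ncard_fixed (h2 : (2 : k) ≠ 0) (hF : IsFunctionField k F) (hK : IsFunctionField k K)
    [FiniteDimensional F K] [IsGalois F K]
    (hdeg : Module.finrank F K = 2) (σ : K ≃ₐ[F] K) (hσ : σ ≠ 1) :
    {Q : Place k K | placeComap Q σ = Q}.Finite ∧
      2 * (genus k K : ℤ) + 2 = 4 * genus k F + ({Q : Place k K | placeComap Q σ = Q}.ncard : ℤ) := by
  classical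
  have hFF : FF k F := hF.1
  obtain ⟨y, f, hy, hyf⟩ := exists_sqrt h2 hdeg
  have hy0 : y ≠ 0 := fun h => hy ⟨0, by rw [h, map_zero]⟩
  have hf0 : f ≠ 0 := fun h => hy0 (by simpa [h] using hyf)
  set E : Divisor k F := Finsupp.mapRange (fun m : ℤ => m / 2) (by norm_num) (div k f) with hE
  have hEP : ∀ P, E P = P.ord f / 2 := fun P => by rw [hE, Finsupp.mapRange_apply, hFF.div_apply]
  have hL : ∀ (A : Divisor k F) (u v : F),
      algebraMap F K u + algebraMap F K v * y ∈ L (conorm K A) ↔ u ∈ L A ∧ v ∈ L (A + E) := by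
    intro A u v
    rw [hFF.mem_L_conorm_iff hdeg hy (ε := 0) (f := f) (by simpa using hyf) A u v, mem_L, mem_L, ← forall_and]
    refine forall_congr' fun P => ?_
    rw [val_le_sub_iff h2 hf0, Finsupp.add_apply, hEP]
  -- Riemann–Roch
  obtain ⟨P₀⟩ := hFF.nonempty_place
  set n := genus k K + 2 * genus k F + E.deg.natAbs + 1
  set A : Divisor k F := Finsupp.single P₀ (n : ℤ)
  have hA : A.deg = n := by rw [deg_single, hFF.deg_eq_one P₀]; simp
  have h1 := ell_conorm_eq_add hFF hdeg hy A A (A + E) (hL A)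
  have hc : (conorm K A).deg = 2 * n := by rw [hFF.deg_conorm, hdeg, hA]; norm_num
  have h3 := ell_eq_of_deg_gt hK (D := conorm K A) (by rw [hc]; omega)
  have h4 := ell_eq_of_deg_gt hF (D := A) (by rw [hA]; omega)
  have h5 := ell_eq_of_deg_gt hF (D := A + E) (by rw [deg_add, hA]; omega)
  rw [hA] at h4
  rw [deg_add, hA] at h5
  rw [hc] at h3
  have hgen : (genus k K : ℤ) = 2 * genus k F - 1 - E.deg := by omega
  -- the odd places
  set O : Finset (Place k F) := (div k f).support.filter fun P => ¬ (2 : ℤ) ∣ P.ord f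
  have hO : ∀ P, P ∈ O ↔ ¬ (2 : ℤ) ∣ P.ord f := by
    intro P
    rw [Finset.mem_filter, Finsupp.mem_support_iff, hFF.div_apply]
    exact ⟨fun h => h.2, fun h => ⟨fun h0 => h (h0 ▸ dvd_zero 2), h⟩⟩
  have hdE : 2 * E.deg = -(O.card : ℤ) := by
    have hd := hFF.deg_div f
    unfold Divisor.deg at hd ⊢
    rw [Finsupp.sum_of_support_subset E (Finsupp.support_mapRange (f := fun m : ℤ => m / 2) (hf := by norm_num) (g := div k f)) (fun P n => n * (P.deg : ℤ)) (fun P _ => zero_mul _)]
    rw [Finsupp.sum] at hd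
    rw [Finset.mul_sum]
    have hOc : (O.card : ℤ) = ∑ P ∈ (div k f).support, if ¬ (2 : ℤ) ∣ P.ord f then 1 else 0 := by
      rw [Finset.sum_boole]
    rw [hOc, ← sub_eq_zero, sub_neg_eq_add, ← Finset.sum_add_distrib, ← hd]
    refine Finset.sum_congr rfl fun P _ => ?_
    rw [hEP, hFF.div_apply, hFF.deg_eq_one P]
    split_ifs with h <;> push_cast <;> omega
  -- fixed places
  have hover : ∀ Q : Place k K, ∃ (P : Place k F) (e : ℕ), IsOverWith Q P e := fun Q => by
    obtain ⟨P, e, -, he⟩ := hFF.exists_isOverWith Q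
    exact ⟨P, e, he⟩
  choose π e he using hover
  have hbij : Set.BijOn π {Q : Place k K | placeComap Q σ = Q} O := by
    refine ⟨fun Q hQ => (hO _).2 ((fixed_iff_odd h2 hFF hdeg σ hσ hy hyf (he Q)).1 hQ), ?_, ?_⟩
    · intro Q hQ Q' _ hQQ
      obtain ⟨τ, hτ⟩ := hFF.exists_placeComap_eq ⟨e Q, he Q⟩ (Q' := Q') ⟨e Q', hQQ ▸ he Q'⟩
      have hcard : Fintype.card (K ≃ₐ[F] K) = 2 := by
        rw [Fintype.card_eq_nat_card, IsGalois.card_aut_eq_finrank, hdeg]
      have hτσ : τ = 1 ∨ τ = σ := by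
        by_contra hc
        push Not at hc
        have : ({1, τ, σ} : Finset (K ≃ₐ[F] K)).card = 3 := by
          rw [Finset.card_insert_of_notMem (by simp [Ne.symm hc.1, Ne.symm hσ]), Finset.card_pair hc.2]
        have := Finset.card_le_univ ({1, τ, σ} : Finset (K ≃ₐ[F] K))
        omega
      rcases hτσ with h | h
      · rw [← hτ, h, placeComap_one]
      · rw [← hτ, h]; exact hQ.symm
    · intro P hP
      obtain ⟨Q, e', he'⟩ := hFF.exists_over (K' := K) P
      refine ⟨Q, (fixed_iff_odd h2 hFF hdeg σ hσ hy hyf he').2 ((hO P).1 hP), ?_⟩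
      exact (isOverWith_unique (he Q) he').1
  have hfin : {Q : Place k K | placeComap Q σ = Q}.Finite :=
    hbij.finite_iff_finite.2 O.finite_toSet
  refine ⟨hfin, ?_⟩
  rw [Set.BijOn.ncard_eq hbij, Set.ncard_coe_finset]
  omega

end Groth.Agent.Crv77.Quad
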