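import Groth.Agent.Crv77.Hyper
import Groth.Agent.Crv77.GenEtale
import Groth.Agent.Crv77.QuadInv
import Groth.Agent.Curves2.OpenIso

/-! Hyperelliptic curves over an algebraically closed field and their involution. -/

set_option autoImplicit false
set_option linter.style.haveILetI false
set_option backward.isDefEq.respectTransparency false
set_option maxHeartbeats 1000000
set_option synthInstance.maxHeartbeats 200000
universe u

open CategoryTheory CategoryTheory.Limits AlgebraicGeometry TopologicalSpace IntermediateField FunFld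

namespace Groth.Agent.Crv77

variable {k : Type u} [Field k] {C : Scheme.{u}} [C.Over (Spec (CommRingCat.of k))] [IsIntegral C]

attribute [local instance] CrvPic30.ffAlg

theorem specMap_id_comp {X : Scheme.{u}} {R : CommRingCat.{u}} (f : Spec R ⟶ X) : Spec.map (𝟙 R) ≫ f = f := by
  rw [Spec.map_id, Category.id_comp]

theorem spec_ffAlg : Spec.map (CommRingCat.ofHom (algebraMap k C.functionField)) =
    C.fromSpecStalk (genericPoint C) ≫ (C ↘ Spec (CommRingCat.of k)) := by
  rw [ffAlg_eq]
  exact Curves2.spec_constField ..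

theorem involution_apply {g : C ⟶ C} (h2 : g ≫ g = 𝟙 C) (x : C) : g (g x) = x :=
  congr($h2 x)

theorem genericPoint_of_involution {g : C ⟶ C} (h2 : g ≫ g = 𝟙 C) :
    g (genericPoint C) = genericPoint C := by
  refine Curves2.eq_genericPoint_of_specializes ?_
  have h : genericPoint C ⤳ g (genericPoint C) := genericPoint_specializes _
  have := h.map g.continuous
  rwa [involution_apply h2] at this

theorem ffMap_over {g : C ⟶ C} (hg : g ≫ (C ↘ Spec (CommRingCat.of k)) = C ↘ Spec (CommRingCat.of k))
    (e : g (genericPoint C) = genericPoint C) (r : k) :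
    ffMap g e (algebraMap k C.functionField r) = algebraMap k C.functionField r := by
  have : CommRingCat.ofHom (algebraMap k C.functionField) ≫ CommRingCat.ofHom (ffMap g e) =
      CommRingCat.ofHom (algebraMap k C.functionField) := by
    apply Spec.map_injective
    rw [Spec.map_comp, spec_ffAlg, ← Category.assoc, fromSpecStalk_ffMap, Category.assoc, hg]
  exact congr($this r)

theorem exists_hom_of_algHom (h : CrvPic30.Setup k C) (τ : C.functionField →ₐ[k] C.functionField) :
    ∃ (g : C ⟶ C) (e : g (genericPoint C) = genericPoint C),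
      g ≫ (C ↘ Spec (CommRingCat.of k)) = C ↘ Spec (CommRingCat.of k) ∧ ffMap g e = τ.toRingHom := by
  have := h.proper
  have := h.isNoetherian
  let φ : C.functionField ⟶ C.functionField := CommRingCat.ofHom τ.toRingHom
  have hφ : Spec.map φ ≫ C.fromSpecStalk _ ≫ (C ↘ Spec (CommRingCat.of k)) =
      C.fromSpecStalk _ ≫ (C ↘ Spec (CommRingCat.of k)) := by
    rw [← spec_ffAlg, ← Spec.map_comp]
    exact congrArg Spec.map (CommRingCat.hom_ext (RingHom.ext fun r => τ.commutes r))
  obtain ⟨U, hU, g, h1, h2, h3⟩ := Curves2.exists_spread _ _ φ hφ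
  have : Nonempty U := ⟨⟨_, hU⟩⟩
  obtain ⟨g', hg', hg''⟩ := Curves2.exists_extension_of_valuationRing _ _ h.stalks U g h2
  have e : g' (genericPoint C) = genericPoint C := by
    exact (congr($hg'' ⟨genericPoint C, hU⟩) : g' (genericPoint C) = g ⟨genericPoint C, hU⟩).trans h3
  refine ⟨g', e, hg', ?_⟩
  have : Spec.map (CommRingCat.ofHom (ffMap g' e)) = Spec.map φ := by
    rw [← cancel_mono (C.fromSpecStalk (genericPoint C)), fromSpecStalk_ffMap, h1, ← hg'', ← Category.assoc,
      Scheme.Opens.fromSpecStalkOfMem_ι]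
  exact congrArg CommRingCat.Hom.hom (Spec.map_injective this)

theorem hom_eq_of_ffMap [IsProper (C ↘ Spec (CommRingCat.of k))] {g g' : C ⟶ C}
    (hg : g ≫ (C ↘ Spec (CommRingCat.of k)) = C ↘ Spec (CommRingCat.of k))
    (hg' : g' ≫ (C ↘ Spec (CommRingCat.of k)) = C ↘ Spec (CommRingCat.of k))
    (h : C.fromSpecStalk (genericPoint C) ≫ g = C.fromSpecStalk (genericPoint C) ≫ g') : g = g' := by
  refine Curves2.hom_ext_generic (C ↘ Spec (CommRingCat.of k)) (𝟙 C) g g' (by rw [hg, hg']) fun j hj => ?_
  rw [Category.comp_id] at hj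
  rw [hj, h]

theorem regAt_ffMap {g : C ⟶ C} (e : g (genericPoint C) = genericPoint C) {x : C} {z : C.functionField}
    (hz : Curves2.RegAt (g x) z) : Curves2.RegAt x (ffMap g e z) := by
  obtain ⟨a, rfl⟩ := hz
  obtain ⟨U, hU, s, rfl⟩ := TopCat.Presheaf.exists_germ_eq C.presheaf a
  refine ⟨g.stalkMap x (C.presheaf.germ U (g x) hU s), ?_⟩
  rw [Scheme.Hom.germ_stalkMap_apply, Curves2.algebraMap_germ, Curves2.algebraMap_germ, ffMap,
    CommRingCat.comp_apply, TopCat.Presheaf.germ_stalkSpecializes_apply, Scheme.Hom.germ_stalkMap_apply]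

theorem ffMap_ffMap {g : C ⟶ C} (e : g (genericPoint C) = genericPoint C) (h2 : g ≫ g = 𝟙 C)
    (z : C.functionField) : ffMap g e (ffMap g e z) = z := by
  have : CommRingCat.ofHom (ffMap g e) ≫ CommRingCat.ofHom (ffMap g e) = 𝟙 C.functionField := by
    apply Spec.map_injective
    rw [← cancel_mono (C.fromSpecStalk (genericPoint C)), Spec.map_comp, Category.assoc, fromSpecStalk_ffMap,
      ← Category.assoc, fromSpecStalk_ffMap, Category.assoc, h2, Category.comp_id]
    exact (specMap_id_comp _).symm
  exact congr($this z)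

theorem isClosed_image_involution {g : C ⟶ C} (h2 : g ≫ g = 𝟙 C) {x : C} (hx : IsClosed ({x} : Set C)) :
    IsClosed ({g x} : Set C) := by
  have : ({g x} : Set C) = g ⁻¹' {x} := by
    have hgg : ∀ y, g (g y) = y := involution_apply h2
    ext y
    exact ⟨fun hy => show g y = x from hy ▸ hgg x, fun (hy : g y = x) => show y = g x from hy ▸ (hgg y).symm⟩
  exact this ▸ hx.preimage g.continuous

section Count

variable (h : CrvPic30.Setup k C) {F : Type u} [Field F] [Algebra k F] [Algebra F C.functionField]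
  [IsScalarTower k F C.functionField]

/-- Fixed closed points of an involution are fixed places of the function field map. -/
theorem card_fixed_eq (h : CrvPic30.Setup k C) {g : C ⟶ C} (e : g (genericPoint C) = genericPoint C)
    (h2 : g ≫ g = 𝟙 C) (σ : C.functionField ≃ₐ[F] C.functionField) (hσ : ∀ z, σ z = ffMap g e z) :
    Nat.card {x : C // IsClosed ({x} : Set C) ∧ g x = x} =
      {Q : Place k C.functionField | FF30.placeComap Q σ = Q}.ncard := by
  have key : ∀ x : {x : C // IsClosed ({x} : Set C)},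
      FF30.placeComap (h.place x) σ = h.place ⟨g x.1, isClosed_image_involution h2 x.2⟩ := by
    intro x
    refine FF30.place_ext_O (SetLike.ext fun z => ?_)
    rw [Valuation.mem_valuationSubring_iff, Valuation.mem_valuationSubring_iff]
    rw [FF30.placeComap_apply, hσ, h.place_le_one_iff, h.place_le_one_iff]
    refine ⟨fun hz => ?_, regAt_ffMap e⟩
    have h3 : Curves2.RegAt (g (g x.1)) (ffMap g e z) := by
      rw [involution_apply h2]; exact hz
    simpa [ffMap_ffMap e h2] using regAt_ffMap e h3
  rw [← Nat.card_coe_set_eq]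
  refine Nat.card_congr ((Equiv.subtypeSubtypeEquivSubtypeInter _ _).symm.trans (h.place.subtypeEquiv fun x => ?_))
  rw [Set.mem_setOf_eq, key, h.place.apply_eq_iff_eq, Subtype.ext_iff]

end Count

variable [IsAlgClosed k]

/-- A hyperelliptic curve has an involution with `2g + 2` fixed points. -/
theorem exists_involution_of_double (h : CrvPic30.Setup k C) (h2 : (2 : k) ≠ 0) {z : C.functionField}
    (hz : Module.finrank k⟮z⟯ C.functionField = 2) :
    ∃ g : C ⟶ C, g ≫ (C ↘ Spec (CommRingCat.of k)) = C ↘ Spec (CommRingCat.of k) ∧ g ≫ g = 𝟙 C ∧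
      Nat.card {x : C // IsClosed ({x} : Set C) ∧ g x = x} = 2 * genus k C.functionField + 2 := by
  have := h.proper
  have hF := h.ffield
  have htr := DL.transcendental h.ff hz
  let F := k⟮z⟯
  obtain ⟨hFF, hfd⟩ := hF.intermediateField F (mem_adjoin_simple_self k z) htr
  have : FiniteDimensional F C.functionField := hfd
  have hFfun : IsFunctionField k F := ⟨hFF, fun a ha => by
    obtain ⟨c, hc⟩ := h.ff.2 (a : C.functionField) (ha.algHom F.val)
    exact ⟨c, Subtype.ext hc⟩⟩
  have hgen : genus k F = 0 := ((FF30.genus_zero_and_exists_deg_one_iff' hFfun).2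
    ⟨⟨z, mem_adjoin_simple_self k z⟩, IntermediateField.map_injective F.val (by
      rw [← AlgHom.fieldRange_eq_map, IntermediateField.adjoin_map, Set.image_singleton, F.fieldRange_val]; rfl)⟩).1
  have h2F : (2 : F) ≠ 0 := by rw [← map_ofNat (algebraMap k F) 2]; exact (map_ne_zero _).2 h2
  have : Algebra.IsQuadraticExtension F C.functionField := ⟨hz⟩
  have : Algebra.IsSeparable F C.functionField := by
    obtain ⟨y, f, hy, hyf⟩ := Quad.exists_sqrt (k := k) h2 hz
    exact Quad.isSeparable_of_sqrt h2F hz hy hyf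
  obtain ⟨σ, hσ⟩ : ∃ σ : C.functionField ≃ₐ[F] C.functionField, σ ≠ 1 := by
    have := IsGalois.card_aut_eq_finrank F C.functionField
    rw [hz] at this
    have := (Nat.card_eq_two_iff' 1).1 this
    exact ⟨this.choose, this.choose_spec.1⟩
  have hσσ : σ * σ = 1 := by
    have hc := IsGalois.card_aut_eq_finrank F C.functionField
    rw [hz] at hc
    rw [← pow_two, ← hc]
    exact pow_card_eq_one'
  obtain ⟨g, e, hg, hgσ⟩ := exists_hom_of_algHom h (σ.restrictScalars k).toAlgHom
  have hgσ' : ∀ w, σ w = ffMap g e w := fun w => (RingHom.congr_fun hgσ w).symm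
  have hgg : g ≫ g = 𝟙 C := by
    refine hom_eq_of_ffMap (k := k) (by rw [Category.assoc, hg, hg]) (Category.id_comp _) ?_
    rw [← Category.assoc, ← fromSpecStalk_ffMap g e, Category.assoc, ← fromSpecStalk_ffMap g e, ← Category.assoc,
      ← Spec.map_comp, Category.comp_id]
    have : CommRingCat.ofHom (ffMap g e) ≫ CommRingCat.ofHom (ffMap g e) = 𝟙 C.functionField := by
      refine CommRingCat.hom_ext (RingHom.ext fun w => ?_)
      show ffMap g e (ffMap g e w) = w
      rw [← hgσ', ← hgσ']
      exact AlgEquiv.congr_fun hσσ w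
    rw [this]
    exact specMap_id_comp _
  refine ⟨g, hg, hgg, ?_⟩
  rw [card_fixed_eq h e hgg σ hgσ']
  obtain ⟨-, hn⟩ := Quad.ncard_fixed h2 hFfun h.ff hz σ hσ
  rw [hgen] at hn
  omega

/-- An involution with `2g + 2` fixed points gives a function of degree two. -/
theorem exists_double_of_involution (h : CrvPic30.Setup k C) (h2 : (2 : k) ≠ 0) {g : C ⟶ C}
    (hg : g ≫ (C ↘ Spec (CommRingCat.of k)) = C ↘ Spec (CommRingCat.of k)) (hgg : g ≫ g = 𝟙 C)
    (hcard : Nat.card {x : C // IsClosed ({x} : Set C) ∧ g x = x} = 2 * genus k C.functionField + 2) :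
    ∃ z : C.functionField, Module.finrank k⟮z⟯ C.functionField = 2 := by
  classical
  have := h.proper
  have hF := h.ffield
  have e := genericPoint_of_involution hgg
  let τh : C.functionField →ₐ[k] C.functionField :=
    { ffMap g e with commutes' := ffMap_over hg e }
  let τ : C.functionField ≃ₐ[k] C.functionField :=
    AlgEquiv.ofAlgHom τh τh (AlgHom.ext (ffMap_ffMap e hgg)) (AlgHom.ext (ffMap_ffMap e hgg))
  have hτ2 : τ ^ 2 = 1 := AlgEquiv.ext fun w => by rw [pow_two]; exact ffMap_ffMap e hgg w
  have hτ1 : τ ≠ 1 := by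
    intro h1
    have hg1 : g = 𝟙 C := by
      refine hom_eq_of_ffMap (k := k) hg (Category.id_comp _) ?_
      have : CommRingCat.ofHom (ffMap g e) = 𝟙 C.functionField :=
        CommRingCat.hom_ext (RingHom.ext fun w => AlgEquiv.congr_fun h1 w)
      rw [← fromSpecStalk_ffMap g e, this, Category.comp_id]
      exact specMap_id_comp _
    have hinf : Infinite {x : C // IsClosed ({x} : Set C) ∧ g x = x} := by
      have := hF.infinite_places
      refine Infinite.of_injective (fun Q => ⟨(h.place.symm Q).1, (h.place.symm Q).2, by rw [hg1]; rfl⟩)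
        fun P Q hPQ => h.place.symm.injective (Subtype.ext (congrArg (fun x => x.1) hPQ))
    rw [Nat.card_eq_zero_of_infinite] at hcard
    omega
  let G := Subgroup.zpowers τ
  have hord : orderOf τ = 2 := orderOf_eq_prime hτ2 hτ1
  have hGc : Nat.card G = 2 := by rw [Nat.card_zpowers, hord]
  have : Finite G := Nat.finite_of_card_ne_zero (by omega)
  have := Fintype.ofFinite G
  let F : IntermediateField k C.functionField := IntermediateField.fixedField G
  have hfix : ∀ w, w ∈ F ↔ τ w = w := by
    intro w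
    rw [IntermediateField.mem_fixedField_iff]
    refine ⟨fun hw => hw τ (Subgroup.mem_zpowers τ), fun hw f hf => ?_⟩
    obtain ⟨n, rfl⟩ := Subgroup.mem_zpowers_iff.1 hf
    exact (MulAction.mem_stabilizer_iff.1 (Subgroup.zpow_mem _ ((MulAction.mem_stabilizer_iff (a := w)).2 (show τ • w = w from hw)) n))
  obtain ⟨x₀, hx₀, -⟩ := id h.ff.1
  obtain ⟨t, htF, ht⟩ : ∃ t ∈ F, Transcendental k t := by
    by_cases ha : Transcendental k (x₀ + τ x₀)
    · exact ⟨_, (hfix _).2 (by rw [map_add, show τ (τ x₀) = x₀ from ffMap_ffMap e hgg x₀, add_comm]), ha⟩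
    refine ⟨x₀ * τ x₀, (hfix _).2 (by rw [map_mul, show τ (τ x₀) = x₀ from ffMap_ffMap e hgg x₀, mul_comm]),
      fun hb => hx₀ ?_⟩
    obtain ⟨a, hac⟩ := h.ff.2 _ (not_not.1 ha)
    obtain ⟨b, hbc⟩ := h.ff.2 _ hb
    refine ⟨Polynomial.X ^ 2 - Polynomial.C a * Polynomial.X + Polynomial.C b, ?_, ?_⟩
    · intro h0
      simpa [Polynomial.coeff_X_pow, Polynomial.coeff_C] using congrArg (fun p : Polynomial k => p.coeff 2) h0
    · simp only [map_add, map_sub, map_mul, map_pow, Polynomial.aeval_X, Polynomial.aeval_C, hac, hbc]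
      ring
  obtain ⟨hFF, hfd⟩ := hF.intermediateField F htF ht
  have : FiniteDimensional F C.functionField := hfd
  have hdeg : Module.finrank F C.functionField = 2 := by
    rw [← hGc, Nat.card_eq_fintype_card]
    exact FixedPoints.finrank_eq_card G C.functionField
  have : IsGalois F C.functionField := IsGalois.of_fixed_field C.functionField G
  let σ : C.functionField ≃ₐ[F] C.functionField :=
    { τ.toRingEquiv with commutes' := fun w => (hfix _).1 w.2 }
  have hσ : σ ≠ 1 := fun h1 => hτ1 (AlgEquiv.ext fun w => AlgEquiv.congr_fun h1 w)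
  have hFfun : IsFunctionField k F := ⟨hFF, fun a ha => by
    obtain ⟨c, hc⟩ := h.ff.2 (a : C.functionField) (ha.algHom F.val)
    exact ⟨c, Subtype.ext hc⟩⟩
  rw [card_fixed_eq h e hgg σ (fun _ => rfl)] at hcard
  obtain ⟨-, hn⟩ := Quad.ncard_fixed h2 hFfun h.ff hdeg σ hσ
  rw [hcard] at hn
  have hgF : genus k F = 0 := by omega
  have hFF' : FF30.FF k F := hFF
  obtain ⟨P⟩ := hFF'.nonempty_place
  obtain ⟨z, hz⟩ := (FF30.genus_zero_and_exists_deg_one_iff' hFfun).1 ⟨hgF, P, hFF'.deg_eq_one P⟩
  refine ⟨z, ?_⟩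
  have : k⟮(z : C.functionField)⟯ = F := by
    have := congrArg (IntermediateField.map F.val) hz
    rwa [← AlgHom.fieldRange_eq_map, IntermediateField.adjoin_map, Set.image_singleton, F.fieldRange_val] at this
  rw [this, hdeg]

end Groth.Agent.Crv77
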