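import Groth.Agent.Crv77.InsepPower
import Groth.Agent.Crv77.Involution
import Groth.Agent.Crv77.GeomConn

/-! The genus is monotone along finite morphisms of curves. -/

set_option autoImplicit false
set_option linter.style.haveILetI false
set_option backward.isDefEq.respectTransparency false
set_option maxHeartbeats 1000000
universe u

open CategoryTheory CategoryTheory.Limits AlgebraicGeometry FunFld

namespace Groth.Agent.Crv77

variable {k : Type u} [Field k] {X Y : Scheme.{u}} [X.Over (Spec (CommRingCat.of k))]
  [Y.Over (Spec (CommRingCat.of k))] [IsIntegral X] [IsIntegral Y]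

attribute [local instance] CrvPic30.ffAlg

/-- A finite morphism between curves is dominant. -/
theorem generic_of_isFinite (hX : CrvPic30.Setup k X) (hY : CrvPic30.Setup k Y) (f : X ⟶ Y) [IsFinite f] :
    f (genericPoint X) = genericPoint Y :=
  (hY.isClosed_or_generic _).resolve_left
    (not_isClosed_image_genericPoint f (by rw [hX.dim]; exact not_le.2 zero_lt_one))

theorem ffMap_algebraMap (f : X ⟶ Y) (hf : f ≫ (Y ↘ Spec (CommRingCat.of k)) = X ↘ Spec (CommRingCat.of k))
    (e : f (genericPoint X) = genericPoint Y) (r : k) :
    ffMap f e (algebraMap k Y.functionField r) = algebraMap k X.functionField r := by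
  have : CommRingCat.ofHom (algebraMap k Y.functionField) ≫ CommRingCat.ofHom (ffMap f e) =
      CommRingCat.ofHom (algebraMap k X.functionField) := by
    apply Spec.map_injective
    rw [Spec.map_comp, spec_ffAlg, spec_ffAlg, ← Category.assoc, fromSpecStalk_ffMap, Category.assoc, hf]
  exact congr($this r)

theorem finite_ffMap (hX : CrvPic30.Setup k X) (hY : CrvPic30.Setup k Y) (f : X ⟶ Y)
    (hf : f ≫ (Y ↘ Spec (CommRingCat.of k)) = X ↘ Spec (CommRingCat.of k))
    (e : f (genericPoint X) = genericPoint Y) :
    letI := (ffMap f e).toAlgebra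
    Module.Finite Y.functionField X.functionField := by
  let _ := (ffMap f e).toAlgebra
  let φ : Y.functionField →ₐ[k] X.functionField := { ffMap f e with commutes' := ffMap_algebraMap f hf e }
  obtain ⟨t, ht, -⟩ := id hY.ff.1
  have := (hX.ffield.intermediateField φ.fieldRange (x := φ t) ⟨t, rfl⟩
    (fun h => ht ((isAlgebraic_algHom_iff φ φ.toRingHom.injective).1 h))).2
  let e₁ : φ.fieldRange ≃+* Y.functionField := (AlgEquiv.ofInjectiveField φ).symm.toRingEquiv
  exact Module.Finite.of_equiv_equiv e₁ (RingEquiv.refl _) (RingHom.ext fun a => congrArg Subtype.val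
    ((AlgEquiv.ofInjectiveField φ).apply_symm_apply a))

/-- Over a perfect field the genus is monotone along finite morphisms. -/
theorem genus_le_of_isFinite [PerfectField k] (hX : CrvPic30.Setup k X) (hY : CrvPic30.Setup k Y)
    (f : X ⟶ Y) [IsFinite f] (hf : f ≫ (Y ↘ Spec (CommRingCat.of k)) = X ↘ Spec (CommRingCat.of k)) :
    Curv2.genus k Y ≤ Curv2.genus k X := by
  have e := generic_of_isFinite hX hY f
  let _ := (ffMap f e).toAlgebra
  have := finite_ffMap hX hY f hf e
  have : IsScalarTower k Y.functionField X.functionField :=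
    IsScalarTower.of_algebraMap_eq fun r => (ffMap_algebraMap f hf e r).symm
  rw [hX.genus_eq, hY.genus_eq]
  exact Insep.genus_le hX.ff (FF30.isGeometric_of_closed hX.ff.2) hY.ff

end Groth.Agent.Crv77
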