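import Groth.Agent.Crv77.Hyper
import Groth.Agent.Crv77.GenEtale

/-! Curves of genus two are double covers of the line. -/

set_option autoImplicit false
set_option linter.style.haveILetI false
universe u

open CategoryTheory CategoryTheory.Limits AlgebraicGeometry

namespace Groth.Agent.Crv77

theorem exists_double_cover_of_genus_two (k : Type u) [Field k] {C : Scheme.{u}} [C.Over (Spec (CommRingCat.of k))] [IsIntegral C]
    [Smooth (C ↘ Spec (CommRingCat.of k))] (h : CrvPic30.Setup k C) (hg : Curv2.genus k C = 2) :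
    ∃ f : C ⟶ CohB1.ProjSpace 1 k, f ≫ CohB1.ProjSpace.toSpec 1 k = C ↘ Spec (CommRingCat.of k) ∧ IsFinite f ∧ Flat f ∧
      (∀ y : ↥(CohB1.ProjSpace 1 k), Scheme.Hom.finrank f y = 2) ∧
      ∃ V : C.Opens, (V : Set C).Nonempty ∧ Etale (V.ι ≫ f) := by
  let := CrvPic30.ffAlg k C
  rw [h.genus_eq] at hg
  obtain ⟨W, hW⟩ := FF30.exists_isCanonical h.ff
  have hd := FF30.deg_canonical h.ff hW
  have hl := FF30.ell_canonical h.ff hW
  rw [hg] at hd hl
  obtain ⟨z, hz⟩ := Crv77.exists_double_of_ell h.ff (by omega) (D := W) (by rw [hd]; rfl) hl.ge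
  have := Curves2.ProjLine.isIntegral k 1
  have := Curves2.ProjLine.isLocallyNoetherian k 1
  obtain ⟨f, hf, hfin, hfl, -, hrk, hsep⟩ := Crv77.exists_cover_of_double h (by omega) hz
  have e := Crv77.finite_hom_generic h.dim f
  exact ⟨f, hf, hfin, hfl, hrk, Crv77.exists_etale_open f e ((Crv77.ffMap_spec f e).2.1 hsep)⟩

end Groth.Agent.Crv77
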