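import Groth.Agent.Crv77.P1Iso
import Groth.Agent.Crv77.MaxSeries

/-! A proper integral curve with an invertible module of degree one having two independent sections
is the projective line. -/

set_option autoImplicit false
set_option linter.style.haveILetI false
universe u

open CategoryTheory CategoryTheory.Limits AlgebraicGeometry TopologicalSpace Opposite IsLocalRing

namespace Groth.Agent.Crv77

open Curves2 (RegAt)
open Groth.Agent.Var76.LineBundle Groth.Agent.Var76.ZeroScheme

variable {X : Scheme.{u}} {L : X.Modules} (k : Type u) [Field k] [X.Over (Spec (CommRingCat.of k))]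

theorem smul_res_top {M : X.Modules} {W : X.Opens} (r : k) (y : Coh.HH X M 0) :
    ∃ ρ : Γ(X, W), (∀ (x : X) (hx : x ∈ W), X.presheaf.germ W x hx ρ = Curv2.stalkMap k X x r) ∧
      res M (le_top : W ≤ ⊤) (sec M (r • y)) = ρ • res M (le_top : W ≤ ⊤) (sec M y) := by
  refine ⟨fres (le_top : W ≤ ⊤) (show Γ(X, ⊤) from Coh.toGlobal (X ↘ Spec (CommRingCat.of k)) r),
    fun x hx => TopCat.Presheaf.germ_res_apply X.presheaf (homOfLE (le_top : W ≤ ⊤)) x hx _, ?_⟩
  rw [sec_smul k M r y, res_smul]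

/-- A germ of a section of `L` killed by `π` is a multiple of the section. -/
theorem exists_mul_of_app_eq_zero (s : Coh.structureModule X ⟶ L) [Mono s] {U : X.Opens} {e : Γ(L, U)}
    (he : IsFrame L U e) {c : Γ(X, U)} (hc : c • e = val L s U) {V : X.Opens} (hV : V ≤ U) (a : Γ(X, V))
    (h : (cokernel.π s).app V (a • res L hV e) = 0) : ∃ b : Γ(X, V), a = b * fres hV c := by
  obtain ⟨b₀, hb⟩ := QC70.exists_app_eq_of_exact (ShortComplex.mk s (cokernel.π s) (cokernel.condition s))
    (ShortComplex.exact_of_g_is_cokernel _ (cokernelIsCokernel s)) V _ h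
  let b : Γ(X, V) := b₀
  refine ⟨b, ((he V hV).1 ?_).symm⟩
  show (b * fres hV c) • res L hV e = a • res L hV e
  refine Eq.trans ?_ hb
  refine Eq.trans ?_ (Amp73.app_eq_smul_val s V b).symm
  rw [mul_smul, ← res_val L s hV, ← hc, res_smul]

variable {k}

/-- If the cokernel of a section has one dimensional space of sections, the section vanishes simply at
exactly one rational point. -/
theorem point_of_h0_cokernel (s : Coh.structureModule X ⟶ L) [Mono s] {S : Set X} (hS : S.Finite)
    (hcl : ∀ x ∈ S, IsClosed ({x} : Set X)) (hQ : SuppIn (cokernel s) S)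
    (h1 : Module.finrank k (Coh.HH X (cokernel s) 0) = 1)
    {x : X} (hx : IsClosed ({x} : Set X)) {U : X.Opens} (hxU : x ∈ U) {e : Γ(L, U)} (he : IsFrame L U e)
    {c : Γ(X, U)} (hc : c • e = val L s U) (hcx : ¬ IsUnit (X.presheaf.germ U x hxU c)) :
    (∀ a : X.presheaf.stalk x, ∃ r : k,
      a - Curv2.stalkMap k X x r ∈ Ideal.span {X.presheaf.germ U x hxU c}) ∧
    ∀ {y : X}, IsClosed ({y} : Set X) → ∀ {U' : X.Opens} (hyU : y ∈ U') {e' : Γ(L, U')},
      IsFrame L U' e' → ∀ {c' : Γ(X, U')}, c' • e' = val L s U' →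
        ¬ IsUnit (X.presheaf.germ U' y hyU c') → y = x := by
  let Q := cokernel s
  -- the class of the frame, concentrated at one point
  have key : ∀ {y : X}, IsClosed ({y} : Set X) → ∀ {U' : X.Opens} (hyU : y ∈ U') {e' : Γ(L, U')},
      IsFrame L U' e' → ∀ {c' : Γ(X, U')}, c' • e' = val L s U' →
      ∀ (W : X.Opens) (hW : W ≤ U') (a : Γ(X, W)), y ∈ W →
      ∃ (p : Coh.HH X Q 0) (V : X.Opens) (hV : V ≤ W), y ∈ V ∧
        res Q (le_top : V ≤ ⊤) (sec Q p) = (cokernel.π s).app V (fres hV a • res L (hV.trans hW) e') ∧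
        ∀ W' : X.Opens, y ∉ W' → res Q (le_top : W' ≤ ⊤) (sec Q p) = 0 := by
    intro y hy U' hyU e' he' c' hc' W hW a hyW
    let W₀ := complOpen (hS.subset (Set.sdiff_subset (s := S) (t := {y}))) fun z hz => hcl z hz.1
    let V := W ⊓ W₀
    have hyV : y ∈ V := ⟨hyW, fun h => h.2 rfl⟩
    obtain ⟨p, hp, hp0⟩ := hQ.exists_point_part hy hyV
      (fun z hz hzS => by_contra fun hne => hz.2 ⟨hzS, hne⟩)
      ((cokernel.π s).app V (fres (inf_le_left : V ≤ W) a • res L ((inf_le_left : V ≤ W).trans hW) e'))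
    exact ⟨(sec Q).symm p, V, inf_le_left, hyV, by rw [AddEquiv.apply_symm_apply]; exact hp,
      fun W' h => by rw [AddEquiv.apply_symm_apply]; exact hp0 W' h⟩
  -- the class of the frame is nonzero
  have hne : ∀ {y : X} {U' : X.Opens} (hyU : y ∈ U') {e' : Γ(L, U')}, IsFrame L U' e' →
      ∀ {c' : Γ(X, U')}, c' • e' = val L s U' → ¬ IsUnit (X.presheaf.germ U' y hyU c') →
      ∀ (V : X.Opens) (hV : V ≤ U'), y ∈ V → ∀ a : Γ(X, V), (cokernel.π s).app V (a • res L hV e') = 0 →
      a ≠ 1 := by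
    intro y U' hyU e' he' c' hc' hcy V hV hyV a ha h1a
    obtain ⟨b, hb⟩ := exists_mul_of_app_eq_zero s he' hc' hV a ha
    refine hcy ?_
    have h2 := congrArg (X.presheaf.germ V y hyV) (h1a.symm.trans hb)
    rw [map_one, map_mul,
      show X.presheaf.germ V y hyV (fres hV c') = X.presheaf.germ U' y hyU c' from
        TopCat.Presheaf.germ_res_apply X.presheaf (homOfLE hV) y hyV c'] at h2
    exact IsUnit.of_mul_eq_one_right _ h2.symm
  obtain ⟨p, V, hV, hxV, hpV, hp0⟩ := key hx hxU he hc U le_rfl 1 hxU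
  have hpne : p ≠ 0 := by
    intro h
    refine hne hxU he hc hcx V hV hxV _ ?_ (show fres hV (1 : Γ(X, U)) = 1 from map_one _)
    rw [← hpV, h, map_zero]
    exact map_zero _
  have hspan := (finrank_eq_one_iff_of_nonzero' p hpne).1 h1
  refine ⟨fun a => ?_, fun {y} hy {U'} hyU {e'} he' {c'} hc' hcy => ?_⟩
  · obtain ⟨W₁, hxW₁, a₁, rfl⟩ := TopCat.Presheaf.exists_germ_eq X.presheaf a
    obtain ⟨pa, Va, hVa, hxVa, hpa, -⟩ := key hx hxU he hc (W₁ ⊓ U) inf_le_right
      (fres (inf_le_left : W₁ ⊓ U ≤ W₁) a₁) ⟨hxW₁, hxU⟩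
    obtain ⟨r, hr⟩ := hspan pa
    let W := V ⊓ Va
    have hWU : W ≤ U := (inf_le_left : W ≤ V).trans hV
    obtain ⟨ρ, hρ, hρe⟩ := smul_res_top k (W := W) r p
    let a' : Γ(X, W) := fres (inf_le_right : W ≤ Va) (fres hVa (fres (inf_le_left : W₁ ⊓ U ≤ W₁) a₁))
    have h2 : (cokernel.π s).app W ((a' - ρ) • res L hWU e) = 0 := by
      have e1 : res Q (le_top : W ≤ ⊤) (sec Q pa) = (cokernel.π s).app W (a' • res L hWU e) := by
        rw [← res_res Q (le_top : Va ≤ ⊤) (inf_le_right : W ≤ Va), hpa]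
        refine (QC70.app_res (cokernel.π s) (inf_le_right : W ≤ Va) _).symm.trans (congrArg _ ?_)
        refine (res_smul L _ _ _).trans ?_
        rw [res_res]
      have e2 : res Q (le_top : W ≤ ⊤) (sec Q p) = (cokernel.π s).app W (res L hWU e) := by
        rw [← res_res Q (le_top : V ≤ ⊤) (inf_le_left : W ≤ V), hpV]
        refine (QC70.app_res (cokernel.π s) (inf_le_left : W ≤ V) _).symm.trans (congrArg _ ?_)
        refine (res_smul L _ _ _).trans ?_
        rw [res_res]
        exact (congrArg (· • _) ((congrArg _ (map_one _)).trans (map_one _))).trans (one_smul _ _)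
      rw [sub_smul, map_sub, ← e1, Scheme.Modules.Hom.app_smul, ← e2, ← hρe, hr, sub_self]
    obtain ⟨b, hb⟩ := exists_mul_of_app_eq_zero s he hc hWU _ h2
    refine ⟨r, Ideal.mem_span_singleton'.2 ⟨X.presheaf.germ W x ⟨hxV, hxVa⟩ b, ?_⟩⟩
    have h3 := congrArg (X.presheaf.germ W x ⟨hxV, hxVa⟩) hb
    rw [map_sub, map_mul, hρ x ⟨hxV, hxVa⟩] at h3
    have g1 : X.presheaf.germ W x ⟨hxV, hxVa⟩ a' = X.presheaf.germ W₁ x hxW₁ a₁ :=
      (TopCat.Presheaf.germ_res_apply X.presheaf (homOfLE (inf_le_right : W ≤ Va)) x ⟨hxV, hxVa⟩ _).trans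
        ((TopCat.Presheaf.germ_res_apply X.presheaf (homOfLE hVa) x hxVa _).trans
          (TopCat.Presheaf.germ_res_apply X.presheaf (homOfLE (inf_le_left : W₁ ⊓ U ≤ W₁)) x (hVa hxVa) a₁))
    have g2 : X.presheaf.germ W x ⟨hxV, hxVa⟩ (fres hWU c) = X.presheaf.germ U x hxU c :=
      TopCat.Presheaf.germ_res_apply X.presheaf (homOfLE hWU) x ⟨hxV, hxVa⟩ c
    rw [g1, g2] at h3
    exact h3.symm
  · by_contra hyx
    obtain ⟨q, V', hV', hyV', hqV, -⟩ := key hy hyU he' hc' U' le_rfl 1 hyU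
    obtain ⟨r, hr⟩ := hspan q
    let W : X.Opens := V' ⊓ ⟨{x}ᶜ, hx.isOpen_compl⟩
    have hyW : y ∈ W := ⟨hyV', hyx⟩
    obtain ⟨ρ, -, hρe⟩ := smul_res_top k (W := W) r p
    refine hne hyU he' hc' hcy W ((inf_le_left : W ≤ V').trans hV') hyW _ ?_
      ((congrArg (fres (inf_le_left : W ≤ V')) (show fres hV' (1 : Γ(X, U')) = 1 from map_one _)).trans
        (map_one (X.presheaf.map (homOfLE (inf_le_left : W ≤ V')).op).hom))
    have e1 : res Q (le_top : W ≤ ⊤) (sec Q q) = (cokernel.π s).app W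
        (fres (inf_le_left : W ≤ V') (fres hV' (1 : Γ(X, U'))) •
          res L ((inf_le_left : W ≤ V').trans hV') e') := by
      rw [← res_res Q (le_top : V' ≤ ⊤) (inf_le_left : W ≤ V'), hqV]
      refine (QC70.app_res (cokernel.π s) (inf_le_left : W ≤ V') _).symm.trans (congrArg _ ?_)
      refine (res_smul L _ _ _).trans ?_
      rw [res_res]
    rw [← e1, ← hr, hρe, hp0 W (fun h => h.2 rfl), smul_zero]

/-- A curve with a degree one invertible module with two independent sections is the line. -/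
theorem exists_iso_projLine_of_deg_one [IsIntegral X] [IsProper (X ↘ Spec (CommRingCat.of k))]
    (hdim : topologicalKrullDim X = 1) (hL : PicF.IsInvertible L) (hdeg : Curv2.deg k X L 1 = 1)
    (h2 : 2 ≤ Module.finrank k (Coh.HH X L 0)) :
    ∃ e : X ≅ CohB1.ProjSpace 1 k, e.hom ≫ CohB1.ProjSpace.toSpec 1 k = X ↘ Spec (CommRingCat.of k) := by
  have := isNoetherian_of_proper k X
  have hX := curveCoh_of_proper k X hdim.le
  have hLc := isCoh_of_isInvertible hL
  have := hX.finite _ hLc 0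
  obtain ⟨v₀, hv₀⟩ : ∃ v : Coh.HH X L 0, v ≠ 0 :=
    have : Nontrivial (Coh.HH X L 0) := Module.nontrivial_of_finrank_pos (R := k) (by omega)
    exists_ne 0
  let s := toHom v₀
  have hs1 : s.app ⊤ (1 : Γ(X, ⊤)) ≠ 0 := by
    rw [toHom_app_one]
    exact fun h => hv₀ ((sec L).injective (h.trans (map_zero _).symm))
  obtain ⟨hm, hgen⟩ := section_of_invertible hL s hs1
  have hQc := isCoh_cokernel s isCoh_structureModule hLc
  obtain ⟨S, hS, hcl, hsupp⟩ := exists_suppIn hdim.le hQc (QC70.subsingleton_stalk_cokernel s _ hgen)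
  let T := ShortComplex.mk s (cokernel.π s) (cokernel.condition _)
  have hT : T.ShortExact :=
    { exact := ShortComplex.exact_of_g_is_cokernel _ (cokernelIsCokernel _)
      mono_f := hm
      epi_g := inferInstanceAs (Epi (cokernel.π _)) }
  have hQ1 : Module.finrank k (Coh.HH X (cokernel s) 0) = 1 := by
    have e := hX.euler_add hT isCoh_structureModule hLc
    rw [show Curv2.euler k X T.X₃ = _ from hX.euler_eq_of_suppIn hQc hsupp hS hcl] at e
    simp only [Curv2.deg, Nat.cast_one, one_mul] at hdeg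
    change Curv2.euler k X L = Curv2.euler k X (Coh.structureModule X) +
      (Module.finrank k (Coh.HH X (cokernel s) 0) : ℤ) at e
    omega
  -- coordinates
  choose U hxU e he using fun x : X => Mero90.exists_frame' hL x
  have hco : ∀ (x : X) (v : Coh.HH X L 0), ∃ a : Γ(X, U x), a • e x = res L le_top (sec L v) := fun x v => by
    obtain ⟨a, ha⟩ := (he x (U x) le_rfl).2 (res L le_top (sec L v))
    exact ⟨a, (congrArg (a • ·) (Amp73.res_self L (e x))).symm.trans ha⟩
  choose co hco using hco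
  have hval : ∀ x, co x v₀ • e x = val L s (U x) := by
    intro x
    rw [hco, ← toHom_app_one, ← res_val L s (le_top : U x ≤ ⊤)]
    rfl
  let η := genericPoint X
  have hηU : ∀ x, η ∈ U x := fun x => (genericPoint_specializes x).mem_open (U x).2 (hxU x)
  let g : ∀ (_ : X) (_ : Coh.HH X L 0), X.functionField := fun x v => X.presheaf.germ (U x) η (hηU x) (co x v)
  have hcompat : ∀ x y v w, g x v * g y w = g x w * g y v := by
    intro x y v w
    let W := U x ⊓ U y
    have hW : η ∈ W := ⟨hηU x, hηU y⟩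
    obtain ⟨t, ht⟩ := (he x W inf_le_left).2 (res L (inf_le_right : W ≤ U y) (e y))
    have ht' : t • res L (inf_le_left : W ≤ U x) (e x) = res L (inf_le_right : W ≤ U y) (e y) := ht
    have h : ∀ v, fres (inf_le_left : W ≤ U x) (co x v) = fres (inf_le_right : W ≤ U y) (co y v) * t := by
      intro v
      refine (he x W inf_le_left).1 ?_
      show _ • res L (inf_le_left : W ≤ U x) (e x) = _ • res L (inf_le_left : W ≤ U x) (e x)
      rw [← res_smul, hco, mul_smul, ht', ← res_smul, hco, res_res, res_res]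
    have hg : ∀ v, g x v = g y v * X.presheaf.germ W η hW t := fun v => by
      have := congrArg (X.presheaf.germ W η hW) (h v)
      rw [map_mul] at this
      simp only [fres] at this
      rwa [TopCat.Presheaf.germ_res_apply, TopCat.Presheaf.germ_res_apply] at this
    rw [hg v, hg w]
    ring
  have hgne : ∀ x v, v ≠ 0 → g x v ≠ 0 := by
    intro x v hv h
    have : Nonempty (U x) := ⟨⟨x, hxU x⟩⟩
    have h0 : co x v = 0 := germ_injective_of_isIntegral X η (hηU x) (h.trans (map_zero _).symm)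
    refine hv ((sec L).injective ?_)
    rw [map_zero]
    refine eq_zero_of_res_eq_zero hL (le_top (a := U x)) ⟨x, hxU x⟩ _ ?_
    exact (hco x v).symm.trans (by rw [h0, zero_smul])
  -- the rational point
  obtain ⟨x₀, hx₀, hcx₀⟩ : ∃ x : X, IsClosed ({x} : Set X) ∧
      ¬ IsUnit (X.presheaf.germ (U x) x (hxU x) (co x v₀)) := by
    by_contra hcon
    push Not at hcon
    have hall : ∀ x : X, x ∈ CohB1.genLocus L s := by
      intro x
      rcases eq_or_ne x η with rfl | hxη
      · have h1 : η ∈ X.basicOpen (co η v₀) :=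
          (X.mem_basicOpen _ _ (hxU η)).2 (isUnit_iff_ne_zero.2 (hgne η v₀ hv₀))
        rw [← Amp73.genLocus_inf_eq_basicOpen s (he η) (hval η)] at h1
        exact h1.1
      · have h1 : x ∈ X.basicOpen (co x v₀) :=
          (X.mem_basicOpen _ _ (hxU x)).2 (hcon x (isClosed_singleton hdim.le hxη))
        rw [← Amp73.genLocus_inf_eq_basicOpen s (he x) (hval x)] at h1
        exact h1.1
    have : Subsingleton (Coh.HH X (cokernel s) 0) := by
      refine (sec (cokernel s)).toEquiv.subsingleton_congr.2 (subsingleton_of_forall_eq 0 fun q => ?_)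
      refine QC70.section_ext _ q 0 fun p _ => ?_
      obtain ⟨V, hV, t, hpV, ht⟩ := QC70.exists_local_lift (cokernel.π s) q (show p ∈ (⊤ : X.Opens) from trivial)
      obtain ⟨a, ha⟩ := ((Amp73.isFrame_iff_le_genLocus s V).2 (fun x _ => hall x) V le_rfl).2 t
      rw [Amp73.res_self] at ha
      refine ⟨V, hV, hpV, ?_⟩
      rw [← ht, ← ha]
      refine Eq.trans (congrArg ((cokernel.π s).app V) (Amp73.app_eq_smul_val s V a).symm) ?_
      refine Eq.trans ?_ (map_zero _).symm
      exact QC70.app_f_g T V _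
    rw [Module.finrank_zero_of_subsingleton] at hQ1
    exact zero_ne_one hQ1
  obtain ⟨hres, huniq⟩ := point_of_h0_cokernel s hS hcl hsupp hQ1 hx₀ (hxU x₀) (he x₀) (hval x₀) hcx₀
  let a₀ := X.presheaf.germ (U x₀) x₀ (hxU x₀) (co x₀ v₀)
  have hm₀ : maximalIdeal (X.presheaf.stalk x₀) = Ideal.span {a₀} := by
    refine le_antisymm (fun a ha => ?_) (Ideal.span_le.2 (Set.singleton_subset_iff.2 hcx₀))
    obtain ⟨r, hr⟩ := hres a
    rcases eq_or_ne r 0 with rfl | hr0
    · simpa using hr
    · exfalso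
      have h1 : Curv2.stalkMap k X x₀ r ∈ maximalIdeal (X.presheaf.stalk x₀) := by
        have := (Ideal.span_le.2 (Set.singleton_subset_iff.2 hcx₀) :
          Ideal.span {a₀} ≤ maximalIdeal (X.presheaf.stalk x₀)) hr
        simpa using sub_mem ha this
      exact (IsLocalRing.mem_maximalIdeal _).1 h1 ((IsUnit.mk0 r hr0).map _)
  -- the rational function
  obtain ⟨v₁, hv₁⟩ := exists_linearIndependent_pair_of_one_lt_finrank (R := k) (by omega) hv₀
  let z : X.functionField := g x₀ v₁ / g x₀ v₀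
  have hv₁0 : v₁ ≠ 0 := hv₁.ne_zero (1 : Fin 2)
  have hzx : ∀ x, z = g x v₁ / g x v₀ := fun x => by
    rw [div_eq_div_iff (hgne _ _ hv₀) (hgne _ _ hv₀)]
    exact (hcompat x₀ x v₁ v₀).trans (mul_comm _ _)
  have hz : ∀ x : X, x ≠ x₀ → RegAt x z := by
    intro x hx
    rcases eq_or_ne x η with rfl | hxη
    · exact Curves2.regAt_genericPoint z
    have hu : IsUnit (X.presheaf.germ (U x) x (hxU x) (co x v₀)) := by_contra fun h =>
      hx (huniq (isClosed_singleton hdim.le hxη) (hxU x) (he x) (hval x) h)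
    refine ⟨X.presheaf.germ (U x) x (hxU x) (co x v₁) * ↑hu.unit⁻¹, ?_⟩
    rw [hzx x, eq_div_iff (hgne _ _ hv₀), map_mul]
    simp only [g, η]
    rw [← Curves2.algebraMap_germ x (hxU x) (co x v₀), mul_assoc, ← map_mul, IsUnit.val_inv_mul, map_one,
      mul_one, Curves2.algebraMap_germ]
  let b₁ := X.presheaf.germ (U x₀) x₀ (hxU x₀) (co x₀ v₁)
  have hb₁ : IsUnit b₁ := by
    by_contra hb
    have hb' : b₁ ∈ Ideal.span {a₀} := hm₀ ▸ (IsLocalRing.mem_maximalIdeal b₁).2 hb
    obtain ⟨d, hd⟩ := Ideal.mem_span_singleton'.1 hb'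
    have hz₀ : RegAt x₀ z := by
      refine ⟨d, ?_⟩
      rw [eq_div_iff (hgne _ _ hv₀)]
      have := congrArg (algebraMap (X.presheaf.stalk x₀) X.functionField) hd
      rw [map_mul, Curves2.algebraMap_germ, Curves2.algebraMap_germ] at this
      exact this
    obtain ⟨f, hf⟩ := Curves2.exists_section_of_regAt ⊤ trivial z fun y _ =>
      (eq_or_ne y x₀).elim (fun e => e ▸ hz₀) (hz y)
    obtain ⟨r, hr⟩ := hres (X.presheaf.germ ⊤ x₀ trivial f)
    have hf' : f = Coh.toGlobal (X ↘ Spec (CommRingCat.of k)) r := by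
      let cst : Γ(X, ⊤) := Coh.toGlobal (X ↘ Spec (CommRingCat.of k)) r
      by_contra hne
      obtain ⟨t, ht⟩ := (isField_of_universallyClosed (K := k) (X ↘ Spec (CommRingCat.of k))).mul_inv_cancel
        (sub_ne_zero.2 (show f ≠ cst from hne))
      refine hcx₀ ?_
      obtain ⟨w, hw⟩ := Ideal.mem_span_singleton'.1 hr
      have h1 : IsUnit (X.presheaf.germ ⊤ x₀ trivial (f - cst)) :=
        (IsUnit.of_mul_eq_one t ht).map (X.presheaf.germ ⊤ x₀ trivial).hom
      rw [map_sub] at h1
      exact isUnit_of_mul_isUnit_right (show IsUnit (w * a₀) from hw.symm ▸ h1)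
    have hzr : z = Curv2.stalkMap k X η r := by rw [← hf, hf']; rfl
    have hlin : g x₀ v₁ = Curv2.stalkMap k X η r * g x₀ v₀ := by
      rw [← hzr, div_mul_cancel₀ _ (hgne _ _ hv₀)]
    have hv : v₁ = r • v₀ := by
      refine (sec L).injective ?_
      have : Nonempty (U x₀) := ⟨⟨x₀, hxU x₀⟩⟩
      obtain ⟨ρ, hρ, hρe⟩ := smul_res_top k (W := U x₀) r v₀
      have hco1 : co x₀ v₁ = ρ * co x₀ v₀ := germ_injective_of_isIntegral X η (hηU x₀) (by
        rw [map_mul, hρ]
        exact hlin)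
      rw [← sub_eq_zero]
      refine eq_zero_of_res_eq_zero hL (le_top (a := U x₀)) ⟨x₀, hxU x₀⟩ _ ?_
      refine (map_sub _ _ _).trans (sub_eq_zero.2 ?_)
      refine Eq.trans ?_ hρe.symm
      refine (hco x₀ v₁).symm.trans ?_
      rw [hco1, mul_smul, hco]
    have := LinearIndependent.pair_iff.1 hv₁ r (-1) (by rw [hv]; simp)
    simp at this
  refine exists_iso_projLine_of_fun k hdim.le (x₀ := x₀) (a₀ := a₀ * ↑hb₁.unit⁻¹) ?_ ?_ hz ?_
    (div_ne_zero (hgne _ _ hv₁0) (hgne _ _ hv₀))
  · rw [hm₀, Ideal.span_singleton_mul_right_unit (Units.isUnit _)]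
  · intro a
    rw [hm₀]
    exact hres a
  · rw [inv_div, eq_div_iff (hgne _ _ hv₁0), map_mul, mul_assoc]
    simp only [g, η, b₁] at *
    rw [← Curves2.algebraMap_germ x₀ (hxU x₀) (co x₀ v₁), ← map_mul, IsUnit.val_inv_mul, map_one, mul_one]
    exact Curves2.algebraMap_germ x₀ (hxU x₀) _

/-- A section of a degree one invertible module vanishes at most at one closed point. -/
theorem eq_of_not_mem_genLocus [IsIntegral X] [IsProper (X ↘ Spec (CommRingCat.of k))]
    (hdim : topologicalKrullDim X = 1) (hL : PicF.IsInvertible L) (hdeg : Curv2.deg k X L 1 = 1)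
    (v : Coh.HH X L 0) (hv : v ≠ 0) {x y : X} (hx : IsClosed ({x} : Set X)) (hy : IsClosed ({y} : Set X))
    (hxg : x ∉ CohB1.genLocus L (toHom v)) (hyg : y ∉ CohB1.genLocus L (toHom v)) : y = x := by
  have := isNoetherian_of_proper k X
  have hX := curveCoh_of_proper k X hdim.le
  have hLc := isCoh_of_isInvertible hL
  let s := toHom v
  obtain ⟨hm, hgen⟩ := section_of_invertible hL s (by
    rw [toHom_app_one]
    exact fun h => hv ((sec L).injective (h.trans (map_zero _).symm)))
  have hQc := isCoh_cokernel s isCoh_structureModule hLc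
  obtain ⟨S, hS, hcl, hsupp⟩ := exists_suppIn hdim.le hQc (QC70.subsingleton_stalk_cokernel s _ hgen)
  let T := ShortComplex.mk s (cokernel.π s) (cokernel.condition _)
  have hT : T.ShortExact :=
    { exact := ShortComplex.exact_of_g_is_cokernel _ (cokernelIsCokernel _)
      mono_f := hm
      epi_g := inferInstanceAs (Epi (cokernel.π _)) }
  have hQ1 : Module.finrank k (Coh.HH X (cokernel s) 0) = 1 := by
    have e := hX.euler_add hT isCoh_structureModule hLc
    rw [show Curv2.euler k X T.X₃ = _ from hX.euler_eq_of_suppIn hQc hsupp hS hcl] at e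
    simp only [Curv2.deg, Nat.cast_one, one_mul] at hdeg
    change Curv2.euler k X L = Curv2.euler k X (Coh.structureModule X) +
      (Module.finrank k (Coh.HH X (cokernel s) 0) : ℤ) at e
    omega
  have key : ∀ (p : X), p ∉ CohB1.genLocus L s → ∃ (U : X.Opens) (hp : p ∈ U) (e : Γ(L, U)) (c : Γ(X, U)),
      IsFrame L U e ∧ c • e = val L s U ∧ ¬ IsUnit (X.presheaf.germ U p hp c) := by
    intro p hp
    obtain ⟨U, hpU, e, he⟩ := Mero90.exists_frame' hL p
    obtain ⟨c, hc⟩ := (he U le_rfl).2 (val L s U)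
    have hc' : c • e = val L s U := (congrArg (c • ·) (Amp73.res_self L e)).symm.trans hc
    refine ⟨U, hpU, e, c, he, hc', fun hu => hp ?_⟩
    have h1 : p ∈ X.basicOpen c := (X.mem_basicOpen _ _ hpU).2 hu
    rw [← Amp73.genLocus_inf_eq_basicOpen s he hc'] at h1
    exact h1.1
  obtain ⟨U, hxU, e, c, he, hc, hcx⟩ := key x hxg
  obtain ⟨U', hyU, e', c', he', hc', hcy⟩ := key y hyg
  exact (point_of_h0_cokernel s hS hcl hsupp hQ1 hx hxU he hc hcx).2 hy hyU he' hc' hcy

end Groth.Agent.Crv77
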