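import Groth.Agent.Crv77.DegPullback
import Groth.Agent.Crv77.GenFibre
import Groth.Agent.PP93.SeqDiff
import Groth.Agent.Om3.GenDiff
import Groth.Agent.Om3.Compat
import Groth.Agent.Curves2.Genus0.EtaleIso
import Groth.Agent.RegSh99.Basic
import Groth.Agent.S1561
import Groth.Agent.E4O.DvrCrit
import Groth.Agent.WC97.Reduced

/-! The Riemann-Hurwitz formula for separable finite maps of smooth curves. -/

set_option autoImplicit false
set_option linter.style.haveILetI false
set_option backward.isDefEq.respectTransparency false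
universe u

open CategoryTheory CategoryTheory.Limits AlgebraicGeometry TopologicalSpace

namespace Groth.Agent.Crv77

theorem length_stalk_invertible {X : Scheme.{u}} [IsIntegral X] {M : X.Modules} (hM : PicF.IsInvertible M) :
    Module.length (X.presheaf.stalk (genericPoint X)) (M.presheaf.stalk (genericPoint X)) = 1 := by
  haveI : (Coh.structureModule X).IsQuasicoherent := QC70.isQuasicoherent_unit (X := X)
  have h := VarMods75.length_stalk_tensor (RegSh99.rankOne_of_isInvertible hM) (Coh.structureModule X) (genericPoint X)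
  have hb : Function.Bijective (QC70.stalkLinear (EGA73.tensUnitLeft M).hom (genericPoint X)) :=
    ⟨QC70.injective_stalkMapM_of_mono _ _, QC70.surjective_stalkMapM_of_epi _ _⟩
  rw [(LinearEquiv.ofBijective _ hb).length_eq, length_stalk_structureModule] at h
  simpa using h

theorem smooth_of_regular_algClosed (k : Type u) [Field k] [IsAlgClosed k] (X : Scheme.{u})
    [X.Over (Spec (CommRingCat.of k))] [IsIntegral X] [IsProper (X ↘ Spec (CommRingCat.of k))]
    (hreg : ∀ x : X, IsRegularLocalRing (X.presheaf.stalk x)) : Smooth (X ↘ Spec (CommRingCat.of k)) := by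
  have : LocallyOfFinitePresentation (X ↘ Spec (CommRingCat.of k)) :=
    E4O.locallyOfFinitePresentation_of_isLocallyNoetherian _
  exact Scheme.Hom.smoothLocus_eq_top_iff.1
    (TopologicalSpace.Opens.ext (Set.eq_univ_of_forall fun x => ((S1561.result k X).1 x).2 (hreg x)))

variable (k : Type u) [Field k] [IsAlgClosed k] {X Y : Scheme.{u}} [X.Over (Spec (CommRingCat.of k))]
  [Y.Over (Spec (CommRingCat.of k))] [IsIntegral X] [IsIntegral Y]
  [IsProper (X ↘ Spec (CommRingCat.of k))] [IsProper (Y ↘ Spec (CommRingCat.of k))]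
  [Smooth (X ↘ Spec (CommRingCat.of k))] [Smooth (Y ↘ Spec (CommRingCat.of k))]

/-- `0 → f^*Ω_Y → Ω_X → Ω_{X/Y} → 0` with a torsion cokernel. -/
theorem exists_hurwitz_seq (hX : topologicalKrullDim X = 1) (hY : topologicalKrullDim Y = 1)
    (f : X ⟶ Y) [IsFinite f] (hf : f ≫ (Y ↘ Spec (CommRingCat.of k)) = X ↘ Spec (CommRingCat.of k))
    (e : f (genericPoint X) = genericPoint Y)
    (hsep : letI := (ffMap f e).toAlgebra; Algebra.IsSeparable Y.functionField X.functionField) :
    ∃ (S : ShortComplex X.Modules) (_ : S.ShortExact)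
      (_ : S.X₁ ≅ (Scheme.Modules.pullback f).obj (Omega.sheaf (Y ↘ Spec (CommRingCat.of k))))
      (_ : S.X₂ ≅ Omega.sheaf (X ↘ Spec (CommRingCat.of k))) (_ : S.X₃ ≅ Omega.sheaf f),
      ∃ T : Set X, T.Finite ∧ (∀ x ∈ T, IsClosed ({x} : Set X)) ∧ SuppIn S.X₃ T := by
  have := isNoetherian_of_proper k X
  have := isNoetherian_of_proper k Y
  let g := Y ↘ Spec (CommRingCat.of k)
  have hsY := (Curves2.Genus0.deg_omega (X := Y) k hY).1
  have hsX := (Curves2.Genus0.deg_omega (X := X) k hX).1
  have eX : Omega.sheaf (f ≫ g) ≅ Omega.sheaf (X ↘ Spec (CommRingCat.of k)) := eqToIso (by rw [hf])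
  obtain ⟨c₁, hc₁, -⟩ := Om3.existsUnique_diffCompat (f' := f ≫ g) (b := 𝟙 _) (h := f) (f := g)
    (Category.comp_id _) (Var76.OmegaUniv.isUniversal g) (OmegaSh.dOmega (f ≫ g))
  obtain ⟨c₂, hc₂, -⟩ := Om3.existsUnique_diffCompat (f' := f) (b := g) (h := 𝟙 X) (f := f ≫ g)
    (Category.id_comp _).symm (Var76.OmegaUniv.isUniversal (f ≫ g)) (OmegaSh.dOmega f)
  obtain ⟨hepi, him⟩ := PP93.exact_differentials_comp (Var76.OmegaUniv.isUniversal g)
    (Var76.OmegaUniv.isUniversal (f ≫ g)) (Var76.OmegaUniv.isUniversal f) hc₁ hc₂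
  have hmono : Mono c₁ := Om3.GenDiff.mono_of_generic (pZ := g) f rfl e (e.symm ▸ geometricallyReduced_fibre_of_sep f e hsep)
    (Var76.OmegaUniv.isUniversal g) (Var76.OmegaUniv.isUniversal (f ≫ g)) hc₁
  let b : Omega.sheaf (f ≫ g) ⟶ Omega.sheaf f := (Scheme.Modules.pullbackId X).inv.app _ ≫ c₂
  have hepib : Epi b := epi_comp _ _
  have hzero : c₁ ≫ b = 0 := by
    rw [← imageSubobject_arrow_comp c₁, Category.assoc]
    have h0 : (imageSubobject c₁).arrow ≫ b = 0 := by
      rw [← Subobject.ofLE_arrow him.le, Category.assoc]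
      erw [kernelSubobject_arrow_comp]
      exact comp_zero
    rw [h0, comp_zero]
  let S := ShortComplex.mk c₁ b hzero
  have hS : S.ShortExact :=
    { exact := S.exact_iff_image_eq_kernel.2 him }
  refine ⟨S, hS, Iso.refl _, eX, Iso.refl _, ?_⟩
  have hc1 : Coh.IsCoh S.X₁ := isCoh_of_isInvertible (Amp73.isInvertible_pullback f hsY)
  have hsX' : PicF.IsInvertible S.X₂ := EGA73.isInvertible_of_iso eX.symm hsX
  have hc2 : Coh.IsCoh S.X₂ := isCoh_of_isInvertible hsX'
  have hc3 := isCoh_of_shortExact hS hc1 hc2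
  have := hc3.1
  have := hc3.2
  have hlen := Snapper75.length_stalk_add hS (genericPoint X)
  have h2 : Module.length _ (S.X₂.presheaf.stalk (genericPoint X)) = 1 := length_stalk_invertible hsX'
  have h1 : Module.length _ (S.X₁.presheaf.stalk (genericPoint X)) = 1 :=
    length_stalk_invertible (Amp73.isInvertible_pullback f hsY)
  rw [h1, h2] at hlen
  have h3 : Module.length (X.presheaf.stalk (genericPoint X)) (S.X₃.presheaf.stalk (genericPoint X)) = 0 := by
    revert hlen
    generalize Module.length (X.presheaf.stalk (genericPoint X)) (S.X₃.presheaf.stalk (genericPoint X)) = n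
    intro hlen
    exact (ENat.add_right_injective_of_ne_top ENat.one_ne_top (hlen.symm.trans (add_zero 1).symm))
  have hsub := Module.length_eq_zero_iff.1 h3
  have hnot : genericPoint X ∉ CohB1.support S.X₃ := QC70.notMem_support_iff.2 hsub
  have hcl : IsClosed (CohB1.support S.X₃) := QC70.isClosed_support S.X₃
  exact ⟨CohB1.support S.X₃, finite_of_isClosed' hX.le hcl hnot,
    fun x hx => isClosed_singleton hX.le fun he => hnot (he ▸ hx),
    fun x hx => QC70.notMem_support_iff.1 hx⟩

/-- `2 g_X - 2 = n (2 g_Y - 2) + h⁰(Ω_{X/Y})`. -/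
theorem hurwitz (hX : topologicalKrullDim X = 1) (hY : topologicalKrullDim Y = 1)
    (f : X ⟶ Y) [IsFinite f] (hf : f ≫ (Y ↘ Spec (CommRingCat.of k)) = X ↘ Spec (CommRingCat.of k))
    (e : f (genericPoint X) = genericPoint Y)
    (hsep : letI := (ffMap f e).toAlgebra; Algebra.IsSeparable Y.functionField X.functionField) :
    2 * (Curv2.genus k X : ℤ) - 2 =
      (f.residueDegree (genericPoint X) : ℤ) * (2 * (Curv2.genus k Y : ℤ) - 2) +
        (Module.finrank k (Coh.HH X (Omega.sheaf f) 0) : ℤ) := by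
  have := isNoetherian_of_proper k X
  have hC := curveCoh_of_proper k X hX.le
  obtain ⟨S, hS, e1, e2, e3, T, hT, hTc, hsupp⟩ := exists_hurwitz_seq k hX hY f hf e hsep
  obtain ⟨hiY, hdY⟩ := Curves2.Genus0.deg_omega (X := Y) k hY
  obtain ⟨hiX, hdX⟩ := Curves2.Genus0.deg_omega (X := X) k hX
  have hc1 : Coh.IsCoh S.X₁ :=
    isCoh_of_isInvertible (EGA73.isInvertible_of_iso e1.symm (Amp73.isInvertible_pullback f hiY))
  have hc2 : Coh.IsCoh S.X₂ := isCoh_of_isInvertible (EGA73.isInvertible_of_iso e2.symm hiX)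
  have hadd := hC.euler_add hS hc1 hc2
  have hpull := deg_pullback_finite k hY f hf e (RegSh99.rankOne_of_isInvertible hiY)
  have hsub := hsupp.subsingleton_HH hT hTc 0
  have h3 : Curv2.euler k X S.X₃ = (Module.finrank k (Coh.HH X (Omega.sheaf f) 0) : ℤ) := by
    rw [Curv2.euler, finsum_eq_single _ 0 fun i hi => ?_]
    · simp [(hEquiv k e3 0).finrank_eq]
    · obtain ⟨m, rfl⟩ := Nat.exists_eq_succ_of_ne_zero hi
      have := hsupp.subsingleton_HH hT hTc m
      simp [Module.finrank_zero_of_subsingleton]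
  rw [h3, euler_congr e1, euler_congr e2] at hadd
  rw [hdY] at hpull
  simp only [Curv2.deg] at hpull hdX
  push_cast at hpull hdX
  linarith

end Groth.Agent.Crv77
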