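import Groth.Agent.Crv77.DoubleSep
import Groth.Agent.Crv77.FFBridge
import Groth.Agent.FF30.GenusOne
import Groth.Agent.CrvPic30.Linear

/-! Hyperelliptic curves: double covers of the line, `g¹₂`, equations. -/

set_option autoImplicit false
set_option linter.style.haveILetI false
universe u

open CategoryTheory CategoryTheory.Limits AlgebraicGeometry TopologicalSpace Opposite IntermediateField FunFld
open scoped Polynomial

namespace Groth.Agent.Crv77

variable {k : Type u} [Field k] {C : Scheme.{u}} [C.Over (Spec (CommRingCat.of k))] [IsIntegral C]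

attribute [local instance] CrvPic30.ffAlg

/-- A smooth projective curve with constant functions. -/
theorem setup_of_projective [Smooth (C ↘ Spec (CommRingCat.of k))]
    (hproj : ∃ (N : ℕ) (i : C ⟶ CohB1.ProjSpace N k), IsClosedImmersion i ∧
      i ≫ CohB1.ProjSpace.toSpec N k = C ↘ Spec (CommRingCat.of k))
    (hdim : topologicalKrullDim C = 1)
    (h0 : Module.finrank k (Coh.HH C (Coh.structureModule C) 0) = 1) : CrvPic30.Setup k C := by
  obtain ⟨N, i, hi, hov⟩ := hproj
  have := Curves2.ProjLine.isProper_toSpec k N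
  have : IsProper (C ↘ Spec (CommRingCat.of k)) := hov ▸ inferInstance
  exact setup_of_h0 hdim (valuationRing_stalks_of_smooth (k := k) hdim) h0

section FF

variable {K : Type u} [Field K] [Algebra k K]

theorem poleDiv_le_of_mem_L (hK : IsFunctionField k K) {E : Divisor k K} (hE : 0 ≤ E) {z : K} (hz : z ∈ L E) :
    (FF30.poleDiv z : Divisor k K) ≤ E := by
  intro P
  rw [(FF30.FF.of_isFunctionField hK).poleDiv_apply]
  by_cases h0 : z = 0
  · subst h0
    rw [FF30.ord_zero, neg_zero, max_self]
    exact hE P
  · exact max_le (by linarith [(FF30.mem_L_iff_ord h0).1 hz P]) (hE P)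

/-- In positive genus a `g¹₂` gives a degree two function. -/
theorem exists_double_of_ell (hK : IsFunctionField k K) (hg : 1 ≤ genus k K) {D : Divisor k K}
    (hd : D.deg = 2) (hl : 2 ≤ ell D) : ∃ z : K, Module.finrank k⟮z⟯ K = 2 := by
  have hF := FF30.FF.of_isFunctionField hK
  obtain ⟨E, hE, hDE, hEd⟩ := CrvPic30.exists_eff hF (D := D) (by omega)
  have hEl : ell E = ell D := (FF30.ell_congr hF hDE).symm
  rw [hd] at hEd
  obtain ⟨z, hzE, hz⟩ : ∃ z ∈ L E, z ∉ Set.range (algebraMap k K) := by
    by_contra hne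
    push Not at hne
    have hle : L E ≤ (1 : Submodule k K) := fun x hx => FF30.mem_one_iff.2 (hne x hx)
    have := hF.finite_L E
    have h1 : Module.finrank k (1 : Submodule k K) = 1 := by
      rw [← FF30.L_zero' hK]; exact FF30.ell_zero hK
    have : Module.Finite k (1 : Submodule k K) := by
      rw [← FF30.L_zero' hK]; exact hF.finite_L 0
    have h2 := Submodule.finrank_mono hle
    unfold ell at hEl hl
    omega
  have htr := FF30.transcendental_of_not_mem_range hK hz
  refine ⟨z, ?_⟩
  have h1 := FF30.deg_mono (poleDiv_le_of_mem_L hK hE hzE)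
  rw [hF.deg_poleDiv htr, hEd] at h1
  have := hF.finiteDimensional_adjoin htr
  have h2 : 0 < Module.finrank k⟮z⟯ K := Module.finrank_pos
  rcases (show Module.finrank k⟮z⟯ K = 1 ∨ Module.finrank k⟮z⟯ K = 2 by omega) with h3 | h3
  · have := FF30.genus_eq_zero_of_deg_poleDiv_eq_one hK (x := z) htr (by rw [hF.deg_poleDiv htr, h3]; rfl)
    omega
  · exact h3

/-- The pole divisor of a degree two function is a `g¹₂`. -/
theorem ell_poleDiv_double (hK : IsFunctionField k K) (hg : 1 ≤ genus k K) {z : K}
    (hz : Module.finrank k⟮z⟯ K = 2) :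
    (FF30.poleDiv z : Divisor k K).deg = 2 ∧ ell (FF30.poleDiv z : Divisor k K) = 2 := by
  refine ⟨DL.deg_poleDiv_eq hK hz, ?_⟩
  have hF := FF30.FF.of_isFunctionField hK
  have hle : L (FF30.poleDiv z : Divisor k K) = (Polynomial.degreeLE k ((1 : ℕ) : WithBot ℕ)).map
      (Polynomial.aeval (R := k) z).toLinearMap := by
    refine le_antisymm (fun v hv => ?_) ?_
    · rw [← one_nsmul (FF30.poleDiv z : Divisor k K)] at hv
      have hvz : v ∈ k⟮z⟯ := by
        by_contra hnot
        have := DL.genus_lt_of_mem hK hz hnot hv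
        omega
      obtain ⟨a, ha, rfl⟩ := DL.exists_poly_of_mem hK hz hvz hv
      exact ⟨a, ha, rfl⟩
    · rintro _ ⟨a, ha, rfl⟩
      have := DL.aeval_mem_L hK (z := z) ha
      rwa [one_nsmul] at this
  obtain ⟨hfin, hdim⟩ := DL.finrank_domain (k := k) 1 0
  unfold ell
  rw [hle]
  have e1 : Module.finrank k (Polynomial.degreeLE k ((1 : ℕ) : WithBot ℕ)) = 2 := by
    have := Module.Finite.of_surjective
      (LinearMap.fst k (Polynomial.degreeLE k ((1 : ℕ) : WithBot ℕ)) (Polynomial.degreeLT k 0))
      fun a => ⟨(a, 0), rfl⟩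
    have := Module.Finite.equiv (Polynomial.degreeLTEquiv k 0).symm
    rw [Module.finrank_prod, (Polynomial.degreeLTEquiv k 0).finrank_eq, Module.finrank_fin_fun] at hdim
    exact hdim
  rw [← e1]
  exact ((Submodule.equivMapOfInjective _ (transcendental_iff_injective.1 (DL.transcendental hK hz)) _).finrank_eq).symm

end FF

/-- A degree two function gives a separable double cover. -/
theorem exists_cover_of_double [Smooth (C ↘ Spec (CommRingCat.of k))] (h : CrvPic30.Setup k C)
    (hg : 1 ≤ genus k C.functionField) {z : C.functionField} (hz : Module.finrank k⟮z⟯ C.functionField = 2) :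
    ∃ f : C ⟶ CohB1.ProjSpace 1 k, f ≫ CohB1.ProjSpace.toSpec 1 k = C ↘ Spec (CommRingCat.of k) ∧
      IsFinite f ∧ Flat f ∧ f.residueDegree (genericPoint C) = 2 ∧
      (∀ y, Scheme.Hom.finrank f y = 2) ∧
      (letI := (f.residueFieldMap (genericPoint C)).hom.toAlgebra;
        Algebra.IsSeparable ((CohB1.ProjSpace 1 k).residueField (f (genericPoint C)))
          (C.residueField (genericPoint C))) := by
  obtain ⟨f, hf, hfin, hfl, hdeg, hrk, hsep⟩ := exists_cover_of_fun h (DL.transcendental h.ff hz)
  exact ⟨f, hf, hfin, hfl, hdeg.trans hz, fun y => (hrk y).trans hz, hsep.2 (isSeparable_double h hg hz)⟩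

/-- A finite morphism of degree two to the line gives a degree two function. -/
theorem exists_double_of_cover (h : CrvPic30.Setup k C) (f : C ⟶ CohB1.ProjSpace 1 k) [IsFinite f]
    (hf : f ≫ CohB1.ProjSpace.toSpec 1 k = C ↘ Spec (CommRingCat.of k))
    (hdeg : f.residueDegree (genericPoint C) = 2) :
    ∃ z : C.functionField, Module.finrank k⟮z⟯ C.functionField = 2 ∧
      ((letI := (f.residueFieldMap (genericPoint C)).hom.toAlgebra;
        Algebra.IsSeparable ((CohB1.ProjSpace 1 k).residueField (f (genericPoint C)))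
          (C.residueField (genericPoint C))) ↔ Algebra.IsSeparable k⟮z⟯ C.functionField) := by
  have := Curves2.ProjLine.isIntegral k 1
  obtain ⟨z, -, -, hd, hsep⟩ := exists_fun_of_hom f hf (finite_hom_generic h.dim f)
  exact ⟨z, hd.symm.trans hdeg, hsep⟩

end Groth.Agent.Crv77
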