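import Groth.Agent.FF30.Riemann
import Groth.Agent.FF30.IntClosure
import Groth.Agent.FF30.Approx
import Groth.Agent.FF30.RR
import Groth.Agent.Diff31.RH
import Mathlib.RingTheory.Trace.Basic
import Mathlib.LinearAlgebra.Dual.Lemmas

/-! The trace on repartitions: the first cohomology of a function field grows in a separable extension. -/

set_option autoImplicit false
set_option linter.unusedSectionVars false

open FunFld WithZero
open scoped Multiplicative

namespace Groth.Agent.Crv77.Trace

open FF30

universe u v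

section Max

variable {k K : Type*} [Field k] [Field K] [Algebra k K]

theorem exists_delta_max (h : FF k K) : ∃ D : Divisor k K, 0 ≤ D ∧ ∀ E : Divisor k K, delta E ≤ delta D := by
  obtain ⟨γ, hγ⟩ := h.delta_bounded
  obtain ⟨m, ⟨D, rfl⟩, hm⟩ := Int.exists_greatest_of_bdd (P := fun z => ∃ D : Divisor k K, delta D = z)
    ⟨γ, fun z ⟨D, hD⟩ => hD ▸ hγ D⟩ ⟨_, 0, rfl⟩
  exact ⟨D ⊔ 0, le_sup_right, fun E => (hm _ ⟨E, rfl⟩).trans (h.delta_mono le_sup_left)⟩

/-- The quotient of the repartitions by `A(0) + K` has dimension `max δ - δ 0`. -/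
theorem finrank_quot (h : FF k K) {D : Divisor k K} (hD0 : 0 ≤ D) (hD : ∀ E : Divisor k K, delta E ≤ delta D) :
    Module.Finite k (↥(adele k K) ⧸ ADK (0 : Divisor k K)) ∧
      (Module.finrank k (↥(adele k K) ⧸ ADK (0 : Divisor k K)) : ℤ) = delta D - delta (0 : Divisor k K) := by
  have heq : adele k K = AD D ⊔ LinearMap.range (diag k K) := by
    refine le_antisymm (fun a ha => ?_) (sup_le (AD_le_adele D) h.range_diag_le_adele)
    obtain ⟨E, hDE, haE⟩ := adele_mem_AD ha D
    obtain ⟨hfin, hdim⟩ := h.rq_sup hDE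
    have hle := hD E
    have hzero : Module.finrank k
        (RQ (AD D ⊔ LinearMap.range (diag k K)) (AD E ⊔ LinearMap.range (diag k K))) = 0 := by omega
    have hsub := Module.finrank_zero_iff.mp hzero
    have hmem : a ∈ AD E ⊔ LinearMap.range (diag k K) := Submodule.mem_sup_left haE
    exact (Submodule.Quotient.mk_eq_zero (Submodule.comap (AD E ⊔ LinearMap.range (diag k K)).subtype
      (AD D ⊔ LinearMap.range (diag k K))) (x := ⟨a, hmem⟩)).mp (Subsingleton.elim _ _)
  have key : ∀ W : Submodule k (Place k K → K), W = AD D ⊔ LinearMap.range (diag k K) →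
      Module.Finite k (RQ (AD (0 : Divisor k K) ⊔ LinearMap.range (diag k K)) W) ∧
        (Module.finrank k (RQ (AD (0 : Divisor k K) ⊔ LinearMap.range (diag k K)) W) : ℤ) =
          delta D - delta (0 : Divisor k K) := by
    rintro _ rfl
    exact h.rq_sup hD0
  exact key _ heq

theorem finrank_quot_of_isFunctionField (h : IsFunctionField k K) :
    Module.finrank k (↥(adele k K) ⧸ ADK (0 : Divisor k K)) = genus k K := by
  have := (adele_quotient_ADK h 0).2
  rw [delta_zero h, sub_zero] at this
  exact_mod_cast this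

end Max

section Trace

variable {k : Type u} {K K' : Type v} [Field k] [Field K] [Field K'] [Algebra k K] [Algebra K K']
  [Algebra k K'] [IsScalarTower k K K'] [FiniteDimensional K K'] [Algebra.IsSeparable K K']

theorem trace_le (h : FF k K) (P : Place k K) {z : K'} (hz : ∀ Q : Place k K', IsOver Q P → Q.1 z ≤ 1) :
    P.1 (Algebra.trace K K' z) ≤ 1 := by
  let : Algebra P.O K' := ((algebraMap K K').comp P.O.subtype).toAlgebra
  have : IsScalarTower P.O K K' := IsScalarTower.of_algebraMap_eq fun _ => rfl
  obtain ⟨y, hy⟩ := (IsIntegrallyClosed.isIntegral_iff (R := P.O) (K := K)).mp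
    (Algebra.isIntegral_trace ((h.isIntegral_iff P z).2 hz))
  exact hy ▸ y.2

theorem exists_local (h : FF k K) (P : Place k K) (a : Place k K' → K') :
    ∃ b : K', ∀ Q : Place k K', IsOver Q P → Q.1 (b - a Q) ≤ 1 := by
  obtain ⟨b, hb⟩ := exists_approx (h.finite_setOf_isOver (K' := K') P).toFinset a 0
  exact ⟨b, fun Q hQ => (hb Q ((Set.Finite.mem_toFinset _).2 hQ)).trans_eq exp_zero⟩

variable (h : FF k K)

/-- A local approximation of a repartition at the places over `P`. -/
noncomputable def loc (P : Place k K) (a : Place k K' → K') : K' := (exists_local h P a).choose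

theorem loc_spec (P : Place k K) (a : Place k K' → K') (Q : Place k K') (hQ : IsOver Q P) :
    Q.1 (loc h P a - a Q) ≤ 1 := (exists_local h P a).choose_spec Q hQ

include h in
theorem trace_mul_le {ω : K'} (hω : ∀ Q : Place k K', Q.1 ω ≤ 1) (P : Place k K) {z : K'}
    (hz : ∀ Q : Place k K', IsOver Q P → Q.1 z ≤ 1) : P.1 (Algebra.trace K K' (ω * z)) ≤ 1 :=
  trace_le h P fun Q hQ => by rw [map_mul]; exact mul_le_one' (hω Q) (hz Q hQ)

theorem trAdele_mem {ω : K'} (hω : ∀ Q : Place k K', Q.1 ω ≤ 1) {a : Place k K' → K'} (ha : a ∈ adele k K') :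
    (fun P => Algebra.trace K K' (ω * loc h P a)) ∈ adele k K := by
  classical
  have hfin : {Q : Place k K' | ¬ Q.1 (a Q) ≤ 1}.Finite := Filter.eventually_cofinite.mp ha
  have hπ : ∀ Q : Place k K', ∃ P : Place k K, IsOver Q P := fun Q => by
    obtain ⟨P, e, -, he⟩ := h.exists_isOverWith Q
    exact ⟨P, e, he⟩
  choose π hπ using hπ
  change ∀ᶠ P : Place k K in Filter.cofinite, P.1 (Algebra.trace K K' (ω * loc h P a)) ≤ 1
  rw [Filter.eventually_cofinite]
  refine (hfin.image π).subset fun P hP => ?_
  by_contra hne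
  refine hP (trace_mul_le h hω P fun Q hQ => ?_)
  have hQa : Q.1 (a Q) ≤ 1 := by
    by_contra hbad
    exact hne ⟨Q, hbad, isOver_unique (hπ Q) hQ⟩
  have : loc h P a = (loc h P a - a Q) + a Q := by ring
  rw [this]
  exact (Q.1.map_add _ _).trans (max_le (loc_spec h P a Q hQ) hQa)

variable {ι : Type*} (ω : ι → K') (hω : ∀ i (Q : Place k K'), Q.1 (ω i) ≤ 1)

/-- The traces of `ω i` times a repartition, modulo `A(0) + K`. -/
noncomputable def trFun (i : ι) (a : adele k K') : ↥(adele k K) ⧸ ADK (0 : Divisor k K) :=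
  Submodule.Quotient.mk ⟨_, trAdele_mem h (hω i) a.2⟩

theorem trFun_eq (i : ι) (a : adele k K') {b : Place k K → K} (hb : b ∈ adele k K)
    (hab : ∀ P : Place k K, P.1 (Algebra.trace K K' (ω i * loc h P a.1) - b P) ≤ 1) :
    trFun h ω hω i a = Submodule.Quotient.mk ⟨b, hb⟩ :=
  (Submodule.Quotient.eq _).2 (Submodule.mem_sup_left (show _ ∈ AD (0 : Divisor k K) from fun P => by
    rw [Finsupp.zero_apply, exp_zero]; exact hab P))

/-- All the traces, as a linear map. -/
noncomputable def trMap : adele k K' →ₗ[k] ι → ↥(adele k K) ⧸ ADK (0 : Divisor k K) where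
  toFun a i := trFun h ω hω i a
  map_add' a a' := funext fun i => by
    rw [Pi.add_apply]
    refine (trFun_eq h ω hω i (a + a') (Submodule.add_mem _ (trAdele_mem h (hω i) a.2) (trAdele_mem h (hω i) a'.2))
      fun P => ?_).trans rfl
    rw [Pi.add_apply, ← map_add, ← map_sub, ← mul_add, ← mul_sub]
    refine trace_mul_le h (hω i) P fun Q hQ => ?_
    have : loc h P (a + a' : adele k K').1 - (loc h P a.1 + loc h P a'.1) =
        (loc h P (a + a' : adele k K').1 - (a.1 Q + a'.1 Q)) - ((loc h P a.1 - a.1 Q) + (loc h P a'.1 - a'.1 Q)) := by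
      ring
    rw [this]
    exact (Q.1.map_sub _ _).trans (max_le (loc_spec h P _ Q hQ)
      ((Q.1.map_add _ _).trans (max_le (loc_spec h P _ Q hQ) (loc_spec h P _ Q hQ))))
  map_smul' c a := funext fun i => by
    rw [RingHom.id_apply, Pi.smul_apply]
    refine (trFun_eq h ω hω i (c • a) (Submodule.smul_mem _ c (trAdele_mem h (hω i) a.2))
      fun P => ?_).trans rfl
    rw [Pi.smul_apply, ← LinearMap.map_smul_of_tower, ← map_sub, ← mul_smul_comm, ← mul_sub]
    refine trace_mul_le h (hω i) P fun Q hQ => ?_
    have : loc h P (c • a : adele k K').1 - c • loc h P a.1 =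
        (loc h P (c • a : adele k K').1 - c • a.1 Q) - c • (loc h P a.1 - a.1 Q) := by
      rw [smul_sub]; ring
    rw [this]
    refine (Q.1.map_sub _ _).trans (max_le (loc_spec h P _ Q hQ) ?_)
    rw [Algebra.smul_def, map_mul]
    exact mul_le_one' (Q.2.1 c) (loc_spec h P _ Q hQ)

theorem trMap_eq_zero {a : adele k K'} (ha : a ∈ ADK (0 : Divisor k K')) : trMap h ω hω a = 0 := by
  obtain ⟨b, hb, _, ⟨z, rfl⟩, hbz⟩ := Submodule.mem_sup.mp (show a.1 ∈ _ from ha)
  funext i
  show trFun h ω hω i a = 0
  refine (trFun_eq h ω hω i a (b := diag k K (Algebra.trace K K' (ω i * z))) (h.range_diag_le_adele ⟨_, rfl⟩)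
    fun P => ?_).trans ((Submodule.Quotient.mk_eq_zero _).2 (Submodule.mem_sup_right ⟨_, rfl⟩))
  show P.1 (_ - Algebra.trace K K' (ω i * z)) ≤ 1
  rw [← map_sub, ← mul_sub]
  refine trace_mul_le h (hω i) P fun Q hQ => ?_
  have h1 : a.1 Q = b Q + z := congrFun hbz.symm Q
  have : loc h P a.1 - z = (loc h P a.1 - a.1 Q) + b Q := by rw [h1]; ring
  rw [this]
  exact (Q.1.map_add _ _).trans (max_le (loc_spec h P _ Q hQ) ((hb Q).trans_eq (by simp)))

theorem trMap_surjective [Fintype ι] [DecidableEq ι] (hli : LinearIndependent K ω) :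
    Function.Surjective (trMap h ω hω) := by
  classical
  let T : K' →ₗ[K] ι → K := LinearMap.pi fun i => (Algebra.trace K K').comp (LinearMap.mulLeft K (ω i))
  have hT : Function.Surjective T := by
    rw [← LinearMap.range_eq_top]
    by_contra hne
    obtain ⟨φ, hφ, hker⟩ := Submodule.exists_le_ker_of_lt_top (K := K) _ (lt_top_iff_ne_top.2 hne)
    refine hφ (LinearMap.pi_ext fun i x => ?_)
    have hzero : ∑ j, φ (Pi.single j 1) • ω j = 0 := by
      refine traceForm_nondegenerate K K' |>.1 _ fun z => ?_
      have h0 : φ (T z) = 0 := LinearMap.mem_ker.1 (hker ⟨z, rfl⟩)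
      rw [Algebra.traceForm_apply, Finset.sum_mul, map_sum, ← h0]
      conv_rhs => rw [show T z = ∑ j, (T z j) • Pi.single j (1 : K) from (pi_eq_sum_univ' (T z))]
      rw [map_sum]
      refine Finset.sum_congr rfl fun j _ => ?_
      rw [smul_mul_assoc, map_smul, map_smul, smul_eq_mul, smul_eq_mul, mul_comm]
      rfl
    have := Fintype.linearIndependent_iff.1 hli _ hzero i
    rw [show (Pi.single i x : ι → K) = x • Pi.single i (1 : K) by rw [← Pi.single_smul, smul_eq_mul, mul_one],
      map_smul, this, smul_zero, LinearMap.zero_apply]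
  intro v
  choose a ha using fun i => Submodule.Quotient.mk_surjective _ (v i)
  choose c hc using fun j : ι => hT (Pi.single j 1)
  have hπ : ∀ Q : Place k K', ∃ P : Place k K, IsOver Q P := fun Q => by
    obtain ⟨P, e, -, he⟩ := h.exists_isOverWith Q
    exact ⟨P, e, he⟩
  choose π hπ using hπ
  let a' : Place k K' → K' := fun Q => ∑ j, algebraMap K K' ((a j).1 (π Q)) * c j
  have ha' : a' ∈ adele k K' := by
    have key : ∀ j, (fun Q => algebraMap K K' ((a j).1 (π Q)) * c j) ∈ adele k K' := by
      intro j
      have h1 : {P : Place k K | ¬ P.1 ((a j).1 P) ≤ 1}.Finite := Filter.eventually_cofinite.mp (a j).2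
      have h2 : {Q : Place k K' | ¬ Q.1 (c j) ≤ 1}.Finite :=
        Filter.eventually_cofinite.mp ((h.extension K').range_diag_le_adele ⟨c j, rfl⟩ : diag k K' (c j) ∈ _)
      change ∀ᶠ Q : Place k K' in Filter.cofinite, Q.1 _ ≤ 1
      rw [Filter.eventually_cofinite]
      refine ((h1.biUnion fun P _ => h.finite_setOf_isOver (K' := K') P).union h2).subset fun Q hQ => ?_
      by_contra hne
      simp only [Set.mem_union, Set.mem_iUnion, Set.mem_setOf_eq, not_or, not_exists, not_not] at hne
      refine hQ ?_
      rw [map_mul]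
      refine mul_le_one' ?_ hne.2
      rw [isOverWith_le_one_iff (isOverWith_ramIdx (hπ Q))]
      by_contra hP
      exact hne.1 (π Q) hP (hπ Q)
    have := Submodule.sum_mem _ (t := Finset.univ) fun j _ => key j
    convert this using 1
    funext Q
    simp [a']
  refine ⟨⟨a', ha'⟩, funext fun i => ?_⟩
  rw [← ha i]
  refine trFun_eq h ω hω i ⟨a', ha'⟩ (a i).2 fun P => ?_
  have he : (a i).1 P = Algebra.trace K K' (ω i * ∑ j, algebraMap K K' ((a j).1 P) * c j) := by
    rw [Finset.mul_sum, map_sum, Finset.sum_eq_single i]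
    · rw [mul_left_comm, ← Algebra.smul_def, map_smul, smul_eq_mul,
        show Algebra.trace K K' (ω i * c i) = T (c i) i from rfl, hc, Pi.single_eq_same, mul_one]
    · intro j _ hji
      rw [mul_left_comm, ← Algebra.smul_def, map_smul, smul_eq_mul,
        show Algebra.trace K K' (ω i * c j) = T (c j) i from rfl, hc, Pi.single_eq_of_ne (Ne.symm hji), mul_zero]
    · simp
  rw [he, ← map_sub, ← mul_sub]
  refine trace_mul_le h (hω i) P fun Q hQ => ?_
  have : (∑ j, algebraMap K K' ((a j).1 P) * c j) = a' Q := by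
    simp only [a', isOver_unique (hπ Q) hQ]
  rw [this]
  exact loc_spec h P _ Q hQ

include h hω in
/-- `card ι` times the first cohomology below is at most that above. -/
theorem card_mul_finrank_quot_le [Fintype ι] (hli : LinearIndependent K ω) :
    Fintype.card ι * Module.finrank k (↥(adele k K) ⧸ ADK (0 : Divisor k K)) ≤
      Module.finrank k (↥(adele k K') ⧸ ADK (0 : Divisor k K')) := by
  classical
  obtain ⟨D, hD0, hD⟩ := exists_delta_max h
  obtain ⟨D', hD0', hD'⟩ := exists_delta_max (h.extension K')
  have := (finrank_quot h hD0 hD).1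
  have := (finrank_quot (h.extension K') hD0' hD').1
  let f := Submodule.liftQ _ (trMap h ω hω) (fun a ha => LinearMap.mem_ker.2 (trMap_eq_zero h ω hω ha))
  have hf : Function.Surjective f := fun v => by
    obtain ⟨a, ha⟩ := trMap_surjective h ω hω hli v
    exact ⟨Submodule.Quotient.mk a, ha⟩
  have h1 := LinearMap.finrank_le_finrank_of_surjective hf
  rwa [Module.finrank_pi_fintype, Finset.sum_const, Finset.card_univ, smul_eq_mul] at h1

end Trace

section Const

variable {k k' : Type u} {K' : Type v} [Field k] [Field k'] [Field K'] [Algebra k k'] [Algebra k' K']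
  [Algebra k K'] [IsScalarTower k k' K'] [FiniteDimensional k k']

open Diff31

theorem deg_equivMapDomain (D : Divisor k' K') :
    Divisor.deg (D.equivMapDomain (placeEquiv k k' K') : Divisor k K') = Module.finrank k k' * D.deg := by
  rw [Divisor.deg, Finsupp.sum_equivMapDomain, Divisor.deg, Finsupp.mul_sum]
  refine Finset.sum_congr rfl fun Q _ => ?_
  show D Q * ((placeEquiv k k' K' Q).deg : ℤ) = _
  rw [deg_placeEquiv]
  push_cast
  ring

theorem ell_equivMapDomain (D : Divisor k' K') :
    ell (D.equivMapDomain (placeEquiv k k' K')) = Module.finrank k k' * ell D := by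
  have he : L (D.equivMapDomain (placeEquiv k k' K')) = (L D).restrictScalars k := by
    refine SetLike.ext fun z => ⟨fun hz Q => ?_, fun hz R => ?_⟩
    · have := hz (placeEquiv k k' K' Q)
      rwa [Finsupp.equivMapDomain_apply, Equiv.symm_apply_apply] at this
    · have := hz ((placeEquiv k k' K').symm R)
      rw [Finsupp.equivMapDomain_apply]
      exact this
  rw [ell, he, ell]
  exact (Module.finrank_mul_finrank k k' ↥(L D)).symm

theorem delta_equivMapDomain (D : Divisor k' K') :
    delta (D.equivMapDomain (placeEquiv k k' K')) - 1 = Module.finrank k k' * (delta D - 1) := by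
  rw [delta, delta, deg_equivMapDomain, ell_equivMapDomain]
  push_cast
  ring

/-- The first cohomology over a subfield of the constants. -/
theorem finrank_quot_const (hK : IsFunctionField k' K') (hF : FF k K') :
    Module.finrank k (↥(adele k K') ⧸ ADK (0 : Divisor k K')) = Module.finrank k k' * genus k' K' := by
  obtain ⟨D, hD0, hD⟩ := exists_delta_eq_genus hK
  let π := placeEquiv k k' K'
  have hmax : ∀ E : Divisor k K', delta E ≤ delta (D.equivMapDomain π) := by
    intro E
    obtain ⟨E', rfl⟩ : ∃ E' : Divisor k' K', E'.equivMapDomain π = E :=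
      ⟨E.equivMapDomain π.symm, by ext Q; simp [Finsupp.equivMapDomain_apply]⟩
    have h1 := delta_equivMapDomain (k := k) E'
    have h2 := delta_equivMapDomain (k := k) D
    have h4 := (FF.of_isFunctionField hK).delta_le_genus E'
    have h5 : (Module.finrank k k' : ℤ) * (delta E' - 1) ≤ Module.finrank k k' * (delta D - 1) :=
      mul_le_mul_of_nonneg_left (by omega) (Int.natCast_nonneg _)
    change delta (E'.equivMapDomain (placeEquiv k k' K') : Divisor k K') ≤ delta (D.equivMapDomain (placeEquiv k k' K') : Divisor k K')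
    linarith
  have h0 : (0 : Divisor k K') ≤ D.equivMapDomain π := fun Q => by
    rw [Finsupp.equivMapDomain_apply]; exact hD0 _
  have h1 := (finrank_quot hF h0 hmax).2
  have h2 := delta_equivMapDomain (k := k) D
  have h3 := delta_equivMapDomain (k := k) (0 : Divisor k' K')
  rw [Finsupp.equivMapDomain_zero, delta_zero hK] at h3
  rw [hD] at h2
  have : ((Module.finrank k (↥(adele k K') ⧸ ADK (0 : Divisor k K')) : ℕ) : ℤ) =
      ((Module.finrank k k' * genus k' K' : ℕ) : ℤ) := by
    push_cast; linarith
  exact_mod_cast this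

end Const

/-- The genus grows in a finite separable extension. -/
theorem genus_le {k : Type u} {K K' : Type v} [Field k] [Field K] [Field K'] [Algebra k K] [Algebra K K']
    [Algebra k K'] [IsScalarTower k K K'] [FiniteDimensional K K'] [Algebra.IsSeparable K K']
    (hK : IsFunctionField k K) (hK' : IsFunctionField k K') : genus k K ≤ genus k K' := by
  have h := card_mul_finrank_quot_le (FF.of_isFunctionField hK) (fun _ : Unit => (1 : K'))
    (fun _ Q => (map_one Q.1).le) (LinearIndependent.of_subsingleton () one_ne_zero)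
  rw [Fintype.card_unit, one_mul, finrank_quot_of_isFunctionField hK, finrank_quot_of_isFunctionField hK'] at h
  exact h

end Groth.Agent.Crv77.Trace
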