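import Groth.Agent.FF30.Differentials
import Groth.Agent.FF30.Geometric
import Groth.Agent.FF30.SubField
import Groth.Agent.FF30.AlgClosed
import Groth.Agent.Crv77.TraceGenus
import Mathlib.FieldTheory.Perfect
import Mathlib.FieldTheory.SeparableClosure

/-! Purely inseparable subfields of a function field over a perfect field are powers; the genus is monotone. -/

set_option autoImplicit false
set_option linter.unusedSectionVars false

open FunFld IntermediateField

namespace Groth.Agent.Crv77.Insep

open FF30

universe u v

section Power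

variable {k : Type u} {K : Type v} [Field k] [PerfectField k] [Field K] [Algebra k K]

theorem isFunctionField_intermediate (hK : IsFunctionField k K) (L : IntermediateField k K)
    [FiniteDimensional L K] : IsFunctionField k L := by
  obtain ⟨x, hx, -⟩ := id hK.1
  obtain ⟨t, ht⟩ : ∃ t : L, Transcendental k (t : K) := by
    by_contra hne
    push Not at hne
    have : Algebra.IsAlgebraic k L := ⟨fun t => (isAlgebraic_algebraMap_iff (algebraMap L K).injective).1
      (not_not.1 (hne t))⟩
    exact hx ((Algebra.IsAlgebraic.isAlgebraic (R := L) x).restrictScalars k)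
  refine ⟨((FF.of_isFunctionField hK).intermediateField L t.2 ht).1, fun a ha => ?_⟩
  obtain ⟨c, hc⟩ := hK.2 (a : K) (ha.algHom L.val)
  exact ⟨c, Subtype.ext hc⟩

theorem le_powField (p : ℕ) [Fact p.Prime] [CharP K p] (hK : IsFunctionField k K) (hg : IsGeometric k K)
    (L : IntermediateField k K) [IsPurelyInseparable L K] (hL : L ≠ ⊤) : L ≤ powField k K p := by
  intro z hz
  by_contra hne
  have hs : Algebra.IsSeparable k⟮z⟯ K := by
    by_contra hs
    exact hne ((mem_powField_iff p hK hg z).2.2 hs)
  refine hL (eq_top_iff.2 fun w _ => ?_)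
  have hle : k⟮z⟯ ≤ L := adjoin_simple_le_iff.2 hz
  let _ : Algebra k⟮z⟯ L := (IntermediateField.inclusion hle).toRingHom.toAlgebra
  have : IsScalarTower k⟮z⟯ L K := IsScalarTower.of_algebraMap_eq fun _ => rfl
  have : Algebra.IsSeparable L K := Algebra.isSeparable_tower_top_of_isSeparable k⟮z⟯ L K
  obtain ⟨c, hc⟩ := IsPurelyInseparable.inseparable L w (Algebra.IsSeparable.isSeparable L w)
  exact hc ▸ c.2

theorem exists_pow_range (hK : IsFunctionField k K) (hg : IsGeometric k K) (q : ℕ) [ExpChar k q]
    (L : IntermediateField k K) [FiniteDimensional L K] [IsPurelyInseparable L K] :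
    ∃ r : ℕ, ∀ z : K, z ∈ L ↔ ∃ w : K, w ^ q ^ r = z := by
  have htriv : L = ⊤ → ∃ r : ℕ, ∀ z : K, z ∈ L ↔ ∃ w : K, w ^ q ^ r = z := fun h =>
    ⟨0, fun z => ⟨fun _ => ⟨z, by simp⟩, fun _ => h ▸ IntermediateField.mem_top⟩⟩
  cases ‹ExpChar k q› with
  | zero =>
    refine htriv (eq_top_iff.2 fun w _ => ?_)
    have : CharZero K := charZero_of_injective_algebraMap (algebraMap k K).injective
    have : CharZero L := charZero_of_injective_algebraMap (algebraMap k L).injective
    obtain ⟨c, hc⟩ := IsPurelyInseparable.inseparable L w (Algebra.IsSeparable.isSeparable L w)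
    exact hc ▸ c.2
  | prime hp =>
    clear htriv
    have := Fact.mk hp
    have : CharP K q := charP_of_injective_algebraMap (algebraMap k K).injective q
    have : ExpChar K q := ExpChar.prime hp
    have : PerfectRing k q := PerfectField.toPerfectRing q
    induction hn : Module.finrank L K using Nat.strong_induction_on generalizing L with
    | _ n ih =>
      by_cases htop : L = ⊤
      · exact ⟨0, fun z => ⟨fun _ => ⟨z, by simp⟩, fun _ => htop ▸ IntermediateField.mem_top⟩⟩
      have hle := le_powField q hK hg L htop
      let L' : IntermediateField k K :=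
        { L.toSubfield.comap (frobenius K q) with
          algebraMap_mem' := fun c => by
            show frobenius K q (algebraMap k K c) ∈ L
            rw [frobenius_def, ← map_pow]
            exact L.algebraMap_mem _ }
      have hL' : ∀ w, w ∈ L' ↔ w ^ q ∈ L := fun w => Iff.rfl
      have hLL' : L ≤ L' := fun w hw => (hL' w).2 (pow_mem hw q)
      let _ : Algebra L L' := (IntermediateField.inclusion hLL').toRingHom.toAlgebra
      have : IsScalarTower L L' K := IsScalarTower.of_algebraMap_eq fun _ => rfl
      have : FiniteDimensional L' K := Module.Finite.of_restrictScalars_finite L L' K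
      have : IsPurelyInseparable L' K := IsPurelyInseparable.tower_top L L' K
      have hlt : Module.finrank L' K < n := by
        have hdvd : Module.finrank L' K ∣ Module.finrank L K := IntermediateField.finrank_dvd_of_le_left hLL'
        refine lt_of_le_of_ne (hn ▸ Nat.le_of_dvd Module.finrank_pos hdvd) fun he => htop ?_
        have hEq : L = L' := IntermediateField.eq_of_le_of_finrank_eq' hLL' (hn.trans he.symm)
        refine eq_top_iff.2 fun w _ => ?_
        have : ExpChar L q := expChar_of_injective_algebraMap (algebraMap k L).injective q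
        obtain ⟨m, c, hc⟩ := IsPurelyInseparable.pow_mem L q w
        have hm : w ^ q ^ m ∈ L := hc ▸ c.2
        clear hc c
        induction m with
        | zero => simpa using hm
        | succ m ihm =>
          refine ihm ?_
          rw [hEq, hL', ← pow_mul, ← pow_succ]
          exact hm
      obtain ⟨r, hr⟩ := ih _ hlt L' rfl
      refine ⟨r + 1, fun z => ⟨fun hz => ?_, ?_⟩⟩
      · have hz' : z ∈ (frobenius K q).fieldRange := by
          have hsub : powField k K q ≤
              ({ (frobenius K q).fieldRange with
                 algebraMap_mem' := fun c => by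
                   obtain ⟨d, hd⟩ := surjective_frobenius k q c
                   exact ⟨algebraMap k K d, by rw [← hd, frobenius_def, frobenius_def, map_pow]⟩ } : IntermediateField k K) :=
            IntermediateField.adjoin_le_iff.2 (by rintro _ ⟨y, rfl⟩; exact ⟨y, frobenius_def ..⟩)
          exact hsub (hle hz)
        obtain ⟨w, rfl⟩ := hz'
        obtain ⟨v, rfl⟩ := (hr w).1 ((hL' w).2 (by rwa [← frobenius_def]))
        exact ⟨v, by rw [frobenius_def, ← pow_mul, ← pow_succ]⟩
      · rintro ⟨w, rfl⟩
        rw [pow_succ, pow_mul]
        exact (hL' _).1 ((hr _).2 ⟨w, rfl⟩)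

end Power

section Semilinear

variable {k k' : Type u} {K K' : Type v} [Field k] [Field k'] [Field K] [Field K'] [Algebra k K]
  [Algebra k' K'] (σ : k ≃+* k') (φ : K ≃+* K') (hφ : ∀ c, φ (algebraMap k K c) = algebraMap k' K' (σ c))

/-- Places along a semilinear isomorphism. -/
def placeMap : Place k K ≃ Place k' K' where
  toFun P := ⟨P.1.comap φ.symm.toRingHom, fun c => by
      obtain ⟨d, rfl⟩ := σ.surjective c
      rw [Valuation.comap_apply, ← hφ]
      simpa using P.2.1 d,
    fun v => by
      obtain ⟨x, hx⟩ := P.2.2 v
      exact ⟨φ x, by simpa using hx⟩⟩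
  invFun Q := ⟨Q.1.comap φ.toRingHom, fun c => by
      rw [Valuation.comap_apply]
      show Q.1 (φ (algebraMap k K c)) ≤ 1
      rw [hφ]
      exact Q.2.1 _,
    fun v => by
      obtain ⟨x, hx⟩ := Q.2.2 v
      exact ⟨φ.symm x, by simpa using hx⟩⟩
  left_inv P := Subtype.ext (Valuation.ext fun x => by simp)
  right_inv Q := Subtype.ext (Valuation.ext fun x => by simp)

theorem placeMap_apply (P : Place k K) (x : K) : (placeMap σ φ hφ P).1 (φ x) = P.1 x := by
  show P.1 (φ.symm (φ x)) = _
  rw [φ.symm_apply_apply]

theorem deg_placeMap (P : Place k K) : (placeMap σ φ hφ P).deg = P.deg := by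
  let ψ : P.O →+* (placeMap σ φ hφ P).O :=
    (φ.toRingHom.comp P.O.subtype).codRestrict _ fun x => (placeMap_apply σ φ hφ P x.1).le.trans x.2
  have hψ : Function.Bijective ψ := by
    refine ⟨fun x y h => Subtype.ext (φ.injective (congrArg Subtype.val h)), fun y => ⟨⟨φ.symm y.1, ?_⟩, Subtype.ext (φ.apply_symm_apply _)⟩⟩
    exact y.2
  let E := IsLocalRing.ResidueField.mapEquiv (RingEquiv.ofBijective ψ hψ)
  refine (congrArg Cardinal.toNat (rank_eq_of_equiv_equiv (M := IsLocalRing.ResidueField P.O)
    (M₁ := IsLocalRing.ResidueField (placeMap σ φ hφ P).O) σ E.toAddEquiv σ.bijective fun c r => ?_)).symm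
  refine (congrArg E (residue_smul_eq_mul P c r)).trans (Eq.trans ?_ (residue_smul_eq_mul _ (σ c) _).symm)
  show E (_ * r) = _ * E r
  rw [map_mul]
  congr 1
  show IsLocalRing.residue _ (ψ (algebraMap k P.O c)) = IsLocalRing.residue _ _
  congr 1
  exact Subtype.ext (hφ c)

include σ φ hφ in
theorem genus_semilinear : genus k K = genus k' K' := by
  let π := placeMap σ φ hφ
  have hdeg : ∀ D : Divisor k K, Divisor.deg (D.equivMapDomain π : Divisor k' K') = D.deg := fun D => by
    rw [Divisor.deg, Finsupp.sum_equivMapDomain, Divisor.deg]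
    exact Finset.sum_congr rfl fun P _ => by
      show D P * ((π P).deg : ℤ) = _
      rw [deg_placeMap]
  have hell : ∀ D : Divisor k K, ell (D.equivMapDomain π : Divisor k' K') = ell D := fun D => by
    have hmem : ∀ x, φ x ∈ L (D.equivMapDomain π : Divisor k' K') ↔ x ∈ L D := fun x => by
      refine ⟨fun h P => ?_, fun h Q => ?_⟩
      · have := h (π P)
        rwa [placeMap_apply, Finsupp.equivMapDomain_apply, Equiv.symm_apply_apply] at this
      · obtain ⟨P, rfl⟩ := π.surjective Q
        rw [placeMap_apply, Finsupp.equivMapDomain_apply, Equiv.symm_apply_apply]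
        exact h P
    let j : L D ≃+ L (D.equivMapDomain π : Divisor k' K') :=
      { toFun := fun x => ⟨φ x.1, (hmem _).2 x.2⟩
        invFun := fun y => ⟨φ.symm y.1, (hmem _).1 (by rw [φ.apply_symm_apply]; exact y.2)⟩
        left_inv := fun x => Subtype.ext (φ.symm_apply_apply _)
        right_inv := fun y => Subtype.ext (φ.apply_symm_apply _)
        map_add' := fun x y => Subtype.ext (map_add φ _ _) }
    refine (congrArg Cardinal.toNat (rank_eq_of_equiv_equiv σ j σ.bijective fun c x => Subtype.ext ?_)).symm
    show φ (c • x.1) = σ c • φ x.1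
    rw [Algebra.smul_def, Algebra.smul_def, map_mul, hφ]
  rw [genus, genus]
  congr 1
  ext n
  constructor
  · rintro ⟨D, rfl⟩
    exact ⟨D.equivMapDomain π, by simp only [hdeg, hell]⟩
  · rintro ⟨D, rfl⟩
    refine ⟨D.equivMapDomain π.symm, ?_⟩
    obtain ⟨D', rfl⟩ : ∃ D' : Divisor k K, D'.equivMapDomain π = D :=
      ⟨D.equivMapDomain π.symm, by ext Q; simp [Finsupp.equivMapDomain_apply]⟩
    have : (D'.equivMapDomain π).equivMapDomain π.symm = D' := by ext Q; simp [Finsupp.equivMapDomain_apply]
    simp only [this, hdeg, hell]

end Semilinear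

section Mono

variable {k : Type u} {K : Type v} [Field k] [PerfectField k] [Field K] [Algebra k K]

theorem genus_intermediate_of_purelyInseparable (hK : IsFunctionField k K) (hg : IsGeometric k K)
    (L : IntermediateField k K) [FiniteDimensional L K] [IsPurelyInseparable L K] :
    genus k L = genus k K := by
  obtain ⟨q, hq⟩ := ExpChar.exists k
  obtain ⟨r, hr⟩ := exists_pow_range hK hg q L
  have : ExpChar K q := expChar_of_injective_algebraMap (algebraMap k K).injective q
  have : PerfectRing k q := PerfectField.toPerfectRing q
  let φ₀ : K →+* L := (iterateFrobenius K q r).codRestrict L fun x => (hr _).2 ⟨x, (iterateFrobenius_def ..).symm⟩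
  have hb : Function.Bijective φ₀ := by
    refine ⟨φ₀.injective, fun y => ?_⟩
    obtain ⟨w, hw⟩ := (hr y.1).1 y.2
    exact ⟨w, Subtype.ext ((iterateFrobenius_def ..).trans hw)⟩
  refine (genus_semilinear (iterateFrobeniusEquiv k q r) (RingEquiv.ofBijective φ₀ hb) fun c => Subtype.ext ?_).symm
  show iterateFrobenius K q r (algebraMap k K c) = algebraMap k K (iterateFrobenius k q r c)
  rw [iterateFrobenius_def, iterateFrobenius_def, map_pow]

variable {E : Type v} [Field E] [Algebra k E] [Algebra E K] [IsScalarTower k E K] [FiniteDimensional E K]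

/-- The genus is monotone along finite extensions, over a perfect field. -/
theorem genus_le (hK : IsFunctionField k K) (hg : IsGeometric k K) (hE : IsFunctionField k E) :
    genus k E ≤ genus k K := by
  let Ks : IntermediateField k K := (separableClosure E K).restrictScalars k
  have : FiniteDimensional Ks K := Module.Finite.of_restrictScalars_finite E (separableClosure E K) K
  have : IsPurelyInseparable Ks K := separableClosure.isPurelyInseparable E K
  have hKs := isFunctionField_intermediate hK Ks
  rw [← genus_intermediate_of_purelyInseparable hK hg Ks]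
  let _ : Algebra E Ks := (separableClosure E K).algebra
  have : IsScalarTower k E Ks := IsScalarTower.of_algebraMap_eq fun c =>
    Subtype.ext (IsScalarTower.algebraMap_apply k E K c)
  have : FiniteDimensional E Ks := (inferInstance : FiniteDimensional E (separableClosure E K))
  have : Algebra.IsSeparable E Ks := (inferInstance : Algebra.IsSeparable E (separableClosure E K))
  exact Trace.genus_le hE hKs

end Mono

end Groth.Agent.Crv77.Insep
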