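import Groth.Agent.Curves2.VeryAmple.ProjSections
import Groth.Agent.Var76.RegPow
import Groth.Agent.Mero90.Frames
import Groth.Agent.Rib52.Conormal
import Groth.Agent.Props58.Ext.Local
import Groth.Agent.QC70.CohOps
import Groth.Agent.Kvb46.Local
import Groth.Agent.Crv77.Twist
import Groth.Agent.Crv77.InvMod
import Groth.Agent.Crv77.DegreeInt
import Groth.Agent.Crv77.Basic
import Groth.Agent.CAlg6.RegularNormal

/-! The invertible subsheaf spanned by sections, and the morphism to projective space of a linear series. -/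

set_option autoImplicit false
set_option linter.style.haveILetI false
set_option backward.isDefEq.respectTransparency false
universe u

open CategoryTheory CategoryTheory.Limits AlgebraicGeometry TopologicalSpace Opposite
open Groth.Agent.Var76.LineBundle

noncomputable section

namespace Groth.Agent.Crv77

variable {X : Scheme.{u}}

/-- On an integral scheme with valuation rings as stalks, finitely many sections of an invertible module,
not all zero, span an invertible submodule which they generate. -/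
theorem exists_span_invertible [IsIntegral X] (hval : ∀ x : X, ValuationRing (X.presheaf.stalk x))
    {L : X.Modules} (hL : PicF.IsInvertible L) {r : ℕ} (s : Fin (r + 1) → Γ(L, ⊤)) {i₀ : Fin (r + 1)}
    (h0 : s i₀ ≠ 0) :
    ∃ (M : X.Modules) (ι : M ⟶ L) (t : Fin (r + 1) → Γ(M, ⊤)), Mono ι ∧ PicF.IsInvertible M ∧
      (∀ i, ι.app ⊤ (t i) = s i) ∧
      ∀ x : X, ∃ j, x ∈ CohB1.genLocus M (Var76.Frames.ofSection M (t j)) := by
  classical
  haveI : L.IsQuasicoherent := (isCoh_of_isInvertible hL).1
  let F := FlatMod.freeMod X (r + 1)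
  haveI : F.IsQuasicoherent := Props58.Ext.isQuasicoherent_freeMod X (r + 1)
  let φ : F ⟶ L := Sigma.desc fun i => Var76.Frames.ofSection L (s i)
  haveI : (cokernel φ).IsQuasicoherent := QC70.isQuasicoherent_cokernel φ
  let M := Abelian.image φ
  haveI : M.IsQuasicoherent := QC70.isQuasicoherent_kernel (cokernel.π φ)
  let p : F ⟶ M := Abelian.factorThruImage φ
  let ι : M ⟶ L := Abelian.image.ι φ
  have hh : ∀ {P Q R : X.Opens} (h1 : Q ≤ P) (h2 : R ≤ Q) (z : Γ(X, P)),
      X.presheaf.map (homOfLE h2).op (X.presheaf.map (homOfLE h1).op z) =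
        X.presheaf.map (homOfLE (h2.trans h1)).op z := fun h1 h2 z => by
    rw [← ConcreteCategory.comp_apply, ← Functor.map_comp]; rfl
  let t : Fin (r + 1) → Γ(M, ⊤) := fun i =>
    p.app ⊤ ((Sigma.ι (fun _ : Fin (r + 1) => Coh.structureModule X) i).app ⊤ (1 : Γ(X, ⊤)))
  have hts : ∀ i, ι.app ⊤ (t i) = s i := fun i => by
    have e1 : Sigma.ι (fun _ : Fin (r + 1) => Coh.structureModule X) i ≫ p ≫ ι =
        Var76.Frames.ofSection L (s i) := by
      rw [Abelian.image.fac, Sigma.ι_desc]
    refine (congr((Scheme.Modules.Hom.app $e1 ⊤) (1 : Γ(X, ⊤)))).trans ?_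
    exact (Var76.Frames.val_ofSection L (s i) ⊤).trans (Amp73.res_self _ _)
  have key : ∀ x : X, ∃ (W : X.Opens) (j : Fin (r + 1)), x ∈ W ∧
      IsFrame M W (res M (le_top : W ≤ ⊤) (t j)) := by
    intro x
    obtain ⟨U, hxU, -, e, he⟩ := Mero90.exists_affine_frame hL x ⊤ trivial
    choose a ha using fun i => (he U.1 le_rfl).2 (res L (le_top : U.1 ≤ ⊤) (s i))
    simp only [Amp73.res_self] at ha
    let g : Fin (r + 1) → X.presheaf.stalk x := fun i => X.presheaf.germ U.1 x hxU (a i)
    obtain ⟨j, -, hj⟩ : ∃ j ∈ (Finset.univ : Finset (Fin (r + 1))), ∀ i, g j ∣ g i := by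
      have := hval x
      have hP : ∀ S : Finset (Fin (r + 1)), S.Nonempty → ∃ j ∈ S, ∀ i ∈ S, g j ∣ g i := by
        intro S hS
        induction hS using Finset.Nonempty.cons_induction with
        | singleton a => exact ⟨a, Finset.mem_singleton_self a, fun i hi => by
            rw [Finset.mem_singleton.1 hi]⟩
        | cons a S haS hS ih =>
          obtain ⟨j, hjS, hj⟩ := ih
          rcases ValuationRing.dvd_total (g a) (g j) with h | h
          · refine ⟨a, Finset.mem_cons_self a S, fun i hi => ?_⟩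
            rcases Finset.mem_cons.1 hi with rfl | hi
            · exact dvd_rfl
            · exact h.trans (hj i hi)
          · refine ⟨j, Finset.mem_cons_of_mem hjS, fun i hi => ?_⟩
            rcases Finset.mem_cons.1 hi with rfl | hi
            · exact h
            · exact hj i hi
      obtain ⟨j, hj, hj'⟩ := hP Finset.univ Finset.univ_nonempty
      exact ⟨j, hj, fun i => hj' i (Finset.mem_univ i)⟩
    choose c hc using hj
    choose V hxV b hb using fun i => TopCat.Presheaf.exists_germ_eq X.presheaf (c i)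
    let W₁ : X.Opens := U.1 ⊓ Finset.univ.inf V
    have hxW₁ : x ∈ W₁ := ⟨hxU, by
      rw [TopologicalSpace.Opens.coe_finset_inf]
      simpa using hxV⟩
    have hbV : ∀ i, W₁ ≤ V i := fun i => inf_le_right.trans (Finset.inf_le (Finset.mem_univ i))
    have heq : ∀ i, ∃ (W : X.Opens) (hW : W ≤ W₁), x ∈ W ∧
        X.presheaf.map (homOfLE (hW.trans inf_le_left)).op (a i) =
          X.presheaf.map (homOfLE (hW.trans (hbV i))).op (b i) *
            X.presheaf.map (homOfLE (hW.trans inf_le_left)).op (a j) := fun i => by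
      have h1 : X.presheaf.germ W₁ x hxW₁ (X.presheaf.map (homOfLE inf_le_left).op (a i)) =
          X.presheaf.germ W₁ x hxW₁ (X.presheaf.map (homOfLE (hbV i)).op (b i) *
            X.presheaf.map (homOfLE inf_le_left).op (a j)) := by
        rw [map_mul, TopCat.Presheaf.germ_res_apply, TopCat.Presheaf.germ_res_apply,
          TopCat.Presheaf.germ_res_apply, hb]
        show g i = c i * g j
        rw [hc i, mul_comm]
      obtain ⟨W, hxW, i₁, i₂, hW⟩ := TopCat.Presheaf.germ_eq X.presheaf x _ _ _ _ h1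
      refine ⟨W, i₁.le, hxW, ?_⟩
      obtain rfl : i₁ = i₂ := Subsingleton.elim _ _
      rw [show i₁ = homOfLE i₁.le from Subsingleton.elim _ _, map_mul, hh, hh, hh] at hW
      exact hW
    choose W' hW' hxW' hWeq using heq
    let W : X.Opens := W₁ ⊓ Finset.univ.inf W'
    have hxW : x ∈ W := ⟨hxW₁, by
      rw [TopologicalSpace.Opens.coe_finset_inf]
      simpa using hxW'⟩
    have hWU : W ≤ U.1 := inf_le_left.trans inf_le_left
    have hWi : ∀ i, W ≤ W' i := fun i => inf_le_right.trans (Finset.inf_le (Finset.mem_univ i))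
    let cc : Fin (r + 1) → Γ(X, W) := fun i =>
      X.presheaf.map (homOfLE ((hWi i).trans ((hW' i).trans (hbV i)))).op (b i)
    let A : Fin (r + 1) → Γ(X, W) := fun i => X.presheaf.map (homOfLE hWU).op (a i)
    have hA : ∀ i, A i = cc i * A j := fun i => by
      have := congrArg (X.presheaf.map (homOfLE (hWi i)).op) (hWeq i)
      rw [map_mul, hh, hh, hh] at this
      refine Eq.trans this ?_
      show _ = cc i * A j
      rfl
    have hsW : ∀ i, res L (le_top : W ≤ ⊤) (s i) = A i • res L hWU e := fun i => by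
      rw [show A i • res L hWU e = res L hWU (a i • e) from (res_smul L hWU (a i) e).symm, ha i, res_res]
    have hrel : ∀ i, res M (le_top : W ≤ ⊤) (t i) = cc i • res M (le_top : W ≤ ⊤) (t j) := fun i => by
      refine QC70.app_injective_of_mono ι W ?_
      rw [Scheme.Modules.Hom.app_smul]
      erw [QC70.app_res ι, QC70.app_res ι, hts, hts]
      refine (hsW i).trans (Eq.trans ?_ (congrArg (cc i • ·) (hsW j)).symm)
      rw [hA i, mul_smul]
    have hAj : A j ≠ 0 := fun h => by
      refine h0 ?_
      have h1 : res L (le_top : W ≤ ⊤) (s i₀) = 0 := by rw [hsW, hA, h, mul_zero, zero_smul]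
      refine QC70.section_ext _ _ _ fun y _ => ?_
      obtain ⟨Uy, hyU, -, ey, hey⟩ := Mero90.exists_affine_frame hL y ⊤ trivial
      refine ⟨Uy.1, le_top, hyU, ?_⟩
      obtain ⟨c₀, hc₀⟩ := (hey Uy.1 le_rfl).2 (res L (le_top : Uy.1 ≤ ⊤) (s i₀))
      simp only [Amp73.res_self] at hc₀
      have hne : (W ⊓ Uy.1 : X.Opens).1.Nonempty :=
        nonempty_preirreducible_inter W.2 Uy.1.2 ⟨x, hxW⟩ ⟨y, hyU⟩
      have : Nonempty (W ⊓ Uy.1 : X.Opens) := hne.to_subtype
      have : Nonempty Uy.1 := ⟨⟨y, hyU⟩⟩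
      have hz : X.presheaf.map (homOfLE (inf_le_right : W ⊓ Uy.1 ≤ Uy.1)).op c₀ = 0 := by
        refine (hey _ inf_le_right).1 ?_
        dsimp only
        rw [← res_smul, hc₀, res_res, zero_smul, ← res_res L (le_top : W ≤ ⊤) inf_le_left, h1]
        exact map_zero _
      have hc0 : c₀ = 0 :=
        map_injective_of_isIntegral X (homOfLE (inf_le_right : W ⊓ Uy.1 ≤ Uy.1)) (hz.trans (map_zero _).symm)
      show res L _ (s i₀) = res L _ 0
      rw [← hc₀, hc0, zero_smul]
      exact (map_zero _).symm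
    refine ⟨W, j, hxW, Rib52.isFrame_of_basis _ fun V hV y hy => ?_⟩
    obtain ⟨O, hO, hyO, hOV⟩ := exists_isAffineOpen_mem_and_subset hy
    refine ⟨O, le_trans hOV hV, hOV, hyO, fun b b' hbb => ?_, fun z => ?_⟩
    · have : Nonempty O := ⟨⟨y, hyO⟩⟩
      have h2 := congrArg (ι.app O) hbb
      simp only [Scheme.Modules.Hom.app_smul] at h2
      erw [QC70.app_res ι, QC70.app_res ι, hts] at h2
      have h3 : ∀ q : Γ(X, O), q • res L (le_trans hOV hV) (res L (le_top : W ≤ ⊤) (s j)) =
          (q * X.presheaf.map (homOfLE (le_trans hOV hV)).op (A j)) • res L ((le_trans hOV hV).trans hWU) e := fun q => by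
        rw [hsW, res_smul, res_res, smul_smul]
        rfl
      have h4 := (he O ((le_trans hOV hV).trans hWU)).1 ((h3 b).symm.trans (h2.trans (h3 b')))
      refine mul_right_cancel₀ ?_ h4
      intro hzero
      exact hAj (map_injective_of_isIntegral X (homOfLE (le_trans hOV hV)) (hzero.trans (map_zero _).symm))
    · obtain ⟨w, rfl⟩ := Kvb46.app_surjective_of_epi p hO z
      obtain ⟨q, hq⟩ := Var76.Reg.exists_sum_free p O w
      refine ⟨∑ i, q i * X.presheaf.map (homOfLE (le_trans hOV hV)).op (cc i), ?_⟩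
      rw [hq]
      dsimp only
      rw [Finset.sum_smul]
      refine Finset.sum_congr rfl fun i _ => ?_
      rw [mul_smul]
      refine congrArg (q i • ·) ((res_smul M _ (cc i) _).symm.trans ?_)
      rw [← hrel]
      exact res_res M _ _ (t i)
  refine ⟨M, ι, t, inferInstanceAs (Mono (Abelian.image.ι φ)),
    Mero90.isInvertible_of_frames fun x => ?_, hts, fun x => ?_⟩
  · obtain ⟨W, j, hx, hfr⟩ := key x
    exact ⟨W, hx, _, hfr⟩
  · obtain ⟨W, j, hx, hfr⟩ := key x
    refine ⟨j, (Amp73.isFrame_iff_le_genLocus (Var76.Frames.ofSection M (t j)) W).1 ?_ hx⟩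
    rwa [Var76.Frames.val_ofSection]

theorem valuationRing_stalks_of_regular [IsIntegral X] [IsLocallyNoetherian X]
    (hdim : topologicalKrullDim X ≤ 1) (hreg : ∀ x : X, IsRegularLocalRing (X.presheaf.stalk x)) (x : X) :
    ValuationRing (X.presheaf.stalk x) := by
  have := hreg x
  have : IsIntegrallyClosed (X.presheaf.stalk x) := CAlg6.isIntegrallyClosed_of_regular _
  exact (valuationRing_stalk hdim x).2

/-- The morphism to projective space attached to generating sections, with coordinates. -/
theorem exists_morphism_of_sections {R : Type u} [CommRing R] (q : X ⟶ Spec (CommRingCat.of R)) (M : X.Modules)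
    (hM : PicF.IsInvertible M) (n : ℕ) (u : Fin (n + 1) → ProjUP.Γm M)
    (h : ∀ x : X, ∃ j, x ∈ CohB1.genLocus M (Var76.Frames.ofSection M (u j))) :
    ∃ (f : X ⟶ CohB1.ProjSpace n R) (τ : (Scheme.Modules.pullback f).obj (Twist.twistProjSpace n R 1) ≅ M),
      f ≫ CohB1.ProjSpace.toSpec n R = q ∧
      ∀ j : Fin (n + 1), τ.hom.app ⊤ (ProjUP.pullSec f (Twist.twistProjSpace n R 1)
        (Twist.globalOf (CohB1.polyGrading n R)
          (⟨MvPolynomial.X j, MvPolynomial.isHomogeneous_X R j⟩ : (CohB1.polyGrading n R) 1))) = u j := by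
  classical
  let v : (Fin (n + 1) → R) →+ ProjUP.Γm M :=
    AddMonoidHom.mk' (fun c => ∑ k, ProjUP.toGlobal q (c k) • u k)
      fun a b => by simp [add_smul, Finset.sum_add_distrib]
  have hv1 : ∀ k, v (Pi.single k 1) = u k := fun k => by
    show ∑ i, ProjUP.toGlobal q ((Pi.single k 1 : Fin (n + 1) → R) i) • u i = u k
    rw [Finset.sum_eq_single k (fun i _ hi => by simp [Pi.single_eq_of_ne hi]) (by simp)]
    simp
  have hgen : ProjUP.GeneratedBy M v := EGA73.ImmersionPn.generatedBy_of_genLocus M v fun x => by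
    obtain ⟨j, hj⟩ := h x
    refine ⟨Pi.single j 1, ?_⟩
    rwa [hv1]
  obtain ⟨f, hf, τ, hτ⟩ := EGA73.ProjUniv.exists_to_proj (𝒮 := CohB1.polyGrading n R) q (EGA73.PolySym.linForm_mem n R)
    (EGA73.PolySym.isSymmetricAlgebra_linForm n R) M hM v
    (fun a c => by
      show ∑ k, ProjUP.toGlobal q (a * c k) • u k = ProjUP.toGlobal q a • ∑ k, ProjUP.toGlobal q (c k) • u k
      simp only [Finset.smul_sum, smul_smul, map_mul]) hgen
  refine ⟨f, τ, hf, fun j => ?_⟩
  have h1 := hτ (Pi.single j 1)
  rw [hv1] at h1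
  refine Eq.trans ?_ h1
  refine congrArg (fun s => τ.hom.app ⊤ (ProjUP.pullSec f _ (Twist.globalOf _ s))) (Subtype.ext ?_)
  exact (EGA73.PolySym.linForm_single n R j).symm

end Groth.Agent.Crv77
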