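import Mathlib.RingTheory.IntegralClosure.IntegrallyClosed
import Mathlib.RingTheory.Localization.AtPrime.Basic
import Mathlib.RingTheory.Localization.FractionRing
import Mathlib.RingTheory.Ideal.Quotient.Basic
import Mathlib.Algebra.Polynomial.AlgebraMap
import Mathlib.RingTheory.IntegralClosure.IsIntegralClosure.Basic

/-! A normal, integral, birational algebra over a ring is its integral closure in the total fractions. -/

set_option autoImplicit false
universe u

namespace Groth.Agent.Crv77

open nonZeroDivisors

variable {A : Type u} [CommRing A] {B : Type u} [CommRing B] [Algebra A B]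

theorem mem_of_normal_locally
    (hB : ∀ (m : Ideal B) [m.IsMaximal],
      IsDomain (Localization.AtPrime m) ∧ IsIntegrallyClosed (Localization.AtPrime m))
    {s b : B} (hs : s ∈ B⁰) {y : FractionRing B}
    (hy : y * algebraMap B (FractionRing B) s = algebraMap B (FractionRing B) b) (hint : IsIntegral B y) :
    ∃ c : B, algebraMap B (FractionRing B) c = y := by
  let I : Ideal B := (Ideal.span {s}).colon (Ideal.span {b})
  have hI : I = ⊤ := by
    by_contra hne
    obtain ⟨m, hm, hIm⟩ := Ideal.exists_le_maximal I hne
    obtain ⟨hd, hic⟩ := hB m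
    let Bm := Localization.AtPrime m
    let Km := FractionRing Bm
    have hinjm : Function.Injective (algebraMap Bm Km) := IsFractionRing.injective Bm Km
    have hsne : algebraMap B Bm s ≠ 0 := by
      intro h0
      obtain ⟨c, hc⟩ := (IsLocalization.map_eq_zero_iff m.primeCompl Bm s).1 h0
      exact c.2 (((mem_nonZeroDivisors_iff_right.1 hs) c.1 hc) ▸ m.zero_mem)
    let θ : FractionRing B →+* Km := IsLocalization.lift (M := B⁰) (g := (algebraMap Bm Km).comp (algebraMap B Bm))
      (fun t => by
        refine isUnit_iff_ne_zero.2 fun h0 => ?_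
        rw [RingHom.comp_apply, map_eq_zero_iff _ hinjm,
          IsLocalization.map_eq_zero_iff m.primeCompl Bm] at h0
        obtain ⟨c, hc⟩ := h0
        exact c.2 (((mem_nonZeroDivisors_iff_right.1 t.2) c.1 hc) ▸ m.zero_mem))
    have hθ : ∀ x : B, θ (algebraMap B (FractionRing B) x) = algebraMap Bm Km (algebraMap B Bm x) :=
      fun x => IsLocalization.lift_eq _ x
    have h1 : IsIntegral Bm (θ y) := by
      obtain ⟨p, hp, hp0⟩ := hint
      refine ⟨p.map (algebraMap B Bm), hp.map _, ?_⟩
      rw [Polynomial.eval₂_map, show (algebraMap Bm Km).comp (algebraMap B Bm) =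
        θ.comp (algebraMap B (FractionRing B)) from RingHom.ext fun x => (hθ x).symm,
        ← Polynomial.hom_eval₂, hp0, map_zero]
    obtain ⟨c, hc⟩ := (isIntegrallyClosed_iff Km).1 hic h1
    obtain ⟨⟨c₁, t⟩, hct⟩ := IsLocalization.surj m.primeCompl c
    have h2 : algebraMap B Bm (b * t) = algebraMap B Bm (s * c₁) := by
      apply hinjm
      rw [map_mul, map_mul, map_mul, map_mul, ← hθ b, ← hy, map_mul, hθ, ← hc, ← hct, map_mul]
      ring
    obtain ⟨d, hd'⟩ := IsLocalization.exists_of_eq (M := m.primeCompl) h2
    refine (m.primeCompl.mul_mem t.2 d.2) (hIm ?_)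
    refine Submodule.mem_colon.2 fun z hz => ?_
    obtain ⟨e, rfl⟩ := Ideal.mem_span_singleton'.1 hz
    refine Ideal.mem_span_singleton'.2 ⟨d * c₁ * e, ?_⟩
    rw [smul_eq_mul]
    linear_combination (-e) * hd'
  have h1 : (1 : B) ∈ I := hI ▸ Submodule.mem_top
  have h2 := Submodule.mem_colon.1 h1 b (Ideal.mem_span_singleton_self b)
  rw [one_smul] at h2
  obtain ⟨c, hc⟩ := Ideal.mem_span_singleton'.1 h2
  refine ⟨c, ((IsLocalization.map_units (FractionRing B) (⟨s, hs⟩ : B⁰)).mul_left_inj).1 ?_⟩
  rw [hy, ← map_mul]
  exact congrArg _ hc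

/-- The integral closure is any integral birational algebra with normal localizations. -/
theorem nonempty_quot_equiv_deltaQuot (hint : Algebra.IsIntegral A B)
    (hinj : Function.Injective (algebraMap A B)) (g : A) (hgB : algebraMap A B g ∈ B⁰) (hgA : g ∈ A⁰)
    (hpow : ∀ b : B, ∃ (n : ℕ) (a : A), algebraMap A B g ^ n * b = algebraMap A B a)
    (hB : ∀ (m : Ideal B) [m.IsMaximal],
      IsDomain (Localization.AtPrime m) ∧ IsIntegrallyClosed (Localization.AtPrime m)) :
    Nonempty ((B ⧸ LinearMap.range (Algebra.linearMap A B)) ≃ₗ[A]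
      ↥(integralClosure A (FractionRing A)) ⧸
        LinearMap.range (Algebra.linearMap A ↥(integralClosure A (FractionRing A)))) := by
  have hnzd : A⁰ ≤ B⁰.comap (algebraMap A B) := fun s hs => by
    refine mem_nonZeroDivisors_iff_right.2 fun b hb => ?_
    obtain ⟨n, a, ha⟩ := hpow b
    have : algebraMap A B (a * s) = 0 := by rw [map_mul, ← ha, mul_assoc, hb, mul_zero]
    have ha0 : a = 0 := (mem_nonZeroDivisors_iff_right.1 hs) a (hinj (this.trans (map_zero _).symm))
    rw [ha0, map_zero, mul_comm] at ha
    exact (mem_nonZeroDivisors_iff_right.1 (pow_mem hgB n)) b ha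
  let θ : FractionRing A →+* FractionRing B := IsLocalization.map (FractionRing B) (algebraMap A B) hnzd
  have hθ : ∀ a, θ (algebraMap A (FractionRing A) a) = algebraMap B (FractionRing B) (algebraMap A B a) :=
    fun a => IsLocalization.map_eq hnzd a
  have hθinj : Function.Injective θ := by
    refine (injective_iff_map_eq_zero θ).2 fun q hq => ?_
    obtain ⟨⟨a, s⟩, has⟩ := IsLocalization.surj A⁰ q
    have h0 := congrArg θ has
    rw [map_mul, hq, zero_mul, hθ] at h0
    have : a = 0 := hinj ((IsFractionRing.injective B (FractionRing B) (h0.symm.trans (map_zero _).symm)).trans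
      (map_zero _).symm)
    rw [this, map_zero] at has
    exact ((IsLocalization.map_units (FractionRing A) s).mul_left_eq_zero).1 has
  have hB' : ∀ q : integralClosure A (FractionRing A), ∃ b : B, algebraMap B (FractionRing B) b = θ q := by
    intro q
    obtain ⟨⟨a, s⟩, has⟩ := IsLocalization.surj A⁰ (q : FractionRing A)
    refine mem_of_normal_locally hB (hnzd s.2) (b := algebraMap A B a) ?_ ?_
    · rw [← hθ, ← hθ, ← map_mul, has]
    · obtain ⟨p, hp, hp0⟩ := q.2
      refine ⟨p.map (algebraMap A B), hp.map _, ?_⟩
      rw [Polynomial.eval₂_map, show (algebraMap B (FractionRing B)).comp (algebraMap A B) =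
        θ.comp (algebraMap A (FractionRing A)) from RingHom.ext fun x => (hθ x).symm,
        ← Polynomial.hom_eval₂, hp0, map_zero]
  choose f hf using hB'
  let F : ↥(integralClosure A (FractionRing A)) →ₗ[A] B :=
    { toFun := f
      map_add' := fun x y => IsFractionRing.injective B (FractionRing B) (by
        rw [map_add, hf, hf, hf, ← map_add]; rfl)
      map_smul' := fun a x => IsFractionRing.injective B (FractionRing B) (by
        rw [RingHom.id_apply, Algebra.smul_def a (f x), map_mul, hf, hf, ← hθ, ← map_mul θ]
        exact congrArg θ (Algebra.smul_def a (x : FractionRing A))) }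
  have hF1 : ∀ a, F (algebraMap A _ a) = algebraMap A B a := fun a =>
    IsFractionRing.injective B (FractionRing B) ((hf _).trans (hθ a))
  have hbij : Function.Bijective F := by
    refine ⟨fun x y hxy => Subtype.ext (hθinj ?_), fun b => ?_⟩
    · rw [← hf, ← hf]
      exact congrArg _ hxy
    · obtain ⟨n, a, ha⟩ := hpow b
      obtain ⟨u, hu⟩ := IsLocalization.map_units (FractionRing A) (⟨g ^ n, pow_mem hgA n⟩ : A⁰)
      let q : FractionRing A := algebraMap A (FractionRing A) a * ↑u⁻¹
      have hθq : θ q = algebraMap B (FractionRing B) b := by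
        refine ((IsLocalization.map_units (FractionRing B) (⟨algebraMap A B (g ^ n), hnzd (pow_mem hgA n)⟩ : B⁰)).mul_left_inj).1 ?_
        show θ q * algebraMap B _ (algebraMap A B (g ^ n)) = _ * algebraMap B _ (algebraMap A B (g ^ n))
        rw [← hθ, ← map_mul θ, show q * algebraMap A (FractionRing A) (g ^ n) = algebraMap A _ a by
          rw [show algebraMap A (FractionRing A) (g ^ n) = ↑u from hu.symm, Units.inv_mul_cancel_right],
          hθ, hθ, ← map_mul, map_pow, mul_comm b, ha]
      have hq : IsIntegral A q := by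
        obtain ⟨p, hp, hp0⟩ := hint.isIntegral b
        refine ⟨p, hp, hθinj ?_⟩
        rw [map_zero, Polynomial.hom_eval₂, hθq,
          show θ.comp (algebraMap A (FractionRing A)) = (algebraMap B (FractionRing B)).comp (algebraMap A B)
            from RingHom.ext hθ, ← Polynomial.hom_eval₂, hp0, map_zero]
      exact ⟨⟨q, hq⟩, IsFractionRing.injective B (FractionRing B) ((hf _).trans hθq)⟩
  refine ⟨(Submodule.Quotient.equiv _ _ (LinearEquiv.ofBijective F hbij) ?_).symm⟩
  rw [← LinearMap.range_comp]
  congr 1
  exact LinearMap.ext hF1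

end Groth.Agent.Crv77
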