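import Groth.Agent.Crv77.Hyper

/-! Multiples of a divisor with two sections. -/

set_option autoImplicit false
set_option linter.style.haveILetI false
universe u

open Polynomial FunFld
open scoped Polynomial

namespace Groth.Agent.Crv77

variable {k : Type u} [Field k] {K : Type u} [Field K] [Algebra k K]

/-- If `ell N ≥ 2` then `ell (r • N) ≥ r + 1`, over any constant field. -/
theorem ell_nsmul_ge_of_two (hK : IsFunctionField k K) {N : Divisor k K} (hN : 2 ≤ ell N) (r : ℕ) :
    r + 1 ≤ ell (r • N) := by
  have hF := FF30.FF.of_isFunctionField hK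
  obtain ⟨E, hE, hNE, -⟩ := CrvPic30.exists_eff hF (D := N) (by omega)
  have hr : r • N - r • E ∈ prinDivs k K := by
    rw [← nsmul_sub]
    exact (prinDivs k K).nsmul_mem hNE r
  rw [FF30.ell_congr hF hr]
  rw [FF30.ell_congr hF hNE] at hN
  obtain ⟨z, hzE, hz⟩ : ∃ z ∈ L E, z ∉ Set.range (algebraMap k K) := by
    by_contra hne
    push Not at hne
    have hle : L E ≤ (1 : Submodule k K) := fun x hx => FF30.mem_one_iff.2 (hne x hx)
    have : Module.Finite k (1 : Submodule k K) := by
      rw [← FF30.L_zero' hK]; exact hF.finite_L 0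
    have h1 : Module.finrank k (1 : Submodule k K) = 1 := by
      rw [← FF30.L_zero' hK]; exact FF30.ell_zero hK
    have h2 := Submodule.finrank_mono hle
    unfold ell at hN
    omega
  have htr := FF30.transcendental_of_not_mem_range hK hz
  have hpE : r • (FF30.poleDiv z : Divisor k K) ≤ r • E := fun P => by
    simp only [Finsupp.coe_smul, Pi.smul_apply]
    exact nsmul_le_nsmul_right (poleDiv_le_of_mem_L hK hE hzE P) r
  have hle : (degreeLE k ((r : ℕ) : WithBot ℕ)).map (aeval (R := k) z).toLinearMap ≤ L (r • E) := by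
    rintro _ ⟨a, ha, rfl⟩
    exact FF30.L_mono hpE (DL.aeval_mem_L hK (z := z) ha)
  have := hF.finite_L (r • E)
  have h := Submodule.finrank_mono hle
  rw [← (Submodule.equivMapOfInjective _ (transcendental_iff_injective.1 htr) _).finrank_eq] at h
  have e1 : degreeLE k ((r : ℕ) : WithBot ℕ) = degreeLT k (r + 1) := by
    ext f
    rw [mem_degreeLE, mem_degreeLT, degree_le_iff_coeff_zero, degree_lt_iff_coeff_zero]
    exact forall_congr' fun i => ⟨fun h hi => h (by exact_mod_cast Nat.lt_of_succ_le hi),
      fun h hi => h (Nat.succ_le_of_lt (by exact_mod_cast hi))⟩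
  rw [e1, (degreeLTEquiv k (r + 1)).finrank_eq, Module.finrank_fin_fun] at h
  exact h

end Groth.Agent.Crv77
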