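import Groth.Agent.Crv77.GeomConn
import Groth.Agent.Crv77.BaseChange
import Groth.Agent.Curves2.Genus0.EtaleIso
import Groth.Agent.CrvPic30.Canonical
import Groth.Agent.RedPts82.SmoothDim
import Groth.Agent.Om3.TopForms
import Groth.Agent.Om3.ExtPowOmega
import Groth.Agent.FBase64.ProductDim

/-! The differentials of a smooth geometrically connected curve over any field are a canonical divisor. -/

set_option autoImplicit false
set_option linter.style.haveILetI false
set_option backward.isDefEq.respectTransparency false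
universe u

open CategoryTheory CategoryTheory.Limits AlgebraicGeometry TopologicalSpace FunFld

namespace Groth.Agent.Crv77

attribute [local instance] CrvPic30.ffAlg

/-- Extension of the ground field preserves the shape of a smooth geometrically connected curve and of its `Ω`. -/
theorem exists_closure_model (k : Type u) [Field k] (X : Scheme.{u}) [X.Over (Spec (CommRingCat.of k))]
    [IsProper (X ↘ Spec (CommRingCat.of k))] [Smooth (X ↘ Spec (CommRingCat.of k))]
    [GeometricallyConnected (X ↘ Spec (CommRingCat.of k))] (hdim : topologicalKrullDim X = 1) :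
    ∃ (K : Type u) (_ : Field K) (_ : Algebra k K) (_ : IsAlgClosed K) (X' : Scheme.{u})
      (_ : X'.Over (Spec (CommRingCat.of K))) (g : X' ⟶ X),
      IsPullback g (X' ↘ Spec (CommRingCat.of K)) (X ↘ Spec (CommRingCat.of k))
        (Spec.map (CommRingCat.ofHom (algebraMap k K))) ∧
      IsProper (X' ↘ Spec (CommRingCat.of K)) ∧ Smooth (X' ↘ Spec (CommRingCat.of K)) ∧ IsIntegral X' ∧
      topologicalKrullDim X' = 1 ∧
      Nonempty ((Scheme.Modules.pullback g).obj (Omega.sheaf (X ↘ Spec (CommRingCat.of k))) ≅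
        Omega.sheaf (X' ↘ Spec (CommRingCat.of K))) := by
  let f := X ↘ Spec (CommRingCat.of k)
  let K := AlgebraicClosure k
  let b := Spec.map (CommRingCat.ofHom (algebraMap k K))
  let X' := pullback f b
  let _ : X'.Over (Spec (CommRingCat.of K)) := ⟨pullback.snd f b⟩
  have : IsProper (X' ↘ Spec (CommRingCat.of K)) := inferInstanceAs (IsProper (pullback.snd f b))
  have : Smooth (X' ↘ Spec (CommRingCat.of K)) := inferInstanceAs (Smooth (pullback.snd f b))
  have := geometricallyIrreducible_of_connected k X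
  have hirr : IrreducibleSpace X' := GeometricallyIrreducible.irreducibleSpace_of_subsingleton
    (f := pullback.snd f b)
  have hred : IsReduced X' := by
    have := AlgGrp79.geometricallyReduced_of_smooth f
    infer_instance
  have : IsIntegral X' := isIntegral_of_irreducibleSpace_of_isReduced X'
  have hd : topologicalKrullDim X' = 1 := (FBase64.topologicalKrullDim_bc f K).trans hdim
  refine ⟨K, inferInstance, inferInstance, inferInstance, X', inferInstance, pullback.fst f b,
    IsPullback.of_hasPullback f b, inferInstance, inferInstance, inferInstance, hd, ?_⟩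
  obtain ⟨c, hc, -⟩ := Om3.existsUnique_diffCompat (pullback.fst f b)
    (show (X' ↘ Spec (CommRingCat.of K)) ≫ b = pullback.fst f b ≫ f from (pullback.condition).symm)
    (Var76.OmegaUniv.isUniversal f) (OmegaSh.dOmega (X' ↘ Spec (CommRingCat.of K)))
  have := Om3.isIso_of_isPullback f b (pullback.fst f b) (X' ↘ Spec (CommRingCat.of K))
    (IsPullback.of_hasPullback f b) (Var76.OmegaUniv.isUniversal f)
    (Var76.OmegaUniv.isUniversal (X' ↘ Spec (CommRingCat.of K))) c hc
  exact ⟨asIso c⟩

variable (k : Type u) [Field k] (X : Scheme.{u}) [X.Over (Spec (CommRingCat.of k))]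
  [IsProper (X ↘ Spec (CommRingCat.of k))] [Smooth (X ↘ Spec (CommRingCat.of k))]
  [GeometricallyConnected (X ↘ Spec (CommRingCat.of k))]

theorem isInvertible_omega_of_irreducible [IrreducibleSpace X] (hdim : topologicalKrullDim X = 1) :
    PicF.IsInvertible (Omega.sheaf (X ↘ Spec (CommRingCat.of k))) := fun x => by
  have := RedPts82.smoothOfRelativeDimension_of_irreducible (X ↘ Spec (CommRingCat.of k)) 1 (by simpa using hdim)
  obtain ⟨U, hU, ⟨φ⟩⟩ := Om3.TopForms.isFinLocFreeOfRank_omega (X ↘ Spec (CommRingCat.of k)) 1 x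
  exact ⟨U, hU, ⟨φ ≪≫ Limits.coproductUniqueIso _⟩⟩

/-- `deg Ω = 2g - 2` and `h⁰(Ω) = g`. -/
theorem deg_omega_of_connected [IsIntegral X] (hdim : topologicalKrullDim X = 1) :
    Curv2.deg k X (Omega.sheaf (X ↘ Spec (CommRingCat.of k))) 1 = 2 * (Curv2.genus k X : ℤ) - 2 ∧
      Module.finrank k (Coh.HH X (Omega.sheaf (X ↘ Spec (CommRingCat.of k))) 0) = Curv2.genus k X := by
  obtain ⟨K, _, _, _, X', _, g, hpb, _, _, _, hd', ⟨e⟩⟩ := exists_closure_model k X hdim
  have hΩ : Coh.IsCoh (Omega.sheaf (X ↘ Spec (CommRingCat.of k))) :=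
    isCoh_of_isInvertible (isInvertible_omega_of_irreducible k X hdim)
  have hO : ∀ i, Module.finrank K (Coh.HH X' (Coh.structureModule X') i) =
      Module.finrank k (Coh.HH X (Coh.structureModule X) i) :=
    fun i => finrank_hh_structureModule_baseChange k K g hpb i
  have hh : ∀ i, Module.finrank K (Coh.HH X' (Omega.sheaf (X' ↘ Spec (CommRingCat.of K))) i) =
      Module.finrank k (Coh.HH X (Omega.sheaf (X ↘ Spec (CommRingCat.of k))) i) := fun i =>
    (hEquiv K e.symm i).finrank_eq.trans (finrank_hh_baseChange k K g hpb _ hΩ i)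
  have hgen : Curv2.genus K X' = Curv2.genus k X := hO 1
  have hdeg : Curv2.deg K X' (Omega.sheaf (X' ↘ Spec (CommRingCat.of K))) 1 =
      Curv2.deg k X (Omega.sheaf (X ↘ Spec (CommRingCat.of k))) 1 := by
    simp only [Curv2.deg, Curv2.euler, hh, hO]
  have hS := CrvPic30.setup_of_smooth_algClosed (k := K) (C := X') hd'
  obtain ⟨W, hW, ⟨eW⟩⟩ := hS.nonempty_iso_omega
  obtain ⟨h0, hdg⟩ := hS.h0_canonical hW eW
  rw [← hdeg, ← hh 0, ← hgen]
  exact ⟨hdg, h0⟩

/-- `Ω ≅ O(W)`. -/
theorem omega_iso_canonical [IsIntegral X] (hdim : topologicalKrullDim X = 1) :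
    ∃ (h : CrvPic30.Setup k X) (W : Divisor k X.functionField), IsCanonical k X.functionField W ∧
      Nonempty (Omega.sheaf (X ↘ Spec (CommRingCat.of k)) ≅ h.O W) := by
  have h := setup_of_connected k X hdim
  obtain ⟨W, hW⟩ := FF30.exists_isCanonical h.ff
  obtain ⟨hd, h0⟩ := deg_omega_of_connected k X hdim
  exact ⟨h, W, hW, h.iso_canonical hW (Iso.refl _) (isInvertible_omega_of_irreducible k X hdim) hd h0.ge⟩

end Groth.Agent.Crv77
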