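import Groth.Agent.Crv77.BiratOpen
import Groth.Agent.Crv77.BranchLe
import Groth.Agent.Crv77.DeltaEuler
import Groth.Agent.Crv77.H0Count
import Groth.Agent.Crv77.Birat2
import Groth.Agent.Crv77.DivLe

/-! Ordinary multiple points and the genus of the normalization. -/

set_option autoImplicit false
set_option backward.isDefEq.respectTransparency false
universe u

open CategoryTheory CategoryTheory.Limits AlgebraicGeometry TopologicalSpace

attribute [local instance] Curv2.resAlgebra

namespace Groth.Agent.Crv77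

theorem card_components_eq {X X' : Scheme.{u}} (π : X' ⟶ X)
    (hbij : Set.BijOn (fun x' : X' => π x') {x' : X' | closure ({x'} : Set X') ∈ irreducibleComponents (X' : Type u)}
      {x : X | closure ({x} : Set X) ∈ irreducibleComponents (X : Type u)}) :
    Nat.card (irreducibleComponents (X' : Type u)) = Nat.card (irreducibleComponents (X : Type u)) := by
  have key : ∀ Y : Scheme.{u}, Nat.card {y : Y | closure ({y} : Set Y) ∈ irreducibleComponents (Y : Type u)} =
      Nat.card (irreducibleComponents (Y : Type u)) := fun Y => by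
    refine Nat.card_congr (Equiv.ofBijective (fun y => ⟨closure {y.1}, y.2⟩) ⟨fun a b h => Subtype.ext
      (inseparable_iff_closure_eq.2 (congrArg Subtype.val h)).eq, fun Z => ?_⟩)
    have hi : IsIrreducible (Z : Set Y) := Z.2.1
    have h : closure ({hi.genericPoint} : Set Y) = Z := by
      rw [hi.genericPoint_closure_eq, (isClosed_of_mem_irreducibleComponents _ Z.2).closure_eq]
    exact ⟨⟨hi.genericPoint, (congrArg (· ∈ irreducibleComponents (Y : Type u)) h).mpr Z.2⟩, Subtype.ext h⟩
  rw [← key X', ← key X]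
  exact Nat.card_congr hbij.equiv

open scoped Classical in
theorem genus_eq_iff_ordinary {k : Type u} [Field k] [IsAlgClosed k] {X X' : Scheme.{u}}
    [X.Over (Spec (CommRingCat.of k))] [X'.Over (Spec (CommRingCat.of k))]
    [IsProper (X ↘ (Spec (CommRingCat.of k)))] [IsReduced X] [ConnectedSpace X]
    (hequi : ∀ Z ∈ irreducibleComponents (X : Type u), topologicalKrullDim Z = 1)
    (π : X' ⟶ X) [IsFinite π] (hπ : π ≫ (X ↘ (Spec (CommRingCat.of k))) = X' ↘ (Spec (CommRingCat.of k)))
    (hX' : Pi1.IsNormalScheme X')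
    (hbij : Set.BijOn (fun x' : X' => π x') {x' : X' | closure ({x'} : Set X') ∈ irreducibleComponents (X' : Type u)}
      {x : X | closure ({x} : Set X) ∈ irreducibleComponents (X : Type u)})
    (hres : ∀ x' : X', closure ({x'} : Set X') ∈ irreducibleComponents (X' : Type u) → Function.Bijective (π.residueFieldMap x').hom) :
    ((Curv2.genus k X : ℤ) = (Curv2.genus k X' : ℤ) +
        (∑ᶠ x : X, (if IsClosed ({x} : Set X) then (((Brnch.numBranchesAt X x).toNat : ℤ) - 1) else 0)) -
        (Nat.card (irreducibleComponents (X : Type u)) : ℤ) + 1) ↔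
      ∀ x : X, IsClosed ({x} : Set X) → Curv2.deltaInv (X.presheaf.stalk x) + 1 = Brnch.numBranchesAt X x := by
  have : IsLocallyNoetherian X := LocallyOfFiniteType.isLocallyNoetherian (X ↘ (Spec (CommRingCat.of k)))
  have : CompactSpace X := QuasiCompact.compactSpace_of_compactSpace (X ↘ (Spec (CommRingCat.of k)))
  have : IsNoetherian X := ⟨⟩
  have hdim : topologicalKrullDim X ≤ 1 := dim_le_one_of_components hequi
  have : IsProper (X' ↘ (Spec (CommRingCat.of k))) := hπ ▸ inferInstance
  have : IsLocallyNoetherian X' := LocallyOfFiniteType.isLocallyNoetherian π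
  have : CompactSpace X' := QuasiCompact.compactSpace_of_compactSpace π
  have : IsNoetherian X' := ⟨⟩
  obtain ⟨U, hU, hU', hfU⟩ := exists_isIso_open π hX' hbij hres
  have hdim' : topologicalKrullDim X' ≤ 1 :=
    dim_le_one_of_birational (X' ↘ (Spec (CommRingCat.of k))) hdim π U hU' hfU
  have hχ := euler_eq_add_delta k hdim π hπ hX' U hU hU' hfU
  rw [(curveCoh_of_proper k X hdim).euler_eq (isCoh_structureModule (X := X)),
    (curveCoh_of_proper k X' hdim').euler_eq (isCoh_structureModule (X := X'))] at hχ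
  simp only [h, finrank_h0_of_reduced_connected k X hdim, finrank_h0_of_normal k X' hX' hdim',
    card_components_eq π hbij] at hχ
  let δ : X → ℤ := fun x => if IsClosed ({x} : Set X) then ((Curv2.deltaInv (X.presheaf.stalk x)).toNat : ℤ) else 0
  let m : X → ℤ := fun x => if IsClosed ({x} : Set X) then (((Brnch.numBranchesAt X x).toNat : ℤ) - 1) else 0
  have hfacts : ∀ x : X, IsClosed ({x} : Set X) →
      ((Curv2.deltaInv (X.presheaf.stalk x) + 1 = Brnch.numBranchesAt X x ↔ δ x = m x) ∧ 0 ≤ m x ∧ m x ≤ δ x) := by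
    intro x hx
    obtain ⟨hN, hd, -⟩ := Delta12.curve_stalk_facts k X hequi x hx
    obtain ⟨hle, htop, hone⟩ := numBranches_le_delta (X.presheaf.stalk x) hN hd
    obtain ⟨d, hd'⟩ := WithTop.ne_top_iff_exists.1 htop
    have hmtop : Brnch.numBranchesAt X x ≠ ⊤ := ne_top_of_le_ne_top (by simp [htop]) hle
    obtain ⟨n, hn⟩ := WithTop.ne_top_iff_exists.1 hmtop
    have hd'' : Curv2.deltaInv (X.presheaf.stalk x) = (d : ℕ∞) := hd'.symm
    have hn' : Brnch.numBranchesAt X x = (n : ℕ∞) := hn.symm
    have hle' : n ≤ d + 1 := by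
      have : (n : ℕ∞) ≤ ((d + 1 : ℕ) : ℕ∞) := by rw [Nat.cast_add, Nat.cast_one, ← hd'', ← hn']; exact hle
      exact_mod_cast this
    have hone' : 1 ≤ n := by
      have : ((1 : ℕ) : ℕ∞) ≤ (n : ℕ∞) := by rw [← hn', Nat.cast_one]; exact hone
      exact_mod_cast this
    simp only [δ, m, if_pos hx, hd'', hn', ENat.toNat_natCast]
    refine ⟨⟨fun h => ?_, fun h => ?_⟩, by omega, by omega⟩
    · have : d + 1 = n := by exact_mod_cast h
      omega
    · have : d + 1 = n := by omega
      exact_mod_cast this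
  have hδsum : (∑ᶠ x : X, (if IsClosed ({x} : Set X) then
      ((Module.finrank k (X.residueField x) : ℤ) * ((Curv2.deltaInv (X.presheaf.stalk x)).toNat : ℤ)) else 0)) =
        ∑ᶠ x, δ x := finsum_congr fun x => by
    simp only [δ]
    split
    · rename_i hx
      rw [finrank_residueField_eq_one k hx]
      simp
    · rfl
  rw [hδsum] at hχ
  obtain ⟨hfin, hcl⟩ := finite_compl_dense hdim U.2 hU
  have hδ0 : ∀ x, x ∉ hfin.toFinset → δ x = 0 := fun x hx => by
    have hsupp : SuppIn (cokernel (ClSub.unitToPush π)) ((U : Set X)ᶜ) := suppIn_cokernel _ fun z hz =>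
      surjective_stalkMapM_unitToPush π U inferInstance z (not_not.1 hz)
    have := hsupp x (fun h => hx (hfin.mem_toFinset.2 h))
    simp only [δ]
    split
    · rw [← length_cokernel_eq_deltaInv π U hX' hU hU' hfU x, Module.length_eq_zero]; rfl
    · rfl
  have hm : ∀ x, 0 ≤ m x ∧ m x ≤ δ x := fun x => by
    by_cases hx : IsClosed ({x} : Set X)
    · exact (hfacts x hx).2
    · simp [δ, m, hx]
  have hm0 : ∀ x, x ∉ hfin.toFinset → m x = 0 := fun x hx => le_antisymm ((hm x).2.trans (hδ0 x hx).le) (hm x).1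
  rw [finsum_eq_finset_sum_of_support_subset δ (s := hfin.toFinset) (fun x hx => by_contra fun h => hx (hδ0 x h))] at hχ
  rw [show (∑ᶠ x : X, (if IsClosed ({x} : Set X) then (((Brnch.numBranchesAt X x).toNat : ℤ) - 1) else 0)) = ∑ᶠ x, m x from rfl,
    finsum_eq_finset_sum_of_support_subset m (s := hfin.toFinset) (fun x hx => by_contra fun h => hx (hm0 x h))]
  have key : (∑ x ∈ hfin.toFinset, δ x = ∑ x ∈ hfin.toFinset, m x) ↔ ∀ x ∈ hfin.toFinset, δ x = m x := by
    refine ⟨fun h x hx => ?_, fun h => Finset.sum_congr rfl h⟩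
    have h0 : ∑ x ∈ hfin.toFinset, (δ x - m x) = 0 := by rw [Finset.sum_sub_distrib, h, sub_self]
    exact sub_eq_zero.1 ((Finset.sum_eq_zero_iff_of_nonneg fun x _ => sub_nonneg.2 (hm x).2).1 h0 x hx)
  constructor
  · intro hg x hx
    refine (hfacts x hx).1.2 ?_
    by_cases hxs : x ∈ hfin.toFinset
    · refine key.1 ?_ x hxs
      simp only [Curv2.genus] at hg
      omega
    · rw [hδ0 x hxs, hm0 x hxs]
  · intro hall
    have := key.2 fun x hx => (hfacts x (hcl x (hfin.mem_toFinset.1 hx))).1.1 (hall x (hcl x (hfin.mem_toFinset.1 hx)))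
    simp only [Curv2.genus]
    omega

end Groth.Agent.Crv77
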