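import Groth.Agent.An92.Lef.Points
import Groth.Agent.An92.Lef.QuadForm

/-! The coordinate rings of the standard pieces of a plane curve. -/

set_option autoImplicit false
set_option backward.isDefEq.respectTransparency false
universe u

open CategoryTheory CategoryTheory.Limits AlgebraicGeometry Opposite TopologicalSpace
open Groth.Agent.An92.Lef

noncomputable section

namespace Groth.Agent.Crv77

variable {k : Type u} [Field k] {r m d : ℕ}

theorem forms_map_pform {X : Scheme.{u}} (i : X ⟶ CohB1.ProjSpace r k) (j : Fin (r + 1))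
    (H : LefPen.Form r k d) :
    i.app (Var76.ProjCoord.U k r j) (pform (𝟙 (CohB1.ProjSpace r k)) j H) = pform i j H := rfl

/-- The piece of a hypersurface over a standard chart is cut out by the dehomogenised equation. -/
theorem exists_pieceHom (G : LefPen.Form r k d) (j : Fin (r + 1)) (l : Fin m → Fin (r + 1))
    (b : Fin (r + 1) → MvPolynomial (Fin m) k) (hbj : b j = 1) (hl : ∀ i, b (l i) = MvPolynomial.X i)
    (hcover : ∀ t, t = j ∨ ∃ i, l i = t) :
    ∃ φ : MvPolynomial (Fin m) k →ₐ[k] Γ((LefPen.hypIdeal G).subscheme, piece (LefPen.hypIdeal G).subschemeι j),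
      Function.Surjective φ ∧ RingHom.ker φ.toRingHom = Ideal.span {MvPolynomial.aeval b G.1} ∧
      (∀ t, φ (b t) = pcoord (LefPen.hypIdeal G).subschemeι j t) := by
  let i₀ := 𝟙 (CohB1.ProjSpace r k)
  let τ : MvPolynomial (Fin m) k →ₐ[k] Γ(CohB1.ProjSpace r k, piece i₀ j) :=
    MvPolynomial.aeval fun i => pcoord i₀ j (l i)
  obtain ⟨ψ, hψ⟩ := exists_chartHom (k := k) j b (by rw [hbj]; exact isUnit_one)
  have hψ' : ∀ {e : ℕ} (H : LefPen.Form r k e), ψ (pform i₀ j H) = MvPolynomial.aeval b H.1 := fun H => by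
    have := hψ H
    rwa [hbj, one_pow, mul_one] at this
  have hleft : ∀ p, ψ (τ p) = p := by
    intro p
    have h : ψ.comp τ = AlgHom.id k _ := MvPolynomial.algHom_ext fun i => by
      show ψ (MvPolynomial.aeval _ (MvPolynomial.X i)) = MvPolynomial.X i
      rw [MvPolynomial.aeval_X, ← pform_X, hψ', MvPolynomial.aeval_X, hl]
    exact congr($h p)
  have hτb : ∀ t, τ (b t) = pcoord i₀ j t := by
    intro t
    rcases hcover t with rfl | ⟨i, rfl⟩
    · rw [hbj, map_one, pcoord_self]
    · rw [hl]; exact MvPolynomial.aeval_X _ _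
  have hsurj : Function.Surjective τ := by
    have h1 : Algebra.adjoin k (Set.range (pcoord i₀ j)) = ⊤ := adjoin_pcoord i₀ j
    have h2 : Algebra.adjoin k (Set.range (pcoord i₀ j)) ≤ τ.range :=
      Algebra.adjoin_le (Set.range_subset_iff.2 fun t => ⟨b t, hτb t⟩)
    rw [h1] at h2
    exact fun x => h2 trivial
  have hG : τ (MvPolynomial.aeval b G.1) = pform i₀ j G := by
    rw [pform_eq_aeval]
    show (τ.comp (MvPolynomial.aeval b)) G.1 = _
    rw [MvPolynomial.comp_aeval]
    exact congrArg (fun f => MvPolynomial.aeval f G.1) (funext hτb)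
  let ι := (LefPen.hypIdeal G).subschemeι
  let U : (CohB1.ProjSpace r k).affineOpens :=
    ⟨Var76.ProjCoord.U k r j, Var76.ProjCoord.isAffineOpen_U k r j⟩
  let π : Γ(CohB1.ProjSpace r k, piece i₀ j) →ₐ[k] Γ((LefPen.hypIdeal G).subscheme, piece ι j) :=
    AlgHom.mk (ι.app U.1).hom fun c => by
      have h := forms_map_pform ι j (constForm r c)
      rw [pform_C, pform_C] at h
      exact h
  refine ⟨π.comp τ, ?_, ?_, fun t => ?_⟩
  · exact (Scheme.Hom.app_surjective ι _ U.2).comp hsurj
  · ext p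
    rw [RingHom.mem_ker]
    show π (τ p) = 0 ↔ _
    have hk : RingHom.ker (ι.app U.1).hom = Ideal.span {LefPen.dehom G j} :=
      ((LefPen.hypIdeal G).ker_subschemeι_app U).trans (hypIdeal_chart G j)
    have h3 : π (τ p) = 0 ↔ τ p ∈ Ideal.span {LefPen.dehom G j} := by
      rw [← hk, RingHom.mem_ker]; rfl
    rw [h3, Ideal.mem_span_singleton, Ideal.mem_span_singleton]
    constructor
    · rintro ⟨c, hc⟩
      obtain ⟨c, rfl⟩ := hsurj c
      refine ⟨c, ?_⟩
      have h4 : τ p = τ (MvPolynomial.aeval b G.1 * c) := by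
        rw [map_mul, hG]; exact hc
      simpa [hleft] using congrArg ψ h4
    · rintro ⟨c, rfl⟩
      exact ⟨τ c, by rw [map_mul, hG]; rfl⟩
  · show π (τ (b t)) = _
    rw [hτb, ← pform_X, ← pform_X]
    rfl

end Groth.Agent.Crv77
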