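import Groth.Agent.Crv77.GeomConn
import Groth.Agent.Crv77.FunMap
import Groth.Agent.Crv77.InsepChain
import Groth.Agent.Crv77.InsepPower
import Groth.Agent.Crv77.HomOfFF
import Groth.Agent.Crv77.MaxSeries
import Groth.Agent.Crv77.Hyper
import Groth.Agent.CrvPic30.Omega
import Groth.Agent.CrvPic30.Canonical
import Groth.Agent.Curves2.CurveModel
import Groth.Agent.S6558

/-! A separable rational function of degree at most `2g - 2` on a smooth curve. -/

set_option autoImplicit false
set_option linter.style.haveILetI false
set_option backward.isDefEq.respectTransparency false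
set_option maxHeartbeats 1000000
set_option synthInstance.maxHeartbeats 200000
universe u

open CategoryTheory CategoryTheory.Limits AlgebraicGeometry IntermediateField FunFld

namespace Groth.Agent.Crv77

variable {k : Type u} [Field k] {X : Scheme.{u}} [X.Over (Spec (CommRingCat.of k))] [IsIntegral X]

attribute [local instance] CrvPic30.ffAlg

/-- In positive genus `ℓ(D) ≤ deg D` for a divisor of positive degree. -/
theorem ell_le_deg (h : CrvPic30.Setup k X) (hg : 1 ≤ genus k X.functionField) {D : Divisor k X.functionField}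
    (hD : 0 < D.deg) : (ell D : ℤ) ≤ D.deg := by
  by_contra hlt
  have hle := CrvPic30.ell_le_deg_add_one h.ff D (by omega)
  have := h.isNoetherian
  have h0 := h.curveCoh.genus_eq_zero_of_h0_eq h.dim h.finrank_h0_structureModule (h.isInvertible_O D)
    (by simp only [Crv77.h, h.finrank_h0_O, h.deg_O]; omega) (by rw [h.deg_O]; omega)
  rw [h.genus_eq] at h0
  omega

section Bound

variable {E K : Type u} [Field E] [Field K] [Algebra k E] [Algebra E K] [Algebra k K] [IsScalarTower k E K]
  [FiniteDimensional E K]

/-- Finitely many elements of a subfield below a divisor are bounded in the subfield. -/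
theorem exists_bound (hE : FF30.FF k E) (hK : IsFunctionField k K) {W : Divisor k K} (hW : 0 ≤ W) (s : Finset E)
    (hs : ∀ a ∈ s, algebraMap E K a ∈ L W) :
    ∃ D : Divisor k E, 0 ≤ D ∧ (conorm K D : Divisor k K) ≤ W ∧ ∀ a ∈ s, a ∈ L D := by
  classical
  induction s using Finset.induction_on with
  | empty =>
    refine ⟨0, le_rfl, fun S => ?_, by simp⟩
    obtain ⟨S₀, e, -, he⟩ := hE.exists_isOverWith S
    rw [hE.conorm_apply _ he, Finsupp.zero_apply, mul_zero]
    exact hW S
  | insert a s ha ih =>
    obtain ⟨D, hD0, hDW, hDs⟩ := ih fun b hb => hs b (Finset.mem_insert_of_mem hb)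
    refine ⟨D ⊔ FF30.poleDiv a, le_sup_of_le_left hD0, fun S => ?_, fun b hb => ?_⟩
    · obtain ⟨S₀, e, -, he⟩ := hE.exists_isOverWith S
      have h1 := hDW S
      rw [hE.conorm_apply _ he] at h1
      have h2 := poleDiv_le_of_mem_L hK hW (hs a (Finset.mem_insert_self a s)) S
      rw [(hE.extension K).poleDiv_apply, FF30.isOverWith_ord he] at h2
      rw [hE.conorm_apply _ he, Finsupp.sup_apply, hE.poleDiv_apply]
      rcases max_choice (D S₀) (max (-S₀.ord a) 0) with h3 | h3 <;> rw [h3]
      · exact h1
      · refine le_trans (le_of_eq ?_) h2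
        rw [mul_max_of_nonneg _ _ (Int.natCast_nonneg e), mul_zero, mul_neg]
    · rcases Finset.mem_insert.1 hb with rfl | hb
      · by_cases hb0 : b = 0
        · rw [hb0]; exact zero_mem _
        · refine (FF30.mem_L_iff_ord hb0).2 fun S => ?_
          have h4 : max (-S.ord b) 0 ≤ (D ⊔ FF30.poleDiv b : Divisor k E) S := by
            rw [Finsupp.sup_apply, ← hE.poleDiv_apply]; exact le_sup_right
          omega
      · exact FF30.L_mono le_sup_left (hDs b hb)

end Bound

theorem false_of_range [IsProper (X ↘ Spec (CommRingCat.of k))] [Smooth (X ↘ Spec (CommRingCat.of k))]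
    (h : CrvPic30.Setup k X) {W : Divisor k X.functionField} (hW : 0 ≤ W) (hg : 2 ≤ genus k X.functionField)
    (hWd : W.deg = 2 * (genus k X.functionField : ℤ) - 2) (hWl : genus k X.functionField ≤ ell W)
    {Y : Scheme.{u}} [Y.Over (Spec (CommRingCat.of k))] [IsIntegral Y] (hY : CrvPic30.Setup k Y)
    (hgY : genus k Y.functionField = genus k X.functionField)
    [Algebra Y.functionField X.functionField] [IsScalarTower k Y.functionField X.functionField]
    [FiniteDimensional Y.functionField X.functionField] (hn : 2 ≤ Module.finrank Y.functionField X.functionField)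
    (hr : ∀ x ∈ L W, x ∈ Set.range (algebraMap Y.functionField X.functionField)) : False := by
  classical
  have hK := h.ffield
  have := hK.finite_L W
  let b := Module.finBasis k (L W)
  choose a ha using fun i => hr (b i) (b i).2
  obtain ⟨D, hD0, hDW, hDs⟩ := exists_bound (K := X.functionField) hY.ffield h.ff hW (Finset.univ.image a) (fun c hc => by
    obtain ⟨i, -, rfl⟩ := Finset.mem_image.1 hc
    rw [ha]
    exact (b i).2)
  let φ : L W →ₗ[k] L D := b.constr k fun i => (⟨a i, hDs _ (Finset.mem_image.2 ⟨i, Finset.mem_univ _, rfl⟩)⟩ : L D)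
  have hφ : ∀ w : L W, algebraMap Y.functionField X.functionField (φ w : L D) = (w : X.functionField) := by
    have : ((IsScalarTower.toAlgHom k Y.functionField X.functionField).toLinearMap ∘ₗ (L D).subtype ∘ₗ φ) =
        (L W).subtype := b.ext fun i => by
      simp only [LinearMap.comp_apply, φ, Module.Basis.constr_basis]
      exact ha i
    exact fun w => LinearMap.congr_fun this w
  have hinj : Function.Injective φ := fun v w hvw => Subtype.ext (by rw [← hφ v, ← hφ w, hvw])
  have := hY.ffield.finite_L D
  have h1 := LinearMap.finrank_le_finrank_of_injective hinj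
  have h2 := FF30.deg_mono hDW
  rw [hY.ffield.deg_conorm, hWd] at h2
  have h3 := FF30.deg_mono hD0
  rw [FF30.deg_zero] at h3
  have h4 : (2 : ℤ) * D.deg ≤ (Module.finrank Y.functionField X.functionField : ℤ) * D.deg :=
    mul_le_mul_of_nonneg_right (by exact_mod_cast hn) h3
  unfold ell at hWl
  by_cases hd : D.deg = 0
  · have hD : D = 0 := (hY.ffield.eq_of_le_of_deg_le hD0 (by rw [hd, FF30.deg_zero])).symm
    have h5 := FF30.ell_zero hY.ff
    rw [← hD] at h5
    unfold ell at h5
    omega
  · have h5 := ell_le_deg hY (by omega) (D := D) (by omega)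
    unfold ell at h5
    omega

/-- A smooth curve of genus at least two has a separable function of degree at most `2g - 2`. -/
theorem exists_sep_fun [IsProper (X ↘ Spec (CommRingCat.of k))] [Smooth (X ↘ Spec (CommRingCat.of k))]
    (h : CrvPic30.Setup k X) (hg : 2 ≤ Curv2.genus k X) :
    ∃ z : X.functionField, Transcendental k z ∧ Algebra.IsSeparable k⟮z⟯ X.functionField ∧
      Module.finrank k⟮z⟯ X.functionField + 2 ≤ 2 * Curv2.genus k X := by
  classical
  rw [h.genus_eq] at hg ⊢
  have hK := h.ffield
  obtain ⟨W₀, hW₀⟩ := FF30.exists_isCanonical h.ff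
  obtain ⟨w₀, hw₀, hw₀0⟩ := FF30.exists_ne_zero_of_ell_pos (D := W₀) (by
    rw [FF30.ell_canonical h.ff hW₀]; omega)
  set W := W₀ + div k w₀
  have hW : 0 ≤ W := fun P => by
    have := (FF30.mem_L_iff_ord hw₀0).1 hw₀ P
    rw [Finsupp.add_apply, hK.div_apply, Finsupp.zero_apply]
    linarith
  have hWd : W.deg = 2 * (genus k X.functionField : ℤ) - 2 := by
    rw [FF30.deg_add, hK.deg_div, FF30.deg_canonical h.ff hW₀, add_zero]
  have hWl : ell W = genus k X.functionField := (hK.ell_add_div W₀ hw₀0).trans (FF30.ell_canonical h.ff hW₀)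
  by_contra hno
  push Not at hno
  have hnsep : ∀ z ∈ L W, z ∉ Set.range (algebraMap k X.functionField) →
      Transcendental k z ∧ ¬ Algebra.IsSeparable k⟮z⟯ X.functionField := by
    intro z hz hzc
    have htr := FF30.transcendental_of_not_mem_range h.ff hzc
    refine ⟨htr, fun hs => ?_⟩
    have h1 := FF30.deg_mono (poleDiv_le_of_mem_L h.ff hW hz)
    rw [hK.deg_poleDiv htr, hWd] at h1
    have := hno z htr hs
    omega
  obtain ⟨z₀, hz₀, hz₀c⟩ : ∃ z ∈ L W, z ∉ Set.range (algebraMap k X.functionField) := by
    by_contra hne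
    push Not at hne
    have hle : L W ≤ (1 : Submodule k X.functionField) := fun x hx => FF30.mem_one_iff.2 (hne x hx)
    have h1 : Module.finrank k (1 : Submodule k X.functionField) = 1 := by
      rw [← FF30.L_zero' h.ff]; exact FF30.ell_zero h.ff
    have : Module.Finite k (1 : Submodule k X.functionField) := by
      rw [← FF30.L_zero' h.ff]; exact hK.finite_L 0
    have h2 := Submodule.finrank_mono hle
    unfold ell at hWl
    omega
  obtain ⟨htr₀, hns₀⟩ := hnsep z₀ hz₀ hz₀c
  have := hK.finiteDimensional_adjoin htr₀
  -- the characteristic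
  obtain ⟨p, hp⟩ := ExpChar.exists k
  rcases hp with _ | ⟨hpp⟩
  · exact hns₀ inferInstance
  have : Fact p.Prime := ⟨hpp⟩
  have : CharP X.functionField p := charP_of_injective_algebraMap (algebraMap k X.functionField).injective p
  obtain ⟨t, -, hsep⟩ := exists_separating_functionField hK
  have hMle : ∀ r, 1 ≤ r → Chain.M k X.functionField p r ≤ Chain.M k X.functionField p 1 := by
    intro r hr
    induction r, hr using Nat.le_induction with
    | base => exact le_rfl
    | succ r _ ih => exact (Chain.M_succ_le p r).trans ih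
  have hclos : ∀ z ∈ L W, z ∉ Set.range (algebraMap k X.functionField) →
      ∃ r, 1 ≤ r ∧ Chain.M k X.functionField p r ≠ ⊤ ∧ z ∈ Chain.M k X.functionField p r := by
    intro z hz hzc
    obtain ⟨htr, hns⟩ := hnsep z hz hzc
    have := hK.finiteDimensional_adjoin htr
    let Ls : IntermediateField k X.functionField := (separableClosure k⟮z⟯ X.functionField).restrictScalars k
    have : FiniteDimensional Ls X.functionField :=
      Module.Finite.of_restrictScalars_finite k⟮z⟯ (separableClosure k⟮z⟯ X.functionField) X.functionField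
    have : IsPurelyInseparable Ls X.functionField :=
      inferInstanceAs (IsPurelyInseparable (separableClosure k⟮z⟯ X.functionField) X.functionField)
    obtain ⟨r, hr⟩ := Chain.exists_eq_M p t Ls
    have hne : Chain.M k X.functionField p r ≠ ⊤ := fun htop => hns ((separableClosure.eq_top_iff _ _).1
      (IntermediateField.restrictScalars_injective k ((hr.trans htop).trans IntermediateField.restrictScalars_top.symm)))
    refine ⟨r, Nat.one_le_iff_ne_zero.2 fun h0 => hne (h0 ▸ Chain.M_zero p), hne, hr ▸ ?_⟩
    exact (separableClosure k⟮z⟯ X.functionField).algebraMap_mem ⟨z, mem_adjoin_simple_self k z⟩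
  set M := Chain.M k X.functionField p 1
  have hM : M ≠ ⊤ := by
    obtain ⟨r, hr, hne, -⟩ := hclos z₀ hz₀ hz₀c
    intro htop
    refine hne (eq_top_iff.2 ?_)
    have key : ∀ j, Chain.M k X.functionField p j = ⊤ := by
      intro j
      induction j with
      | zero => exact Chain.M_zero p
      | succ j ih =>
        refine eq_top_iff.2 (ih ▸ IntermediateField.adjoin_le_iff.2 ?_)
        rintro _ ⟨w, rfl⟩
        have h1 : M ≤ Chain.pre p (Chain.M k X.functionField p (j + 1)) j :=
          IntermediateField.adjoin_le_iff.2 (by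
            rintro _ ⟨v, rfl⟩
            refine (Chain.mem_pre p).2 ?_
            rw [← pow_mul, ← pow_add, add_comm 1 j]
            exact Chain.pow_mem_M p _ v)
        exact (Chain.mem_pre p).1 (h1 (htop ▸ IntermediateField.mem_top))
    exact (key r).ge
  have hsub : ∀ z ∈ L W, z ∈ M := by
    intro z hz
    by_cases hzc : z ∈ Set.range (algebraMap k X.functionField)
    · obtain ⟨c, rfl⟩ := hzc
      exact M.algebraMap_mem c
    · obtain ⟨r, hr, -, hzr⟩ := hclos z hz hzc
      exact hMle r hr hzr
  -- the model of `M`
  obtain ⟨hMff, hfin⟩ := hK.intermediateField M (hsub z₀ hz₀) htr₀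
  have : FiniteDimensional M X.functionField := hfin
  obtain ⟨htd, -⟩ := Curves2.ProjModel.exists_finite_adjoin k X h.dim
  rw [show (Var76.VarDim.constField k X).toAlgebra = CrvPic30.ffAlg k X from
    Algebra.algebra_ext _ _ fun r => (RingHom.congr_fun ffAlg_eq r).symm] at htd
  have htdM : Algebra.trdeg k M = 1 := by
    have h1 := trdeg_add_eq k M (A := X.functionField)
    rwa [trdeg_eq_zero (R := M), add_zero, htd] at h1
  let zM : M := ⟨z₀, hsub z₀ hz₀⟩
  have := hMff.finiteDimensional_adjoin (fun h0 => htr₀ (h0.algHom M.val) : Transcendental k zM)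
  obtain ⟨Y, _, sY, ⟨N, i, hi, his⟩, hval, hdY, σ, hσ⟩ := Curves2.ProjModel.exists_model k M zM htdM
  let : Y.Over (Spec (CommRingCat.of k)) := ⟨sY⟩
  have : IsProper (Y ↘ Spec (CommRingCat.of k)) := by
    show IsProper sY
    have := Curves2.ProjLine.isProper_toSpec k N
    exact his ▸ inferInstance
  have := h.isNoetherian
  have : IsLocallyNoetherian Y := LocallyOfFiniteType.isLocallyNoetherian (Y ↘ Spec (CommRingCat.of k))
  let φ : Y.functionField →+* X.functionField := M.val.toRingHom.comp σ.hom.hom
  have hσk : ∀ r, σ.hom (algebraMap k Y.functionField r) = algebraMap k M r := by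
    have h1 : CommRingCat.ofHom (algebraMap k Y.functionField) ≫ σ.hom = CommRingCat.ofHom (algebraMap k M) := by
      apply Spec.map_injective
      rw [Spec.map_comp, spec_ffAlg]
      exact hσ
    exact fun r => congr($h1 r)
  have hφk : ∀ r, φ (algebraMap k Y.functionField r) = algebraMap k X.functionField r := fun r =>
    congrArg M.val (hσk r)
  obtain ⟨f, e, hf, hfφ⟩ := exists_hom_of_ffHom (X ↘ Spec (CommRingCat.of k)) (Y ↘ Spec (CommRingCat.of k)) h.stalks
    (CommRingCat.ofHom φ) (by
      rw [← spec_ffAlg, ← spec_ffAlg, ← Spec.map_comp]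
      exact congrArg Spec.map (CommRingCat.hom_ext (RingHom.ext hφk)))
  have hfφ' : ffMap f e = φ := congrArg CommRingCat.Hom.hom hfφ
  let σ' : Y.functionField ≃+* M := σ.commRingCatIsoToRingEquiv
  let : Algebra Y.functionField X.functionField := φ.toAlgebra
  have : IsScalarTower k Y.functionField X.functionField :=
    IsScalarTower.of_algebraMap_eq fun r => (hφk r).symm
  have hcompat : RingHom.comp (algebraMap Y.functionField X.functionField) (σ'.symm : M →+* Y.functionField) =
      RingHom.comp (RingEquiv.refl X.functionField : X.functionField →+* X.functionField) (algebraMap M X.functionField) :=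
    RingHom.ext fun m => congrArg M.val (σ'.apply_symm_apply m)
  have hfdY : FiniteDimensional Y.functionField X.functionField :=
    Module.Finite.of_equiv_equiv σ'.symm (RingEquiv.refl _) hcompat
  have hpM : IsPurelyInseparable M X.functionField := by
    have : ExpChar M p := expChar_of_injective_algebraMap (algebraMap k M).injective p
    rw [isPurelyInseparable_iff_pow_mem M p]
    exact fun w => ⟨1, ⟨w ^ p ^ 1, Chain.pow_mem_M p 1 w⟩, rfl⟩
  have hpi : IsPurelyInseparable Y.functionField X.functionField := by
    have : ExpChar Y.functionField p := expChar_of_injective_algebraMap (algebraMap k Y.functionField).injective p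
    rw [isPurelyInseparable_iff_pow_mem Y.functionField p]
    exact fun w => ⟨1, σ'.symm ⟨w ^ p ^ 1, Chain.pow_mem_M p 1 w⟩,
      congr($hcompat ⟨w ^ p ^ 1, Chain.pow_mem_M p 1 w⟩)⟩
  have hregY : ∀ y : Y, IsRegularLocalRing (Y.presheaf.stalk y) := fun y => by
    obtain ⟨_, _⟩ := hval y
    have : IsPrincipalIdealRing (Y.presheaf.stalk y) :=
      ((tfae_of_isNoetherianRing_of_isLocalRing_of_isDomain (Y.presheaf.stalk y)).out 1 0 rfl rfl).mp ‹_›
    infer_instance
  have hregX : ∀ x : X, IsRegularLocalRing (X.presheaf.stalk x) := fun x => by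
    obtain ⟨_, _⟩ := h.stalks x
    have : IsPrincipalIdealRing (X.presheaf.stalk x) :=
      ((tfae_of_isNoetherianRing_of_isLocalRing_of_isDomain (X.presheaf.stalk x)).out 1 0 rfl rfl).mp ‹_›
    infer_instance
  obtain ⟨-, hY0, hYg⟩ := S6558.result k p X Y h.dim hregX hdY hregY f hf e h.finrank_h0_structureModule (by
    show letI := (ffMap f e).toAlgebra; IsPurelyInseparable Y.functionField X.functionField
    rw [hfφ']
    exact hpi)
  have hY := setup_of_h0 (k := k) (X := Y) hdY hval hY0
  rw [hY.genus_eq, h.genus_eq] at hYg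
  have hn : 2 ≤ Module.finrank Y.functionField X.functionField := by
    rw [← Algebra.finrank_eq_of_equiv_equiv σ'.symm (RingEquiv.refl _) hcompat]
    have h1 : 0 < Module.finrank M X.functionField := Module.finrank_pos
    have h2 : Module.finrank M X.functionField ≠ 1 := fun h1 => hM (IntermediateField.finrank_eq_one_iff_eq_top.1 h1)
    omega
  exact false_of_range h hW hg hWd hWl.ge hY hYg hn fun x hx =>
    ⟨σ'.symm ⟨x, hsub x hx⟩, congr($hcompat ⟨x, hsub x hx⟩)⟩

end Groth.Agent.Crv77
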