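import Groth.Agent.FF30.Plane
import Groth.Agent.Crv77.DoubleUnique
import Groth.Agent.Crv77.SepFun

/-! A plane quartic of genus three has no quadratic subfield of genus zero. -/

set_option autoImplicit false
set_option linter.style.haveILetI false
set_option maxHeartbeats 1000000
set_option synthInstance.maxHeartbeats 200000
universe u

open CategoryTheory AlgebraicGeometry IntermediateField FunFld

namespace Groth.Agent.Crv77

variable {k K : Type u} [Field k] [Field K] [Algebra k K]

/-- The generators of a function field of positive genus are transcendental. -/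
theorem transcendental_fst (hK : IsFunctionField k K) (hg : genus k K ≠ 0) {x y : K}
    (hxy : IntermediateField.adjoin k ({x, y} : Set K) = ⊤) : Transcendental k x := by
  refine FF30.transcendental_of_not_mem_range hK ?_
  rintro ⟨c, rfl⟩
  refine hg ((FF30.genus_zero_and_exists_deg_one_iff' hK).2 ⟨y, top_le_iff.1 ?_⟩).1
  rw [← hxy, IntermediateField.adjoin_le_iff, Set.insert_subset_iff, Set.singleton_subset_iff]
  exact ⟨IntermediateField.algebraMap_mem _ c, mem_adjoin_simple_self k y⟩

/-- A relation bounds the degree over `k(x)`. -/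
theorem finrank_le_of_relation {x y : K} (hx : Transcendental k x)
    (hxy : IntermediateField.adjoin k ({x, y} : Set K) = ⊤) {d e : ℕ}
    (G : MvPolynomial (Fin 3) k) (hG : G.IsHomogeneous d) (hG0 : G ≠ 0)
    (h : MvPolynomial.aeval ![(1 : K), x, y] G = 0) (he : ∀ s ∈ G.support, s 2 ≤ e) :
    Module.finrank k⟮x⟯ K ≤ e := by
  classical
  let g : k⟮x⟯ := AdjoinSimple.gen k x
  let p : Polynomial k⟮x⟯ := ∑ s ∈ G.support,
    Polynomial.C (algebraMap k k⟮x⟯ (G.coeff s) * g ^ s 1) * Polynomial.X ^ s 2
  have hterm : ∀ s : Fin 3 →₀ ℕ, MvPolynomial.aeval ![(1 : K), x, y] (MvPolynomial.monomial s (G.coeff s)) =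
      algebraMap k K (G.coeff s) * x ^ s 1 * y ^ s 2 := by
    intro s
    rw [MvPolynomial.aeval_monomial, Finsupp.prod_fintype _ _ (fun _ => pow_zero _), Fin.prod_univ_three]
    simp [mul_assoc]
  have hpy : Polynomial.aeval y p = 0 := by
    rw [← h]
    conv_rhs => rw [G.as_sum, map_sum]
    rw [map_sum]
    refine Finset.sum_congr rfl fun s _ => ?_
    rw [hterm, map_mul, Polynomial.aeval_C, map_pow, Polynomial.aeval_X, map_mul, map_pow,
      AdjoinSimple.algebraMap_gen, ← IsScalarTower.algebraMap_apply]
  have hs3 : ∀ s ∈ G.support, s 0 + s 1 + s 2 = d := by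
    intro s hs
    have := hG (MvPolynomial.mem_support_iff.1 hs)
    simpa [Finsupp.weight_apply, Finsupp.sum_fintype, Fin.sum_univ_three, add_assoc] using this
  have hp : p ≠ 0 := by
    intro hp0
    obtain ⟨s, hs⟩ : G.support.Nonempty := Finset.nonempty_of_ne_empty fun hc => hG0 (MvPolynomial.support_eq_empty.1 hc)
    let q : Polynomial k := ∑ t ∈ G.support.filter (fun t => t 2 = s 2), Polynomial.monomial (t 1) (G.coeff t)
    have hq : Polynomial.aeval g q = 0 := by
      have h1 := congrArg (fun r : Polynomial k⟮x⟯ => r.coeff (s 2)) hp0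
      simp only [p, Polynomial.finsetSum_coeff, Polynomial.coeff_C_mul_X_pow, Polynomial.coeff_zero] at h1
      rw [map_sum, Finset.sum_filter]
      refine (Finset.sum_congr rfl fun t _ => ?_).trans h1
      rcases eq_or_ne (t 2) (s 2) with ht | ht
      · rw [if_pos ht, if_pos ht.symm, Polynomial.aeval_monomial]
      · rw [if_neg ht, if_neg ht.symm]
    have hq0 : q = 0 := by
      refine transcendental_iff.1 hx q ?_
      have h2 := congrArg (algebraMap k⟮x⟯ K) hq
      rw [map_zero, ← Polynomial.aeval_algebraMap_apply, AdjoinSimple.algebraMap_gen] at h2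
      exact h2
    refine (MvPolynomial.mem_support_iff.1 hs) ?_
    have h3 := congrArg (fun r : Polynomial k => r.coeff (s 1)) hq0
    simp only [q, Polynomial.finsetSum_coeff, Polynomial.coeff_monomial, Polynomial.coeff_zero] at h3
    rw [Finset.sum_eq_single_of_mem s (by simp [hs])] at h3
    · simpa using h3
    · intro t ht hts
      rw [Finset.mem_filter] at ht
      refine if_neg fun h1 => hts ?_
      have e1 := hs3 t ht.1
      have e2 := hs3 s hs
      ext i
      fin_cases i
      · show t 0 = s 0
        omega
      · exact h1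
      · exact ht.2
  have hdeg : p.natDegree ≤ e :=
    Polynomial.natDegree_sum_le_of_forall_le _ _ fun s hs =>
      (Polynomial.natDegree_C_mul_X_pow_le _ _).trans (he s hs)
  have htop : k⟮x⟯⟮y⟯ = ⊤ := by
    apply IntermediateField.restrictScalars_injective k
    rw [IntermediateField.restrictScalars_top, adjoin_simple_adjoin_simple]
    exact hxy
  have hint : IsIntegral k⟮x⟯ y := IsAlgebraic.isIntegral ⟨p, hp, hpy⟩
  rw [← IntermediateField.finrank_top', ← htop, IntermediateField.adjoin.finrank hint]
  exact (Polynomial.natDegree_le_natDegree (minpoly.min k⟮x⟯ y (Polynomial.monic_mul_leadingCoeff_inv hp)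
    (by rw [map_mul, hpy, zero_mul]))).trans (by rw [Polynomial.natDegree_mul_leadingCoeff_inv _ hp]; exact hdeg)

/-- The divisor of the line sections of a plane quartic has degree at most four. -/
theorem planeDiv_deg_le_four (hK : IsFunctionField k K) (hg : genus k K ≠ 0) {x y : K}
    (hxy : IntermediateField.adjoin k ({x, y} : Set K) = ⊤)
    (G : MvPolynomial (Fin 3) k) (hG : G.IsHomogeneous 4) (hG0 : G ≠ 0)
    (h : MvPolynomial.aeval ![(1 : K), x, y] G = 0)
    (hp : G.coeff (Finsupp.single 2 4) = 0 → ∃ P₀ : Place k K, P₀.deg = 1 ∧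
      ∀ P : Place k K, P.ord y < 0 → P.ord y < P.ord x → P = P₀ ∧ (-P.ord y ≤ 1 ∨ P.ord x - P.ord y ≤ 1)) :
    (mapDiv k ![(1 : K), x, y]).deg ≤ 4 := by
  classical
  have hF : FF30.FF k K := hK.1
  have hx := transcendental_fst hK hg hxy
  have hx0 : x ≠ 0 := fun h0 => hx (h0 ▸ isAlgebraic_zero)
  have hpd := hF.deg_poleDiv hx
  have hs3 : ∀ s ∈ G.support, s 0 + s 1 + s 2 = 4 := by
    intro s hs
    have := hG (MvPolynomial.mem_support_iff.1 hs)
    simpa [Finsupp.weight_apply, Finsupp.sum_fintype, Fin.sum_univ_three, add_assoc] using this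
  by_cases hc : G.coeff (Finsupp.single 2 4) = 0
  · obtain ⟨P₀, hP₀, hover⟩ := hp hc
    have hn : Module.finrank k⟮x⟯ K ≤ 3 := finrank_le_of_relation hx hxy G hG hG0 h fun s hs => by
      by_contra hlt
      have e := hs3 s hs
      refine MvPolynomial.mem_support_iff.1 hs ?_
      have : s = Finsupp.single 2 4 := by
        ext i
        fin_cases i <;> simp <;> omega
      rwa [this]
    have hle : mapDiv k ![(1 : K), x, y] ≤ (FF30.poleDiv x : Divisor k K) + Finsupp.single P₀ 1 := by
      intro P
      rw [hF.planeDiv_apply, Finsupp.add_apply, hF.poleDiv_apply]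
      by_cases hov : P.ord y < 0 ∧ P.ord y < P.ord x
      · obtain ⟨rfl, hmin⟩ := hover P hov.1 hov.2
        rw [Finsupp.single_eq_same]
        omega
      · rw [Finsupp.single_apply]
        split_ifs <;> omega
    have hd := FF30.deg_mono hle
    rw [FF30.deg_add, hpd, FF30.deg_single, hP₀] at hd
    omega
  · have hn : Module.finrank k⟮x⟯ K ≤ 4 := finrank_le_of_relation hx hxy G hG hG0 h fun s hs => by
      have e := hs3 s hs
      omega
    have hle : mapDiv k ![(1 : K), x, y] ≤ (FF30.poleDiv x : Divisor k K) := by
      intro P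
      rw [hF.planeDiv_apply, hF.poleDiv_apply]
      by_contra hlt
      have h1 : P.ord y < 0 := by omega
      have h2 : P.ord y < P.ord x := by omega
      have hy0 : y ≠ 0 := fun h0 => by rw [h0, FF30.ord_zero] at h1; omega
      set s₀ : Fin 3 →₀ ℕ := Finsupp.single 2 4
      have hmem : s₀ ∈ G.support := MvPolynomial.mem_support_iff.2 hc
      rw [G.as_sum, map_sum, ← Finset.add_sum_erase _ _ hmem] at h
      have hterm : ∀ s : Fin 3 →₀ ℕ, MvPolynomial.aeval ![(1 : K), x, y] (MvPolynomial.monomial s (G.coeff s)) =
          algebraMap k K (G.coeff s) * (x ^ s 1 * y ^ s 2) := by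
        intro s
        rw [MvPolynomial.aeval_monomial, Finsupp.prod_fintype _ _ (fun _ => pow_zero _), Fin.prod_univ_three]
        simp
      have hlead : P.1 (MvPolynomial.aeval ![(1 : K), x, y] (MvPolynomial.monomial s₀ (G.coeff s₀))) =
          WithZero.exp (-(4 * P.ord y)) := by
        rw [hterm, map_mul, FF30.val_algebraMap P hc, one_mul, show s₀ 1 = 0 by simp [s₀],
          show s₀ 2 = 4 by simp [s₀], pow_zero, one_mul, FF30.val_eq P (pow_ne_zero _ hy0), FF30.ord_pow]
        simp
      have hrest : P.1 (∑ s ∈ G.support.erase s₀,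
          MvPolynomial.aeval ![(1 : K), x, y] (MvPolynomial.monomial s (G.coeff s))) <
          WithZero.exp (-(4 * P.ord y)) := by
        refine P.1.map_sum_lt WithZero.exp_ne_zero fun s hs => ?_
        obtain ⟨hne, hs⟩ := Finset.mem_erase.1 hs
        have e := hs3 s hs
        rw [hterm, map_mul, FF30.val_algebraMap P (MvPolynomial.mem_support_iff.1 hs), one_mul,
          FF30.val_eq P (mul_ne_zero (pow_ne_zero _ hx0) (pow_ne_zero _ hy0)), WithZero.exp_lt_exp,
          FF30.ord_mul P (pow_ne_zero _ hx0) (pow_ne_zero _ hy0), FF30.ord_pow, FF30.ord_pow]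
        have hne2 : s 1 + s 2 < 4 ∨ 0 < s 1 := by
          by_contra hb
          push Not at hb
          refine hne ?_
          ext i
          fin_cases i <;> simp [s₀] <;> omega
        have h3 : s 1 + s 2 ≤ 4 := by omega
        rcases hne2 with h4 | h4
        · have : ((s 1 : ℕ) : ℤ) + (s 2 : ℕ) ≤ 3 := by omega
          nlinarith
        · have : ((s 1 : ℕ) : ℤ) + (s 2 : ℕ) ≤ 4 := by omega
          have : (1 : ℤ) ≤ (s 1 : ℕ) := by omega
          nlinarith
      rw [add_eq_zero_iff_eq_neg] at h
      rw [h, P.1.map_neg] at hlead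
      exact hrest.ne hlead
    have hd := FF30.deg_mono hle
    rw [hpd] at hd
    omega

section Double

variable {X : Scheme.{u}} [X.Over (Spec (CommRingCat.of k))] [IsIntegral X]

attribute [local instance] CrvPic30.ffAlg

/-- A plane quartic of genus three has no quadratic subfield of genus zero. -/
theorem no_double_of_plane_quartic (h : CrvPic30.Setup k X) (hg : genus k X.functionField = 3)
    {x y : X.functionField} (hxy : IntermediateField.adjoin k ({x, y} : Set X.functionField) = ⊤)
    (hd : (mapDiv k ![(1 : X.functionField), x, y]).deg ≤ 4)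
    (F : IntermediateField k X.functionField) (h2 : Module.finrank F X.functionField = 2)
    (hgF : genus k F = 0) : False := by
  classical
  have hF := h.ffield
  have : FiniteDimensional F X.functionField := Module.finite_of_finrank_eq_succ h2
  have hFf := isFunctionField_of_finite h.ff F
  have hf := FF30.FF.of_isFunctionField hFf
  have hx := transcendental_fst h.ff (by omega) hxy
  set H : Divisor k X.functionField := mapDiv k ![(1 : X.functionField), x, y] with hH
  have hH0 : 0 ≤ H := hF.planeDiv_nonneg x y
  have h1H : (1 : X.functionField) ∈ L H := fun P => by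
    rw [map_one, ← WithZero.exp_zero, WithZero.exp_le_exp]; exact hH0 P
  have hxH : x ∈ L H := fun P => (hF.val_le_planeDiv x y P).1
  have hyH : y ∈ L H := fun P => (hF.val_le_planeDiv x y P).2
  have hlH : 3 ≤ ell H := by
    have := hF.finite_L H
    have hli : LinearIndependent k ![(1 : X.functionField), x, y] := by
      rw [Fintype.linearIndependent_iff]
      intro c hc
      simp only [Fin.sum_univ_three, Matrix.cons_val_zero, Matrix.cons_val_one, Matrix.cons_val_two,
        Matrix.head_cons, Matrix.tail_cons, Algebra.smul_def, mul_one] at hc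
      have hc2 : c 2 = 0 := by
        by_contra hc2
        have hcK : algebraMap k X.functionField (c 2) ≠ 0 := by
          rwa [map_ne_zero_iff _ (algebraMap k X.functionField).injective]
        have hy : y ∈ k⟮x⟯ := by
          rw [show y = -(algebraMap k X.functionField (c 0) + algebraMap k X.functionField (c 1) * x) /
            algebraMap k X.functionField (c 2) by rw [eq_div_iff hcK]; linear_combination hc]
          exact div_mem (neg_mem (add_mem (IntermediateField.algebraMap_mem _ _)
            (mul_mem (IntermediateField.algebraMap_mem _ _) (mem_adjoin_simple_self k x))))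
            (IntermediateField.algebraMap_mem _ _)
        have h0 := ((FF30.genus_zero_and_exists_deg_one_iff' h.ff).2 ⟨x, top_le_iff.1 (hxy ▸
          IntermediateField.adjoin_le_iff.2 (Set.insert_subset (mem_adjoin_simple_self k x)
            (Set.singleton_subset_iff.2 hy)))⟩).1
        omega
      rw [hc2, map_zero, zero_mul, add_zero] at hc
      have hc1 : c 1 = 0 := by
        by_contra hc1
        have hcK : algebraMap k X.functionField (c 1) ≠ 0 := by
          rwa [map_ne_zero_iff _ (algebraMap k X.functionField).injective]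
        refine hx ?_
        rw [show x = algebraMap k X.functionField (-c 0 / c 1) by
          rw [map_div₀, map_neg, eq_div_iff hcK]; linear_combination hc]
        exact isAlgebraic_algebraMap _
      rw [hc1, map_zero, zero_mul, add_zero, map_eq_zero] at hc
      intro i
      fin_cases i
      · exact hc
      · exact hc1
      · exact hc2
    have hle : Submodule.span k (Set.range ![(1 : X.functionField), x, y]) ≤ L H := by
      refine Submodule.span_le.2 ?_
      rintro _ ⟨i, rfl⟩
      fin_cases i
      · exact h1H
      · exact hxH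
      · exact hyH
    have := Submodule.finrank_mono hle
    rw [finrank_span_eq_card hli, Fintype.card_fin] at this
    exact this
  have hdH : 0 < H.deg := by
    have h1 := FF30.deg_mono hH0
    rw [FF30.deg_zero] at h1
    have h2 := CrvPic30.ell_le_deg_add_one h.ff H (by omega)
    omega
  obtain ⟨W, hW⟩ := FF30.exists_isCanonical h.ff
  have hd4 : H.deg = 4 := by
    by_contra hne
    have h1 := ell_le_deg h (by omega) hdH
    have h2 := FF30.riemann_roch' h.ff hW H
    have hWd := FF30.deg_canonical h.ff hW
    have hd3 : H.deg = 3 := by omega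
    have h3 : (W - H).deg = 1 := by rw [FF30.deg_sub, hWd, hg, hd3]; norm_num
    have h4 := ell_le_deg h (by omega) (D := W - H) (by omega)
    omega
  -- the conic divisor
  obtain ⟨E, hE0, hEd⟩ := exists_conic_divisor hFf hgF
  have hlE := ell_of_genus_zero hFf hgF (D := E) (by omega)
  rw [hEd] at hlE
  set D : Divisor k X.functionField := conorm X.functionField E with hD
  have hDd : D.deg = 4 := by
    rw [hD, hf.deg_conorm, h2, hEd]; norm_num
  let φ : L E →ₗ[k] L D :=
    { toFun := fun w => ⟨(w.1 : X.functionField), fun R => by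
        obtain ⟨R₁, e₁, -, hR₁⟩ := hf.exists_isOverWith R
        rw [show R.1 ((w.1 : F) : X.functionField) = R₁.1 w.1 ^ e₁ from hR₁ w.1, hD, hf.conorm_apply _ hR₁]
        refine (pow_le_pow_left₀ zero_le (w.2 R₁) e₁).trans_eq ?_
        rw [← WithZero.exp_nsmul, nsmul_eq_mul]⟩
      map_add' := fun _ _ => rfl
      map_smul' := fun _ _ => rfl }
  have hφ : Function.Injective φ := fun a b hab =>
    Subtype.ext (Subtype.ext (congrArg (fun w : L D => (w : X.functionField)) hab))
  have := hF.finite_L D
  have hlD : 3 ≤ ell D := by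
    have := LinearMap.finrank_le_finrank_of_injective hφ
    unfold ell at hlE ⊢
    omega
  have hDW : D - W ∈ prinDivs k X.functionField :=
    CrvPic30.sub_canonical_mem h.ff hW (by rw [hDd, hg]; norm_num) (by omega)
  have hHW : H - W ∈ prinDivs k X.functionField :=
    CrvPic30.sub_canonical_mem h.ff hW (by rw [hd4, hg]; norm_num) (by omega)
  have hlD3 : ell D = 3 := by rw [FF30.ell_congr hF hDW, FF30.ell_canonical h.ff hW, hg]
  have hφs : Function.Surjective φ := by
    rw [← LinearMap.range_eq_top]
    refine Submodule.eq_top_of_finrank_eq ?_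
    rw [LinearMap.finrank_range_of_inj hφ]
    unfold ell at hlE hlD3
    omega
  have hHD : H - D ∈ prinDivs k X.functionField := by
    have := sub_mem hHW hDW
    rwa [sub_sub_sub_cancel_right] at this
  obtain ⟨w, hw, hwH⟩ := (FF30.mem_prinDivs_iff hF).1 hHD
  have hmemF : ∀ z ∈ L H, w * z ∈ F := by
    intro z hz
    have hz' : w * z ∈ L D := by
      rw [hF.mul_mem_L_iff D hw, ← hwH, add_sub_cancel]; exact hz
    obtain ⟨v, hv⟩ := hφs ⟨_, hz'⟩
    have h1 : ((v.1 : F) : X.functionField) = w * z := congrArg Subtype.val hv
    exact h1 ▸ v.1.2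
  have hwF : w ∈ F := mul_one w ▸ hmemF 1 h1H
  have hxF : x ∈ F := by
    have := div_mem (hmemF x hxH) hwF
    rwa [mul_div_cancel_left₀ x hw] at this
  have hyF : y ∈ F := by
    have := div_mem (hmemF y hyH) hwF
    rwa [mul_div_cancel_left₀ y hw] at this
  have htop : F = ⊤ := top_le_iff.1 (hxy ▸
    IntermediateField.adjoin_le_iff.2 (Set.insert_subset hxF (Set.singleton_subset_iff.2 hyF)))
  have := IntermediateField.finrank_eq_one_iff_eq_top.2 htop
  omega

end Double

end Groth.Agent.Crv77
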