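import Groth.Agent.Crv77.PlaneDeg
import Groth.Agent.Crv77.CubicModel
import Groth.Agent.Var76.VarDim

/-! The coordinates of a smooth plane quartic. -/

set_option autoImplicit false
set_option linter.style.haveILetI false
set_option backward.isDefEq.respectTransparency false
set_option maxHeartbeats 1000000
set_option synthInstance.maxHeartbeats 200000
universe u

open CategoryTheory CategoryTheory.Limits AlgebraicGeometry TopologicalSpace Opposite IntermediateField FunFld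

noncomputable section

namespace Groth.Agent.Crv77

open An92.Lef (piece pcoord pconst pform overOf)

variable {k : Type u} [Field k] {d : ℕ}

theorem eq_zero_of_dehom_eq_zero (H : MvPolynomial (Fin 3) k) (hH : H.IsHomogeneous d)
    (h : MvPolynomial.aeval ![(1 : MvPolynomial (Fin 2) k), MvPolynomial.X 0, MvPolynomial.X 1] H = 0) :
    H = 0 := by
  classical
  by_contra hne
  obtain ⟨s, hs⟩ : H.support.Nonempty :=
    Finset.nonempty_of_ne_empty fun hc => hne (MvPolynomial.support_eq_empty.1 hc)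
  have hs3 : ∀ s ∈ H.support, s 0 + s 1 + s 2 = d := by
    intro s hs
    have := hH (MvPolynomial.mem_support_iff.1 hs)
    simpa [Finsupp.weight_apply, Finsupp.sum_fintype, Fin.sum_univ_three, add_assoc] using this
  have hterm : ∀ t : Fin 3 →₀ ℕ, MvPolynomial.aeval ![(1 : MvPolynomial (Fin 2) k), MvPolynomial.X 0,
      MvPolynomial.X 1] (MvPolynomial.monomial t (H.coeff t)) =
      MvPolynomial.monomial (Finsupp.single 0 (t 1) + Finsupp.single 1 (t 2)) (H.coeff t) := by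
    intro t
    rw [MvPolynomial.aeval_monomial, Finsupp.prod_fintype _ _ (fun _ => pow_zero _), Fin.prod_univ_three,
      MvPolynomial.monomial_add_single, MvPolynomial.monomial_eq,
      Finsupp.prod_single_index (h := fun (n : Fin 2) (e : ℕ) => (MvPolynomial.X n : MvPolynomial (Fin 2) k) ^ e)
        (pow_zero _), ← MvPolynomial.algebraMap_eq]
    simp [mul_assoc]
  rw [H.as_sum, map_sum] at h
  have h1 := congrArg (MvPolynomial.coeff (Finsupp.single (0 : Fin 2) (s 1) + Finsupp.single 1 (s 2))) h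
  simp only [hterm, MvPolynomial.coeff_sum, MvPolynomial.coeff_monomial, MvPolynomial.coeff_zero] at h1
  rw [Finset.sum_eq_single_of_mem s hs, if_pos rfl] at h1
  · exact MvPolynomial.mem_support_iff.1 hs h1
  · intro t ht hts
    refine if_neg fun he => hts ?_
    have e1 := hs3 t ht
    have e2 := hs3 s hs
    have e3 : t 1 = s 1 := by simpa using congrArg (fun q : Fin 2 →₀ ℕ => q 0) he
    have e4 : t 2 = s 2 := by simpa using congrArg (fun q : Fin 2 →₀ ℕ => q 1) he
    ext i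
    fin_cases i
    · show t 0 = s 0
      omega
    · exact e3
    · exact e4

theorem constantCoeff_dehom_two (H : MvPolynomial (Fin 3) k) (hH : H.IsHomogeneous d) :
    MvPolynomial.constantCoeff
        (MvPolynomial.aeval ![(MvPolynomial.X 0 : MvPolynomial (Fin 2) k), MvPolynomial.X 1, 1] H) =
      H.coeff (Finsupp.single 2 d) := by
  classical
  have hs3 : ∀ s ∈ H.support, s 0 + s 1 + s 2 = d := by
    intro s hs
    have := hH (MvPolynomial.mem_support_iff.1 hs)
    simpa [Finsupp.weight_apply, Finsupp.sum_fintype, Fin.sum_univ_three, add_assoc] using this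
  conv_lhs => rw [H.as_sum, map_sum, map_sum]
  have hterm : ∀ t : Fin 3 →₀ ℕ, MvPolynomial.constantCoeff (MvPolynomial.aeval
      ![(MvPolynomial.X 0 : MvPolynomial (Fin 2) k), MvPolynomial.X 1, 1]
        (MvPolynomial.monomial t (H.coeff t))) = H.coeff t * ((0 : k) ^ t 0 * (0 : k) ^ t 1) := by
    intro t
    rw [MvPolynomial.aeval_monomial, Finsupp.prod_fintype _ _ (fun _ => pow_zero _), Fin.prod_univ_three]
    simp
  rw [Finset.sum_eq_single (Finsupp.single 2 d)]
  · rw [hterm]; simp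
  · intro t ht hne
    rw [hterm]
    rcases Nat.eq_zero_or_pos (t 0) with h0 | h0
    · rcases Nat.eq_zero_or_pos (t 1) with h1 | h1
      · refine absurd ?_ hne
        have e := hs3 t ht
        ext i
        fin_cases i <;> simp <;> omega
      · rw [zero_pow h1.ne', mul_zero, mul_zero]
    · rw [zero_pow h0.ne', zero_mul, mul_zero]
  · intro hn
    rw [hterm, MvPolynomial.notMem_support_iff.1 hn, zero_mul]

variable (G : LefPen.Form 2 k 4) [((LefPen.hypIdeal G).subscheme).Over (Spec (CommRingCat.of k))]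
  [IsIntegral (LefPen.hypIdeal G).subscheme]

omit [((LefPen.hypIdeal G).subscheme).Over (Spec (CommRingCat.of k))] in
theorem exists_pieceZero (_hG : G ≠ 0) :
    ∃ (_ : Nonempty (piece (LefPen.hypIdeal G).subschemeι (0 : Fin 3)))
      (φ : MvPolynomial (Fin 2) k →ₐ[k] Γ((LefPen.hypIdeal G).subscheme, piece (LefPen.hypIdeal G).subschemeι (0 : Fin 3))),
      Function.Surjective φ ∧
      RingHom.ker φ.toRingHom =
        Ideal.span {MvPolynomial.aeval ![(1 : MvPolynomial (Fin 2) k), MvPolynomial.X 0, MvPolynomial.X 1] G.1} ∧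
      ∀ t, φ (![(1 : MvPolynomial (Fin 2) k), MvPolynomial.X 0, MvPolynomial.X 1] t) =
        pcoord (LefPen.hypIdeal G).subschemeι (0 : Fin 3) t := by
  let ι := (LefPen.hypIdeal G).subschemeι
  let b₀ : Fin 3 → MvPolynomial (Fin 2) k := ![1, MvPolynomial.X 0, MvPolynomial.X 1]
  let b₁ : Fin 3 → MvPolynomial (Fin 2) k := ![MvPolynomial.X 0, 1, MvPolynomial.X 1]
  obtain ⟨φ₀, hsur₀, hker₀, hφ₀⟩ := exists_pieceHom (m := 2) G 0 ![1, 2] b₀ rfl
    (fun i => by fin_cases i <;> rfl) (fun t => by fin_cases t <;> simp)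
  obtain ⟨φ₁, hsur₁, hker₁, hφ₁⟩ := exists_pieceHom (m := 2) G 1 ![0, 2] b₁ rfl
    (fun i => by fin_cases i <;> rfl) (fun t => by fin_cases t <;> simp)
  refine ⟨?_, φ₀, hsur₀, hker₀, hφ₀⟩
  by_contra hne
  have hbot : piece ι (0 : Fin 3) = ⊥ :=
    Opens.ext (Set.eq_empty_of_forall_notMem fun x hx => hne ⟨⟨x, hx⟩⟩)
  have hsub : Subsingleton Γ((LefPen.hypIdeal G).subscheme, piece ι (0 : Fin 3)) := by
    rw [hbot]; infer_instance
  have hu : IsUnit (MvPolynomial.aeval b₀ G.1) := by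
    rw [← Ideal.span_singleton_eq_top, ← hker₀, Ideal.eq_top_iff_one, RingHom.mem_ker]
    exact Subsingleton.elim _ _
  obtain ⟨c, hc, hcg⟩ : ∃ c : k, c ≠ 0 ∧ MvPolynomial.aeval b₀ G.1 = MvPolynomial.C c := by
    obtain ⟨c, hc⟩ : ∃ c : k, MvPolynomial.aeval b₀ G.1 = MvPolynomial.C c :=
      ⟨_, MvPolynomial.totalDegree_eq_zero_iff_eq_C.1 (MvPolynomial.isUnit_iff_totalDegree_of_isReduced.1 hu).2⟩
    refine ⟨c, fun h0 => hu.ne_zero (by rw [hc, h0, map_zero]), hc⟩
  have hGeq : G.1 = MvPolynomial.C c * MvPolynomial.X 0 ^ 4 := by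
    rw [← sub_eq_zero]
    refine eq_zero_of_dehom_eq_zero (d := 4) _ (MvPolynomial.IsHomogeneous.sub
      ((MvPolynomial.mem_homogeneousSubmodule _ _).1 G.2)
      (((MvPolynomial.isHomogeneous_X k 0).pow 4).C_mul c)) ?_
    rw [map_sub, map_mul, map_pow, MvPolynomial.aeval_C, MvPolynomial.aeval_X, sub_eq_zero]
    exact hcg.trans (by simp [MvPolynomial.algebraMap_eq])
  have hX : φ₁ (MvPolynomial.X 0) ^ 4 = 0 := by
    rw [← map_pow]
    show φ₁.toRingHom _ = 0
    rw [← RingHom.mem_ker, hker₁, hGeq, map_mul, map_pow, MvPolynomial.aeval_C, MvPolynomial.aeval_X,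
      MvPolynomial.algebraMap_eq, Ideal.span_singleton_mul_left_unit (((isUnit_iff_ne_zero.2 hc)).map MvPolynomial.C)]
    exact Ideal.mem_span_singleton_self _
  have hX0 : φ₁ (MvPolynomial.X 0) = 0 := IsReduced.eq_zero _ ⟨4, hX⟩
  have hmem : MvPolynomial.X 0 ∈ RingHom.ker φ₁.toRingHom := hX0
  rw [hker₁, Ideal.mem_span_singleton'] at hmem
  obtain ⟨t, ht⟩ := hmem
  have h2 := congrArg (fun f => (MvPolynomial.aeval (R := k) ![(Polynomial.X : Polynomial k), 0] f).coeff 1) ht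
  rw [hGeq] at h2
  simp [b₁] at h2
  rw [← mul_assoc, Polynomial.coeff_mul_X_pow'] at h2
  simp at h2

/-- A plane quartic curve has dimension one. -/
theorem dim_eq_one [LocallyOfFiniteType ((LefPen.hypIdeal G).subscheme ↘ Spec (CommRingCat.of k))]
    (hG : G ≠ 0) : topologicalKrullDim ↥(LefPen.hypIdeal G).subscheme = 1 := by
  obtain ⟨hne, φ, hsur, hker, -⟩ := exists_pieceZero G hG
  set g : MvPolynomial (Fin 2) k :=
    MvPolynomial.aeval ![(1 : MvPolynomial (Fin 2) k), MvPolynomial.X 0, MvPolynomial.X 1] G.1 with hg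
  have hA := An92.Lef.isAffineOpen_piece (LefPen.hypIdeal G).subschemeι (0 : Fin 3)
  rw [Var76.VarDim.dim_eq (k := k), ← WithBot.coe_one]
  have hg0 : g ≠ 0 := fun h0 => hG (Subtype.ext
    (eq_zero_of_dehom_eq_zero _ ((MvPolynomial.mem_homogeneousSubmodule _ _).1 G.2) h0))
  have hprime : (Ideal.span {g}).IsPrime := hker ▸ RingHom.ker_isPrime φ.toRingHom
  have hnu : ¬ IsUnit g := fun hu => hprime.ne_top (Ideal.span_singleton_eq_top.2 hu)
  have h1 := Ideal.height_span_singleton_eq_one_of_mem_nonZeroDivisors (mem_nonZeroDivisors_of_ne_zero hg0) hnu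
  have h2 := E4O.height_add_trdeg_eq k (MvPolynomial (Fin 2) k) (Ideal.span {g})
  rw [MvPolynomial.trdeg_of_isDomain, E4O.trdeg_eq_natCast k (MvPolynomial (Fin 2) k ⧸ Ideal.span {g}), h1,
    Cardinal.mk_fin, Cardinal.lift_natCast] at h2
  have h3 : Cardinal.toNat (Algebra.trdeg k (MvPolynomial (Fin 2) k ⧸ Ideal.span {g})) = 1 := by
    have h4 : ((1 : ℕ) : Cardinal.{u}) + (Cardinal.toNat (Algebra.trdeg k (MvPolynomial (Fin 2) k ⧸ Ideal.span {g})) : ℕ) =
        ((2 : ℕ) : Cardinal.{u}) := by simpa using h2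
    have h5 : 1 + Cardinal.toNat (Algebra.trdeg k (MvPolynomial (Fin 2) k ⧸ Ideal.span {g})) = 2 := by
      exact_mod_cast h4
    omega
  have h6 := E4O.ringKrullDim_eq_trdeg k (MvPolynomial (Fin 2) k ⧸ Ideal.span {g})
  rw [h3] at h6
  have h7 := Var76.VarDim.ringKrullDim_chart (k := k) hA
  rw [← ringKrullDim_eq_of_ringEquiv ((Ideal.quotEquivOfEq hker.symm).trans
    (RingHom.quotientKerEquivOfSurjective (f := φ.toRingHom) hsur)), h6] at h7
  rw [← h7]
  rfl

attribute [local instance] CrvPic30.ffAlg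

theorem germ_algebraMap (hinst : (LefPen.hypIdeal G).subscheme ↘ Spec (CommRingCat.of k) =
      (LefPen.hypIdeal G).subschemeι ≫ CohB1.ProjSpace.toSpec 2 k)
    (j : Fin 3) (hj : genericPoint (LefPen.hypIdeal G).subscheme ∈ piece (LefPen.hypIdeal G).subschemeι j) (r : k) :
    (LefPen.hypIdeal G).subscheme.presheaf.germ _ (genericPoint (LefPen.hypIdeal G).subscheme) hj
        (algebraMap k Γ((LefPen.hypIdeal G).subscheme, piece (LefPen.hypIdeal G).subschemeι j) r) =
      algebraMap k (LefPen.hypIdeal G).subscheme.functionField r := by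
  have h1 : algebraMap k Γ((LefPen.hypIdeal G).subscheme, piece (LefPen.hypIdeal G).subschemeι j) r =
      Var76.BertiniScheme.const (k := k) (LefPen.hypIdeal G).subscheme (piece (LefPen.hypIdeal G).subschemeι j) r := by
    show (Scheme.Hom.appLE ((LefPen.hypIdeal G).subschemeι ≫ CohB1.ProjSpace.toSpec 2 k) ⊤ _ le_top).hom
      ((Scheme.ΓSpecIso (CommRingCat.of k)).inv r) = (Scheme.Hom.appLE _ ⊤ _ le_top).hom _
    rw [hinst]
    rfl
  rw [h1, Var76.VarDim.germ_const]
  show (LefPen.hypIdeal G).subscheme.presheaf.germ ⊤ _ trivial (Var76.BertiniScheme.const (k := k) _ ⊤ r) =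
    Cyc90.kStalk _ _ r
  rw [CrvPic30.kStalk_eq_stalkMap]
  simp only [Var76.BertiniScheme.const, Coh.toGlobal, Scheme.Hom.appTop, Scheme.Hom.app_eq_appLE]
  rfl

/-- The affine coordinates of a smooth plane quartic generate its function field and define a divisor of
degree at most four. -/
theorem exists_plane_model (hinst : (LefPen.hypIdeal G).subscheme ↘ Spec (CommRingCat.of k) =
      (LefPen.hypIdeal G).subschemeι ≫ CohB1.ProjSpace.toSpec 2 k) (hG : G ≠ 0)
    (h : CrvPic30.Setup k (LefPen.hypIdeal G).subscheme)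
    (hg : genus k (LefPen.hypIdeal G).subscheme.functionField ≠ 0) :
    ∃ x y : (LefPen.hypIdeal G).subscheme.functionField,
      IntermediateField.adjoin k ({x, y} : Set (LefPen.hypIdeal G).subscheme.functionField) = ⊤ ∧
      (mapDiv k ![(1 : (LefPen.hypIdeal G).subscheme.functionField), x, y]).deg ≤ 4 := by
  classical
  let C := (LefPen.hypIdeal G).subscheme
  let ι := (LefPen.hypIdeal G).subschemeι
  let K := C.functionField
  obtain ⟨hne₀, φ₀, hsur₀, hker₀, hφ₀⟩ := exists_pieceZero G hG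
  set P₀' : C.Opens := piece ι (0 : Fin 3) with hP₀'
  have hη₀ : genericPoint C ∈ P₀' := ((genericPoint_spec C).mem_open_set_iff P₀'.2).2
    ⟨hne₀.some.1, Set.mem_univ _, hne₀.some.2⟩
  let γ₀ : MvPolynomial (Fin 2) k →ₐ[k] K :=
    { (C.presheaf.germ P₀' (genericPoint C) hη₀).hom.comp φ₀.toRingHom with
      commutes' := fun r => by
        show C.presheaf.germ P₀' (genericPoint C) hη₀ (φ₀ (algebraMap k _ r)) = _
        rw [φ₀.commutes]
        exact germ_algebraMap G hinst 0 hη₀ r }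
  set x : K := γ₀ (MvPolynomial.X 0) with hx_def
  set y : K := γ₀ (MvPolynomial.X 1) with hy_def
  have hγ₀ : γ₀ = MvPolynomial.aeval ![x, y] := MvPolynomial.algHom_ext fun i => by
    rw [MvPolynomial.aeval_X]; fin_cases i <;> rfl
  have hrel : MvPolynomial.aeval ![(1 : K), x, y] G.1 = 0 := by
    have h1 : φ₀ (MvPolynomial.aeval ![(1 : MvPolynomial (Fin 2) k), MvPolynomial.X 0, MvPolynomial.X 1] G.1) = 0 := by
      show φ₀.toRingHom _ = 0
      rw [← RingHom.mem_ker, hker₀]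
      exact Ideal.mem_span_singleton_self _
    have h2 : γ₀.comp (MvPolynomial.aeval ![(1 : MvPolynomial (Fin 2) k), MvPolynomial.X 0, MvPolynomial.X 1]) =
        MvPolynomial.aeval ![(1 : K), x, y] := MvPolynomial.algHom_ext fun i => by
      rw [AlgHom.comp_apply, MvPolynomial.aeval_X, MvPolynomial.aeval_X]
      fin_cases i
      · exact map_one γ₀
      · rfl
      · rfl
    rw [← h2]
    show C.presheaf.germ P₀' (genericPoint C) hη₀ (φ₀ _) = 0
    exact (congrArg (C.presheaf.germ P₀' (genericPoint C) hη₀) h1).trans (map_zero _)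
  have hA₀ : IsAffineOpen P₀' := An92.Lef.isAffineOpen_piece ι 0
  have hxy : IntermediateField.adjoin k ({x, y} : Set K) = ⊤ := by
    rw [eq_top_iff]
    intro z _
    have : Nonempty P₀' := hne₀
    have := functionField_isFractionRing_of_isAffineOpen C P₀' hA₀
    obtain ⟨a, b, -, rfl⟩ := IsFractionRing.div_surjective (A := Γ(C, P₀')) z
    have hmem : ∀ a : Γ(C, P₀'), C.presheaf.germ P₀' (genericPoint C) hη₀ a ∈
        IntermediateField.adjoin k ({x, y} : Set K) := by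
      intro a
      obtain ⟨p, rfl⟩ := hsur₀ a
      show γ₀ p ∈ _
      rw [hγ₀]
      induction p using MvPolynomial.induction_on with
      | C r => rw [MvPolynomial.aeval_C]; exact IntermediateField.algebraMap_mem _ _
      | add p q hp hq => rw [map_add]; exact add_mem hp hq
      | mul_X p i hp =>
        rw [map_mul, MvPolynomial.aeval_X]
        refine mul_mem hp ?_
        fin_cases i
        · exact IntermediateField.subset_adjoin k _ (Or.inl rfl)
        · exact IntermediateField.subset_adjoin k _ (Or.inr rfl)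
    exact div_mem (hmem a) (hmem b)
  refine ⟨x, y, hxy, planeDiv_deg_le_four h.ff hg hxy G.1 ((MvPolynomial.mem_homogeneousSubmodule _ _).1 G.2)
    (fun h0 => hG (Subtype.ext h0)) hrel fun hc => ?_⟩
  -- the point at infinity of the y-axis
  let b₂ : Fin 3 → MvPolynomial (Fin 2) k := ![MvPolynomial.X 0, MvPolynomial.X 1, 1]
  obtain ⟨φ₂, hsur₂, hker₂, hφ₂⟩ := exists_pieceHom (m := 2) G 2 ![0, 1] b₂ rfl
    (fun i => by fin_cases i <;> rfl) (fun t => by fin_cases t <;> simp)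
  set P₂ : C.Opens := piece ι (2 : Fin 3) with hP₂
  have hA₂ : IsAffineOpen P₂ := An92.Lef.isAffineOpen_piece ι 2
  let a : Γ(C, P₂) := φ₂ (MvPolynomial.X 0)
  let b : Γ(C, P₂) := φ₂ (MvPolynomial.X 1)
  let q : Ideal Γ(C, P₂) := Ideal.span {a, b}
  have hdec : ∀ z : Γ(C, P₂), ∃ c : k, z - algebraMap k _ c ∈ q := by
    intro z
    obtain ⟨p, rfl⟩ := hsur₂ z
    refine ⟨MvPolynomial.constantCoeff p, ?_⟩
    have h1 := Ideal.mem_map_of_mem φ₂.toRingHom (sub_C_mem_span p)
    rw [Ideal.map_span, Set.image_pair] at h1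
    rw [← φ₂.commutes, MvPolynomial.algebraMap_eq, ← map_sub]
    exact h1
  have hqne : (1 : Γ(C, P₂)) ∉ q := by
    intro h1
    rw [show q = (Ideal.span {(MvPolynomial.X 0 : MvPolynomial (Fin 2) k), MvPolynomial.X 1}).map φ₂.toRingHom by
      rw [Ideal.map_span, Set.image_pair]; rfl, Ideal.mem_map_iff_of_surjective φ₂.toRingHom hsur₂] at h1
    obtain ⟨p, hp, hp1⟩ := h1
    have h2 : p - 1 ∈ RingHom.ker φ₂.toRingHom := by
      rw [RingHom.mem_ker, map_sub, map_one, hp1, sub_self]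
    rw [hker₂, Ideal.mem_span_singleton'] at h2
    obtain ⟨t, ht⟩ := h2
    obtain ⟨u, v, rfl⟩ := Ideal.mem_span_pair.1 hp
    have h3 := congrArg MvPolynomial.constantCoeff ht
    rw [map_mul, constantCoeff_dehom_two (d := 4) _ ((MvPolynomial.mem_homogeneousSubmodule _ _).1 G.2), hc] at h3
    simp at h3
  have hqmax : q.IsMaximal := by
    refine Ideal.isMaximal_iff.2 ⟨hqne, fun J z hqJ hzq hzJ => ?_⟩
    obtain ⟨c, hcz⟩ := hdec z
    have hc0 : c ≠ 0 := fun h0 => hzq (by rwa [h0, map_zero, sub_zero] at hcz)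
    have h1 : algebraMap k Γ(C, P₂) c ∈ J := by
      have := J.sub_mem hzJ (hqJ hcz); rwa [sub_sub_cancel] at this
    have h2 := J.mul_mem_left (algebraMap k Γ(C, P₂) c⁻¹) h1
    rwa [← map_mul, inv_mul_cancel₀ hc0, map_one] at h2
  set w : C := hA₂.fromSpec ⟨q, hqmax.isPrime⟩ with hw_def
  have hw : w ∈ P₂ := by
    have h1 : w ∈ Set.range hA₂.fromSpec := ⟨_, rfl⟩
    rwa [hA₂.range_fromSpec] at h1
  have hwq : (hA₂.primeIdealOf ⟨w, hw⟩).asIdeal = q :=
    congrArg PrimeSpectrum.asIdeal (hA₂.fromSpec.isOpenEmbedding.injective (hA₂.fromSpec_primeIdealOf ⟨w, hw⟩))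
  have hη₂ : genericPoint C ∈ P₂ := (genericPoint_specializes w).mem_open P₂.2 hw
  let γ₂ : Γ(C, P₂) →+* K := (C.presheaf.germ P₂ (genericPoint C) hη₂).hom
  have hγ₂C : ∀ r : k, γ₂ (algebraMap k _ r) = algebraMap k K r := germ_algebraMap G hinst 2 hη₂
  -- change of chart
  have hchg : ∀ t : Fin 3, γ₂ (pcoord ι 2 t) = γ₂ (pcoord ι 2 0) *
      C.presheaf.germ P₀' (genericPoint C) hη₀ (pcoord ι 0 t) := by
    intro t
    have h1 := An92.Lef.res_pform ι (⟨MvPolynomial.X t, LefPen.X_mem 2 k t⟩ : LefPen.Form 2 k 1) 2 0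
    rw [pow_one, An92.Lef.pform_X, An92.Lef.pform_X] at h1
    have h2 := congrArg (C.presheaf.germ (P₂ ⊓ P₀') (genericPoint C) ⟨hη₂, hη₀⟩) h1
    rw [map_mul] at h2
    have r2 : ∀ s, C.presheaf.germ (P₂ ⊓ P₀') (genericPoint C) ⟨hη₂, hη₀⟩
        (C.presheaf.map (homOfLE (inf_le_left : P₂ ⊓ P₀' ≤ P₂)).op s) = γ₂ s := fun s =>
      TopCat.Presheaf.germ_res_apply _ _ _ _ _
    have r0 : ∀ s, C.presheaf.germ (P₂ ⊓ P₀') (genericPoint C) ⟨hη₂, hη₀⟩
        (C.presheaf.map (homOfLE (inf_le_right : P₂ ⊓ P₀' ≤ P₀')).op s) =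
          C.presheaf.germ P₀' (genericPoint C) hη₀ s := fun s =>
      TopCat.Presheaf.germ_res_apply _ _ _ _ _
    exact (r2 _).symm.trans (h2.trans (congrArg₂ (· * ·) (r2 _) (r0 _)))
  have hay : γ₂ a * y = 1 := by
    have h1 := hchg 2
    rw [← hφ₂, ← hφ₂, ← hφ₀] at h1
    have e1 : φ₂ (b₂ 2) = 1 := map_one φ₂
    rw [e1, map_one] at h1
    exact h1.symm
  have hbx : γ₂ b = γ₂ a * x := by
    have h1 := hchg 1
    rw [← hφ₂, ← hφ₂, ← hφ₀] at h1
    exact h1
  have hy0 : y ≠ 0 := fun h0 => by rw [h0, mul_zero] at hay; exact zero_ne_one hay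
  have ha0 : γ₂ a ≠ 0 := fun h0 => by rw [h0, zero_mul] at hay; exact zero_ne_one hay
  have hx0 : x ≠ 0 := fun h0 => transcendental_fst h.ff hg hxy (h0 ▸ isAlgebraic_zero)
  -- the stalk
  let _ : Algebra Γ(C, P₂) (C.presheaf.stalk w) := (C.presheaf.germ P₂ w hw).hom.toAlgebra
  have : IsLocalization.AtPrime (C.presheaf.stalk w) (hA₂.primeIdealOf ⟨w, hw⟩).asIdeal :=
    hA₂.isLocalization_stalk ⟨w, hw⟩
  have hgerm : ∀ s : Γ(C, P₂),
      algebraMap (C.presheaf.stalk w) K (algebraMap Γ(C, P₂) (C.presheaf.stalk w) s) = γ₂ s := fun s =>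
    Curves2.algebraMap_germ w hw s
  have hwcl : IsClosed ({w} : Set C) := by
    refine (h.isClosed_or_generic w).resolve_right fun hwη => ?_
    have hmem : algebraMap Γ(C, P₂) (C.presheaf.stalk w) a ∈ IsLocalRing.maximalIdeal (C.presheaf.stalk w) := by
      rw [IsLocalization.AtPrime.to_map_mem_maximal_iff (C.presheaf.stalk w) (hA₂.primeIdealOf ⟨w, hw⟩).asIdeal, hwq]
      exact Ideal.subset_span (Or.inl rfl)
    obtain ⟨s, hs⟩ : ∃ s : C.presheaf.stalk w, algebraMap (C.presheaf.stalk w) K s = (γ₂ a)⁻¹ :=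
      hwη ▸ Curves2.regAt_genericPoint ((γ₂ a)⁻¹)
    obtain ⟨_, _⟩ := h.stalks w
    refine (IsLocalRing.mem_maximalIdeal _).1 hmem (IsUnit.of_mul_eq_one s ?_)
    apply IsFractionRing.injective (C.presheaf.stalk w) K
    rw [map_mul, map_one, hgerm, hs, mul_inv_cancel₀ ha0]
  set P₁ : Place k K := h.place ⟨w, hwcl⟩ with hP₁
  have hreg : ∀ z : K, P₁.1 z ≤ 1 → ∃ R S : Γ(C, P₂), S ∉ q ∧ z * γ₂ S = γ₂ R := by
    intro z hz
    obtain ⟨t, rfl⟩ := (h.place_le_one_iff _ _).1 hz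
    obtain ⟨⟨R, S⟩, hRS⟩ := IsLocalization.surj (hA₂.primeIdealOf ⟨w, hw⟩).asIdeal.primeCompl t
    refine ⟨R, S.1, fun hS => S.2 (hwq.ge hS), ?_⟩
    rw [← hgerm, ← hgerm, ← map_mul]
    exact congrArg _ hRS
  -- a place with positive orders of the two coordinates
  have key : ∀ P : Place k K, P.1 (γ₂ a) < 1 → P.1 (γ₂ b) < 1 →
      (∀ z ∈ q, P.1 (γ₂ z) < 1) ∧ (∀ z, z ∉ q → P.1 (γ₂ z) = 1) ∧ P = P₁ := by
    intro P hPa hPb
    have hle : ∀ p : MvPolynomial (Fin 2) k, P.1 (γ₂ (φ₂ p)) ≤ 1 := by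
      intro p
      induction p using MvPolynomial.induction_on with
      | C r => rw [← MvPolynomial.algebraMap_eq, φ₂.commutes, hγ₂C]; exact P.2.1 r
      | add p p' hp hp' => rw [map_add, map_add]; exact (P.1.map_add _ _).trans (max_le hp hp')
      | mul_X p i hp =>
        rw [map_mul, map_mul, map_mul]
        refine mul_le_one' hp ?_
        fin_cases i
        · exact hPa.le
        · exact hPb.le
    have hlt : ∀ z ∈ q, P.1 (γ₂ z) < 1 := by
      intro z hz
      obtain ⟨u, v, rfl⟩ := Ideal.mem_span_pair.1 hz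
      obtain ⟨pu, rfl⟩ := hsur₂ u
      obtain ⟨pv, rfl⟩ := hsur₂ v
      rw [map_add, map_mul, map_mul]
      refine (P.1.map_add _ _).trans_lt (max_lt ?_ ?_)
      · rw [map_mul]; exact (mul_le_of_le_one_left' (hle pu)).trans_lt hPa
      · rw [map_mul]; exact (mul_le_of_le_one_left' (hle pv)).trans_lt hPb
    have hone : ∀ z, z ∉ q → P.1 (γ₂ z) = 1 := by
      intro z hz
      obtain ⟨c, hcz⟩ := hdec z
      have hc0 : c ≠ 0 := fun h0 => hz (by rwa [h0, map_zero, sub_zero] at hcz)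
      have h1 : P.1 (γ₂ (algebraMap k _ c)) = 1 := by rw [hγ₂C, FF30.val_algebraMap P hc0]
      have h2 : γ₂ z = γ₂ (algebraMap k _ c) + γ₂ (z - algebraMap k _ c) := by rw [map_sub]; ring
      rw [h2, P.1.map_add_eq_of_lt_left (h1.symm ▸ hlt _ hcz), h1]
    refine ⟨hlt, hone, (FF30.eq_of_val_le_one_imp fun z hz => ?_).symm⟩
    obtain ⟨R, S, hS, hRS⟩ := hreg z hz
    have h1 : P.1 z = P.1 (γ₂ R) := by rw [← hRS, map_mul, hone S hS, mul_one]
    obtain ⟨pR, rfl⟩ := hsur₂ R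
    rw [h1]; exact hle pR
  have hPa₁ : ∀ z ∈ q, P₁.1 (γ₂ z) < 1 := by
    intro z hz
    have h1 : P₁.1 (γ₂ z) ≤ 1 := (h.place_le_one_iff _ _).2 ⟨_, hgerm z⟩
    refine lt_of_le_of_ne h1 fun h2 => ?_
    have h3 : γ₂ z ≠ 0 := fun h0 => by rw [h0, map_zero] at h2; exact zero_ne_one h2
    obtain ⟨s, hs⟩ := (h.place_le_one_iff ⟨w, hwcl⟩ (γ₂ z)⁻¹).1 (by rw [map_inv₀, h2, inv_one])
    have hmem : algebraMap Γ(C, P₂) (C.presheaf.stalk w) z ∈ IsLocalRing.maximalIdeal (C.presheaf.stalk w) := by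
      rw [IsLocalization.AtPrime.to_map_mem_maximal_iff (C.presheaf.stalk w) (hA₂.primeIdealOf ⟨w, hw⟩).asIdeal, hwq]
      exact hz
    obtain ⟨_, _⟩ := h.stalks w
    refine (IsLocalRing.mem_maximalIdeal _).1 hmem (IsUnit.of_mul_eq_one s ?_)
    apply IsFractionRing.injective (C.presheaf.stalk w) K
    rw [map_mul, map_one, hgerm, hs, mul_inv_cancel₀ h3]
  obtain ⟨hlt₁, hone₁, -⟩ := key P₁ (hPa₁ a (Ideal.subset_span (Or.inl rfl)))
    (hPa₁ b (Ideal.subset_span (Or.inr rfl)))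
  refine ⟨P₁, ?_, fun P hPy hPxy => ?_⟩
  · refine le_antisymm (finrank_le_one (1 : IsLocalRing.ResidueField P₁.O) fun r => ?_) (h.ffield.deg_pos P₁)
    obtain ⟨z, rfl⟩ := IsLocalRing.residue_surjective r
    obtain ⟨R, S, hS, hRS⟩ := hreg z.1 z.2
    obtain ⟨cR, hcR⟩ := hdec R
    obtain ⟨cS, hcS⟩ := hdec S
    have hcS0 : cS ≠ 0 := fun h0 => hS (by rwa [h0, map_zero, sub_zero] at hcS)
    refine ⟨cR / cS, ?_⟩
    refine (FF30.residue_smul_eq_mul P₁ _ 1).trans ?_
    rw [mul_one]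
    show IsLocalRing.residue P₁.O (algebraMap k P₁.O (cR / cS)) = _
    rw [eq_comm, ← sub_eq_zero, ← map_sub, IsLocalRing.residue_eq_zero_iff]
    refine (Valuation.mem_maximalIdeal_iff (v := P₁.1)).mpr ?_
    show P₁.1 ((z : K) - algebraMap k K (cR / cS)) < 1
    have h1 : ((z : K) - algebraMap k K (cR / cS)) * γ₂ S =
        γ₂ (R - algebraMap k _ cR) - algebraMap k K (cR / cS) * γ₂ (S - algebraMap k _ cS) := by
      have hc' : algebraMap k K (cR / cS) * algebraMap k K cS = algebraMap k K cR := by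
        rw [← map_mul, div_mul_cancel₀ _ hcS0]
      rw [map_sub, map_sub, hγ₂C, hγ₂C]
      linear_combination hRS - hc'
    have h2 : P₁.1 (((z : K) - algebraMap k K (cR / cS)) * γ₂ S) < 1 := by
      rw [h1]
      refine (P₁.1.map_sub _ _).trans_lt (max_lt (hlt₁ _ hcR) ?_)
      rw [map_mul]
      exact (mul_le_of_le_one_left' (P₁.2.1 _)).trans_lt (hlt₁ _ hcS)
    rwa [map_mul, hone₁ S hS, mul_one] at h2
  · have hya : γ₂ a = y⁻¹ := eq_inv_of_mul_eq_one_left hay
    have hoa : P.ord (γ₂ a) = -P.ord y := by rw [hya, FF30.ord_inv]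
    have hob : P.ord (γ₂ b) = P.ord x - P.ord y := by
      rw [hbx, FF30.ord_mul P ha0 hx0, hoa]; ring
    have hb0 : γ₂ b ≠ 0 := by rw [hbx]; exact mul_ne_zero ha0 hx0
    obtain ⟨-, -, rfl⟩ := key P ((FF30.val_lt_one_iff P ha0).2 (by omega))
      ((FF30.val_lt_one_iff P hb0).2 (by omega))
    refine ⟨rfl, ?_⟩
    by_contra hlt
    push Not at hlt
    obtain ⟨t, ht0, ht⟩ := FF30.exists_uniformizer P₁
    obtain ⟨_, _⟩ := h.stalks w
    have ht1 : P₁.1 t < 1 := by rw [ht, ← WithZero.exp_zero, WithZero.exp_lt_exp]; norm_num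
    obtain ⟨s, hs⟩ := (h.place_le_one_iff ⟨w, hwcl⟩ t).1 ht1.le
    have hsm : s ∈ IsLocalRing.maximalIdeal (C.presheaf.stalk w) := by
      rw [IsLocalRing.mem_maximalIdeal]
      intro hu
      obtain ⟨s', hs'⟩ := hu.exists_right_inv
      have h1 : P₁.1 (algebraMap (C.presheaf.stalk w) K s') ≤ 1 := (h.place_le_one_iff ⟨w, hwcl⟩ _).2 ⟨_, rfl⟩
      have h2 : P₁.1 (t * algebraMap (C.presheaf.stalk w) K s') = 1 := by
        rw [← hs, ← map_mul, hs', map_one, map_one]
      rw [map_mul] at h2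
      exact ((mul_le_of_le_one_right' h1).trans_lt ht1).ne h2
    rw [← IsLocalization.AtPrime.map_eq_maximalIdeal (hA₂.primeIdealOf ⟨w, hw⟩).asIdeal (C.presheaf.stalk w),
      hwq, Ideal.map_span, Set.image_pair, Ideal.mem_span_pair] at hsm
    obtain ⟨u, v, huv⟩ := hsm
    have hu1 : ∀ u : C.presheaf.stalk w, P₁.1 (algebraMap (C.presheaf.stalk w) K u) ≤ 1 :=
      fun u => (h.place_le_one_iff ⟨w, hwcl⟩ _).2 ⟨_, rfl⟩
    have h3 : P₁.1 t ≤ WithZero.exp (-2 : ℤ) := by
      rw [← hs, ← huv, map_add, map_mul, map_mul, hgerm, hgerm]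
      refine (P₁.1.map_add _ _).trans (max_le ?_ ?_)
      · rw [map_mul]
        refine (mul_le_of_le_one_left' (hu1 u)).trans ?_
        rw [FF30.val_le_exp_iff P₁ ha0]; omega
      · rw [map_mul]
        refine (mul_le_of_le_one_left' (hu1 v)).trans ?_
        rw [FF30.val_le_exp_iff P₁ hb0]; omega
    rw [ht, WithZero.exp_le_exp] at h3
    omega

end Groth.Agent.Crv77
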