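import Groth.Agent.Crv77.PointDeg
import Groth.Agent.Var76.BertiniScheme

/-! The length of a multiple of a rational smooth point. -/

set_option autoImplicit false
set_option linter.style.haveILetI false
universe u

open CategoryTheory CategoryTheory.Limits AlgebraicGeometry TopologicalSpace Opposite

attribute [local instance] Curv2.resAlgebra

namespace Groth.Agent.Crv77

theorem finrank_quot_pow {k O : Type u} [Field k] [CommRing O] [IsDomain O] [Algebra k O] (t : O) (ht : t ≠ 0)
    [Module.Finite k (O ⧸ Ideal.span {t})] (h1 : Module.finrank k (O ⧸ Ideal.span {t}) = 1) (n : ℕ) :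
    Module.Finite k (O ⧸ Ideal.span {t ^ n}) ∧ Module.finrank k (O ⧸ Ideal.span {t ^ n}) = n := by
  induction n with
  | zero =>
    have : Subsingleton (O ⧸ Ideal.span {t ^ 0}) := by
      rw [Ideal.Quotient.subsingleton_iff, pow_zero, Ideal.span_singleton_one]
    exact ⟨inferInstance, Module.finrank_zero_of_subsingleton⟩
  | succ n ih =>
    obtain ⟨hfin, hn⟩ := ih
    let mk1 := (Ideal.Quotient.mkₐ k (Ideal.span {t ^ (n + 1)})).toLinearMap
    let f0 : O →ₗ[k] O ⧸ Ideal.span {t ^ (n + 1)} := mk1 ∘ₗ LinearMap.mulLeft k t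
    have hf0 : LinearMap.ker f0 = (Ideal.span {t ^ n}).restrictScalars k := by
      ext a
      simp only [f0, mk1, LinearMap.mem_ker, LinearMap.comp_apply, LinearMap.mulLeft_apply,
        AlgHom.toLinearMap_apply, Ideal.Quotient.mkₐ_eq_mk, Ideal.Quotient.eq_zero_iff_mem,
        Submodule.restrictScalars_mem, Ideal.mem_span_singleton, pow_succ' t n, mul_dvd_mul_iff_left ht]
    let P := LinearMap.range f0
    have eP : (O ⧸ (Ideal.span {t ^ n}).restrictScalars k) ≃ₗ[k] P :=
      (Submodule.quotEquivOfEq _ _ hf0.symm).trans f0.quotKerEquivRange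
    have eq0 : (O ⧸ (Ideal.span {t ^ n}).restrictScalars k) ≃ₗ[k] O ⧸ Ideal.span {t ^ n} :=
      Submodule.Quotient.restrictScalarsEquiv k (Ideal.span {t ^ n})
    have hfP : Module.Finite k P := Module.Finite.equiv (eq0.symm.trans eP)
    have hle : Ideal.span {t ^ (n + 1)} ≤ Ideal.span {t} :=
      Ideal.span_singleton_le_span_singleton.2 (dvd_pow_self t (by omega))
    let g : (O ⧸ Ideal.span {t ^ (n + 1)}) →ₗ[k] O ⧸ Ideal.span {t} :=
      (Ideal.Quotient.factorₐ k hle).toLinearMap
    have hg : Function.Surjective g := Ideal.Quotient.factor_surjective hle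
    have hker : LinearMap.ker g = P := by
      ext a
      obtain ⟨a, rfl⟩ := Ideal.Quotient.mk_surjective a
      simp only [g, LinearMap.mem_ker, AlgHom.toLinearMap_apply, P, LinearMap.mem_range, f0, mk1,
        LinearMap.comp_apply, LinearMap.mulLeft_apply, Ideal.Quotient.mkₐ_eq_mk]
      rw [show Ideal.Quotient.factorₐ k hle (Ideal.Quotient.mk _ a) = Ideal.Quotient.mk _ a from rfl,
        Ideal.Quotient.eq_zero_iff_mem, Ideal.mem_span_singleton]
      constructor
      · rintro ⟨b, rfl⟩; exact ⟨b, rfl⟩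
      · rintro ⟨b, hb⟩
        rw [Ideal.Quotient.eq, Ideal.mem_span_singleton] at hb
        have : t ∣ t * b - a := (dvd_pow_self t (by omega)).trans hb
        exact (dvd_sub_right (dvd_mul_right t b)).1 this
    have hfin1 : Module.Finite k (O ⧸ Ideal.span {t ^ (n + 1)}) := by
      have : Module.Finite k (LinearMap.ker g) := hker ▸ hfP
      have : Module.Finite k ((O ⧸ Ideal.span {t ^ (n + 1)}) ⧸ LinearMap.ker g) :=
        Module.Finite.equiv (g.quotKerEquivOfSurjective hg).symm
      exact Module.Finite.of_submodule_quotient (LinearMap.ker g)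
    refine ⟨hfin1, ?_⟩
    have h2 := LinearMap.finrank_range_add_finrank_ker g
    rw [LinearMap.range_eq_top.2 hg, finrank_top, h1, hker, ← (eq0.symm.trans eP).finrank_eq, hn] at h2
    omega

variable {X : Scheme.{u}} (k : Type u) [Field k] [X.Over (Spec (CommRingCat.of k))]

/-- `h⁰(O/I)` of an ideal concentrated at a point is computed on an affine neighbourhood. -/
theorem finrank_quot_of_support {x : X} (hx : IsClosed ({x} : Set X)) (Z : X.IdealSheafData)
    (hZ : (Z.support : Set X) ⊆ {x}) {U : X.Opens} (hU : IsAffineOpen U) (hxU : x ∈ U) :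
    letI : Algebra k Γ(X, U) := (Var76.BertiniScheme.const (k := k) X U).toAlgebra
    Module.finrank k (Coh.HH X (ClSub.quotMod Z) 0) = Module.finrank k (Γ(X, U) ⧸ Z.ideal ⟨U, hU⟩) := by
  let Q := ClSub.quotMod Z
  let c0 : k →+* Γ(X, U) := (X.presheaf.map (homOfLE (le_top : U ≤ ⊤)).op).hom.comp
    (Coh.toGlobal (X ↘ Spec (CommRingCat.of k)))
  have hc0 : c0 = Var76.BertiniScheme.const (k := k) X U := rfl
  letI : Algebra k Γ(X, U) := (Var76.BertiniScheme.const (k := k) X U).toAlgebra
  have hSfin : (Z.support : Set X).Finite := (Set.finite_singleton x).subset hZ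
  have hScl : ∀ y ∈ (Z.support : Set X), IsClosed ({y} : Set X) := fun y hy => by
    have := hZ hy; rw [Set.mem_singleton_iff] at this; exact this ▸ hx
  let r : Γ(Q, ⊤) →+ Γ(Q, U) := (Q.presheaf.map (homOfLE (le_top : U ≤ ⊤)).op).hom
  have hr : Function.Bijective r := by
    constructor
    · refine (injective_iff_map_eq_zero r).2 fun m hm => ?_
      refine QC70.section_ext Q m 0 fun y hy => ?_
      by_cases hyU : y ∈ U
      · exact ⟨U, le_top, hyU, hm.trans (map_zero _).symm⟩
      · let W : X.Opens := ⟨{x}ᶜ, hx.isOpen_compl⟩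
        refine ⟨W, le_top, fun e => hyU (Set.mem_singleton_iff.1 e ▸ hxU), ?_⟩
        have hz : ∀ m' : Γ(Q, W), m' = 0 := (suppIn_quotMod Z).section_eq_zero (V := W)
          (fun z hz hzS => hz (hZ hzS))
        exact (hz _).trans (map_zero _).symm
    · exact fun s => (suppIn_quotMod Z).surjective_res hSfin hScl le_top s
  let e := AddEquiv.ofBijective r hr
  let π : Γ(X, U) → Γ(Q, U) := fun a => (ClSub.toSubscheme Z).app U (a : Γ(Coh.structureModule X, U))
  let ψ : Γ(X, U) →ₗ[k] Coh.HH X Q 0 :=
    { toFun := fun a => (sec Q).symm (e.symm (π a))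
      map_add' := fun a b => by
        rw [show π (a + b) = π a + π b from map_add _ _ _, map_add, map_add]
      map_smul' := fun c a => by
        apply (sec Q).injective
        rw [RingHom.id_apply, sec_smul, AddEquiv.apply_symm_apply, AddEquiv.apply_symm_apply]
        apply e.injective
        rw [AddEquiv.apply_symm_apply]
        refine (Scheme.Modules.Hom.app_smul (ClSub.toSubscheme Z) (c0 c)
          (a : Γ(Coh.structureModule X, U))).trans ?_
        refine Eq.trans ?_ (Scheme.Modules.map_smul Q (homOfLE (le_top : U ≤ ⊤)) _ _).symm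
        exact congrArg (fun m => c0 c • m) (e.apply_symm_apply (π a)).symm }
  have hψ : Function.Surjective ψ := fun v => by
    obtain ⟨a, ha⟩ := Z.subschemeι.app_surjective U hU (e (sec Q v))
    refine ⟨a, ?_⟩
    show (sec Q).symm (e.symm (π a)) = v
    rw [show π a = e (sec Q v) from ha, AddEquiv.symm_apply_apply, AddEquiv.symm_apply_apply]
  have hker : LinearMap.ker ψ = (Z.ideal ⟨U, hU⟩).restrictScalars k := by
    ext a
    rw [LinearMap.mem_ker, Submodule.restrictScalars_mem]
    refine Iff.trans ?_ (toSubscheme_eq_zero_iff Z hU a)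
    show (sec Q).symm (e.symm (π a)) = 0 ↔ π a = 0
    rw [map_eq_zero_iff _ (sec Q).symm.injective, map_eq_zero_iff _ e.symm.injective]
  exact (ψ.quotKerEquivOfSurjective hψ).finrank_eq.symm.trans
    ((Submodule.quotEquivOfEq _ _ hker).finrank_eq.trans (Submodule.Quotient.restrictScalarsEquiv k _).finrank_eq)

/-- `h⁰(O/I_x^n) = n` at a rational point with a valuation ring. -/
theorem finrank_quot_ptIdeal_pow [IsIntegral X] [IsLocallyNoetherian X] {x : X} (hx : IsClosed ({x} : Set X))
    [IsDiscreteValuationRing (X.presheaf.stalk x)] (h1 : Module.finrank k (X.residueField x) = 1) (n : ℕ) :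
    Module.finrank k (Coh.HH X (ClSub.quotMod (ptIdeal hx ^ n)) 0) = n := by
  obtain ⟨U, hU, hxU, -⟩ := exists_isAffineOpen_mem_and_subset (x := x) (U := (⊤ : X.Opens)) trivial
  have hsupp : ((ptIdeal hx ^ n).support : Set X) ⊆ {x} := by
    rcases n with _ | n
    · intro y hy
      rw [pow_zero] at hy
      simp at hy
    · rw [Scheme.IdealSheafData.support_pow_succ, ptIdeal_support]
  rw [finrank_quot_of_support k hx _ hsupp hU hxU, Scheme.IdealSheafData.ideal_pow, Pi.pow_apply]
  let A := Γ(X, U)
  let O := X.presheaf.stalk x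
  let _ : Algebra A O := (X.presheaf.germ U x hxU).hom.toAlgebra
  let q := (hU.primeIdealOf ⟨x, hxU⟩).asIdeal
  have : IsLocalization.AtPrime O q := hU.isLocalization_stalk ⟨x, hxU⟩
  have hI : (ptIdeal hx).ideal ⟨U, hU⟩ = q := by
    ext a
    rw [mem_ptIdeal_iff hx ⟨U, hU⟩, Scheme.mem_basicOpen _ _ _ hxU]
    exact (IsLocalRing.mem_maximalIdeal _).symm.trans
      (IsLocalization.AtPrime.to_map_mem_maximal_iff O q a)
  have hqmax : q.IsMaximal := by
    rw [← hI]
    refine Ideal.Quotient.maximal_of_isField _ ?_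
    have he : RingHom.ker (X.evaluation U x hxU).hom = (ptIdeal hx).ideal ⟨U, hU⟩ := Ideal.ext fun a =>
      (X.evaluation_eq_zero_iff_notMem_basicOpen x hxU a).trans (mem_ptIdeal_iff hx ⟨U, hU⟩ a).symm
    exact MulEquiv.isField (Field.toIsField (X.residueField x))
      ((Ideal.quotEquivOfEq he.symm).trans
        (RingHom.quotientKerEquivOfSurjective (evaluation_surjective hx hU hxU))).toMulEquiv
  letI : Algebra k A := (Var76.BertiniScheme.const (k := k) X U).toAlgebra
  let _ : Algebra k O := ((algebraMap A O).comp (algebraMap k A)).toAlgebra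
  have : IsScalarTower k A O := IsScalarTower.of_algebraMap_eq fun _ => rfl
  rw [hI, ((IsLocalization.AtPrime.equivQuotMaximalIdealPow q O n).restrictScalars k).toLinearEquiv.finrank_eq]
  obtain ⟨t, ht⟩ := IsDiscreteValuationRing.exists_irreducible O
  have hm : IsLocalRing.maximalIdeal O = Ideal.span {t} :=
    (IsDiscreteValuationRing.irreducible_iff_uniformizer t).1 ht
  let res : O →ₐ[k] X.residueField x :=
    AlgHom.mk (X.residue x).hom fun c => by
      refine congrArg (X.residue x).hom ?_
      exact TopCat.Presheaf.germ_res_apply X.presheaf (homOfLE (le_top : U ≤ ⊤)) x hxU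
        (Coh.toGlobal (X ↘ Spec (CommRingCat.of k)) c)
  let e1 : (O ⧸ Ideal.span {t}) ≃ₐ[k] X.residueField x :=
    (Ideal.quotientEquivAlgOfEq k (hm.symm.trans (IsLocalRing.ker_residue (R := O)).symm)).trans
      (Ideal.quotientKerAlgEquivOfSurjective (f := res) (X.residue_surjective x))
  have h2 : Module.finrank k (O ⧸ Ideal.span {t}) = 1 := e1.toLinearEquiv.finrank_eq.trans h1
  have : Module.Finite k (O ⧸ Ideal.span {t}) := Module.finite_of_finrank_eq_succ h2
  have h3 := (finrank_quot_pow (k := k) t ht.ne_zero h2 n).2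
  rw [← Ideal.span_singleton_pow, ← hm] at h3
  exact h3

end Groth.Agent.Crv77
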