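import Groth.Agent.Crv77.GenusMono
import Groth.Agent.Crv77.FunDeg
import Groth.Agent.Crv77.HomOfFF

/-! The subfield cut out by a finite morphism of curves. -/

set_option autoImplicit false
set_option linter.style.haveILetI false
set_option backward.isDefEq.respectTransparency false
set_option maxHeartbeats 1000000
set_option synthInstance.maxHeartbeats 200000
universe u

open CategoryTheory CategoryTheory.Limits AlgebraicGeometry FunFld

namespace Groth.Agent.Crv77

variable {k : Type u} [Field k] {X Y : Scheme.{u}} [X.Over (Spec (CommRingCat.of k))]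
  [Y.Over (Spec (CommRingCat.of k))] [IsIntegral X] [IsIntegral Y]

attribute [local instance] CrvPic30.ffAlg

/-- The map of function fields as a map of algebras. -/
noncomputable def ffAlgHom (f : X ⟶ Y) (hf : f ≫ (Y ↘ Spec (CommRingCat.of k)) = X ↘ Spec (CommRingCat.of k))
    (e : f (genericPoint X) = genericPoint Y) : Y.functionField →ₐ[k] X.functionField :=
  { ffMap f e with commutes' := ffMap_algebraMap f hf e }

theorem genus_fieldRange {K E : Type u} [Field K] [Field E] [Algebra k K] [Algebra k E] (φ : E →ₐ[k] K) :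
    genus k φ.fieldRange = genus k E :=
  (Insep.genus_semilinear (RingEquiv.refl k) (AlgEquiv.ofInjectiveField φ).toRingEquiv
    fun c => (AlgEquiv.ofInjectiveField φ).commutes c).symm

theorem finrank_fieldRange (f : X ⟶ Y) (hf : f ≫ (Y ↘ Spec (CommRingCat.of k)) = X ↘ Spec (CommRingCat.of k))
    (e : f (genericPoint X) = genericPoint Y) :
    Module.finrank (ffAlgHom f hf e).fieldRange X.functionField = f.residueDegree (genericPoint X) := by
  let _ := (ffMap f e).toAlgebra
  rw [← (ffMap_spec f e).1]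
  exact (Algebra.finrank_eq_of_equiv_equiv (AlgEquiv.ofInjectiveField (ffAlgHom f hf e)).toRingEquiv (RingEquiv.refl _)
    (RingHom.ext fun _ => rfl)).symm

/-- Finite morphisms of curves with the same subfield differ by an isomorphism of the targets. -/
theorem exists_iso_of_fieldRange_eq {Z : Scheme.{u}} [Z.Over (Spec (CommRingCat.of k))] [IsIntegral Z]
    (hY : CrvPic30.Setup k Y) (hZ : CrvPic30.Setup k Z) (f : X ⟶ Y) (g : X ⟶ Z)
    (hf : f ≫ (Y ↘ Spec (CommRingCat.of k)) = X ↘ Spec (CommRingCat.of k))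
    (hg : g ≫ (Z ↘ Spec (CommRingCat.of k)) = X ↘ Spec (CommRingCat.of k))
    (ef : f (genericPoint X) = genericPoint Y) (eg : g (genericPoint X) = genericPoint Z)
    (h : (ffAlgHom f hf ef).fieldRange = (ffAlgHom g hg eg).fieldRange) :
    ∃ i : Y ≅ Z, i.hom ≫ (Z ↘ Spec (CommRingCat.of k)) = Y ↘ Spec (CommRingCat.of k) ∧ f ≫ i.hom = g := by
  have := hY.proper
  have := hZ.proper
  have := hY.isNoetherian
  have := hZ.isNoetherian
  let φ : Z.functionField ≃ₐ[k] Y.functionField :=
    ((AlgEquiv.ofInjectiveField (ffAlgHom g hg eg)).trans (IntermediateField.equivOfEq h.symm)).trans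
      (AlgEquiv.ofInjectiveField (ffAlgHom f hf ef)).symm
  have hφ : ∀ a, ffMap f ef (φ a) = ffMap g eg a := fun a =>
    congrArg Subtype.val ((AlgEquiv.ofInjectiveField (ffAlgHom f hf ef)).apply_symm_apply _)
  obtain ⟨i, ei, hi, hiφ⟩ := exists_iso_of_ffIso' (Y ↘ Spec (CommRingCat.of k)) (Z ↘ Spec (CommRingCat.of k))
    hY.stalks hZ.stalks φ.toRingEquiv.toCommRingCatIso (by
      rw [← spec_ffAlg, ← spec_ffAlg, ← Spec.map_comp]
      exact congrArg Spec.map (CommRingCat.hom_ext (RingHom.ext fun r => φ.commutes r)))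
  refine ⟨i, hi, Curves2.hom_ext_generic (Z ↘ Spec (CommRingCat.of k)) (𝟙 X) _ _
    (by rw [Category.assoc, hi, hf, hg]) fun l hl => ?_⟩
  rw [Category.comp_id] at hl
  rw [hl, ← Category.assoc, ← fromSpecStalk_ffMap f ef, Category.assoc, ← fromSpecStalk_ffMap i.hom ei,
    ← fromSpecStalk_ffMap g eg, ← Category.assoc, ← Spec.map_comp, hiφ]
  exact congrArg (fun q => Spec.map q ≫ _) (CommRingCat.hom_ext (RingHom.ext hφ))

end Groth.Agent.Crv77
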