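import Groth.Agent.VB30.G1b
import Groth.Agent.VB30.Apply
import Groth.Agent.VB30.Sum

/-! Rank two bundles on a curve: bounds on invertible subsheaves. -/

set_option autoImplicit false
set_option linter.style.haveILetI false
set_option linter.unusedSectionVars false
set_option backward.isDefEq.respectTransparency.types false
set_option maxHeartbeats 1000000

noncomputable section

universe u

attribute [local instance] Curv2.resAlgebra

open CategoryTheory CategoryTheory.Limits AlgebraicGeometry Opposite TopologicalSpace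
open Groth.Agent.VB30
open Groth.Agent.QC70 (homMod)

namespace Groth.Agent.Crv77.RankTwo

variable {k : Type u} [Field k] {X : Scheme.{u}} [X.Over (Spec (CommRingCat.of k))] [IsIntegral X]

attribute [local instance] CrvPic30.ffAlg

variable (hS : CrvPic30.Setup k X)
include hS

/-- An indecomposable bundle of rank two has no line subsheaf of large degree. -/
theorem line_le {E : X.Modules} (hE : FlatMod.IsFinLocFree E) (h2 : rk E = 2)
    (hind : ∀ L₁ L₂ : X.Modules, PicF.IsInvertible L₁ → PicF.IsInvertible L₂ → IsEmpty (E ≅ L₁ ⊞ L₂))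
    {L : X.Modules} (ι : L ⟶ E) [Mono ι] (hL : PicF.IsInvertible L) :
    2 * dg k L ≤ dg k E + 2 * (Curv2.genus k X : ℤ) - 2 := by
  have h := cur_of_setup hS
  obtain ⟨lL, rL⟩ := lf_of_isInvertible hL
  obtain ⟨G, i, a, hi, -, -, lG, lQ, hrG, hdG⟩ := h.exists_saturation ι (isCoh_of_isFinLocFree lL) hE
  obtain ⟨r1, d1⟩ := h.rk_cokernel i (isCoh_of_isFinLocFree lG) (isCoh_of_isFinLocFree hE)
  have hG := isInvertible_of_lf lG (hrG.trans rL)
  have hQ := isInvertible_of_lf lQ (by omega)
  by_contra hlt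
  obtain ⟨lH, rH, dH⟩ := h.homMod_invertible lQ hG
  rw [(lf_of_isInvertible hQ).2] at rH dH
  have hsub : Subsingleton (Coh.HH X (homMod (cokernel i) G) 1) :=
    h1_subsingleton_of_ss hS lH (h.ss_of_st lH (h.st_line rH)) (by rw [rH, dH]; push_cast; omega)
  have : IsSplitEpi (cokernel.π i) := h.isSplitEpi_of_h1 (shortExact_cokernel i) lQ hsub
  let s := ShortComplex.Splitting.ofExactOfSection _ (shortExact_cokernel i).exact (section_ (cokernel.π i))
    (IsSplitEpi.id _) hi
  exact (hind G (cokernel i) hG hQ).false s.isoBinaryBiproduct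

/-- A bundle of rank two has a line subsheaf of degree at least half of `d - 2g`. -/
theorem exists_line_ge [IsAlgClosed k] {E : X.Modules} (hE : FlatMod.IsFinLocFree E) (h2 : rk E = 2) :
    ∃ (L : X.Modules) (ι : L ⟶ E), PicF.IsInvertible L ∧ Mono ι ∧
      dg k E - 2 * (Curv2.genus k X : ℤ) ≤ 2 * dg k L := by
  have h := cur_of_setup hS
  have := h.isNoetherian
  set m : ℤ := (dg k E - 2 * (Curv2.genus k X : ℤ) + 1) / 2 with hm
  obtain ⟨M, hM, hdM⟩ := h.exists_line_deg m
  obtain ⟨lM, rM⟩ := lf_of_isInvertible hM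
  obtain ⟨lH, rH, dH⟩ := h.homMod_lf lM hE
  rw [rM, h2] at rH dH
  have e := h.h0_sub_h1 (isCoh_of_isFinLocFree lH)
  rw [rH, dH, euler_structureModule hS, hdM] at e
  have hpos : 0 < Module.finrank k (Coh.HH X (homMod M E) 0) := by
    push_cast at e
    omega
  have : Nontrivial (Coh.HH X (homMod M E) 0) := Module.nontrivial_of_finrank_pos (R := k) hpos
  obtain ⟨x, hx⟩ := exists_ne (0 : Coh.HH X (homMod M E) 0)
  have hne : homOf x ≠ 0 := fun hz => hx (homOf_injective (hz.trans homOf_zero.symm))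
  exact ⟨M, homOf x, hM, (h.rk_image_eq_zero_or _ lM hE rM).resolve_left hne, by omega⟩

/-- In a normalized bundle every line subsheaf has degree at most zero. -/
theorem line_nonpos {E : X.Modules}
    (hneg : ∀ M : X.Modules, PicF.IsInvertible M → Curv2.deg k X M 1 < 0 →
      Subsingleton (Coh.HH X (CohB1.tensorMod E M) 0))
    {L : X.Modules} (ι : L ⟶ E) [Mono ι] (hL : PicF.IsInvertible L) : dg k L ≤ 0 := by
  have h := cur_of_setup hS
  have := h.isNoetherian
  by_contra hlt
  obtain ⟨M, hM, ⟨e⟩⟩ := Crv77.exists_inverse hL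
  have hd := h.dg_invertible_tensor hL hM
  rw [dg_congr e, h.dg_structureModule] at hd
  have hs := hneg M hM (by rw [deg_eq_dg_of_isInvertible hM]; omega)
  have := mono_twMap (X := X) hM ι
  have hinj := Crv77.injective_f_zero (A := k) (shortExact_cokernel (e.inv ≫ twMap ι M))
  have h0 : Subsingleton (Coh.HH X (Coh.structureModule X) 0) := hinj.subsingleton
  have := hS.finrank_h0_structureModule
  rw [Module.finrank_zero_of_subsingleton] at this
  exact zero_ne_one this

/-- A nonzero section of a normalized bundle generates a subbundle. -/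
theorem cokernel_section {E : X.Modules} (hE : FlatMod.IsFinLocFree E) (h2 : rk E = 2)
    (hneg : ∀ M : X.Modules, PicF.IsInvertible M → Curv2.deg k X M 1 < 0 →
      Subsingleton (Coh.HH X (CohB1.tensorMod E M) 0))
    (s : Coh.structureModule X ⟶ E) (hs : s ≠ 0) :
    Mono s ∧ PicF.IsInvertible (cokernel s) := by
  have h := cur_of_setup hS
  obtain ⟨lO, rO⟩ := lf_of_isInvertible (X := X) EGA73.isInvertible_structureModule
  have hmono : Mono s := (h.rk_image_eq_zero_or s lO hE rO).resolve_left hs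
  refine ⟨hmono, ?_⟩
  obtain ⟨G, i, a, hi, ha, hfac, lG, lQ, hrG, hdG⟩ := h.exists_saturation s (isCoh_of_isFinLocFree lO) hE
  have hle := line_nonpos hS hneg i (isInvertible_of_lf lG (hrG.trans rO))
  rw [h.dg_structureModule] at hdG
  have := h.isIso_of_rk_eq a (isCoh_of_isFinLocFree lO) (isCoh_of_isFinLocFree lG) hrG.symm
    (by rw [h.dg_structureModule]; exact hle)
  have e : cokernel i ≅ cokernel s :=
    cokernel.mapIso i s (asIso a).symm (Iso.refl E)
      (by simp only [Iso.refl_hom, Category.comp_id, Iso.symm_hom, asIso_inv, IsIso.eq_inv_comp, hfac])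
  obtain ⟨r1, -⟩ := h.rk_cokernel i (isCoh_of_isFinLocFree lG) (isCoh_of_isFinLocFree hE)
  have hQc := QC70.isCoh_of_iso e (isCoh_of_isFinLocFree lQ)
  refine isInvertible_of_lf (h.isFinLocFree_of_isTF hQc ((isTF_of_isFinLocFree lQ).of_mono e.inv)) ?_
  rw [← rk_congr e]
  omega

/-- A normalized indecomposable bundle of rank two has degree between `2 - 2g` and `2g`. -/
theorem normalized_bounds [IsAlgClosed k] {E : X.Modules} (hE : FlatMod.IsFinLocFree E) (h2 : rk E = 2)
    (hn0 : Nontrivial (Coh.HH X E 0))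
    (hneg : ∀ M : X.Modules, PicF.IsInvertible M → Curv2.deg k X M 1 < 0 →
      Subsingleton (Coh.HH X (CohB1.tensorMod E M) 0))
    (hind : ∀ L₁ L₂ : X.Modules, PicF.IsInvertible L₁ → PicF.IsInvertible L₂ → IsEmpty (E ≅ L₁ ⊞ L₂)) :
    2 - 2 * (Curv2.genus k X : ℤ) ≤ dg k E ∧ dg k E ≤ 2 * (Curv2.genus k X : ℤ) := by
  have h := cur_of_setup hS
  refine ⟨?_, ?_⟩
  · obtain ⟨x, hx⟩ := exists_ne (0 : Coh.HH X E 0)
    have hs : Crv77.toHom x ≠ 0 := fun hz => hx ((Crv77.sec E).injective (by
      rw [map_zero, ← Crv77.toHom_app_one x, hz]; rfl))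
    have := (cokernel_section hS hE h2 hneg _ hs).1
    have h1 := line_le hS hE h2 hind (Crv77.toHom x) EGA73.isInvertible_structureModule
    rw [h.dg_structureModule] at h1
    omega
  · obtain ⟨L, ι, hL, hι, hd⟩ := exists_line_ge hS hE h2
    have := line_nonpos hS hneg ι hL
    omega

/-- In genus one the degree is zero or one. -/
theorem normalized_genus_one [IsAlgClosed k] (hg : Curv2.genus k X = 1) {E : X.Modules}
    (hE : FlatMod.IsFinLocFree E) (h2 : rk E = 2) (hn0 : Nontrivial (Coh.HH X E 0))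
    (hneg : ∀ M : X.Modules, PicF.IsInvertible M → Curv2.deg k X M 1 < 0 →
      Subsingleton (Coh.HH X (CohB1.tensorMod E M) 0))
    (hind : ∀ L₁ L₂ : X.Modules, PicF.IsInvertible L₁ → PicF.IsInvertible L₂ → IsEmpty (E ≅ L₁ ⊞ L₂)) :
    dg k E = 0 ∨ dg k E = 1 := by
  have h := cur_of_setup hS
  obtain ⟨hlo, hhi⟩ := normalized_bounds hS hE h2 hn0 hneg hind
  rw [hg] at hlo hhi
  by_contra hne
  have hd : dg k E = 2 := by push_cast at hlo hhi; omega
  obtain ⟨M, φ, hM, hdM, hφ⟩ := h.exists_line_slope (by rw [euler_structureModule hS, hg]; norm_num) hE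
    (by omega) (m := 1) (by rw [hd, h2]; norm_num)
  obtain ⟨lM, rM⟩ := lf_of_isInvertible hM
  have := (h.rk_image_eq_zero_or φ lM hE rM).resolve_left hφ
  have := line_nonpos hS hneg φ hM
  omega

/-- Invertible modules are not zero. -/
theorem not_isZero_of_isInvertible {L : X.Modules} (hL : PicF.IsInvertible L) : ¬ IsZero L := fun hz => by
  have := rk_eq_zero_of_isZero hz
  have := (lf_of_isInvertible hL).2
  omega

end Groth.Agent.Crv77.RankTwo
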