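import Groth.Agent.Crv77.SquareVA
import Groth.Agent.Curves2.H1Zero.AnyModule

/-! An invertible module with a regular section and no first cohomology has generated cube. -/

set_option autoImplicit false
set_option linter.style.haveILetI false
set_option backward.isDefEq.respectTransparency.types false

universe u

open CategoryTheory CategoryTheory.Limits AlgebraicGeometry TopologicalSpace Opposite

noncomputable section

namespace Groth.Agent.Crv77

open Groth.Agent.Var76.LineBundle Groth.Agent.Var76.ZeroScheme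
open Groth.Agent.Amp73 (tm epow)
open Groth.Agent.Curves2.H1Zero

variable {X : Scheme.{u}} {L : X.Modules}

/-- A point without proper generalisations has a stalk whose nonunits are nilpotent. -/
theorem isNilpotent_of_not_isUnit (y : X) (hy : ∀ z : X, z ⤳ y → z = y) (c : X.presheaf.stalk y)
    (hc : ¬ IsUnit c) : IsNilpotent c := by
  rw [← mem_nilradical, nilradical_eq_sInf, Ideal.mem_sInf]
  intro p hp
  have : p.IsPrime := hp
  let q : Spec (X.presheaf.stalk y) := ⟨p, this⟩
  have h1 : X.fromSpecStalk y q ⤳ y :=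
    (X.range_fromSpecStalk (x := y)).subset ⟨q, rfl⟩
  have h2 : q = IsLocalRing.closedPoint (X.presheaf.stalk y) := by
    refine (X.fromSpecStalk y).isEmbedding.injective ?_
    rw [hy _ h1, Scheme.fromSpecStalk_closedPoint]
  have h3 : p = IsLocalRing.maximalIdeal _ := congrArg PrimeSpectrum.asIdeal h2
  rw [h3]
  exact hc

/-- A regular section generates at every nonclosed point of a scheme of dimension at most one. -/
theorem mem_genLocus_of_not_isClosed (hdim : topologicalKrullDim X ≤ 1) (hL : PicF.IsInvertible L)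
    (s : Coh.structureModule X ⟶ L) [Mono s] {y : X} (hy : ¬ IsClosed ({y} : Set X)) :
    y ∈ CohB1.genLocus L s := by
  have hgen : ∀ z : X, z ⤳ y → z = y := fun z hz => by
    by_contra hne
    exact hy (isClosed_singleton_of_generalization hdim hz (Ne.symm hne))
  obtain ⟨U, hyU, -, e, he⟩ := Mero90.exists_affine_frame hL y ⊤ trivial
  obtain ⟨c, hc⟩ := Amp73.exists_coord s he
  suffices hu : IsUnit (X.presheaf.germ U.1 y hyU c) from
    ((Amp73.genLocus_inf_eq_basicOpen s he hc).ge ((X.mem_basicOpen c y hyU).2 hu)).1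
  by_contra hu
  obtain ⟨n, hn⟩ := isNilpotent_of_not_isUnit y hgen _ hu
  have hnzd : X.presheaf.germ U.1 y hyU c ∈ nonZeroDivisors (X.presheaf.stalk y) := by
    refine mem_nonZeroDivisors_iff_right.2 fun a ha => ?_
    obtain ⟨W₀, hyW₀, a₀, rfl⟩ := X.presheaf.exists_germ_eq a
    let W := W₀ ⊓ U.1
    let a₁ : Γ(X, W) := resF (inf_le_left : W ≤ W₀) a₀
    have h0 : X.presheaf.germ W y ⟨hyW₀, hyU⟩ (a₁ * resF (inf_le_right : W ≤ U.1) c) = 0 := by
      rw [map_mul]
      simp only [a₁, resF]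
      rw [TopCat.Presheaf.germ_res_apply, TopCat.Presheaf.germ_res_apply]
      exact ha
    obtain ⟨V, hyV, i₁, i₂, hV⟩ := X.presheaf.germ_eq (U := W) (V := W) y ⟨hyW₀, hyU⟩ ⟨hyW₀, hyU⟩ _ 0
      (h0.trans (map_zero _).symm)
    have hVW : V ≤ W := i₁.le
    let a₂ : Γ(X, V) := resF hVW a₁
    have hz : a₂ * resF (hVW.trans inf_le_right) c = 0 := by
      have h : (X.presheaf.map i₁.op).hom a₁ * (X.presheaf.map i₁.op).hom (resF (inf_le_right : W ≤ U.1) c) = 0 :=
        (map_mul (X.presheaf.map i₁.op).hom _ _).symm.trans (hV.trans (map_zero _))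
      refine Eq.trans (congrArg (a₂ * ·) ?_) h
      simp only [resF]
      rw [← ConcreteCategory.comp_apply, ← X.presheaf.map_comp]
      rfl
    have hs : s.app V (a₂ : Γ(Coh.structureModule X, V)) = 0 := by
      have h1 : s.app V (a₂ : Γ(Coh.structureModule X, V)) = a₂ • val L s V :=
        (congrArg (s.app V) (mul_one a₂).symm).trans (Scheme.Modules.Hom.app_smul s a₂ (1 : Γ(X, V)))
      have h2 : val L s V = resF (hVW.trans inf_le_right) c • res L (hVW.trans inf_le_right) e := by
        rw [← res_val L s (hVW.trans inf_le_right), ← hc, res_smul]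
      rw [h1, h2, smul_smul, hz, zero_smul]
    have h6 : a₂ = 0 := QC70.app_injective_of_mono s V (hs.trans (map_zero _).symm)
    have h5 : X.presheaf.germ V y hyV a₂ = 0 := by rw [h6]; exact map_zero _
    simp only [a₂, a₁, resF] at h5
    rw [TopCat.Presheaf.germ_res_apply, TopCat.Presheaf.germ_res_apply] at h5
    exact h5
  exact zero_notMem_nonZeroDivisors (hn ▸ pow_mem hnzd n)

variable (k : Type u) [Field k] [X.Over (Spec (CommRingCat.of k))] [IsProper (X ↘ Spec (CommRingCat.of k))]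

/-- Multiplication by the value of a section is surjective at the points where it generates. -/
theorem surjective_stalk_tmRight (hL : PicF.IsInvertible L) (s : Coh.structureModule X ⟶ L) (M : X.Modules)
    {y : X} (hy : y ∈ CohB1.genLocus L s) :
    Function.Surjective (QC70.stalkMapM (tmRight (val L s ⊤) M) y) := by
  intro e
  obtain ⟨Z, hyZ, z, rfl⟩ := QC70.germM_exist e
  obtain ⟨G, hyG, hG⟩ := Amp73.mem_genLocus_iff.1 hy
  obtain ⟨m, hm⟩ := Amp73.exists_eq_tm_frame (L := M) hG (inf_le_right : Z ⊓ G ≤ G)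
    (res _ (inf_le_left : Z ⊓ G ≤ Z) z)
  refine ⟨QC70.germM M (Z ⊓ G) y ⟨hyZ, hyG⟩ m, ?_⟩
  rw [QC70.stalkMapM_germ, ← QC70.germM_res inf_le_left ⟨hyZ, hyG⟩ z]
  refine congrArg (QC70.germM _ (Z ⊓ G) y ⟨hyZ, hyG⟩) ?_
  rw [tmRight_app]
  refine Eq.trans ?_ hm
  rw [res_val, res_val]

include k in
/-- The points where a regular section does not generate. -/
theorem finite_nonGen (hdim : topologicalKrullDim X ≤ 1) (hL : PicF.IsInvertible L)
    (s : Coh.structureModule X ⟶ L) [Mono s] :
    ((CohB1.genLocus L s : Set X)ᶜ).Finite ∧ ∀ y ∈ ((CohB1.genLocus L s : Set X)ᶜ), IsClosed ({y} : Set X) := by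
  haveI := isNoetherian_of_proper k X
  have hcl : ∀ y ∈ ((CohB1.genLocus L s : Set X)ᶜ), IsClosed ({y} : Set X) := fun y hy => by
    by_contra h
    exact hy (mem_genLocus_of_not_isClosed hdim hL s h)
  exact ⟨Cons51.finite_of_closed_points (CohB1.genLocus L s).2.isClosed_compl hcl, hcl⟩

include k in
/-- With a regular section the first cohomology of the powers stays zero. -/
theorem subsingleton_h1_pow_of_regular (hdim : topologicalKrullDim X ≤ 1) (hL : PicF.IsInvertible L)
    (s : Coh.structureModule X ⟶ L) [Mono s] (h1 : Subsingleton (Coh.HH X L 1)) (n : ℕ) :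
    Subsingleton (Coh.HH X (CohB1.tensorPow L (n + 1)) 1) := by
  haveI := isNoetherian_of_proper k X
  induction n with
  | zero => exact (hEquiv k (Amp73.powOne L) 1).injective.subsingleton
  | succ n ih =>
    obtain ⟨hf, hcl⟩ := finite_nonGen k hdim hL s
    exact subsingleton_h1_of_surjective_off k hdim (tmRight (val L s ⊤) (CohB1.tensorPow L (n + 1))) hf hcl
      (fun y hy => surjective_stalk_tmRight hL s _ (not_not.1 hy)) ih

include k in
/-- The higher powers are generated. -/
theorem isGloballyGenerated_cube (hdim : topologicalKrullDim X ≤ 1) (hL : PicF.IsInvertible L)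
    (s : Coh.structureModule X ⟶ L) [Mono s] (h1 : Subsingleton (Coh.HH X L 1)) :
    Curv2.IsGloballyGenerated (CohB1.tensorPow L 3) := by
  haveI := isNoetherian_of_proper k X
  have hL3 := EGA73.isInvertible_tensorPow hL 3
  refine isGloballyGenerated_of_gen hL3 fun x hx => ?_
  by_cases hxG : x ∈ CohB1.genLocus L s
  · refine ⟨val _ (SecTwist.powHom s 3) ⊤, ?_⟩
    obtain ⟨U, hxU, -, e, he⟩ := Mero90.exists_affine_frame hL3 x ⊤ trivial
    obtain ⟨c, hc⟩ := Amp73.exists_coord (SecTwist.powHom s 3) he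
    have h' : x ∈ CohB1.genLocus _ (SecTwist.powHom s 3) := by
      rw [Amp73.genLocus_powHom hL s 3 (by norm_num)]
      exact hxG
    refine ((Amp73.genLocus_inf_eq_basicOpen _ he (c := c) ?_).ge
      ((Amp73.genLocus_inf_eq_basicOpen _ he hc).le ⟨h', hxU⟩)).1
    rw [Var76.Frames.val_ofSection, hc, res_val]
  let φ : CohB1.tensorPow L 2 ⟶ CohB1.tensorPow L 3 := tmRight (val L s ⊤) (CohB1.tensorPow L 2)
  obtain ⟨hf, hcl⟩ := finite_nonGen k hdim hL s
  have hI : Subsingleton (Coh.HH X (Abelian.image φ) 1) :=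
    subsingleton_h1_of_surjective_off k hdim (Abelian.factorThruImage φ) Set.finite_empty (by simp)
      (fun y _ => QC70.surjective_stalkMapM_of_epi _ y) (subsingleton_h1_pow_of_regular k hdim hL s h1 1)
  have hseq : (ShortComplex.mk (Abelian.image.ι φ) (cokernel.π φ) (kernel.condition _)).ShortExact :=
    { exact := ShortComplex.exact_of_f_is_kernel _ (kernelIsKernel _)
      mono_f := inferInstanceAs (Mono (kernel.ι _))
      epi_g := inferInstanceAs (Epi (cokernel.π φ)) }
  have hsupp : SuppIn (cokernel φ) ((CohB1.genLocus L s : Set X)ᶜ) := fun y hy =>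
    subsingleton_of_forall_eq 0 fun w => by
      obtain ⟨v, rfl⟩ := QC70.surjective_stalkMapM_of_epi (cokernel.π φ) y w
      obtain ⟨u, rfl⟩ := surjective_stalk_tmRight hL s (CohB1.tensorPow L 2) (not_not.1 hy) v
      exact (QC70.stalkMapM_comp φ (cokernel.π φ) y u).symm.trans
        (by rw [cokernel.condition]; exact QC70.stalkMapM_zero y u)
  obtain ⟨U, hxU, -, e, he⟩ := Mero90.exists_affine_frame hL x ⊤ trivial
  obtain ⟨w, hw⟩ := hsupp.surjective_res hf hcl (le_top (a := U.1)) ((cokernel.π φ).app U.1 (epow e 3))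
  obtain ⟨t, ht⟩ := surjective_app_top_of_h1 k hseq hI w
  refine ⟨t, ?_⟩
  have hfr := Amp73.isFrame_epow he 3
  obtain ⟨c, hc⟩ := (hfr U.1 le_rfl).2 (res _ le_top t)
  dsimp only at hc
  rw [Amp73.res_self] at hc
  suffices hu : IsUnit (X.presheaf.germ U.1 x hxU c) by
    refine ((Amp73.genLocus_inf_eq_basicOpen (Var76.Frames.ofSection _ t) hfr (c := c) ?_).ge
      ((X.mem_basicOpen c x hxU).2 hu)).1
    rw [Var76.Frames.val_ofSection]
    exact hc
  have hzero : (cokernel.π φ).app U.1 ((c - 1) • epow e 3) = 0 := by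
    rw [sub_smul, one_smul, map_sub, hc, sub_eq_zero]
    exact (QC70.app_res (cokernel.π φ) _ t).trans ((congrArg (QC70.res _ _) ht).trans hw)
  obtain ⟨u, hu⟩ : ∃ u, QC70.stalkMapM φ x u =
      QC70.germM (CohB1.tensorPow L 3) U.1 x hxU ((c - 1) • epow e 3) := by
    haveI := hseq.mono_f
    obtain ⟨d, hd⟩ := QC70.stalkMapM_exact _ hseq.exact x
      (QC70.germM (CohB1.tensorPow L 3) U.1 x hxU ((c - 1) • epow e 3))
      (by rw [QC70.stalkMapM_germ, hzero, QC70.germM_zero])
    obtain ⟨u, rfl⟩ := QC70.surjective_stalkMapM_of_epi (Abelian.factorThruImage φ) x d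
    refine ⟨u, Eq.trans ?_ hd⟩
    refine Eq.trans ?_ (QC70.stalkMapM_comp _ _ x u)
    rw [Abelian.image.fac]
  obtain ⟨Z, hxZ, z, rfl⟩ := QC70.germM_exist u
  rw [QC70.stalkMapM_germ] at hu
  obtain ⟨V, hxV, i₁, i₂, hV⟩ := TopCat.Presheaf.germ_eq (CohB1.tensorPow L 3).presheaf x hxZ hxU _ _ hu
  have hVZ : V ≤ Z := i₁.le
  have hVU : V ≤ U.1 := i₂.le
  obtain ⟨b, hb⟩ := ((Amp73.isFrame_epow he 2).res hVU V le_rfl).2 (res _ hVZ z)
  dsimp only at hb
  rw [Amp73.res_self] at hb
  obtain ⟨σ, hσ⟩ := (he.res hVU V le_rfl).2 (res L le_top (val L s ⊤))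
  dsimp only at hσ
  rw [Amp73.res_self] at hσ
  have hσ0 : ¬ IsUnit (X.presheaf.germ V x hxV σ) := fun h => hxG <| by
    refine ((Amp73.genLocus_inf_eq_basicOpen s (he.res hVU) (c := σ) ?_).ge
      ((X.mem_basicOpen σ x hxV).2 h)).1
    rw [hσ, res_val]
  have hbσ : b * σ = resF hVU (c - 1) := by
    refine ((hfr.res hVU) V le_rfl).1 ?_
    dsimp only
    rw [Amp73.res_self, ← res_smul, Amp73.res_epow, ← Amp73.res_epow hVU]
    refine Eq.trans ?_ hV
    refine Eq.trans ?_ (QC70.app_res φ hVZ z)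
    refine Eq.trans ?_ (tmRight_app _ _ V _).symm
    rw [Amp73.res_epow] at hb ⊢
    show (b * σ) • tm (CohB1.tensorPow L 2) L (epow (res L hVU e) 2) (res L hVU e) = _
    refine Eq.trans ?_ (congr_arg₂ (fun p q => tm (CohB1.tensorPow L 2) L p q) hb hσ)
    exact (Amp73.tm_smul b σ _ _).symm
  by_contra hu'
  have h1 : X.presheaf.germ V x hxV b * X.presheaf.germ V x hxV σ = X.presheaf.germ U.1 x hxU c - 1 := by
    rw [← map_mul, hbσ]
    simp only [resF]
    rw [TopCat.Presheaf.germ_res_apply, map_sub, map_one]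
  have h2 : X.presheaf.germ U.1 x hxU c - 1 ∈ IsLocalRing.maximalIdeal (X.presheaf.stalk x) :=
    h1 ▸ Ideal.mul_mem_left (IsLocalRing.maximalIdeal (X.presheaf.stalk x)) _ hσ0
  have h3 := Ideal.sub_mem (IsLocalRing.maximalIdeal (X.presheaf.stalk x))
    (show X.presheaf.germ U.1 x hxU c ∈ IsLocalRing.maximalIdeal (X.presheaf.stalk x) from hu') h2
  rw [sub_sub_cancel] at h3
  exact (IsLocalRing.maximalIdeal.isMaximal (X.presheaf.stalk x)).ne_top ((Ideal.eq_top_iff_one _).2 h3)

end Groth.Agent.Crv77
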