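import Groth.Agent.FF30.FF
import Groth.Agent.FF30.Degree
import Mathlib.RingTheory.Smooth.StandardSmoothOfFree
import Mathlib.RingTheory.RingHom.StandardSmooth
import Mathlib.RingTheory.Unramified.Field
import Mathlib.RingTheory.Flat.TorsionFree
import Mathlib.RingTheory.AlgebraicIndependent.AlgebraicClosure
import Mathlib.RingTheory.AlgebraicIndependent.Transcendental

/-! The function field of a smooth curve is separably generated. -/

set_option autoImplicit false
universe u

open IntermediateField

namespace Groth.Agent.Crv77

/-- A smooth algebra with a fraction field of transcendence degree one is separably generated. -/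
theorem exists_separating_of_smooth (k A K : Type u) [Field k] [CommRing A] [IsDomain A] [Algebra k A]
    [Algebra.Smooth k A] [Field K] [Algebra k K] [Algebra A K] [IsScalarTower k A K] [IsFractionRing A K]
    (hK : FF30.FF k K) :
    ∃ t : K, Transcendental k t ∧ Algebra.IsSeparable k⟮t⟯ K := by
  classical
  obtain ⟨f, hf, hstd⟩ := Algebra.IsSmoothAt.exists_notMem_isStandardSmooth (R := k) (⊥ : Ideal A)
  have hf0 : f ≠ 0 := fun h => hf (by rw [h]; exact Submodule.zero_mem _)
  let Af := Localization.Away f
  have h' : (algebraMap k Af).IsStandardSmooth := RingHom.isStandardSmooth_algebraMap.2 hstd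
  obtain ⟨n, g, hg, het⟩ := h'.exists_etale_mvPolynomial
  algebraize [g]
  have : IsScalarTower k (MvPolynomial (Fin n) k) Af := IsScalarTower.of_algebraMap_eq fun c =>
    (RingHom.congr_fun hg c).symm
  have hu : IsUnit (algebraMap A K f) :=
    ((map_ne_zero_iff _ (IsFractionRing.injective A K)).2 hf0).isUnit
  let : Algebra Af K := (IsLocalization.Away.lift f hu).toAlgebra
  have : IsScalarTower A Af K := IsScalarTower.of_algebraMap_eq fun a =>
    (IsLocalization.Away.lift_eq f hu a).symm
  have : IsScalarTower k Af K := IsScalarTower.of_algebraMap_eq fun c => by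
    rw [IsScalarTower.algebraMap_apply k A Af, ← IsScalarTower.algebraMap_apply A Af K,
      ← IsScalarTower.algebraMap_apply]
  have : IsDomain Af := IsLocalization.isDomain_localization (Submonoid.powers_le.2 (mem_nonZeroDivisors_of_ne_zero hf0))
  have : IsFractionRing Af K :=
    IsFractionRing.isFractionRing_of_isDomain_of_isLocalization (Submonoid.powers f) Af K
  let φ : MvPolynomial (Fin n) k →ₐ[k] K :=
    (IsScalarTower.toAlgHom k Af K).comp (IsScalarTower.toAlgHom k (MvPolynomial (Fin n) k) Af)
  let x : Fin n → K := fun i => φ (MvPolynomial.X i)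
  have haev : φ = MvPolynomial.aeval x := MvPolynomial.algHom_ext fun i => by simp [x]
  have hinj : Function.Injective φ := by
    refine (injective_iff_map_eq_zero _).2 fun p hp => by_contra fun hp0 => ?_
    have h1 : algebraMap Af K (algebraMap (MvPolynomial (Fin n) k) Af p) = 0 := hp
    rw [IsFractionRing.to_map_eq_zero_iff] at h1
    have hreg := Module.Flat.isSMulRegular_of_isRegular (M := Af) (IsRegular.of_ne_zero hp0)
    have h2 : (1 : Af) = 0 := hreg (show p • (1 : Af) = p • (0 : Af) by
      rw [smul_zero, Algebra.smul_def, h1, zero_mul])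
    exact one_ne_zero h2
  have hind : AlgebraicIndependent k x := by
    rw [algebraicIndependent_iff_injective_aeval, ← haev]; exact hinj
  let E := IntermediateField.adjoin k (Set.range x)
  let _ : Algebra (MvPolynomial (Fin n) k) K := φ.toRingHom.toAlgebra
  have : IsScalarTower (MvPolynomial (Fin n) k) Af K := IsScalarTower.of_algebraMap_eq fun _ => rfl
  let _ : Algebra (MvPolynomial (Fin n) k) E := (φ.toRingHom.codRestrict E fun p => by
    show φ p ∈ E
    rw [haev]
    exact IntermediateField.algebra_adjoin_le_adjoin k _
      (by rw [Algebra.adjoin_range_eq_range_aeval]; exact ⟨p, rfl⟩)).toAlgebra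
  have : IsScalarTower (MvPolynomial (Fin n) k) E K := IsScalarTower.of_algebraMap_eq fun _ => rfl
  have : Algebra.FormallyUnramified Af K := Algebra.FormallyUnramified.of_isLocalization (nonZeroDivisors Af)
  have : Algebra.FormallyUnramified (MvPolynomial (Fin n) k) K :=
    Algebra.FormallyUnramified.comp (MvPolynomial (Fin n) k) Af K
  have : Algebra.FormallyUnramified E K := Algebra.FormallyUnramified.of_restrictScalars (MvPolynomial (Fin n) k) E K
  have : Algebra.EssFiniteType A K := Algebra.EssFiniteType.of_isLocalization K (nonZeroDivisors A)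
  have : Algebra.EssFiniteType k K := Algebra.EssFiniteType.comp k A K
  have : Algebra.EssFiniteType E K := Algebra.EssFiniteType.of_comp k E K
  have hsep : Algebra.IsSeparable E K := Algebra.FormallyUnramified.isSeparable E K
  obtain ⟨t, ht, -⟩ := id hK
  have hone : ∀ i j : Fin n, i = j := by
    intro i j
    by_contra hne
    have := hK.finiteDimensional_adjoin (hind.transcendental i)
    have h1 : IsAlgebraic (IntermediateField.adjoin k ({x i} : Set K)) (x j) :=
      Algebra.IsAlgebraic.isAlgebraic _
    have h3 := hind.transcendental_adjoin (s := {i}) (i := j) (fun hh => hne (Set.mem_singleton_iff.1 hh).symm)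
    rw [Set.image_singleton] at h3
    exact h3 (IntermediateField.isAlgebraic_adjoin_iff.1 h1)
  obtain ⟨i₀⟩ : Nonempty (Fin n) := by
    by_contra hne
    rw [not_nonempty_iff] at hne
    have hE : E = ⊥ := by
      show IntermediateField.adjoin k (Set.range x) = ⊥
      rw [Set.range_eq_empty, IntermediateField.adjoin_empty]
    refine ht ?_
    have halg : IsAlgebraic E t := Algebra.IsAlgebraic.isAlgebraic t
    have : Algebra.IsAlgebraic k E := by
      rw [hE]
      exact Algebra.IsAlgebraic.of_finite k _
    exact halg.restrictScalars k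
  have hr : Set.range x = {x i₀} :=
    Set.eq_singleton_iff_unique_mem.2 ⟨⟨i₀, rfl⟩, by rintro _ ⟨j, rfl⟩; rw [hone j i₀]⟩
  have key : ∀ S : Set K, S = {x i₀} →
      Algebra.IsSeparable (IntermediateField.adjoin k S) K → Algebra.IsSeparable k⟮x i₀⟯ K := by
    rintro _ rfl h
    exact h
  exact ⟨x i₀, hind.transcendental i₀, key _ hr hsep⟩

end Groth.Agent.Crv77
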