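import Groth.Agent.Crv77.FunDeg
import Groth.Agent.Crv77.GenEtale
import Groth.Agent.Crv77.RatPoint
import Groth.Agent.Crv77.SepFun
import Groth.Agent.Curves2.RatPoint
import Mathlib.AlgebraicGeometry.Morphisms.FormallyUnramified

/-! Closed points with separable residue field in the fibres of a separable function. -/

set_option autoImplicit false
set_option linter.style.haveILetI false
set_option backward.isDefEq.respectTransparency false
set_option maxHeartbeats 1000000
universe u

open CategoryTheory CategoryTheory.Limits AlgebraicGeometry IntermediateField IsLocalRing TopologicalSpace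

namespace Groth.Agent.Crv77

attribute [local instance] Curv2.resAlgebra

/-- The constants in residue fields are compatible with morphisms. -/
theorem residueFieldMap_resMap {k : Type u} [Field k] {A B : Scheme.{u}} [A.Over (Spec (CommRingCat.of k))]
    [B.Over (Spec (CommRingCat.of k))] (g : A ⟶ B)
    (hg : g ≫ (B ↘ Spec (CommRingCat.of k)) = A ↘ Spec (CommRingCat.of k)) (v : A) (r : k) :
    g.residueFieldMap v (Curv2.resMap k B (g v) r) = Curv2.resMap k A v r := by
  have h1 : CommRingCat.ofHom (Curv2.stalkMap k B (g v)) ≫ g.stalkMap v = CommRingCat.ofHom (Curv2.stalkMap k A v) := by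
    apply Spec.map_injective
    rw [Spec.map_comp, VarGal.SpecMap_curvStalkMap, VarGal.SpecMap_curvStalkMap, ← Category.assoc,
      Scheme.SpecMap_stalkMap_fromSpecStalk, Category.assoc, hg]
  show (B.residue (g v) ≫ g.residueFieldMap v) (Curv2.stalkMap k B (g v) r) = A.residue v (Curv2.stalkMap k A v r)
  rw [AlgebraicGeometry.Scheme.residue_residueFieldMap]
  exact congrArg (A.residue v) congr($h1 r)

/-- Etale maps to rational points give separable residue fields. -/
theorem isSeparable_of_etale_open {k : Type u} [Field k] {A B : Scheme.{u}} [A.Over (Spec (CommRingCat.of k))]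
    [B.Over (Spec (CommRingCat.of k))] (g : A ⟶ B)
    (hg : g ≫ (B ↘ Spec (CommRingCat.of k)) = A ↘ Spec (CommRingCat.of k)) (V : A.Opens) [Etale (V.ι ≫ g)]
    {x : A} (hx : x ∈ V) (hb : Function.Bijective (Curv2.resMap k B (g x))) :
    Algebra.IsSeparable k (A.residueField x) := by
  let v : V := ⟨x, hx⟩
  let _ : Algebra (B.residueField ((V.ι ≫ g) v)) ((V : Scheme.{u}).residueField v) :=
    ((V.ι ≫ g).residueFieldMap v).hom.toAlgebra
  have hsep : Algebra.IsSeparable (B.residueField ((V.ι ≫ g) v)) ((V : Scheme.{u}).residueField v) := by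
    have := (inferInstance : Etale (V.ι ≫ g))
    exact inferInstance
  let e₁ : B.residueField ((V.ι ≫ g) v) ≃+* k := (RingEquiv.ofBijective _ hb).symm
  let e₂ : (V : Scheme.{u}).residueField v ≃+* A.residueField x :=
    (asIso (V.ι.residueFieldMap v)).commRingCatIsoToRingEquiv.symm
  refine Algebra.IsSeparable.of_equiv_equiv e₁ e₂ (RingHom.ext fun a => ?_)
  obtain ⟨r, rfl⟩ := e₁.symm.surjective a
  show Curv2.resMap k A x (e₁ (e₁.symm r)) = e₂ ((V.ι ≫ g).residueFieldMap v (Curv2.resMap k B (g x) r))
  rw [RingEquiv.apply_symm_apply]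
  apply e₂.symm.injective
  rw [RingEquiv.symm_apply_apply]
  show V.ι.residueFieldMap v (Curv2.resMap k A x r) = (V.ι ≫ g).residueFieldMap v (Curv2.resMap k B (g x) r)
  rw [AlgebraicGeometry.Scheme.residueFieldMap_comp]
  show _ = V.ι.residueFieldMap v (g.residueFieldMap (V.ι v) (Curv2.resMap k B (g x) r))
  exact congrArg (V.ι.residueFieldMap v) (residueFieldMap_resMap g hg x r).symm

/-- A point in a fibre has residue degree at most the rank. -/
theorem residueDegree_le_finrank {k : Type u} [Field k] {A B : Scheme.{u}} [A.Over (Spec (CommRingCat.of k))]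
    [IsIntegral A] [IsIntegral B] [IsLocallyNoetherian A] [IsLocallyNoetherian B]
    (hA : ∀ x : A, ∃ _ : IsDomain (A.presheaf.stalk x), ValuationRing (A.presheaf.stalk x))
    (g : A ⟶ B) [IsFinite g] [Flat g] (e : g (genericPoint A) = genericPoint B) (x : A)
    (hx : ¬ IsField (B.presheaf.stalk (g x))) : g.residueDegree x ≤ g.finrank (g x) := by
  classical
  obtain ⟨hfin, -, hsum⟩ := Cyc90.finite_flat_fibre g (g x)
  rw [← hsum, finsum_mem_eq_finite_toFinset_sum _ hfin]
  refine le_trans ?_ (Finset.single_le_sum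
    (f := fun z => g.residueDegree z * (Module.length (A.presheaf.stalk z)
      (A.presheaf.stalk z ⧸ (maximalIdeal (B.presheaf.stalk (g z))).map (g.stalkMap z).hom)).toNat)
    (fun z _ => Nat.zero_le _) (hfin.mem_toFinset.2 (show g x ∈ ({g x} : Set B) from rfl)))
  obtain ⟨_, _⟩ := hA x
  set O := A.presheaf.stalk x
  set I := (maximalIdeal (B.presheaf.stalk (g x))).map (g.stalkMap x).hom
  have : IsPrincipalIdealRing O := ((tfae_of_isNoetherianRing_of_isLocalRing_of_isDomain O).out 1 0 rfl rfl).mp ‹_›
  have hI : I ≠ ⊥ := fun h0 => hx (IsLocalRing.isField_iff_maximalIdeal_eq.2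
    ((Ideal.map_eq_bot_iff_of_injective (SchBasics.stalkMap_injective g e x)).1 h0))
  have hI' : I ≠ ⊤ := ne_top_of_le_ne_top (maximalIdeal.isMaximal O).ne_top
    (Ideal.map_le_iff_le_comap.2 (((IsLocalRing.local_hom_TFAE (g.stalkMap x).hom).out 0 3).1 (inferInstance : IsLocalHom (g.stalkMap x).hom)))
  have : Ring.KrullDimLE 0 (O ⧸ I) := Ring.KrullDimLE.mk₀ fun P hP => by
    have hne : P.comap (Ideal.Quotient.mk I) ≠ ⊥ := fun h0 => hI (eq_bot_iff.2 fun a ha => h0 ▸
      (show Ideal.Quotient.mk I a ∈ P from (Ideal.Quotient.eq_zero_iff_mem.2 ha).symm ▸ P.zero_mem))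
    have hmax := (Ideal.IsPrime.comap (Ideal.Quotient.mk I) (hK := hP)).isMaximal hne
    rw [← Ideal.map_comap_of_surjective _ Ideal.Quotient.mk_surjective P]
    refine (Ideal.map_eq_top_or_isMaximal_of_surjective _ Ideal.Quotient.mk_surjective hmax).resolve_left fun h => hP.ne_top ?_
    rwa [Ideal.map_comap_of_surjective _ Ideal.Quotient.mk_surjective] at h
  have : IsArtinianRing (O ⧸ I) := isArtinianRing_iff_isNoetherianRing_krullDimLE_zero.2 ⟨inferInstance, this⟩
  have : IsArtinian O (O ⧸ I) := isArtinian_of_surjective_algebraMap (R := O ⧸ I) Ideal.Quotient.mk_surjective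
  have hne : Module.length O (O ⧸ I) ≠ ⊤ := Module.length_ne_top
  have : Nontrivial (O ⧸ I) := Ideal.Quotient.nontrivial_iff.2 hI'
  have h0 : Module.length O (O ⧸ I) ≠ 0 := fun h0 =>
    not_subsingleton (O ⧸ I) (Module.length_eq_zero_iff.1 h0)
  refine Nat.le_mul_of_pos_right _ ?_
  obtain ⟨n, hn⟩ := ENat.ne_top_iff_exists.1 hne
  show 0 < (Module.length O (O ⧸ I)).toNat
  rw [← hn] at h0 ⊢
  simp only [ENat.toNat_natCast]
  exact Nat.pos_of_ne_zero fun h => h0 (by rw [h]; rfl)

section Line

variable (k : Type u) [Field k]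

/-- The rational point of the chart with coordinate `c`. -/
noncomputable def linePt (c : k) : Spec (CommRingCat.of k) ⟶ CohB1.ProjSpace 1 k :=
  Spec.map (CommRingCat.ofHom ((Polynomial.evalRingHom c).comp
      (RingEquiv.ofBijective (Curves2.ProjLine.ψ₀ k) (Curves2.ProjLine.ψ₀_bijective k)).symm.toRingHom)) ≫
    (Var76.ProjCoord.isAffineOpen_U k 1 0).fromSpec

theorem linePt_comp (c : k) : linePt k c ≫ CohB1.ProjSpace.toSpec 1 k = 𝟙 _ := by
  show (Spec.map _ ≫ _) ≫ (CohB1.ProjSpace 1 k ↘ Spec (CommRingCat.of k)) = _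
  rw [Category.assoc, ← Var76.BertiniScheme.SpecMap_const (Var76.ProjCoord.isAffineOpen_U k 1 0), ← Spec.map_comp,
    ← Spec.map_id]
  congr 1
  ext r
  show Polynomial.eval c ((RingEquiv.ofBijective (Curves2.ProjLine.ψ₀ k) (Curves2.ProjLine.ψ₀_bijective k)).symm
    (Var76.BertiniScheme.const (k := k) (CohB1.ProjSpace 1 k) _ r)) = r
  rw [← Curves2.ProjLine.ψ₀_C, show Curves2.ProjLine.ψ₀ k (Polynomial.C r) =
    (RingEquiv.ofBijective (Curves2.ProjLine.ψ₀ k) (Curves2.ProjLine.ψ₀_bijective k)) (Polynomial.C r) from rfl,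
    RingEquiv.symm_apply_apply, Polynomial.eval_C]

theorem linePt_injective : Function.Injective fun c => linePt k c (closedPoint k) := by
  intro c d hcd
  let ψ := RingEquiv.ofBijective (Curves2.ProjLine.ψ₀ k) (Curves2.ProjLine.ψ₀_bijective k)
  have h1 := (Var76.ProjCoord.isAffineOpen_U k 1 0).fromSpec.isOpenEmbedding.injective hcd
  have h2 : (maximalIdeal k).comap ((Polynomial.evalRingHom c).comp ψ.symm.toRingHom) =
      (maximalIdeal k).comap ((Polynomial.evalRingHom d).comp ψ.symm.toRingHom) :=
    congrArg PrimeSpectrum.asIdeal h1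
  have h3 : ψ (Polynomial.X - Polynomial.C c) ∈
      (maximalIdeal k).comap ((Polynomial.evalRingHom c).comp ψ.symm.toRingHom) := by
    rw [Ideal.mem_comap, IsLocalRing.maximalIdeal_eq_bot]
    simp
  rw [h2, Ideal.mem_comap, IsLocalRing.maximalIdeal_eq_bot, Ideal.mem_bot] at h3
  simpa [sub_eq_zero, eq_comm] using h3

end Line

variable {k : Type u} [Field k] {X : Scheme.{u}} [X.Over (Spec (CommRingCat.of k))] [IsIntegral X]

attribute [local instance] CrvPic30.ffAlg

/-- A separable function of degree `d` has a point of separable residue field of degree at most `d`. -/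
theorem exists_sep_point (h : CrvPic30.Setup k X) {z : X.functionField} (hz : Transcendental k z)
    [Algebra.IsSeparable k⟮z⟯ X.functionField] :
    ∃ x : X, IsClosed ({x} : Set X) ∧ Algebra.IsSeparable k (X.residueField x) ∧
      Module.finrank k (X.residueField x) ≤ Module.finrank k⟮z⟯ X.functionField ∧
      FiniteDimensional k (X.residueField x) := by
  classical
  let P := CohB1.ProjSpace 1 k
  have := h.proper
  have := h.isNoetherian
  have := Curves2.ProjLine.isIntegral k 1
  have := Curves2.ProjLine.isLocallyNoetherian k 1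
  have := Curves2.ProjLine.isProper_toSpec k 1
  have : IsProper (P ↘ Spec (CommRingCat.of k)) := Curves2.ProjLine.isProper_toSpec k 1
  obtain ⟨f, e, hf, hfin, hfz⟩ := exists_hom_of_fun h hz
  have := hfin
  have := flat_of_valuationRing (Curves2.ProjLine.valuationRing_stalk k) f e
  obtain ⟨z₂, -, hz₂, hdeg, hsep⟩ := exists_fun_of_hom f hf e
  rw [hfz] at hz₂
  rw [hz₂] at hdeg hsep
  obtain ⟨V, hV, hVe⟩ := exists_etale_open f e ((ffMap_spec f e).2.1 (hsep.2 inferInstance))
  obtain ⟨c, hc⟩ : ∃ c : k, PerfectField k ∨ ∀ x : X, f x = linePt k c (closedPoint k) → x ∈ V := by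
    by_cases hp : PerfectField k
    · exact ⟨0, Or.inl hp⟩
    have : Infinite k := by
      rcases finite_or_infinite k with hfk | hfk
      · exact (hp inferInstance).elim
      · exact hfk
    have hgV : genericPoint X ∈ V := (genericPoint_spec X).mem_open_set_iff V.2 |>.2
      (hV.imp fun _ hy => ⟨Set.mem_univ _, hy⟩)
    have hS : ((V : Set X)ᶜ).Finite := finite_of_isClosed' h.dim.le V.2.isClosed_compl (fun hg => hg hgV)
    obtain ⟨c, hc⟩ := ((hS.image f).preimage (linePt_injective k).injOn).exists_notMem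
    exact ⟨c, Or.inr fun x hx => by
      by_contra hxV
      exact hc ⟨x, hxV, hx⟩⟩
  set y := linePt k c (closedPoint k)
  obtain ⟨hy, -, hy1⟩ := section_point (X := P) k (linePt k c) (linePt_comp k c)
  have hb := Curves2.resMap_bijective_of_finrank_eq_one (k := k) (X := P) (P := y) hy1
  obtain ⟨hfib, -, hsum⟩ := Cyc90.finite_flat_fibre f y
  have hd : f.finrank y = Module.finrank k⟮z⟯ X.functionField := (finrank_eq_residueDegree f e y).trans hdeg
  have := h.ffield.finiteDimensional_adjoin hz
  have hdpos : 0 < Module.finrank k⟮z⟯ X.functionField := Module.finrank_pos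
  obtain ⟨x, hxy⟩ : (f ⁻¹' {y}).Nonempty := by
    by_contra hne
    rw [Set.not_nonempty_iff_eq_empty.1 hne, finsum_mem_empty] at hsum
    omega
  have hxy' : f x = y := hxy
  have hgne : y ≠ genericPoint P := fun hg => not_isClosed_image_genericPoint f
    (by rw [h.dim]; exact not_le.2 zero_lt_one) (by rw [e, ← hg]; exact hy)
  have hx : IsClosed ({x} : Set X) := (h.isClosed_or_generic x).resolve_right fun hg =>
    hgne (hxy' ▸ hg ▸ e)
  have hxb : Function.Bijective (Curv2.resMap k P (f x)) := hxy' ▸ hb
  have hfd : FiniteDimensional k (X.residueField x) := Curves2.finite_residueField (k := k) hx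
  refine ⟨x, hx, ?_, ?_, hfd⟩
  · rcases hc with hp | hc
    · exact inferInstance
    · exact isSeparable_of_etale_open (k := k) f hf V (hc x hxy') hxb
  · let _ := (f.residueFieldMap x).hom.toAlgebra
    have h1 : Module.finrank k (X.residueField x) = f.residueDegree x := by
      refine Algebra.finrank_eq_of_equiv_equiv (RingEquiv.ofBijective _ hxb) (RingEquiv.refl _) (RingHom.ext fun r => ?_)
      exact (residueFieldMap_resMap f hf x r).symm ▸ rfl
    rw [h1, ← hd, ← hxy']
    refine residueDegree_le_finrank (k := k) h.stalks f e x ?_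
    rw [hxy']
    exact fun hfield => hgne (Curves2.eq_genericPoint_of_isField _ hfield)

end Groth.Agent.Crv77
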