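import Groth.Agent.Crv77.InvMod
import Groth.Agent.Crv77.MaxSeries

/-! Decomposable normalized rank two modules on curves. -/

set_option autoImplicit false
set_option linter.style.haveILetI false
universe u

open CategoryTheory CategoryTheory.Limits AlgebraicGeometry TopologicalSpace Opposite

namespace Groth.Agent.Crv77

variable {X : Scheme.{u}} {k : Type u} [Field k] [X.Over (Spec (CommRingCat.of k))]

namespace CurveCoh

variable (hX : CurveCoh k X)
include hX

/-- An invertible module of degree zero with a nonzero section is trivial. -/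
theorem nonempty_iso_of_deg_zero [IsIntegral X] [IsNoetherian X] (hdim : topologicalKrullDim X ≤ 1)
    {L : X.Modules} (hL : PicF.IsInvertible L) (hs : Nontrivial (Coh.HH X L 0))
    (hdeg : Curv2.deg k X L 1 = 0) : Nonempty (L ≅ Coh.structureModule X) := by
  obtain ⟨s, S, hm, hS, hcl, hsupp, hQ, hdeg', -⟩ := hX.exists_section_seq hdim hL hs
  have hz : IsZero (cokernel s) := by
    have := hX.finite _ hQ 0
    refine hsupp.isZero hS hcl ((Module.finrank_zero_iff (R := k)).1 ?_)
    simp only [h] at hdeg'
    omega
  have : Epi s := Preadditive.epi_of_isZero_cokernel s hz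
  have := isIso_of_mono_of_epi s
  exact ⟨(asIso s).symm⟩

/-- A normalized module with an invertible summand having a section: the summand has degree at most zero. -/
theorem deg_le_zero_of_split [IsIntegral X] [IsNoetherian X] (hdim : topologicalKrullDim X ≤ 1)
    {E L : X.Modules} (hL : PicF.IsInvertible L) (i : L ⟶ E) (p : E ⟶ L) (hip : i ≫ p = 𝟙 L)
    (hneg : ∀ M : X.Modules, PicF.IsInvertible M → Curv2.deg k X M 1 < 0 →
      Subsingleton (Coh.HH X (CohB1.tensorMod E M) 0)) : Curv2.deg k X L 1 ≤ 0 := by
  by_contra hpos
  obtain ⟨M, hM, ⟨e⟩⟩ := exists_inverse hL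
  have hd := hX.deg_tensorMod hdim hL hM
  have he : Curv2.deg k X (CohB1.tensorMod L M) 1 = 0 := by
    simp only [Curv2.deg, euler_congr (k := k) e]
    ring
  have := hneg M hM (by omega)
  have hinj : Function.Injective (hmap k (twistMap i M) 0) := by
    intro a b hab
    have h1 := congrArg (hmap k (twistMap p M) 0) hab
    rw [hmap_comp, hmap_comp] at h1
    have hid : twistMap i M ≫ twistMap p M = 𝟙 _ :=
      ((twist M).map_comp i p).symm.trans (((twist M).congr_map hip).trans ((twist M).map_id L))
    rw [hid, hmap_id, hmap_id] at h1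
    exact h1
  have hsub : Subsingleton (Coh.HH X (CohB1.tensorMod L M) 0) := hinj.subsingleton
  have hsub' : Subsingleton (Coh.HH X (Coh.structureModule X) 0) :=
    (hEquiv k e 0).toEquiv.symm.subsingleton
  have : Nonempty (⊤ : X.Opens) := ⟨⟨genericPoint X, trivial⟩⟩
  have : Nontrivial Γ(X, ⊤) := Scheme.component_nontrivial X ⊤
  have : Subsingleton Γ(X, ⊤) := (sec (Coh.structureModule X)).toEquiv.symm.subsingleton
  exact false_of_nontrivial_of_subsingleton Γ(X, ⊤)

end CurveCoh

end Groth.Agent.Crv77
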