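import Groth.Agent.Curves2.H1Zero.Castelnuovo
import Groth.Agent.Curves2.H1Zero.GenOps
import Groth.Agent.Curves2.H1Zero.Field

/-! The square of a generated invertible module without first cohomology is generated in degree one. -/

set_option autoImplicit false
set_option linter.style.haveILetI false
set_option backward.isDefEq.respectTransparency.types false

universe u

open CategoryTheory CategoryTheory.Limits AlgebraicGeometry TopologicalSpace Opposite

noncomputable section

namespace Groth.Agent.Crv77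

open Groth.Agent.Var76.LineBundle Groth.Agent.Var76.ZeroScheme
open Groth.Agent.Amp73 (tm epow)
open Groth.Agent.Curves2.H1Zero

variable {X : Scheme.{u}} {L : X.Modules}

/-- Equal coordinates in the frames of the two presentations of the fourth power. -/
def Match4 (t : Γ(CohB1.tensorPow (CohB1.tensorPow L 2) 2, ⊤)) (t' : Γ(CohB1.tensorPow L 4, ⊤)) : Prop :=
  ∀ (U : X.Opens) (e : Γ(L, U)), IsFrame L U e → ∀ c : Γ(X, U),
    c • epow (epow e 2) 2 = res _ le_top t → c • epow e 4 = res _ le_top t'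

theorem match4_zero : Match4 (L := L) 0 0 := by
  intro U e he c hc
  have hf := Amp73.isFrame_epow (Amp73.isFrame_epow he 2) 2
  have h0 : c = 0 := by
    refine (hf U le_rfl).1 ?_
    dsimp only
    rw [Amp73.res_self, hc, zero_smul]
    exact map_zero _
  rw [h0, zero_smul]
  exact (map_zero _).symm

theorem match4_add {s t : Γ(CohB1.tensorPow (CohB1.tensorPow L 2) 2, ⊤)} {s' t' : Γ(CohB1.tensorPow L 4, ⊤)}
    (h : Match4 s s') (h' : Match4 t t') : Match4 (s + t) (s' + t') := by
  intro U e he c hc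
  have hf := Amp73.isFrame_epow (Amp73.isFrame_epow he 2) 2
  obtain ⟨a, ha⟩ := (hf U le_rfl).2 (res _ le_top s)
  obtain ⟨b, hb⟩ := (hf U le_rfl).2 (res _ le_top t)
  dsimp only at ha hb
  rw [Amp73.res_self] at ha hb
  have hab : c = a + b := by
    refine (hf U le_rfl).1 ?_
    dsimp only
    rw [Amp73.res_self, hc, Amp73.res_add, ← ha, ← hb, add_smul]
  rw [hab, add_smul, Amp73.res_add, h U e he a ha, h' U e he b hb]

theorem match4_neg {s : Γ(CohB1.tensorPow (CohB1.tensorPow L 2) 2, ⊤)} {s' : Γ(CohB1.tensorPow L 4, ⊤)}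
    (h : Match4 s s') : Match4 (-s) (-s') := by
  intro U e he c hc
  have h1 : (-c) • epow (epow e 2) 2 = res _ le_top s := by
    rw [neg_smul, hc, show res _ (le_top : U ≤ ⊤) (-s) = -res _ (le_top : U ≤ ⊤) s from map_neg _ _, neg_neg]
  have h2 := h U e he (-c) h1
  rw [show res _ (le_top : U ≤ ⊤) (-s') = -res _ (le_top : U ≤ ⊤) s' from map_neg _ _, ← h2, neg_smul, neg_neg]

theorem match4_inj (hL : PicF.IsInvertible L) {s t : Γ(CohB1.tensorPow (CohB1.tensorPow L 2) 2, ⊤)}
    {t' : Γ(CohB1.tensorPow L 4, ⊤)} (h : Match4 s t') (h' : Match4 t t') : s = t := by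
  refine eq_of_locally _ _ _ fun p _ => ?_
  obtain ⟨U, hpU, -, e, he⟩ := Mero90.exists_affine_frame hL p ⊤ trivial
  refine ⟨U.1, le_top, hpU, ?_⟩
  have hf := Amp73.isFrame_epow (Amp73.isFrame_epow he 2) 2
  obtain ⟨a, ha⟩ := (hf U.1 le_rfl).2 (res _ le_top s)
  obtain ⟨b, hb⟩ := (hf U.1 le_rfl).2 (res _ le_top t)
  dsimp only at ha hb
  rw [Amp73.res_self] at ha hb
  have hab : a = b := by
    refine ((Amp73.isFrame_epow he 4) U.1 le_rfl).1 ?_
    dsimp only
    rw [Amp73.res_self, h U.1 e he a ha, h' U.1 e he b hb]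
  rw [← ha, ← hb, hab]

theorem exists_match4 (hL : PicF.IsInvertible L) (t : Γ(CohB1.tensorPow (CohB1.tensorPow L 2) 2, ⊤)) :
    ∃ t', Match4 t t' := by
  choose U hU _ e he using fun x : X => Mero90.exists_affine_frame hL x ⊤ trivial
  have hf := fun x => Amp73.isFrame_epow (Amp73.isFrame_epow (he x) 2) 2
  choose c hc using fun x => ((hf x) (U x).1 le_rfl).2 (res _ le_top t)
  dsimp only at hc
  simp only [Amp73.res_self] at hc
  let N := CohB1.tensorPow L 4
  have hcov : (⊤ : X.Opens) ≤ ⨆ x, (U x).1 := fun x _ => Opens.mem_iSup.2 ⟨x, hU x⟩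
  -- change of frames
  have hchange : ∀ (V : X.Opens) (f g : Γ(L, V)), IsFrame L V f → IsFrame L V g → ∀ a b : Γ(X, V),
      a • epow (epow f 2) 2 = b • epow (epow g 2) 2 → a • epow f 4 = b • epow g 4 := by
    intro V f g hf' hg' a b hab
    obtain ⟨z, hz⟩ := (hg' V le_rfl).2 f
    dsimp only at hz
    rw [Amp73.res_self] at hz
    rw [← hz, Amp73.epow_smul, Amp73.epow_smul, smul_smul] at hab
    rw [← hz, Amp73.epow_smul, smul_smul]
    have h := ((Amp73.isFrame_epow (Amp73.isFrame_epow hg' 2) 2) V le_rfl).1 (a₁ := a * (z ^ 2) ^ 2) (a₂ := b) (by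
      dsimp only
      rw [Amp73.res_self]
      exact hab)
    rw [show a * z ^ 4 = b by rw [← h]; ring]
  obtain ⟨t', ht', -⟩ := TopCat.Sheaf.existsUnique_gluing' ⟨N.presheaf, N.isSheaf⟩ (fun x => (U x).1) ⊤
    (fun x => homOfLE le_top) hcov (fun x => c x • epow (e x) 4) (fun x y => by
      show res N (inf_le_left : (U x).1 ⊓ (U y).1 ≤ (U x).1) (c x • epow (e x) 4) =
        res N (inf_le_right : (U x).1 ⊓ (U y).1 ≤ (U y).1) (c y • epow (e y) 4)
      rw [res_smul, res_smul, Amp73.res_epow, Amp73.res_epow]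
      refine hchange _ _ _ ((he x).res inf_le_left) ((he y).res inf_le_right) _ _ ?_
      rw [← Amp73.res_epow, ← Amp73.res_epow, ← Amp73.res_epow, ← Amp73.res_epow, ← res_smul, ← res_smul, hc, hc,
        res_res, res_res])
  refine ⟨t', fun V f hf' a ha => eq_of_locally _ _ _ fun p hp => ?_⟩
  refine ⟨V ⊓ (U p).1, inf_le_left, ⟨hp, hU p⟩, ?_⟩
  have h := ht' p
  change res N le_top t' = c p • epow (e p) 4 at h
  rw [res_res]
  refine Eq.trans ?_ (((congrArg (res N (inf_le_right : V ⊓ (U p).1 ≤ (U p).1)) h).symm).trans (res_res N _ _ _))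
  rw [res_smul, res_smul, Amp73.res_epow, Amp73.res_epow]
  refine hchange _ _ _ (hf'.res inf_le_left) ((he p).res inf_le_right) _ _ ?_
  rw [← Amp73.res_epow, ← Amp73.res_epow, ← Amp73.res_epow, ← Amp73.res_epow, ← res_smul, ← res_smul, ha, hc,
    res_res, res_res]

variable (A : Type u) [CommRing A] [X.Over (Spec (CommRingCat.of A))] [IsNoetherian X]

include A in
/-- The square is generated in degree one. -/
theorem degOneGen_square (h2 : H2Zero X) (hL : PicF.IsInvertible L) (hgg : Curv2.IsGloballyGenerated L)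
    (h1 : Subsingleton (Coh.HH X L 1)) : DegOneGen (CohB1.tensorPow L 2) := by
  have h11 : Subsingleton (Coh.HH X (CohB1.tensorPow L 1) 1) :=
    (hEquiv A (Amp73.powOne L) 1).injective.subsingleton
  have hgg1 : Curv2.IsGloballyGenerated (CohB1.tensorPow L 1) :=
    (let ⟨ι, q, hq⟩ := hgg; ⟨ι, q ≫ (Amp73.powOne L).inv, epi_comp _ _⟩)
  have hgg2 : Curv2.IsGloballyGenerated (CohB1.tensorPow L 2) :=
    isGloballyGenerated_tensor (Amp73.isCoh_of_isInvertible (EGA73.isInvertible_tensorPow hL 1)) hgg1 hgg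
  have h22 : Subsingleton (Coh.HH X (CohB1.tensorPow L 2) 1) := subsingleton_h1_pow A h2 hL hgg h11 (by omega)
  have h21 : Subsingleton (Coh.HH X (CohB1.tensorPow (CohB1.tensorPow L 2) 1) 1) :=
    (hEquiv A (Amp73.powOne (CohB1.tensorPow L 2)) 1).injective.subsingleton
  intro n hn
  rcases Nat.lt_or_ge 1 n with h | h
  · exact closure_products_eq_top A h2 (EGA73.isInvertible_tensorPow hL 2) hgg2 h21 h
  obtain rfl : n = 1 := by omega
  refine eq_top_iff.2 fun t _ => ?_
  obtain ⟨t', ht'⟩ := exists_match4 hL t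
  let L2 := CohB1.tensorPow L 2
  let S := AddSubgroup.closure
    {x | ∃ (m : Γ(CohB1.tensorPow L2 1, ⊤)) (s : Γ(L2, ⊤)), x = tm (CohB1.tensorPow L2 1) L2 m s}
  suffices h : ∀ y : Γ(CohB1.tensorPow L 4, ⊤), ∃ x ∈ S, Match4 x y by
    obtain ⟨x, hx, hxt⟩ := h t'
    rw [match4_inj hL ht' hxt]
    exact hx
  intro y
  have hy : y ∈ AddSubgroup.closure {x | ∃ (m : Γ(CohB1.tensorPow L 3, ⊤)) (s : Γ(L, ⊤)),
      x = tm (CohB1.tensorPow L 3) L m s} := (closure_products_eq_top A h2 hL hgg h11 (n := 3) (by omega)).ge trivial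
  induction hy using AddSubgroup.closure_induction with
  | zero => exact ⟨0, S.zero_mem, match4_zero⟩
  | add y y' _ _ h h' =>
    obtain ⟨x, hx, hm⟩ := h
    obtain ⟨x', hx', hm'⟩ := h'
    exact ⟨x + x', S.add_mem hx hx', match4_add hm hm'⟩
  | neg y _ h =>
    obtain ⟨x, hx, hm⟩ := h
    exact ⟨-x, S.neg_mem hx, match4_neg hm⟩
  | mem y hy =>
    obtain ⟨m, s, rfl⟩ := hy
    have hm : m ∈ AddSubgroup.closure {x | ∃ (w : Γ(CohB1.tensorPow L 2, ⊤)) (r : Γ(L, ⊤)),
        x = tm (CohB1.tensorPow L 2) L w r} := (closure_products_eq_top A h2 hL hgg h11 (n := 2) (by omega)).ge trivial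
    induction hm using AddSubgroup.closure_induction with
    | zero =>
      refine ⟨0, S.zero_mem, ?_⟩
      exact (congrArg (Match4 0) (Amp73.tm_zero_left s)).mpr match4_zero
    | add m m' _ _ h h' =>
      obtain ⟨x, hx, hm⟩ := h
      obtain ⟨x', hx', hm'⟩ := h'
      refine ⟨x + x', S.add_mem hx hx', ?_⟩
      exact (congrArg (Match4 (x + x')) (Amp73.tm_add_left m m' s)).mpr (match4_add hm hm')
    | neg m _ h =>
      obtain ⟨x, hx, hm⟩ := h
      refine ⟨-x, S.neg_mem hx, ?_⟩
      have : tm (CohB1.tensorPow L 3) L (-m) s = -tm (CohB1.tensorPow L 3) L m s :=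
        eq_neg_of_add_eq_zero_left (by rw [← Amp73.tm_add_left, neg_add_cancel, Amp73.tm_zero_left])
      exact (congrArg (Match4 (-x)) this).mpr (match4_neg hm)
    | mem m hm =>
      obtain ⟨w, r, rfl⟩ := hm
      let one : Γ(Coh.structureModule X, ⊤) := (1 : Γ(X, ⊤))
      refine ⟨tm (CohB1.tensorPow L2 1) L2 (tm _ L2 one w) (tm (CohB1.tensorPow L 1) L (tm _ L one r) s),
        AddSubgroup.subset_closure ⟨_, _, rfl⟩, ?_⟩
      intro U e he c hc
      obtain ⟨a, ha⟩ := ((Amp73.isFrame_epow he 2) U le_rfl).2 (res _ le_top w)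
      obtain ⟨b, hb⟩ := (he U le_rfl).2 (res L le_top r)
      obtain ⟨d, hd⟩ := (he U le_rfl).2 (res L le_top s)
      dsimp only at ha hb hd
      rw [Amp73.res_self] at ha hb hd
      have h21' : a • epow (epow e 2) 1 = res _ le_top (tm _ L2 one w) := by
        show a • tm (Coh.structureModule X) L2 (1 : Γ(X, U)) (epow e 2) = _
        rw [← Amp73.tm_smul_right, ha, Amp73.res_tm]
        exact congrArg (fun q => tm (Coh.structureModule X) L2 q _) (map_one (X.presheaf.map (homOfLE (le_top : U ≤ ⊤)).op).hom).symm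
      have h1' : b • epow e 1 = res _ le_top (tm _ L one r) := by
        show b • tm (Coh.structureModule X) L (1 : Γ(X, U)) e = _
        rw [← Amp73.tm_smul_right, hb, Amp73.res_tm]
        exact congrArg (fun q => tm (Coh.structureModule X) L q _) (map_one (X.presheaf.map (homOfLE (le_top : U ≤ ⊤)).op).hom).symm
      have h2' := coord_tm e 1 h1' hd
      have h4' := coord_tm (epow e 2) 1 h21' h2'
      have hc' : c = a * (b * d) := by
        refine ((Amp73.isFrame_epow (Amp73.isFrame_epow he 2) 2) U le_rfl).1 ?_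
        dsimp only
        rw [Amp73.res_self]
        exact hc.trans h4'.symm
      refine Eq.trans ?_ (coord_tm e 3 (coord_tm e 2 ha hb) hd)
      rw [hc', ← mul_assoc]

end Groth.Agent.Crv77
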