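import Groth.Agent.Crv77.DoubleLine
import Groth.Agent.FF30.GenusOne

/-! Weierstrass coordinates of a function field of genus one, in the form used for plane models. -/

set_option autoImplicit false

open FunFld IntermediateField
open scoped Polynomial

namespace Groth.Agent.Crv77.DL

variable {k K : Type*} [Field k] [Field K] [Algebra k K]

theorem exists_weierstrass (hK : IsFunctionField k K) (hg : genus k K = 1) (P₀ : Place k K) (hP : P₀.deg = 1) :
    ∃ (z y : K) (a₁ a₂ a₃ a₄ a₆ : k), Module.finrank k⟮z⟯ K = 2 ∧ y ∉ k⟮z⟯ ∧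
      y ∈ L ((genus k K + 1) • (FF30.poleDiv z : Divisor k K)) ∧
      y ^ 2 + Polynomial.aeval z (Polynomial.C a₁ * Polynomial.X + Polynomial.C a₃) * y =
        Polynomial.aeval z (Polynomial.X ^ 3 + Polynomial.C a₂ * Polynomial.X ^ 2 + Polynomial.C a₄ * Polynomial.X +
          Polynomial.C a₆) := by
  classical
  have hF : FF30.FF k K := hK.1
  obtain ⟨x, y, hxL, hyL, hx, hy, hadj, f, g, hf, hgd, heq⟩ := FF30.weierstrass_form hK hg P₀ hP
  have hx0 : x ≠ 0 := fun e => by simp [e, FunFld.Place.ord] at hx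
  have hxd : (FF30.poleDiv x : Divisor k K) = Finsupp.single P₀ 2 := by
    ext Q
    rw [hF.poleDiv_apply, Finsupp.single_apply]
    have h2 := (FF30.mem_L_iff_ord hx0).1 hxL Q
    rw [Finsupp.single_apply] at h2
    split_ifs at h2 ⊢ with hQ
    · subst hQ; omega
    · omega
  have htx : Transcendental k x := FF30.transcendental_of_ord_ne_zero P₀ (by omega)
  have hx2 : Module.finrank k⟮x⟯ K = 2 := by
    have h2 := hF.deg_poleDiv htx
    rw [hxd, FF30.deg_single, hP] at h2
    omega
  have hy' : y ∉ k⟮x⟯ := by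
    intro hy2
    have h3 : k⟮x, y⟯ ≤ k⟮x⟯ :=
      adjoin_le_iff.2 (Set.insert_subset (mem_adjoin_simple_self k x) (Set.singleton_subset_iff.2 hy2))
    rw [hadj, top_le_iff] at h3
    rw [h3] at hx2
    simp at hx2
  set c := g.coeff 3 with hcdef
  have hc0 : c ≠ 0 := by
    have : g ≠ 0 := fun e => by simp [e] at hgd
    rw [hcdef, ← hgd]
    exact Polynomial.leadingCoeff_ne_zero.2 this
  set z : K := -(c • x) with hzdef
  have hadz : k⟮z⟯ = k⟮x⟯ := by
    refine le_antisymm (adjoin_simple_le_iff.2 ?_) (adjoin_simple_le_iff.2 ?_)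
    · exact neg_mem (IntermediateField.smul_mem _ (mem_adjoin_simple_self k x))
    · have h4 : x = -(c⁻¹ • z) := by
        rw [hzdef, smul_neg, neg_neg, smul_smul, inv_mul_cancel₀ hc0, one_smul]
      rw [h4]
      exact neg_mem (IntermediateField.smul_mem _ (mem_adjoin_simple_self k z))
  have hzd : (FF30.poleDiv z : Divisor k K) = Finsupp.single P₀ 2 := by
    rw [← hxd]
    ext Q
    rw [hF.poleDiv_apply, hF.poleDiv_apply, hzdef, FF30.ord_neg, Algebra.smul_def,
      FF30.ord_mul Q (by simpa using hc0) hx0, FF30.ord_algebraMap, zero_add]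
  refine ⟨z, c • y, -(f.coeff 1), -(g.coeff 2), c * f.coeff 0, c * g.coeff 1, -(c ^ 2 * g.coeff 0),
    by rw [hadz]; exact hx2, ?_, ?_, ?_⟩
  · rw [hadz]
    intro h4
    refine hy' ?_
    have := IntermediateField.smul_mem _ (x := c⁻¹) h4
    rwa [smul_smul, inv_mul_cancel₀ hc0, one_smul] at this
  · rw [hzd, hg]
    refine Submodule.smul_mem _ _ (FF30.L_mono ?_ hyL)
    intro Q
    simp only [Finsupp.smul_apply, Finsupp.single_apply]
    split_ifs <;> simp
  · have hf' : Polynomial.aeval x f = algebraMap k K (f.coeff 0) + algebraMap k K (f.coeff 1) * x := by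
      rw [Polynomial.aeval_eq_sum_range' (show f.natDegree < 2 by omega), Finset.sum_range_succ,
        Finset.sum_range_succ, Finset.sum_range_zero]
      simp [Algebra.smul_def]
    have hg' : Polynomial.aeval x g = algebraMap k K (g.coeff 0) + algebraMap k K (g.coeff 1) * x +
        algebraMap k K (g.coeff 2) * x ^ 2 + algebraMap k K (g.coeff 3) * x ^ 3 := by
      rw [Polynomial.aeval_eq_sum_range' (show g.natDegree < 4 by omega), Finset.sum_range_succ,
        Finset.sum_range_succ, Finset.sum_range_succ, Finset.sum_range_succ, Finset.sum_range_zero]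
      simp [Algebra.smul_def]
    rw [hf', hg'] at heq
    simp only [hzdef, hcdef, Algebra.smul_def, map_add, map_mul, map_neg, map_pow, Polynomial.aeval_C,
      Polynomial.aeval_X]
    linear_combination (algebraMap k K (g.coeff 3)) ^ 2 * heq

/-- Over an algebraically closed field of characteristic different from two the coordinates can be
chosen in Legendre form. -/
theorem exists_legendre [IsAlgClosed k] (h2 : (2 : k) ≠ 0) (hK : IsFunctionField k K) (hg : genus k K = 1)
    (P₀ : Place k K) (hP : P₀.deg = 1) :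
    ∃ (z y : K) (l : k), l ≠ 0 ∧ l ≠ 1 ∧ Module.finrank k⟮z⟯ K = 2 ∧ y ∉ k⟮z⟯ ∧
      y ∈ L ((genus k K + 1) • (FF30.poleDiv z : Divisor k K)) ∧
      y ^ 2 = z * (z - 1) * (z - algebraMap k K l) := by
  classical
  have hF : FF30.FF k K := hK.1
  obtain ⟨x, y₀, a₁, a₂, a₃, a₄, a₆, hx2, hy₀, hy₀L, heq⟩ := exists_weierstrass hK hg P₀ hP
  -- complete the square
  set q : k[X] := Polynomial.C (a₁ / 2) * Polynomial.X + Polynomial.C (a₃ / 2) with hq
  set R : k[X] := Polynomial.X ^ 3 + Polynomial.C a₂ * Polynomial.X ^ 2 + Polynomial.C a₄ * Polynomial.X +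
    Polynomial.C a₆ + q ^ 2 with hR
  set y₁ : K := y₀ + Polynomial.aeval x q with hy₁def
  have hK2 : (2 : K) ≠ 0 := by
    rw [← map_ofNat (algebraMap k K) 2]; simpa using h2
  have heq1 : y₁ ^ 2 = Polynomial.aeval x R := by
    rw [hR, map_add, ← heq, hy₁def, hq]
    simp only [map_add, map_mul, map_pow, Polynomial.aeval_C, Polynomial.aeval_X, map_div₀, map_ofNat]
    field_simp
    ring
  have hxq : Polynomial.aeval x q ∈ k⟮x⟯ := by
    rw [hq]
    simp only [map_add, map_mul, Polynomial.aeval_C, Polynomial.aeval_X]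
    exact add_mem (mul_mem (IntermediateField.algebraMap_mem _ _) (mem_adjoin_simple_self k x)) (IntermediateField.algebraMap_mem _ _)
  have hy₁ : y₁ ∉ k⟮x⟯ := fun h => hy₀ (by
    have h' := sub_mem h hxq
    rwa [hy₁def, add_sub_cancel_right] at h')
  have htx : Transcendental k x := transcendental hK hx2
  -- the cubic
  have hRd : R.natDegree = 3 := by rw [hR, hq]; compute_degree!
  have hR' : R = Polynomial.X ^ 3 + (Polynomial.C (a₂ + (a₁ / 2) ^ 2) * Polynomial.X ^ 2 +
      Polynomial.C (a₄ + a₁ / 2 * (a₃ / 2) * 2) * Polynomial.X + Polynomial.C (a₆ + (a₃ / 2) ^ 2)) := by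
    rw [hR, hq]
    simp only [map_add, map_mul, map_pow, map_ofNat]
    ring
  have hRm : R.leadingCoeff = 1 := by
    rw [Polynomial.leadingCoeff, hRd, hR']
    simp only [Polynomial.coeff_add, Polynomial.coeff_C_mul, Polynomial.coeff_X_pow, Polynomial.coeff_X, Polynomial.coeff_C]
    norm_num
  have hsplit := IsAlgClosed.splits R
  obtain ⟨e₁, e₂, e₃, he⟩ : ∃ e₁ e₂ e₃ : k, R.roots = {e₁, e₂, e₃} :=
    Multiset.card_eq_three.1 (by rw [← hsplit.natDegree_eq_card_roots, hRd])
  have hfac : ∀ t : K, Polynomial.aeval t R = (t - algebraMap k K e₁) * (t - algebraMap k K e₂) * (t - algebraMap k K e₃) := by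
    intro t
    have hp := hsplit.eq_prod_roots_of_monic hRm
    rw [he] at hp
    rw [hp]
    simp [mul_assoc]
  -- the roots are distinct
  have hne : ∀ u v w : k, (∀ t : K, Polynomial.aeval t R = (t - algebraMap k K u) * (t - algebraMap k K v) * (t - algebraMap k K w)) → u ≠ v := by
    intro u v w huvw huv
    subst huv
    have hxu : x - algebraMap k K u ≠ 0 := fun h => htx (by
      rw [sub_eq_zero.1 h]; exact isAlgebraic_algebraMap u)
    set s : K := y₁ / (x - algebraMap k K u) with hs
    have hs2 : s ^ 2 = x - algebraMap k K w := by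
      rw [hs, div_pow, heq1, huvw]
      field_simp
    have hsn : s ∉ k⟮x⟯ := fun h => hy₁ (by
      have h' := mul_mem h (sub_mem (mem_adjoin_simple_self k x) (IntermediateField.algebraMap_mem k⟮x⟯ u))
      rwa [hs, div_mul_cancel₀ _ hxu] at h')
    have hsL : s ∈ L (1 • (FF30.poleDiv x : Divisor k K)) := by
      rw [one_smul]
      intro Q
      have hb : Q.1 (x - algebraMap k K w) ≤ WithZero.exp ((FF30.poleDiv x : Divisor k K) Q) := by
        refine (Q.1.map_sub _ _).trans (max_le ?_ ?_)
        · rcases eq_or_ne x 0 with h | h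
          · rw [h, map_zero]; exact zero_le
          rw [FF30.val_le_exp_iff Q h, hF.poleDiv_apply]; omega
        · refine le_trans ?_ (WithZero.exp_le_exp.2 (show (0 : ℤ) ≤ _ by rw [hF.poleDiv_apply]; omega))
          rcases eq_or_ne w 0 with h | h
          · rw [h, map_zero, map_zero]; exact zero_le
          · rw [FF30.val_algebraMap Q h, WithZero.exp_zero]
      rw [← hs2, map_pow] at hb
      rcases eq_or_ne s 0 with h | h
      · rw [h, map_zero]; exact zero_le
      rw [FF30.val_le_exp_iff Q h]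
      rw [← map_pow, FF30.val_le_exp_iff Q (pow_ne_zero _ h), FF30.ord_pow] at hb
      have : (0 : ℤ) ≤ (FF30.poleDiv x : Divisor k K) Q := by rw [hF.poleDiv_apply]; omega
      omega
    have := genus_lt_of_mem hK hx2 hsn hsL
    omega
  have h12 : e₁ ≠ e₂ := hne e₁ e₂ e₃ hfac
  have h13 : e₁ ≠ e₃ := hne e₁ e₃ e₂ fun t => by rw [hfac]; ring
  have h23 : e₂ ≠ e₃ := hne e₂ e₃ e₁ fun t => by rw [hfac]; ring
  obtain ⟨u, hu⟩ := IsAlgClosed.exists_pow_nat_eq (e₂ - e₁) (n := 2) two_pos
  have he21 : e₂ - e₁ ≠ 0 := sub_ne_zero.2 (Ne.symm h12)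
  have hu0 : u ≠ 0 := by rintro rfl; exact he21 (by rw [← hu]; simp)
  set z : K := (x - algebraMap k K e₁) * algebraMap k K (e₂ - e₁)⁻¹ with hz
  set y : K := y₁ * algebraMap k K ((u ^ 3)⁻¹) with hy
  have hxz : x = z * algebraMap k K (e₂ - e₁) + algebraMap k K e₁ := by
    rw [hz, mul_assoc, ← map_mul, inv_mul_cancel₀ he21, map_one, mul_one, sub_add_cancel]
  have hadz : k⟮z⟯ = k⟮x⟯ := by
    refine le_antisymm (adjoin_simple_le_iff.2 ?_) (adjoin_simple_le_iff.2 ?_)
    · exact mul_mem (sub_mem (mem_adjoin_simple_self k x) (IntermediateField.algebraMap_mem _ _)) (IntermediateField.algebraMap_mem _ _)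
    · rw [hxz]
      exact add_mem (mul_mem (mem_adjoin_simple_self k z) (IntermediateField.algebraMap_mem _ _)) (IntermediateField.algebraMap_mem _ _)
  refine ⟨z, y, (e₃ - e₁) / (e₂ - e₁), div_ne_zero (sub_ne_zero.2 (Ne.symm h13)) he21, ?_,
    by rw [hadz]; exact hx2, ?_, ?_, ?_⟩
  · intro h
    rw [div_eq_one_iff_eq he21] at h
    exact h23 (sub_left_inj.1 h).symm
  · rw [hadz]
    intro h
    refine hy₁ ?_
    have h' := mul_mem h (IntermediateField.algebraMap_mem k⟮x⟯ (u ^ 3))
    rwa [hy, mul_assoc, ← map_mul, inv_mul_cancel₀ (pow_ne_zero _ hu0), map_one, mul_one] at h'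
  · have hpd : (FF30.poleDiv z : Divisor k K) = FF30.poleDiv x := by
      ext Q
      rw [hF.poleDiv_apply, hF.poleDiv_apply]
      have hz' : Q.1 z = Q.1 (x - algebraMap k K e₁) := by
        rw [hz, map_mul, FF30.val_algebraMap Q (inv_ne_zero he21), mul_one]
      have hord : Q.ord z = Q.ord (x - algebraMap k K e₁) := by simp [Place.ord, hz']
      rw [hord]
      by_cases hQ : Q.ord x < 0
      · have hlt : Q.1 (algebraMap k K e₁) < Q.1 x := by
          refine lt_of_le_of_lt ?_ ((FF30.one_lt_val_iff Q).2 hQ)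
          rcases eq_or_ne e₁ 0 with h | h
          · rw [h, map_zero, map_zero]; exact zero_le
          · rw [FF30.val_algebraMap Q h]
        rw [show Q.ord (x - algebraMap k K e₁) = Q.ord x by
          simp [Place.ord, Q.1.map_sub_eq_of_lt_left hlt]]
      · have : Q.1 (x - algebraMap k K e₁) ≤ 1 := by
          refine (Q.1.map_sub _ _).trans (max_le ((FF30.val_le_one_iff Q).2 (by omega)) ?_)
          rcases eq_or_ne e₁ 0 with h | h
          · rw [h, map_zero, map_zero]; exact zero_le
          · rw [FF30.val_algebraMap Q h]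
        have := (FF30.val_le_one_iff Q).1 this
        omega
    rw [hpd, hy, mul_comm, ← Algebra.smul_def]
    refine Submodule.smul_mem _ _ ?_
    have h4 : Polynomial.aeval x q ∈ L ((genus k K + 1) • (FF30.poleDiv x : Divisor k K)) := by
      refine L_mono_nsmul hK (m := 1) (by omega) ?_
      refine aeval_mem_L hK ?_
      rw [Polynomial.mem_degreeLE, hq]
      exact_mod_cast Polynomial.degree_linear_le
    exact Submodule.add_mem _ hy₀L h4
  · have e3' : algebraMap k K (e₂ - e₁) = algebraMap k K u ^ 2 := by rw [← map_pow, hu]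
    have hu' : algebraMap k K u ≠ 0 := by simpa using hu0
    have f1 : x - algebraMap k K e₁ = algebraMap k K u ^ 2 * z := by
      rw [← e3', hxz]; ring
    have f2 : x - algebraMap k K e₂ = algebraMap k K u ^ 2 * (z - 1) := by
      rw [mul_sub, ← f1, mul_one, ← e3', map_sub]; ring
    have f3 : x - algebraMap k K e₃ =
        algebraMap k K u ^ 2 * (z - algebraMap k K ((e₃ - e₁) / (e₂ - e₁))) := by
      rw [mul_sub, ← f1, map_div₀, e3', mul_div_cancel₀ _ (pow_ne_zero _ hu'), map_sub]; ring
    rw [hy, mul_pow, heq1, hfac, f1, f2, f3, map_inv₀, map_pow]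
    field_simp

end Groth.Agent.Crv77.DL
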